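import Mathlib
import Cfsg.Prelude.Def_FusionSystem

/-!
Maps of a fusion system seen as functions `Ω → Ω` considered on their source only.
-/

set_option autoImplicit false

namespace Cfsg.Agent.Fusion

open Cfsg Cfsg.FusionSystem

variable {Ω : Type*} [Group Ω] {S : Subgroup Ω} {F E : FusionSystem S} {P Q R P' : Subgroup Ω}
  {f g f' : Ω → Ω}

/-- `f`, restricted to `P`, is a map of `F` with source `P`. -/
def IsMor (F : FusionSystem S) (P : Subgroup Ω) (f : Ω → Ω) : Prop :=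
  ∃ φ ∈ F.Hom P, ∀ x : P, φ x = f x

/-- `f`, restricted to `P`, is a map of `F` with source `P` and image `Q`. -/
def IsIso (F : FusionSystem S) (P Q : Subgroup Ω) (f : Ω → Ω) : Prop :=
  IsMor F P f ∧ ∀ y : Ω, y ∈ Q ↔ ∃ x ∈ P, f x = y

open Classical in
/-- The extension by `1` of a map with source `P`. -/
noncomputable def extFun (φ : P →* Ω) : Ω → Ω := fun x => if h : x ∈ P then φ ⟨x, h⟩ else 1

theorem extFun_apply (φ : P →* Ω) {x : Ω} (h : x ∈ P) : extFun φ x = φ ⟨x, h⟩ := by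
  classical
  exact dif_pos h

theorem extFun_coe (φ : P →* Ω) (x : P) : extFun φ (x : Ω) = φ x := extFun_apply φ x.2

theorem conjHom_apply (P : Subgroup Ω) (a : Ω) (x : P) : conjHom P a x = a * (x : Ω) * a⁻¹ := rfl

theorem isMor_extFun {φ : P →* Ω} (h : φ ∈ F.Hom P) : IsMor F P (extFun φ) :=
  ⟨φ, h, fun x => (extFun_coe φ x).symm⟩

theorem mem_hom_of_isMor {φ : P →* Ω} (h : IsMor F P f) (he : ∀ x : P, φ x = f x) : φ ∈ F.Hom P := by
  obtain ⟨ψ, hψ, hx⟩ := h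
  have : φ = ψ := MonoidHom.ext fun x => (he x).trans (hx x).symm
  exact this ▸ hψ

theorem mem_hom_iff {φ : P →* Ω} : φ ∈ F.Hom P ↔ IsMor F P (extFun φ) :=
  ⟨isMor_extFun, fun h => mem_hom_of_isMor h fun x => (extFun_coe φ x).symm⟩

/-- Two systems with the same maps are equal. -/
theorem fusionSystem_ext {F E : FusionSystem S} (h : ∀ P, F.Hom P = E.Hom P) : F = E := by
  cases F; cases E
  congr
  funext P
  exact h P

theorem le_iff_isMor {F E : FusionSystem S} : F ≤ E ↔ ∀ P f, IsMor F P f → IsMor E P f := by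
  constructor
  · rintro h P f ⟨φ, hφ, hx⟩
    exact ⟨φ, h P hφ, hx⟩
  · exact fun h P φ hφ => mem_hom_iff.2 (h P _ (isMor_extFun hφ))

theorem eq_of_le_of_le (h₁ : F ≤ E) (h₂ : E ≤ F) : F = E :=
  fusionSystem_ext fun P => (h₁ P).antisymm (h₂ P)

theorem hom_eq_of_isMor_iff {T : Subgroup Ω} {D : FusionSystem T} (P : Subgroup Ω)
    (h : ∀ f, IsMor F P f ↔ IsMor D P f) : F.Hom P = D.Hom P := by
  ext φ
  rw [mem_hom_iff, mem_hom_iff, h]

theorem IsMor.mono_sys {T : Subgroup Ω} {D : FusionSystem T} (h : IsMor D P f)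
    (hle : D.IsSubsystemOf F) : IsMor F P f := by
  obtain ⟨φ, hφ, hx⟩ := h
  exact ⟨φ, hle P hφ, hx⟩

theorem IsMor.le (h : IsMor F P f) : P ≤ S := by
  obtain ⟨φ, hφ, -⟩ := h
  exact (F.le_of_mem hφ).1

theorem IsMor.mem (h : IsMor F P f) {x : Ω} (hx : x ∈ P) : f x ∈ S := by
  obtain ⟨φ, hφ, he⟩ := h
  exact he ⟨x, hx⟩ ▸ (F.le_of_mem hφ).2 ⟨x, hx⟩

theorem IsMor.map_mul (h : IsMor F P f) {x y : Ω} (hx : x ∈ P) (hy : y ∈ P) :
    f (x * y) = f x * f y := by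
  obtain ⟨φ, -, he⟩ := h
  have := φ.map_mul ⟨x, hx⟩ ⟨y, hy⟩
  rw [he, he, he] at this
  exact this

theorem IsMor.map_one (h : IsMor F P f) : f 1 = 1 := by
  obtain ⟨φ, -, he⟩ := h
  have := φ.map_one
  rw [he] at this
  exact this

theorem IsMor.map_inv (h : IsMor F P f) {x : Ω} (hx : x ∈ P) : f x⁻¹ = (f x)⁻¹ := by
  obtain ⟨φ, -, he⟩ := h
  have := φ.map_inv ⟨x, hx⟩
  rw [he, he] at this
  exact this

theorem IsMor.map_conj (h : IsMor F P f) {x y : Ω} (hx : x ∈ P) (hy : y ∈ P) :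
    f (y * x * y⁻¹) = f y * f x * (f y)⁻¹ := by
  rw [h.map_mul (P.mul_mem hy hx) (P.inv_mem hy), h.map_mul hy hx, h.map_inv hy]

theorem IsMor.injOn (h : IsMor F P f) {x y : Ω} (hx : x ∈ P) (hy : y ∈ P) (he : f x = f y) :
    x = y := by
  obtain ⟨φ, hφ, hx'⟩ := h
  have : φ ⟨x, hx⟩ = φ ⟨y, hy⟩ := by rw [hx', hx']; exact he
  exact congrArg Subtype.val (F.injective_of_mem hφ this)

theorem IsMor.eq_one (h : IsMor F P f) {x : Ω} (hx : x ∈ P) (he : f x = 1) : x = 1 :=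
  h.injOn hx P.one_mem (he.trans h.map_one.symm)

theorem IsMor.congr (h : IsMor F P f) (he : ∀ x ∈ P, g x = f x) : IsMor F P g := by
  obtain ⟨φ, hφ, hx⟩ := h
  exact ⟨φ, hφ, fun x => (hx x).trans (he x x.2).symm⟩

theorem isMor_conj {a : Ω} (hP : P ≤ S) (ha : a ∈ S) : IsMor F P (fun x => a * x * a⁻¹) :=
  ⟨conjHom P a, F.conj_mem hP ha, fun _ => rfl⟩

theorem isMor_id (hP : P ≤ S) : IsMor F P id :=
  (isMor_conj (F := F) hP S.one_mem).congr fun x _ => by simp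

theorem IsMor.comp (hf : IsMor F P f) (hg : IsMor F Q g) (h : ∀ x ∈ P, f x ∈ Q) :
    IsMor F P (g ∘ f) := by
  obtain ⟨φ, hφ, hfx⟩ := hf
  obtain ⟨ψ, hψ, hgx⟩ := hg
  have h' : ∀ x : P, φ x ∈ Q := fun x => hfx x ▸ h x x.2
  refine ⟨_, F.comp_mem hφ hψ h', fun x => ?_⟩
  show ψ _ = _
  rw [hgx]
  show g (φ x) = g (f x)
  rw [hfx]

theorem IsMor.restrict (h : IsMor F P f) (hR : R ≤ P) : IsMor F R f :=
  ((isMor_id (F := F) (hR.trans h.le)).comp h fun _ hx => hR hx)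

theorem IsMor.conj_after (h : IsMor F P f) {a : Ω} (ha : a ∈ S) :
    IsMor F P (fun x => a * f x * a⁻¹) :=
  h.comp (isMor_conj (F := F) (P := S) le_rfl ha) fun _ hx => h.mem hx

/-- The image of `R ≤ P` under a map with source `P`. -/
def IsMor.image (h : IsMor F P f) (R : Subgroup Ω) (hR : R ≤ P) : Subgroup Ω where
  carrier := f '' (R : Set Ω)
  one_mem' := ⟨1, R.one_mem, h.map_one⟩
  mul_mem' := by
    rintro _ _ ⟨x, hx, rfl⟩ ⟨y, hy, rfl⟩
    exact ⟨x * y, R.mul_mem hx hy, h.map_mul (hR hx) (hR hy)⟩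
  inv_mem' := by
    rintro _ ⟨x, hx, rfl⟩
    exact ⟨x⁻¹, R.inv_mem hx, h.map_inv (hR hx)⟩

theorem IsMor.mem_image (h : IsMor F P f) {hR : R ≤ P} {y : Ω} :
    y ∈ h.image R hR ↔ ∃ x ∈ R, f x = y := Iff.rfl

theorem IsMor.isIso_image (h : IsMor F P f) (R : Subgroup Ω) (hR : R ≤ P) :
    IsIso F R (h.image R hR) f :=
  ⟨h.restrict hR, fun _ => Iff.rfl⟩

theorem IsMor.isIso (h : IsMor F P f) : IsIso F P (h.image P le_rfl) f :=
  ⟨h, fun _ => Iff.rfl⟩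

theorem isIso_id (hP : P ≤ S) : IsIso F P P id :=
  ⟨isMor_id hP, fun y => ⟨fun h => ⟨y, h, rfl⟩, fun ⟨_, hx, he⟩ => he ▸ hx⟩⟩

theorem IsIso.isMor (h : IsIso F P Q f) : IsMor F P f := h.1

theorem IsIso.apply_mem (h : IsIso F P Q f) {x : Ω} (hx : x ∈ P) : f x ∈ Q := (h.2 _).2 ⟨x, hx, rfl⟩

theorem IsIso.le (h : IsIso F P Q f) : P ≤ S := h.1.le

theorem IsIso.le' (h : IsIso F P Q f) : Q ≤ S := fun y hy => by
  obtain ⟨x, hx, rfl⟩ := (h.2 y).1 hy
  exact h.1.mem hx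

theorem IsIso.exists_apply (h : IsIso F P Q f) {y : Ω} (hy : y ∈ Q) : ∃ x ∈ P, f x = y := (h.2 y).1 hy

theorem IsIso.congr (h : IsIso F P Q f) (he : ∀ x ∈ P, g x = f x) : IsIso F P Q g :=
  ⟨h.1.congr he, fun y => (h.2 y).trans
    ⟨fun ⟨x, hx, e⟩ => ⟨x, hx, (he x hx).trans e⟩, fun ⟨x, hx, e⟩ => ⟨x, hx, (he x hx).symm.trans e⟩⟩⟩

theorem IsIso.image_unique (h : IsIso F P Q f) (h' : IsIso F P R f) : Q = R := by
  ext y
  rw [h.2, h'.2]

theorem IsIso.trans (hf : IsIso F P Q f) (hg : IsIso F Q R g) : IsIso F P R (g ∘ f) := by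
  refine ⟨hf.1.comp hg.1 fun x hx => hf.apply_mem hx, fun z => ⟨fun hz => ?_, ?_⟩⟩
  · obtain ⟨y, hy, rfl⟩ := hg.exists_apply hz
    obtain ⟨x, hx, rfl⟩ := hf.exists_apply hy
    exact ⟨x, hx, rfl⟩
  · rintro ⟨x, hx, rfl⟩
    exact hg.apply_mem (hf.apply_mem hx)

theorem IsIso.exists_symm (h : IsIso F P Q f) :
    ∃ g, IsIso F Q P g ∧ (∀ x ∈ P, g (f x) = x) ∧ ∀ y ∈ Q, f (g y) = y := by
  obtain ⟨φ, hφ, hx⟩ := h.1
  obtain ⟨ψ, hψ, hinv⟩ := F.inv_mem hφ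
  have hrange : φ.range = Q := by
    ext y
    rw [h.2 y, MonoidHom.mem_range]
    exact ⟨fun ⟨x, hxy⟩ => ⟨x, x.2, (hx x).symm.trans hxy⟩,
      fun ⟨x, hxP, e⟩ => ⟨⟨x, hxP⟩, (hx ⟨x, hxP⟩).trans e⟩⟩
  subst hrange
  have hg : IsMor F φ.range (extFun ψ) := isMor_extFun hψ
  have key : ∀ x ∈ P, extFun ψ (f x) = x := by
    intro x hxP
    rw [← hx ⟨x, hxP⟩, extFun_apply ψ ⟨⟨x, hxP⟩, rfl⟩]
    exact hinv ⟨x, hxP⟩
  refine ⟨extFun ψ, ⟨hg, fun x => ⟨fun hxP => ⟨f x, h.apply_mem hxP, key x hxP⟩, ?_⟩⟩, key, ?_⟩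
  · rintro ⟨y, hy, rfl⟩
    obtain ⟨x, hxP, rfl⟩ := h.exists_apply hy
    rw [key x hxP]
    exact hxP
  · intro y hy
    obtain ⟨x, hxP, rfl⟩ := h.exists_apply hy
    rw [key x hxP]

theorem IsIso.restrict (h : IsIso F P Q f) (hR : R ≤ P) : IsIso F R (h.1.image R hR) f :=
  h.1.isIso_image R hR

theorem IsIso.image_le (h : IsIso F P Q f) (hR : R ≤ P) : h.1.image R hR ≤ Q := by
  rintro _ ⟨x, hx, rfl⟩
  exact h.apply_mem (hR hx)

theorem IsIso.card_eq (h : IsIso F P Q f) : Nat.card Q = Nat.card P := by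
  refine (Nat.card_congr (Equiv.ofBijective (fun x : P => (⟨f x, h.apply_mem x.2⟩ : Q)) ⟨?_, ?_⟩)).symm
  · intro a b hab
    exact Subtype.ext (h.1.injOn a.2 b.2 (congrArg Subtype.val hab))
  · rintro ⟨y, hy⟩
    obtain ⟨x, hx, rfl⟩ := h.exists_apply hy
    exact ⟨⟨x, hx⟩, rfl⟩

theorem isConj_iff_exists_isIso : F.IsConj P Q ↔ ∃ f, IsIso F P Q f := by
  constructor
  · rintro ⟨φ, hφ, rfl⟩
    refine ⟨extFun φ, isMor_extFun hφ, fun y => ?_⟩
    constructor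
    · rintro ⟨x, rfl⟩
      exact ⟨x, x.2, extFun_coe φ x⟩
    · rintro ⟨x, hx, rfl⟩
      exact ⟨⟨x, hx⟩, (extFun_apply φ hx).symm⟩
  · rintro ⟨f, h⟩
    obtain ⟨φ, hφ, hx⟩ := h.1
    refine ⟨φ, hφ, Subgroup.ext fun y => ?_⟩
    rw [h.2]
    exact ⟨fun ⟨x, e⟩ => ⟨x, x.2, (hx x).symm.trans e⟩, fun ⟨x, hxP, e⟩ => ⟨⟨x, hxP⟩, (hx _).trans e⟩⟩

theorem IsIso.isConj (h : IsIso F P Q f) : F.IsConj P Q := isConj_iff_exists_isIso.2 ⟨f, h⟩

theorem isConj_refl (hP : P ≤ S) : F.IsConj P P := (isIso_id hP).isConj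

theorem isConj_symm (h : F.IsConj P Q) : F.IsConj Q P := by
  obtain ⟨f, hf⟩ := isConj_iff_exists_isIso.1 h
  obtain ⟨g, hg, -⟩ := hf.exists_symm
  exact hg.isConj

theorem isConj_trans (h : F.IsConj P Q) (h' : F.IsConj Q R) : F.IsConj P R := by
  obtain ⟨f, hf⟩ := isConj_iff_exists_isIso.1 h
  obtain ⟨g, hg⟩ := isConj_iff_exists_isIso.1 h'
  exact (hf.trans hg).isConj

theorem le_of_isConj (h : F.IsConj P Q) : P ≤ S ∧ Q ≤ S := by
  obtain ⟨f, hf⟩ := isConj_iff_exists_isIso.1 h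
  exact ⟨hf.le, hf.le'⟩

theorem mem_homSet_iff {φ : P →* Ω} :
    φ ∈ F.homSet P Q ↔ IsMor F P (extFun φ) ∧ ∀ x ∈ P, extFun φ x ∈ Q := by
  constructor
  · rintro ⟨h, h'⟩
    exact ⟨isMor_extFun h, fun x hx => by rw [extFun_apply φ hx]; exact h' _⟩
  · rintro ⟨h, h'⟩
    exact ⟨mem_hom_iff.2 h, fun x => extFun_coe φ x ▸ h' x x.2⟩

/-! ### Finiteness -/

theorem finite_of_le [Finite S] (h : P ≤ S) : Finite P :=
  Finite.of_injective _ (Subgroup.inclusion_injective h)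

theorem setOf_le_finite (S : Subgroup Ω) [Finite S] : {P : Subgroup Ω | P ≤ S}.Finite := by
  refine ((Set.toFinite (Set.univ : Set (Subgroup S))).image (Subgroup.map S.subtype)).subset ?_
  intro P hP
  exact ⟨P.subgroupOf S, trivial, by
    rw [Subgroup.subgroupOf_map_subtype, inf_eq_left]; exact hP⟩

theorem eq_of_le_of_card_le' [Finite S] (hQ : Q ≤ S) (hle : P ≤ Q) (hc : Nat.card Q ≤ Nat.card P) :
    P = Q := by
  have := finite_of_le hQ
  exact Subgroup.eq_of_le_of_card_ge hle hc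

theorem card_lt_of_lt [Finite S] (hQ : Q ≤ S) (hlt : P < Q) : Nat.card P < Nat.card Q := by
  by_contra h
  exact hlt.ne (eq_of_le_of_card_le' hQ hlt.le (not_lt.1 h))

/-- An injective endomorphism of a finite subgroup is onto. -/
theorem IsMor.isIso_self [Finite S] (h : IsMor F P f) (hP : ∀ x ∈ P, f x ∈ P) : IsIso F P P f := by
  have hi := h.isIso
  have hle : h.image P le_rfl ≤ P := by
    rintro _ ⟨x, hx, rfl⟩
    exact hP x hx
  rwa [eq_of_le_of_card_le' h.le hle hi.card_eq.ge] at hi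

/-! ### Automorphisms -/

theorem autSet_mul {α β : MulAut P} (hα : P.subtype.comp α.toMonoidHom ∈ F.Hom P)
    (hβ : P.subtype.comp β.toMonoidHom ∈ F.Hom P) :
    P.subtype.comp (α * β).toMonoidHom ∈ F.Hom P :=
  mem_hom_of_isMor ((isMor_extFun hβ).comp (isMor_extFun hα) fun x hx => by
      rw [extFun_apply _ hx]; exact (β ⟨x, hx⟩).2) fun x => by
    show ((α (β x) : P) : Ω) = extFun _ (extFun _ (x : Ω))
    rw [extFun_coe]
    exact (extFun_coe (P.subtype.comp α.toMonoidHom) (β x)).symm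

theorem autSet_inv {α : MulAut P} (hα : P.subtype.comp α.toMonoidHom ∈ F.Hom P) :
    P.subtype.comp (α⁻¹).toMonoidHom ∈ F.Hom P := by
  have hiso : IsIso F P P (extFun (P.subtype.comp α.toMonoidHom)) := by
    refine ⟨isMor_extFun hα, fun y => ⟨fun hy => ?_, ?_⟩⟩
    · exact ⟨((α⁻¹ ⟨y, hy⟩ : P) : Ω), (α⁻¹ ⟨y, hy⟩).2, by
        rw [extFun_coe]; show ((α (α⁻¹ ⟨y, hy⟩) : P) : Ω) = y; simp⟩
    · rintro ⟨x, hx, rfl⟩
      rw [extFun_apply _ hx]
      exact (α ⟨x, hx⟩).2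
  obtain ⟨g, hg, hgf, -⟩ := hiso.exists_symm
  refine mem_hom_of_isMor hg.1 fun x => ?_
  show ((α⁻¹ x : P) : Ω) = g x
  have := hgf _ (α⁻¹ x).2
  rw [extFun_coe] at this
  simpa using this.symm

theorem mem_autGroup (hP : P ≤ S) {α : MulAut P} :
    α ∈ F.autGroup P ↔ P.subtype.comp α.toMonoidHom ∈ F.Hom P := by
  refine ⟨fun h => ?_, fun h => Subgroup.subset_closure h⟩
  induction h using Subgroup.closure_induction with
  | mem x hx => exact hx
  | one => exact mem_hom_of_isMor (isMor_id hP) fun x => rfl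
  | mul x y _ _ hx hy => exact autSet_mul hx hy
  | inv x _ hx => exact autSet_inv hx

/-- The self-map of `Ω` given on `P` by an automorphism of `P`. -/
noncomputable def autFun (α : MulAut P) : Ω → Ω := extFun (P.subtype.comp α.toMonoidHom)

theorem autFun_coe (α : MulAut P) (x : P) : autFun α (x : Ω) = ((α x : P) : Ω) :=
  extFun_coe (P.subtype.comp α.toMonoidHom) x

theorem autFun_apply (α : MulAut P) {x : Ω} (hx : x ∈ P) : autFun α x = ((α ⟨x, hx⟩ : P) : Ω) :=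
  autFun_coe α ⟨x, hx⟩

theorem autFun_mem (α : MulAut P) {x : Ω} (hx : x ∈ P) : autFun α x ∈ P := by
  rw [autFun_apply α hx]; exact (α ⟨x, hx⟩).2

theorem isIso_autFun (hP : P ≤ S) {α : MulAut P} (h : α ∈ F.autGroup P) :
    IsIso F P P (autFun α) := by
  refine ⟨isMor_extFun ((mem_autGroup hP).1 h), fun y => ⟨fun hy => ?_, ?_⟩⟩
  · exact ⟨((α⁻¹ ⟨y, hy⟩ : P) : Ω), (α⁻¹ ⟨y, hy⟩).2, by rw [autFun_coe]; simp⟩
  · rintro ⟨x, hx, rfl⟩
    exact autFun_mem α hx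

theorem mem_autGroup_of_isMor {α : MulAut P} (hf : IsMor F P f)
    (he : ∀ x : P, ((α x : P) : Ω) = f x) : α ∈ F.autGroup P :=
  Subgroup.subset_closure (mem_hom_of_isMor hf he)

theorem isMor_of_mem_autGroup (hP : P ≤ S) {α : MulAut P} (h : α ∈ F.autGroup P) :
    IsMor F P (autFun α) := (isIso_autFun hP h).1

/-- The automorphism of `P` given by an iso of the system from `P` onto itself. -/
noncomputable def autOf (h : IsIso F P P f) : MulAut P :=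
  MulEquiv.ofBijective
    (MonoidHom.mk' (fun x : P => (⟨f x, h.apply_mem x.2⟩ : P))
      fun a b => Subtype.ext (h.1.map_mul a.2 b.2))
    ⟨fun a b hab => Subtype.ext (h.1.injOn a.2 b.2 (congrArg Subtype.val hab)), by
      rintro ⟨y, hy⟩
      obtain ⟨x, hx, rfl⟩ := h.exists_apply hy
      exact ⟨⟨x, hx⟩, rfl⟩⟩

theorem autOf_apply (h : IsIso F P P f) (x : P) : ((autOf h x : P) : Ω) = f x := rfl

theorem autOf_mem (h : IsIso F P P f) : autOf h ∈ F.autGroup P :=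
  mem_autGroup_of_isMor h.1 fun _ => rfl

theorem autGroup_mono (h : F ≤ E) (P : Subgroup Ω) : F.autGroup P ≤ E.autGroup P :=
  Subgroup.closure_mono fun _ hα => h P hα

theorem finite_mulAut [Finite S] (hP : P ≤ S) : Finite (MulAut P) := by
  have := finite_of_le hP
  exact Finite.of_injective (fun α : MulAut P => (α : P → P)) fun _ _ h => MulEquiv.ext (congrFun h)

end Cfsg.Agent.Fusion
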