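import Mathlib
import Cfsg.Agent.Lib.Fusion.Mor

/-!
Automizers, extenders, receptive / fully normalized subgroups.
-/

set_option autoImplicit false

namespace Cfsg.Agent.Fusion

open Cfsg Cfsg.FusionSystem

variable {Ω : Type*} [Group Ω] {S : Subgroup Ω} {F : FusionSystem S} {P Q R : Subgroup Ω}
  {f g f' : Ω → Ω} {p : ℕ}

theorem mem_normalizerIn {x : Ω} :
    x ∈ normalizerIn S P ↔ x ∈ S ∧ x ∈ Subgroup.normalizer (P : Set Ω) := Iff.rfl

theorem mem_centralizerIn {x : Ω} :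
    x ∈ centralizerIn S P ↔ x ∈ S ∧ ∀ y ∈ P, y * x = x * y := by
  show x ∈ S ∧ x ∈ Subgroup.centralizer (P : Set Ω) ↔ _
  rw [Subgroup.mem_centralizer_iff]
  rfl

theorem conj_eq_of_mem_centralizerIn {c x : Ω} (hc : c ∈ centralizerIn S P) (hx : x ∈ P) :
    c * x * c⁻¹ = x := by
  rw [← (mem_centralizerIn.1 hc).2 x hx, mul_inv_cancel_right]

theorem normalizerIn_le : normalizerIn S P ≤ S := fun _ h => h.1

theorem centralizerIn_le : centralizerIn S P ≤ S := fun _ h => h.1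

theorem le_normalizerIn (h : P ≤ S) : P ≤ normalizerIn S P :=
  fun x hx => ⟨h hx, Subgroup.le_normalizer hx⟩

theorem centralizerIn_le_normalizerIn : centralizerIn S P ≤ normalizerIn S P := by
  intro c hc
  refine ⟨hc.1, Subgroup.mem_normalizer_iff.2 fun x => ?_⟩
  constructor
  · intro hx
    rw [conj_eq_of_mem_centralizerIn hc hx]
    exact hx
  · intro hx
    have h1 := conj_eq_of_mem_centralizerIn hc hx
    have : c * x * c⁻¹ = x := by
      have := congrArg (fun y => c⁻¹ * y * c) h1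
      simpa [mul_assoc] using this
    rwa [this] at hx

theorem conj_mem_of_mem_normalizer {a x : Ω} (ha : a ∈ Subgroup.normalizer (P : Set Ω)) (hx : x ∈ P) :
    a * x * a⁻¹ ∈ P := (Subgroup.mem_normalizer_iff.1 ha x).1 hx

theorem mem_normalizer_of_conj_mem [Finite S] (hP : P ≤ S) {a : Ω}
    (h : ∀ x ∈ P, a * x * a⁻¹ ∈ P) : a ∈ Subgroup.normalizer (P : Set Ω) := by
  have : Finite P := finite_of_le hP
  exact Subgroup.mem_normalizer_fintype (S := (P : Set Ω)) h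

/-- A map defined on part of the normalizer of `P` sends it into the normalizer of the image. -/
theorem IsMor.apply_mem_normalizerIn (hf : IsMor F R f) (hPR : P ≤ R) (hPQ : IsIso F P Q f)
    {a : Ω} (haR : a ∈ R) (ha : a ∈ Subgroup.normalizer (P : Set Ω)) :
    f a ∈ normalizerIn S Q := by
  refine ⟨hf.mem haR, Subgroup.mem_normalizer_iff.2 fun y => ?_⟩
  constructor
  · intro hy
    obtain ⟨x, hx, rfl⟩ := hPQ.exists_apply hy
    rw [← hf.map_conj (hPR hx) haR]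
    exact hPQ.apply_mem (conj_mem_of_mem_normalizer ha hx)
  · intro hy
    obtain ⟨x, hx, he⟩ := hPQ.exists_apply hy
    have hx' : a⁻¹ * x * a⁻¹⁻¹ ∈ P :=
      conj_mem_of_mem_normalizer ((Subgroup.normalizer (P : Set Ω)).inv_mem ha) hx
    have : y = f (a⁻¹ * x * a⁻¹⁻¹) := by
      rw [hf.map_conj (hPR hx) (R.inv_mem haR), he, hf.map_inv haR]
      group
    rw [this]
    exact hPQ.apply_mem hx'

theorem IsMor.apply_mem_centralizerIn (hf : IsMor F R f) (hPR : P ≤ R) (hPQ : IsIso F P Q f)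
    {c : Ω} (hcR : c ∈ R) (hc : c ∈ centralizerIn S P) : f c ∈ centralizerIn S Q := by
  refine mem_centralizerIn.2 ⟨hf.mem hcR, fun y hy => ?_⟩
  obtain ⟨x, hx, rfl⟩ := hPQ.exists_apply hy
  rw [← hf.map_mul (hPR hx) hcR, ← hf.map_mul hcR (hPR hx), (mem_centralizerIn.1 hc).2 x hx]

/-! ### Extension condition and receptive subgroups -/

/-- `a` normalizes `P` and its action on `P`, carried along `f`, is induced by an element of `S`. -/
def ExtCond (S P : Subgroup Ω) (f : Ω → Ω) (a : Ω) : Prop :=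
  a ∈ S ∧ a ∈ Subgroup.normalizer (P : Set Ω) ∧ ∃ h ∈ S, ∀ x ∈ P, f (a * x * a⁻¹) = h * f x * h⁻¹

theorem extCond_of_mem (hf : IsMor F P f) {a : Ω} (ha : a ∈ P) : ExtCond S P f a :=
  ⟨hf.le ha, Subgroup.le_normalizer ha, f a, hf.mem ha, fun _ hx => hf.map_conj hx ha⟩

theorem extCond_of_centralizer {a : Ω} (ha : a ∈ centralizerIn S P) : ExtCond S P f a :=
  ⟨ha.1, (centralizerIn_le_normalizerIn ha).2, 1, S.one_mem, fun x hx => by
    rw [conj_eq_of_mem_centralizerIn ha hx]; group⟩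

/-- The elements satisfying the extension condition form a subgroup. -/
def extSubgroup (S P : Subgroup Ω) (f : Ω → Ω) : Subgroup Ω where
  carrier := {a | ExtCond S P f a}
  one_mem' := ⟨S.one_mem, (Subgroup.normalizer (P : Set Ω)).one_mem, 1, S.one_mem, fun x _ => by simp⟩
  mul_mem' := by
    rintro a b ⟨ha, han, h, hh, hfa⟩ ⟨hb, hbn, k, hk, hfb⟩
    refine ⟨S.mul_mem ha hb, (Subgroup.normalizer (P : Set Ω)).mul_mem han hbn, h * k, S.mul_mem hh hk,
      fun x hx => ?_⟩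
    have e : a * b * x * (a * b)⁻¹ = a * (b * x * b⁻¹) * a⁻¹ := by group
    rw [e, hfa _ (conj_mem_of_mem_normalizer hbn hx), hfb x hx]
    group
  inv_mem' := by
    rintro a ⟨ha, han, h, hh, hfa⟩
    refine ⟨S.inv_mem ha, (Subgroup.normalizer (P : Set Ω)).inv_mem han, h⁻¹, S.inv_mem hh,
      fun x hx => ?_⟩
    have hy : a⁻¹ * x * a⁻¹⁻¹ ∈ P :=
      conj_mem_of_mem_normalizer ((Subgroup.normalizer (P : Set Ω)).inv_mem han) hx
    have := hfa _ hy
    have e : a * (a⁻¹ * x * a⁻¹⁻¹) * a⁻¹ = x := by group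
    rw [e] at this
    rw [this]
    group

theorem mem_extSubgroup {a : Ω} : a ∈ extSubgroup S P f ↔ ExtCond S P f a := Iff.rfl

theorem extSubgroup_le_normalizerIn : extSubgroup S P f ≤ normalizerIn S P := fun _ h => ⟨h.1, h.2.1⟩

theorem le_extSubgroup (hf : IsMor F P f) : P ≤ extSubgroup S P f := fun _ h => extCond_of_mem hf h

theorem extender_eq {φ : P →* Ω} (he : ∀ x : P, φ x = f x) :
    extender S P φ = extSubgroup S P f := by
  unfold FusionSystem.extender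
  convert Subgroup.closure_eq (extSubgroup S P f) using 2
  ext a
  show _ ↔ ExtCond S P f a
  constructor
  · rintro ⟨ha, han, h, hh, hx⟩
    refine ⟨ha, han, h, hh, fun x hxP => ?_⟩
    have := hx ⟨x, hxP⟩ (conj_mem_of_mem_normalizer han hxP)
    rwa [he, he] at this
  · rintro ⟨ha, han, h, hh, hx⟩
    refine ⟨ha, han, h, hh, fun x hxc => ?_⟩
    rw [he, he]
    exact hx x x.2

theorem exists_extension (hQ : F.IsReceptive Q) (hf : IsIso F P Q f) (hR : ∀ a ∈ R, ExtCond S P f a) :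
    ∃ f', IsMor F R f' ∧ ∀ x ∈ P, x ∈ R → f' x = f x := by
  obtain ⟨φ, hφ, hx⟩ := hf.1
  have hrange : φ.range = Q := by
    ext y
    rw [hf.2 y, MonoidHom.mem_range]
    exact ⟨fun ⟨x, hxy⟩ => ⟨x, x.2, (hx x).symm.trans hxy⟩,
      fun ⟨x, hxP, e⟩ => ⟨⟨x, hxP⟩, (hx ⟨x, hxP⟩).trans e⟩⟩
  obtain ⟨ψ, hψ, hext⟩ := hQ.2 P φ hφ hrange
  have hle : R ≤ extender S P φ := by
    rw [extender_eq hx]; exact hR
  refine ⟨extFun ψ, (isMor_extFun hψ).restrict hle, fun x hxP hxR => ?_⟩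
  rw [extFun_apply ψ (hle hxR), hext x hxP (hle hxR), hx]

theorem isReceptive_intro (hQS : Q ≤ S)
    (h : ∀ (P R : Subgroup Ω) (f : Ω → Ω), IsIso F P Q f → P ≤ R → (∀ a ∈ R, ExtCond S P f a) →
      ∃ f', IsMor F R f' ∧ ∀ x ∈ P, f' x = f x) : F.IsReceptive Q := by
  refine ⟨hQS, fun P φ hφ hrange => ?_⟩
  subst hrange
  have hf : IsIso F P φ.range (extFun φ) := by
    refine ⟨isMor_extFun hφ, fun y => ⟨?_, ?_⟩⟩
    · rintro ⟨x, rfl⟩; exact ⟨x, x.2, extFun_coe φ x⟩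
    · rintro ⟨x, hx, rfl⟩; exact ⟨⟨x, hx⟩, (extFun_apply φ hx).symm⟩
  obtain ⟨f', ⟨ψ, hψ, hψx⟩, he⟩ := h P (extSubgroup S P (extFun φ)) _ hf (le_extSubgroup hf.1)
    fun a ha => ha
  rw [extender_eq (f := extFun φ) fun x => (extFun_coe φ x).symm]
  refine ⟨ψ, hψ, fun x hP hN => ?_⟩
  rw [hψx]
  exact (he x hP).trans (extFun_apply φ hP)

/-- Extension to `P · C_S(P)`. -/
theorem exists_extension_centralizer (hQ : F.IsReceptive Q) (hf : IsIso F P Q f) :
    ∃ f', IsMor F (P ⊔ centralizerIn S P) f' ∧ ∀ x ∈ P, f' x = f x := by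
  have hle : P ⊔ centralizerIn S P ≤ extSubgroup S P f :=
    sup_le (le_extSubgroup hf.1) fun _ h => extCond_of_centralizer h
  obtain ⟨f', hf', he⟩ := exists_extension hQ hf (fun a ha => hle ha)
  exact ⟨f', hf', fun x hx => he x hx (Subgroup.mem_sup_left hx)⟩

theorem receptive_fullyCentralized [Finite S] (hQ : F.IsReceptive Q) : F.IsFullyCentralized Q := by
  refine ⟨hQ.1, fun P hP => ?_⟩
  obtain ⟨f, hf⟩ := isConj_iff_exists_isIso.1 (isConj_symm hP)
  obtain ⟨f', hf', he⟩ := exists_extension_centralizer hQ hf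
  have : Finite (centralizerIn S Q) := finite_of_le centralizerIn_le
  refine Nat.card_le_card_of_injective
    (fun c : centralizerIn S P => (⟨f' c, hf'.apply_mem_centralizerIn le_sup_left
      (hf.congr he) (Subgroup.mem_sup_right c.2) c.2⟩ : centralizerIn S Q)) ?_
  intro a b hab
  exact Subtype.ext (hf'.injOn (Subgroup.mem_sup_right a.2) (Subgroup.mem_sup_right b.2)
    (congrArg Subtype.val hab))

/-! ### Automizers -/

/-- The automorphisms of `P` induced by elements of `K`, as a subgroup with a simple membership test. -/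
def autIndSub (K P : Subgroup Ω) : Subgroup (MulAut P) where
  carrier := {α | ∃ a ∈ K, a ∈ Subgroup.normalizer (P : Set Ω) ∧
    ∀ x : P, ((α x : P) : Ω) = a * x * a⁻¹}
  one_mem' := ⟨1, K.one_mem, (Subgroup.normalizer (P : Set Ω)).one_mem, fun x => by simp⟩
  mul_mem' := by
    rintro α β ⟨a, ha, han, hα⟩ ⟨b, hb, hbn, hβ⟩
    refine ⟨a * b, K.mul_mem ha hb, (Subgroup.normalizer (P : Set Ω)).mul_mem han hbn, fun x => ?_⟩
    show ((α (β x) : P) : Ω) = _
    rw [hα, hβ]; group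
  inv_mem' := by
    rintro α ⟨a, ha, han, hα⟩
    refine ⟨a⁻¹, K.inv_mem ha, (Subgroup.normalizer (P : Set Ω)).inv_mem han, fun x => ?_⟩
    have := hα (α⁻¹ x)
    rw [show α (α⁻¹ x) = x by simp] at this
    rw [this]; group

theorem autInducedBy_eq (K P : Subgroup Ω) :
    autInducedBy K P = autIndSub K P := by
  unfold Cfsg.autInducedBy
  convert Subgroup.closure_eq (autIndSub K P) using 2
  ext α
  show _ ↔ ∃ a ∈ K, a ∈ Subgroup.normalizer (P : Set Ω) ∧ ∀ x : P, ((α x : P) : Ω) = a * x * a⁻¹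
  constructor
  · rintro ⟨a, ha, hx⟩
    refine ⟨a, ha, Subgroup.mem_normalizer_iff.2 fun y => ⟨fun hy => ?_, fun hy => ?_⟩, hx⟩
    · exact hx ⟨y, hy⟩ ▸ (α ⟨y, hy⟩).2
    · have h1 := hx (α⁻¹ ⟨_, hy⟩)
      rw [show α (α⁻¹ ⟨a * y * a⁻¹, hy⟩) = ⟨a * y * a⁻¹, hy⟩ by simp] at h1
      have : (↑(α⁻¹ (⟨a * y * a⁻¹, hy⟩ : P)) : Ω) = y := by
        simpa using h1.symm
      exact this ▸ (α⁻¹ (⟨a * y * a⁻¹, hy⟩ : P)).2
  · rintro ⟨a, ha, -, hx⟩
    exact ⟨a, ha, hx⟩

theorem mem_autInducedBy {K : Subgroup Ω} {α : MulAut P} :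
    α ∈ autInducedBy K P ↔ ∃ a ∈ K, a ∈ Subgroup.normalizer (P : Set Ω) ∧
      ∀ x : P, ((α x : P) : Ω) = a * x * a⁻¹ := by
  rw [autInducedBy_eq]; rfl

theorem autInducedBy_le_autGroup (hP : P ≤ S) : autInducedBy S P ≤ F.autGroup P := by
  intro α hα
  obtain ⟨a, ha, -, hx⟩ := mem_autInducedBy.1 hα
  exact mem_autGroup_of_isMor (isMor_conj hP ha) hx

theorem inn_le_autInducedBy (hP : P ≤ S) : Inn P ≤ autInducedBy S P := by
  rintro _ ⟨a, rfl⟩
  exact mem_autInducedBy.2 ⟨a, hP a.2, Subgroup.le_normalizer a.2, fun x => rfl⟩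

theorem inn_le_autGroup (hP : P ≤ S) : Inn P ≤ F.autGroup P :=
  (inn_le_autInducedBy hP).trans (autInducedBy_le_autGroup hP)

theorem autInducedBy_mono {K L : Subgroup Ω} (h : K ≤ L) : autInducedBy K P ≤ autInducedBy L P :=
  Subgroup.closure_mono fun _ ⟨a, ha, hx⟩ => ⟨a, h ha, hx⟩

theorem autInducedBy_eq_range (K P : Subgroup Ω) :
    autInducedBy K P = (P.normalizerMonoidHom.comp
      (Subgroup.inclusion (inf_le_right : K ⊓ Subgroup.normalizer (P : Set Ω) ≤ _))).range := by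
  ext α
  rw [mem_autInducedBy]
  constructor
  · rintro ⟨a, ha, han, hx⟩
    exact ⟨⟨a, ha, han⟩, MulEquiv.ext fun x => Subtype.ext (hx x).symm⟩
  · rintro ⟨⟨a, ha, han⟩, rfl⟩
    exact ⟨a, ha, han, fun x => rfl⟩

theorem isPGroup_of_le (hS : IsPGroup p S) (hP : P ≤ S) : IsPGroup p P := hS.to_le hP

theorem isPGroup_autInducedBy (hS : IsPGroup p S) (P : Subgroup Ω) :
    IsPGroup p (autInducedBy S P) := by
  rw [autInducedBy_eq_range]
  exact (hS.to_le (inf_le_left : S ⊓ Subgroup.normalizer (P : Set Ω) ≤ S)).of_surjective _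
    (MonoidHom.rangeRestrict_surjective _)

theorem finite_autGroup [Finite S] (hP : P ≤ S) : Finite (F.autGroup P) := by
  have := finite_mulAut hP
  infer_instance

/-- A `p`-subgroup of index prime to `p` is a Sylow subgroup. -/
theorem exists_sylow_eq_iff {G : Type*} [Group G] [Finite G] [Fact p.Prime] {H : Subgroup G}
    (hH : IsPGroup p H) : (∃ R : Sylow p G, (R : Subgroup G) = H) ↔ ¬ p ∣ H.index := by
  constructor
  · rintro ⟨R, rfl⟩
    exact R.not_dvd_index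
  · intro h
    exact ⟨hH.toSylow h, IsPGroup.toSylow_coe hH h⟩

theorem isFullyAutomized_iff [Finite S] [Fact p.Prime] (hS : IsPGroup p S) (hP : P ≤ S) :
    F.IsFullyAutomized p P ↔ ¬ p ∣ (autInducedBy S P).relIndex (F.autGroup P) := by
  have := finite_autGroup (F := F) hP
  have hp : IsPGroup p ((autInducedBy S P).subgroupOf (F.autGroup P)) :=
    (isPGroup_autInducedBy hS P).of_equiv
      (Subgroup.subgroupOfEquivOfLe (autInducedBy_le_autGroup hP)).symm
  show P ≤ S ∧ _ ↔ _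
  rw [exists_sylow_eq_iff hp]
  exact ⟨fun h => h.2, fun h => ⟨hP, h⟩⟩

/-- Sylow for a fully automized subgroup: every `p`-subgroup of `Aut_F(Q)` is conjugate into
`Aut_S(Q)`. -/
theorem exists_conj_le_autInducedBy [Finite S] [Fact p.Prime] (hQ : F.IsFullyAutomized p Q)
    {T : Subgroup (MulAut Q)} (hT : T ≤ F.autGroup Q) (hTp : IsPGroup p T) :
    ∃ γ ∈ F.autGroup Q, ∀ τ ∈ T, γ * τ * γ⁻¹ ∈ autInducedBy S Q := by
  have := finite_autGroup (F := F) hQ.1
  obtain ⟨R, hR⟩ := hQ.2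
  obtain ⟨R', hR'⟩ := IsPGroup.exists_le_sylow
    (hTp.of_equiv (Subgroup.subgroupOfEquivOfLe hT).symm)
  obtain ⟨γ, hγ⟩ := MulAction.exists_smul_eq (F.autGroup Q) R' R
  refine ⟨γ, γ.2, fun τ hτ => ?_⟩
  have h1 : (⟨τ, hT hτ⟩ : F.autGroup Q) ∈ (R' : Subgroup (F.autGroup Q)) := hR' hτ
  have h2 : γ * ⟨τ, hT hτ⟩ * γ⁻¹ ∈ (R : Subgroup (F.autGroup Q)) := by
    rw [← hγ, Sylow.coe_subgroup_smul]
    exact Subgroup.smul_mem_pointwise_smul _ (MulAut.conj γ) _ h1
  rw [hR] at h2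
  exact h2

/-! ### Existence of fully normalized conjugates -/

theorem finite_conjClass [Finite S] (F : FusionSystem S) (P : Subgroup Ω) :
    {Q | F.IsConj P Q}.Finite :=
  (setOf_le_finite S).subset fun _ h => (le_of_isConj h).2

theorem exists_fullyNormalized [Finite S] (hP : P ≤ S) :
    ∃ Q, F.IsConj P Q ∧ F.IsFullyNormalized Q := by
  obtain ⟨Q, hQ, hmax⟩ := (finite_conjClass F P).exists_maximalFor
    (fun Q => Nat.card (normalizerIn S Q)) _ ⟨P, isConj_refl hP⟩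
  refine ⟨Q, hQ, (le_of_isConj hQ).2, fun R hR => ?_⟩
  by_contra h
  exact h (hmax (isConj_trans hQ hR) (not_le.1 h).le)

theorem exists_fullyCentralized [Finite S] (hP : P ≤ S) :
    ∃ Q, F.IsConj P Q ∧ F.IsFullyCentralized Q := by
  obtain ⟨Q, hQ, hmax⟩ := (finite_conjClass F P).exists_maximalFor
    (fun Q => Nat.card (centralizerIn S Q)) _ ⟨P, isConj_refl hP⟩
  refine ⟨Q, hQ, (le_of_isConj hQ).2, fun R hR => ?_⟩
  by_contra h
  exact h (hmax (isConj_trans hQ hR) (not_le.1 h).le)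

end Cfsg.Agent.Fusion
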