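import Mathlib
import Cfsg.Agent.Lib.Fusion.Saturation

/-!
Fully normalized, fully centralized, fully automized and receptive subgroups in saturated systems.
-/

set_option autoImplicit false

namespace Cfsg.Agent.Fusion

open Cfsg Cfsg.FusionSystem

variable {Ω : Type*} [Group Ω] {S : Subgroup Ω} [Finite S] {F : FusionSystem S}
  {P Q R : Subgroup Ω} {f g f' : Ω → Ω} {p : ℕ} [Fact p.Prime]

/-- The isomorphism of a map, as a multiplicative equivalence of its source and image. -/
noncomputable def IsIso.toMulEquiv (hf : IsIso F P Q f) : P ≃* Q :=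
  MulEquiv.ofBijective
    (MonoidHom.mk' (fun x : P => (⟨f x, hf.apply_mem x.2⟩ : Q))
      fun a b => Subtype.ext (hf.1.map_mul a.2 b.2))
    ⟨fun a b hab => Subtype.ext (hf.1.injOn a.2 b.2 (congrArg Subtype.val hab)), by
      rintro ⟨y, hy⟩
      obtain ⟨x, hx, rfl⟩ := hf.exists_apply hy
      exact ⟨⟨x, hx⟩, rfl⟩⟩

omit [Finite S] in
theorem IsIso.toMulEquiv_apply (hf : IsIso F P Q f) (x : P) :
    ((hf.toMulEquiv x : Q) : Ω) = f x := rfl

omit [Finite S] in
theorem IsIso.toMulEquiv_symm_apply (hf : IsIso F P Q f) (y : Q) :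
    f ((hf.toMulEquiv.symm y : P) : Ω) = (y : Ω) := by
  rw [← hf.toMulEquiv_apply, hf.toMulEquiv.apply_symm_apply]

omit [Finite S] in
theorem congr_apply {G H : Type*} [Group G] [Group H] (e : G ≃* H) (α : MulAut G) (y : H) :
    MulAut.congr e α y = e (α (e.symm y)) := rfl

omit [Finite S] in
theorem autGroup_map_congr (hf : IsIso F P Q f) :
    (F.autGroup P).map (MulAut.congr hf.toMulEquiv).toMonoidHom = F.autGroup Q := by
  obtain ⟨g, hg, hgf, hfg⟩ := hf.exists_symm
  have hsymm : ∀ y : Q, ((hf.toMulEquiv.symm y : P) : Ω) = g y := fun y => by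
    rw [← hgf _ (hf.toMulEquiv.symm y).2, hf.toMulEquiv_symm_apply]
  ext β
  constructor
  · rintro ⟨α, hα, rfl⟩
    refine mem_autGroup_of_isMor ((hg.trans (isIso_autFun hf.le hα)).trans hf).1 fun y => ?_
    show f ((α (hf.toMulEquiv.symm y) : P) : Ω) = f (autFun α (g y))
    rw [← hsymm, autFun_coe]
  · intro hβ
    refine ⟨(MulAut.congr hf.toMulEquiv).symm β, ?_, MulEquiv.apply_symm_apply _ β⟩
    refine mem_autGroup_of_isMor ((hf.trans (isIso_autFun hf.le' hβ)).trans hg).1 fun x => ?_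
    show ((hf.toMulEquiv.symm (β (hf.toMulEquiv x)) : P) : Ω) = g (autFun β (f x))
    rw [hsymm, ← hf.toMulEquiv_apply, autFun_coe]

omit [Finite S] in
theorem autInducedBy_map_congr_le (hf : IsIso F P Q f) (hf' : IsMor F (normalizerIn S P) f')
    (he : ∀ x ∈ P, f' x = f x) :
    (autInducedBy S P).map (MulAut.congr hf.toMulEquiv).toMonoidHom ≤ autInducedBy S Q := by
  rintro _ ⟨α, hα, rfl⟩
  obtain ⟨a, ha, han, hx⟩ := mem_autInducedBy.1 hα
  have haN : a ∈ normalizerIn S P := ⟨ha, han⟩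
  have hfa := hf'.apply_mem_normalizerIn (le_normalizerIn hf.le) (hf.congr he) haN han
  refine mem_autInducedBy.2 ⟨f' a, hfa.1, hfa.2, fun y => ?_⟩
  show f ((α (hf.toMulEquiv.symm y) : P) : Ω) = _
  rw [hx, ← he _ (conj_mem_of_mem_normalizer han (hf.toMulEquiv.symm y).2),
    hf'.map_conj (le_normalizerIn hf.le (hf.toMulEquiv.symm y).2) haN,
    he _ (hf.toMulEquiv.symm y).2, hf.toMulEquiv_symm_apply]

/-- Into a fully automized and receptive subgroup, the normalizer can be mapped. -/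
theorem exists_iso_extend_normalizer (hS : IsPGroup p S) (hA : F.IsFullyAutomized p Q)
    (hR : F.IsReceptive Q) (hc : F.IsConj P Q) :
    ∃ f f', IsIso F P Q f ∧ IsMor F (normalizerIn S P) f' ∧ (∀ x ∈ P, f' x = f x) ∧
      ∀ a ∈ normalizerIn S P, f' a ∈ normalizerIn S Q := by
  obtain ⟨f₀, hf₀⟩ := isConj_iff_exists_isIso.1 hc
  obtain ⟨γ, hγ, hconj⟩ := exists_conj_le_autInducedBy hA
    (T := (autInducedBy S P).map (MulAut.congr hf₀.toMulEquiv).toMonoidHom)
    (by rw [← autGroup_map_congr hf₀]; exact Subgroup.map_mono (autInducedBy_le_autGroup hf₀.le))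
    ((isPGroup_autInducedBy hS P).map _)
  have hf : IsIso F P Q (autFun γ ∘ f₀) := hf₀.trans (isIso_autFun hf₀.le' hγ)
  have hcond : ∀ a ∈ normalizerIn S P, ExtCond S P (autFun γ ∘ f₀) a := by
    intro a ha
    let c : MulAut P := P.normalizerMonoidHom ⟨a, ha.2⟩
    have hc' : c ∈ autInducedBy S P := mem_autInducedBy.2 ⟨a, ha.1, ha.2, fun x => rfl⟩
    obtain ⟨h, hh, -, hx⟩ := mem_autInducedBy.1 (hconj _ ⟨c, hc', rfl⟩)
    refine ⟨ha.1, ha.2, h, hh, fun x hxP => ?_⟩
    have hxy := hx (γ (hf₀.toMulEquiv ⟨x, hxP⟩))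
    simp only [MulAut.mul_apply, MulAut.inv_apply_self, MulEquiv.coe_toMonoidHom, congr_apply,
      MulEquiv.symm_apply_apply] at hxy
    show autFun γ (f₀ (a * x * a⁻¹)) = h * autFun γ (f₀ x) * h⁻¹
    rw [autFun_apply γ (hf₀.apply_mem (conj_mem_of_mem_normalizer ha.2 hxP)),
      autFun_apply γ (hf₀.apply_mem hxP)]
    exact hxy
  obtain ⟨f', hf', he⟩ := exists_extension hR hf hcond
  refine ⟨_, f', hf, hf', fun x hx => he x hx (le_normalizerIn hf.le hx), fun a ha => ?_⟩
  exact hf'.apply_mem_normalizerIn (le_normalizerIn hf.le)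
    (hf.congr fun x hx => he x hx (le_normalizerIn hf.le hx)) ha ha.2

theorem fullyNormalized_of_receptive (hS : IsPGroup p S) (hA : F.IsFullyAutomized p Q)
    (hR : F.IsReceptive Q) : F.IsFullyNormalized Q := by
  refine ⟨hR.1, fun P hP => ?_⟩
  obtain ⟨f, f', hf, hf', he, hmem⟩ := exists_iso_extend_normalizer hS hA hR (isConj_symm hP)
  have : Finite (normalizerIn S Q) := finite_of_le normalizerIn_le
  refine Nat.card_le_card_of_injective (fun a : normalizerIn S P =>
    (⟨f' a, hmem a a.2⟩ : normalizerIn S Q)) fun a b hab => ?_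
  exact Subtype.ext (hf'.injOn a.2 b.2 (congrArg Subtype.val hab))

omit [Fact p.Prime] in
/-- An injection `N_S(P) → N_S(Q)` of a map of `F` is onto when `P` is fully normalized. -/
theorem isIso_normalizerIn_of_fullyNormalized (hP : F.IsFullyNormalized P) (hf : IsIso F P Q f)
    (hf' : IsMor F (normalizerIn S P) f')
    (hmem : ∀ a ∈ normalizerIn S P, f' a ∈ normalizerIn S Q) :
    IsIso F (normalizerIn S P) (normalizerIn S Q) f' := by
  have hi := hf'.isIso
  have hle : hf'.image _ le_rfl ≤ normalizerIn S Q := by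
    rintro _ ⟨a, ha, rfl⟩
    exact hmem a ha
  have := hP.2 Q hf.isConj
  rwa [eq_of_le_of_card_le' normalizerIn_le hle (this.trans hi.card_eq.ge)] at hi

/-- Receptivity passes along an isomorphism extending to the normalizers. -/
theorem receptive_of_iso (hf : IsIso F P Q f) (he : ∀ x ∈ P, f' x = f x)
    (hf' : IsIso F (normalizerIn S P) (normalizerIn S Q) f') (hR : F.IsReceptive Q) :
    F.IsReceptive P := by
  refine isReceptive_intro hf.le fun P₀ R g hg hle hcond => ?_
  obtain ⟨f'inv, hinv, hl, hr⟩ := hf'.exists_symm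
  have hc' : ∀ a ∈ R, ExtCond S P₀ (f ∘ g) a := by
    intro a ha
    obtain ⟨haS, han, h, hh, hx⟩ := hcond a ha
    have hhN : h ∈ normalizerIn S P := ⟨hh, mem_normalizer_of_conj_mem hf.le fun y hy => by
      obtain ⟨x, hxP, rfl⟩ := hg.exists_apply hy
      rw [← hx x hxP]
      exact hg.apply_mem (conj_mem_of_mem_normalizer han hxP)⟩
    refine ⟨haS, han, f' h, hf'.1.mem hhN, fun x hxP => ?_⟩
    show f (g (a * x * a⁻¹)) = f' h * f (g x) * (f' h)⁻¹
    have hgx := hg.apply_mem hxP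
    rw [hx x hxP, ← he _ (conj_mem_of_mem_normalizer hhN.2 hgx), ← he _ hgx,
      hf'.1.map_conj (le_normalizerIn hf.le hgx) hhN]
  obtain ⟨k, hk, hke⟩ := exists_extension hR (hg.trans hf) hc'
  have hmem : ∀ a ∈ R, k a ∈ normalizerIn S Q := fun a ha =>
    hk.apply_mem_normalizerIn hle ((hg.trans hf).congr fun x hx => hke x hx (hle hx)) ha (hcond a ha).2.1
  refine ⟨f'inv ∘ k, hk.comp hinv.1 hmem, fun x hx => ?_⟩
  have hgx := hg.apply_mem hx
  show f'inv (k x) = g x
  rw [hke x hx (hle hx), Function.comp_apply, ← he _ hgx, hl _ (le_normalizerIn hf.le hgx)]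

theorem fullyAutomized_of_iso (hS : IsPGroup p S) (hf : IsIso F P Q f) (he : ∀ x ∈ P, f' x = f x)
    (hf' : IsIso F (normalizerIn S P) (normalizerIn S Q) f') (hA : F.IsFullyAutomized p Q) :
    F.IsFullyAutomized p P := by
  rw [isFullyAutomized_iff hS hf.le]
  rw [isFullyAutomized_iff hS hf.le'] at hA
  have hmap : (autInducedBy S P).map (MulAut.congr hf.toMulEquiv).toMonoidHom = autInducedBy S Q := by
    refine le_antisymm (autInducedBy_map_congr_le hf hf'.1 he) ?_
    obtain ⟨g', hg', hl, -⟩ := hf'.exists_symm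
    obtain ⟨g, hg, hgf, hfg⟩ := hf.exists_symm
    intro β hβ
    refine ⟨(MulAut.congr hf.toMulEquiv).symm β, ?_, MulEquiv.apply_symm_apply _ β⟩
    obtain ⟨b, hb, hbn, hx⟩ := mem_autInducedBy.1 hβ
    obtain ⟨a, ha, rfl⟩ := hf'.exists_apply (y := b) ⟨hb, hbn⟩
    refine mem_autInducedBy.2 ⟨a, ha.1, ha.2, fun x => ?_⟩
    apply hf.1.injOn (SetLike.coe_mem _) (conj_mem_of_mem_normalizer ha.2 x.2)
    show f ((hf.toMulEquiv.symm (β (hf.toMulEquiv x)) : P) : Ω) = _
    rw [hf.toMulEquiv_symm_apply, hx, hf.toMulEquiv_apply,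
      ← he _ (conj_mem_of_mem_normalizer ha.2 x.2), hf'.1.map_conj (le_normalizerIn hf.le x.2) ha,
      he _ x.2]
  rwa [← autGroup_map_congr hf, ← hmap,
    Subgroup.relIndex_map_map_of_injective _ _ (MulAut.congr hf.toMulEquiv).injective] at hA

section Saturated

variable (hS : IsPGroup p S) (hF : F.IsSaturated p)
include hS hF

theorem fullyNormalized_receptive (hP : F.IsFullyNormalized P) :
    F.IsFullyAutomized p P ∧ F.IsReceptive P := by
  obtain ⟨Q, hc, hA, hR⟩ := hF P hP.1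
  obtain ⟨f, f', hf, hf', he, hmem⟩ := exists_iso_extend_normalizer hS hA hR hc
  have hiso := isIso_normalizerIn_of_fullyNormalized hP hf hf' hmem
  exact ⟨fullyAutomized_of_iso hS hf he hiso hA, receptive_of_iso hf he hiso hR⟩

theorem fullyNormalized_fullyCentralized (hP : F.IsFullyNormalized P) : F.IsFullyCentralized P :=
  receptive_fullyCentralized (fullyNormalized_receptive hS hF hP).2

theorem exists_iso_to_fullyNormalized (hc : F.IsConj P Q) (hQ : F.IsFullyNormalized Q) :
    ∃ f f', IsIso F P Q f ∧ IsMor F (normalizerIn S P) f' ∧ (∀ x ∈ P, f' x = f x) ∧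
      ∀ a ∈ normalizerIn S P, f' a ∈ normalizerIn S Q :=
  let h := fullyNormalized_receptive hS hF hQ
  exists_iso_extend_normalizer hS h.1 h.2 hc

theorem fullyCentralized_receptive (hP : F.IsFullyCentralized P) : F.IsReceptive P := by
  obtain ⟨Q, hc, hQn⟩ := exists_fullyNormalized (F := F) hP.1
  obtain ⟨hA, hR⟩ := fullyNormalized_receptive hS hF hQn
  obtain ⟨f, f', hf, hf', he, hmem⟩ := exists_iso_extend_normalizer hS hA hR hc
  have hPN := le_normalizerIn (P := P) hP.1
  -- `f'` maps `C_S(P)` onto `C_S(Q)`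
  have hC : hf'.image (centralizerIn S P) centralizerIn_le_normalizerIn = centralizerIn S Q := by
    refine eq_of_le_of_card_le' centralizerIn_le ?_ ?_
    · rintro _ ⟨c, hcc, rfl⟩
      exact hf'.apply_mem_centralizerIn hPN (hf.congr he) (centralizerIn_le_normalizerIn hcc) hcc
    · rw [(hf'.isIso_image _ centralizerIn_le_normalizerIn).card_eq]
      exact hP.2 Q hc
  refine isReceptive_intro hP.1 fun P₀ R g hg hle hcond => ?_
  have key : ∀ a ∈ R, ∃ h ∈ normalizerIn S P, ∀ x ∈ P₀, g (a * x * a⁻¹) = h * g x * h⁻¹ := by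
    intro a ha
    obtain ⟨haS, han, h, hh, hx⟩ := hcond a ha
    refine ⟨h, ⟨hh, mem_normalizer_of_conj_mem hP.1 fun y hy => ?_⟩, hx⟩
    obtain ⟨x, hxP, rfl⟩ := hg.exists_apply hy
    rw [← hx x hxP]
    exact hg.apply_mem (conj_mem_of_mem_normalizer han hxP)
  have hc' : ∀ a ∈ R, ExtCond S P₀ (f ∘ g) a := by
    intro a ha
    obtain ⟨haS, han, -⟩ := hcond a ha
    obtain ⟨h, hh, hx⟩ := key a ha
    refine ⟨haS, han, f' h, hf'.mem hh, fun x hxP => ?_⟩
    show f (g (a * x * a⁻¹)) = f' h * f (g x) * (f' h)⁻¹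
    have hgx := hg.apply_mem hxP
    rw [hx x hxP, ← he _ (conj_mem_of_mem_normalizer hh.2 hgx), ← he _ hgx,
      hf'.map_conj (hPN hgx) hh]
  obtain ⟨k, hk, hke⟩ := exists_extension hR (hg.trans hf) hc'
  have him := hf'.isIso
  obtain ⟨f'inv, hinv, hl, -⟩ := him.exists_symm
  have hmemk : ∀ a ∈ R, k a ∈ hf'.image (normalizerIn S P) le_rfl := by
    intro a ha
    obtain ⟨h, hh, hx⟩ := key a ha
    have hcq : (f' h)⁻¹ * k a ∈ centralizerIn S Q := by
      refine mem_centralizerIn.2 ⟨S.mul_mem (S.inv_mem (hf'.mem hh)) (hk.mem ha), fun y hy => ?_⟩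
      obtain ⟨z, hz, rfl⟩ := hf.exists_apply hy
      obtain ⟨x, hxP, rfl⟩ := hg.exists_apply hz
      have e1 : k a * f (g x) * (k a)⁻¹ = f' h * f (g x) * (f' h)⁻¹ := by
        have := hk.map_conj (hle hxP) ha
        rw [hke x hxP (hle hxP), hke _ (conj_mem_of_mem_normalizer (hcond a ha).2.1 hxP)
          (R.mul_mem (R.mul_mem ha (hle hxP)) (R.inv_mem ha)), Function.comp_apply,
          Function.comp_apply, hx x hxP, ← he _ (conj_mem_of_mem_normalizer hh.2 hz),
          hf'.map_conj (hPN hz) hh, he _ hz] at this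
        exact this.symm
      calc f (g x) * ((f' h)⁻¹ * k a)
          = (f' h)⁻¹ * (f' h * f (g x) * (f' h)⁻¹) * k a := by group
        _ = (f' h)⁻¹ * (k a * f (g x) * (k a)⁻¹) * k a := by rw [e1]
        _ = (f' h)⁻¹ * k a * f (g x) := by group
    rw [← hC] at hcq
    obtain ⟨c, hcC, hce⟩ := hcq
    refine ⟨h * c, mul_mem hh (centralizerIn_le_normalizerIn hcC), ?_⟩
    rw [hf'.map_mul hh (centralizerIn_le_normalizerIn hcC), hce, mul_inv_cancel_left]
  refine ⟨f'inv ∘ k, hk.comp hinv.1 hmemk, fun x hx => ?_⟩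
  have hgx := hg.apply_mem hx
  show f'inv (k x) = g x
  rw [hke x hx (hle hx), Function.comp_apply, ← he _ hgx, hl _ (hPN hgx)]

theorem fullyAutomized_top : F.IsFullyAutomized p S := by
  refine (fullyNormalized_receptive hS hF ⟨le_rfl, fun Q hQ => ?_⟩).1
  have h1 : normalizerIn S S = S := normalizerIn_le.antisymm (le_normalizerIn le_rfl)
  rw [h1]
  exact Nat.card_le_card_of_injective (Subgroup.inclusion normalizerIn_le)
    (Subgroup.inclusion_injective _)

end Saturated

end Cfsg.Agent.Fusion
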