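import Mathlib
import Cfsg.Agent.Lib.Fusion.FullyNormalized

/-!
Criteria for saturation; centric subgroups.
-/

set_option autoImplicit false

namespace Cfsg.Agent.Fusion

open Cfsg Cfsg.FusionSystem

variable {Ω : Type*} [Group Ω] {S : Subgroup Ω} [Finite S] {F : FusionSystem S}
  {P Q R : Subgroup Ω} {f g f' : Ω → Ω} {p : ℕ} [Fact p.Prime]

theorem normalizerIn_self_lt (hS : IsPGroup p S) (hPS : P < S) : P < normalizerIn S P := by
  have hnil : Group.IsNilpotent S := hS.isNilpotent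
  have hlt : P.subgroupOf S < ⊤ := by
    rw [lt_top_iff_ne_top, ne_eq, Subgroup.subgroupOf_eq_top]
    exact hPS.not_ge
  obtain ⟨x, hx, hxP⟩ := SetLike.exists_of_lt (Group.normalizerCondition_of_isNilpotent _ hlt)
  refine (le_normalizerIn hPS.le).lt_of_ne fun he => hxP (Subgroup.mem_subgroupOf.2 ?_)
  rw [he]
  exact ⟨x.2, mem_normalizer_of_conj_mem hPS.le fun y hy => Subgroup.mem_subgroupOf.1
    (conj_mem_of_mem_normalizer hx (Subgroup.mem_subgroupOf.2 hy : (⟨y, hPS.le hy⟩ : S) ∈ P.subgroupOf S))⟩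

theorem autOf_mul {α β : MulAut P} (x : P) :
    ((α * β : MulAut P) x : Ω) = autFun α (autFun β x) := by
  rw [autFun_coe, autFun_coe]
  rfl

theorem autFun_one {x : Ω} (hx : x ∈ P) : autFun (1 : MulAut P) x = x := by
  rw [autFun_apply _ hx]; rfl

theorem autFun_mul (α β : MulAut P) {x : Ω} (hx : x ∈ P) :
    autFun (α * β) x = autFun α (autFun β x) := by
  rw [autFun_apply _ hx]; exact autOf_mul (⟨x, hx⟩ : P)

theorem autFun_pow_restrict {N : Subgroup Ω} (hPN : P ≤ N) {α : MulAut P} {β : MulAut N}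
    (h : ∀ x ∈ P, autFun β x = autFun α x) :
    ∀ (k : ℕ) (x : Ω), x ∈ P → autFun (β ^ k) x = autFun (α ^ k) x := by
  intro k
  induction k with
  | zero => intro x hx; rw [pow_zero, pow_zero, autFun_one (hPN hx), autFun_one hx]
  | succ k ih =>
    intro x hx
    rw [pow_succ, pow_succ, autFun_mul _ _ (hPN hx), autFun_mul _ _ hx, h x hx]
    exact ih _ (autFun_mem α hx)

/-- An automorphism extending a `p`-element can be changed to a `p`-element with the same restriction. -/
theorem exists_pElement_extension {N : Subgroup Ω} [Finite N] (hPN : P ≤ N) {α : MulAut P}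
    {β : MulAut N} (h : ∀ x ∈ P, autFun β x = autFun α x) {k : ℕ} (hα : α ^ (p ^ k) = 1) :
    ∃ m : ℕ, (∃ j : ℕ, (β ^ m) ^ (p ^ j) = 1) ∧ ∀ x ∈ P, autFun (β ^ m) x = autFun α x := by
  have : Finite (MulAut N) :=
    Finite.of_injective (fun α : MulAut N => (α : N → N)) fun _ _ h => MulEquiv.ext (congrFun h)
  obtain ⟨j, d, hd, hjd⟩ :=
    Nat.exists_eq_pow_mul_and_not_dvd (orderOf_pos β).ne' p (Fact.out : p.Prime).ne_one
  have hcop : Nat.Coprime d (p ^ k) :=
    (((Fact.out : p.Prime).coprime_iff_not_dvd.2 hd).symm).pow_right k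
  obtain ⟨m, hm1, hm2⟩ := Nat.chineseRemainder hcop 0 1
  refine ⟨m, ⟨j, ?_⟩, fun x hx => ?_⟩
  · rw [← pow_mul]
    apply orderOf_dvd_iff_pow_eq_one.1
    rw [hjd, mul_comm m]
    exact mul_dvd_mul_left _ (Nat.modEq_zero_iff_dvd.1 hm1)
  · rw [autFun_pow_restrict hPN h m x hx]
    congr 2
    conv_rhs => rw [← pow_one α]
    exact pow_eq_pow_iff_modEq.2 (hm2.of_dvd (orderOf_dvd_iff_pow_eq_one.2 hα))

/-- If fully normalized subgroups are receptive and `S` is fully automized then `F` is saturated. -/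
theorem fullyAutomized_of_receptive (hS : IsPGroup p S) (hA : F.IsFullyAutomized p S)
    (hR : ∀ P, F.IsFullyNormalized P → F.IsReceptive P) :
    ∀ P, F.IsFullyNormalized P → F.IsFullyAutomized p P := by
  suffices h : ∀ n, ∀ P : Subgroup Ω, Nat.card S - Nat.card P = n → F.IsFullyNormalized P →
      F.IsFullyAutomized p P from fun P => h _ P rfl
  intro n
  induction n using Nat.strong_induction_on with
  | _ n ih =>
  intro P hn hP
  by_cases hPS : P = S
  · subst hPS; exact hA
  have hlt : P < S := hP.1.lt_of_ne hPS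
  have hPN := normalizerIn_self_lt hS hlt
  rw [isFullyAutomized_iff hS hP.1]
  intro hdvd
  have := finite_autGroup (F := F) hP.1
  -- a p-element normalizing `Aut_S(P)` outside it
  set A := F.autGroup P
  set T := (autInducedBy S P).subgroupOf A
  have hTp : IsPGroup p T :=
    (isPGroup_autInducedBy hS P).of_equiv
      (Subgroup.subgroupOfEquivOfLe (autInducedBy_le_autGroup hP.1)).symm
  obtain ⟨R, hTR⟩ := hTp.exists_le_sylow
  have hne : T ≠ (R : Subgroup A) := fun h => R.not_dvd_index (h ▸ hdvd)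
  have hnil : Group.IsNilpotent (R : Subgroup A) := R.isPGroup'.isNilpotent
  have hltR : T.subgroupOf (R : Subgroup A) < ⊤ := by
    rw [lt_top_iff_ne_top, ne_eq, Subgroup.subgroupOf_eq_top]
    exact fun h => hne (hTR.antisymm h)
  obtain ⟨r, hr, hrT⟩ := SetLike.exists_of_lt (Group.normalizerCondition_of_isNilpotent _ hltR)
  let α : MulAut P := ((r : A) : MulAut P)
  have hαA : α ∈ A := (r : A).2
  obtain ⟨k, hk⟩ := R.isPGroup' r
  have hαk : α ^ (p ^ k) = 1 := by
    simpa [α] using congrArg (fun z : (R : Subgroup A) => ((z : A) : MulAut P)) hk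
  have hαT : α ∉ autInducedBy S P := fun h => hrT h
  have hconj : ∀ τ ∈ autInducedBy S P, α * τ * α⁻¹ ∈ autInducedBy S P := by
    intro τ hτ
    have hτA : τ ∈ A := autInducedBy_le_autGroup hP.1 hτ
    have hτT : (⟨τ, hτA⟩ : A) ∈ T := hτ
    have := (Subgroup.mem_normalizer_iff.1 hr ⟨⟨τ, hτA⟩, hTR hτT⟩).1 hτT
    exact this
  -- extend `α` to the normalizer
  have hiα := isIso_autFun hP.1 hαA
  have hcond : ∀ a ∈ normalizerIn S P, ExtCond S P (autFun α) a := by
    intro a ha
    let c : MulAut P := P.normalizerMonoidHom ⟨a, ha.2⟩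
    have hc : c ∈ autInducedBy S P := mem_autInducedBy.2 ⟨a, ha.1, ha.2, fun x => rfl⟩
    obtain ⟨h, hh, -, hx⟩ := mem_autInducedBy.1 (hconj c hc)
    refine ⟨ha.1, ha.2, h, hh, fun x hxP => ?_⟩
    have := hx (α ⟨x, hxP⟩)
    simp only [MulAut.mul_apply, MulAut.inv_apply_self] at this
    rw [autFun_apply α hxP, autFun_apply α (conj_mem_of_mem_normalizer ha.2 hxP)]
    exact this
  obtain ⟨b, hb, hbe⟩ := exists_extension (hR P hP) hiα hcond
  have hbe' : ∀ x ∈ P, b x = autFun α x := fun x hx => hbe x hx (hPN.le hx)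
  have hbi : IsIso F (normalizerIn S P) (normalizerIn S P) b :=
    hb.isIso_self fun a ha => hb.apply_mem_normalizerIn hPN.le (hiα.congr hbe') ha ha.2
  let β := autOf hbi
  have hβe : ∀ x ∈ P, autFun β x = autFun α x := fun x hx => by
    rw [autFun_apply β (hPN.le hx), autOf_apply]; exact hbe' x hx
  have : Finite (normalizerIn S P) := finite_of_le normalizerIn_le
  obtain ⟨m, ⟨j, hj⟩, hm⟩ := exists_pElement_extension (p := p) hPN.le hβe hαk
  -- move to a fully normalized conjugate of the normalizer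
  obtain ⟨N', hNN', hN'⟩ := exists_fullyNormalized (F := F) (normalizerIn_le (S := S) (P := P))
  obtain ⟨γ, hγ⟩ := isConj_iff_exists_isIso.1 hNN'
  have hcardN : Nat.card P < Nat.card (normalizerIn S P) := card_lt_of_lt normalizerIn_le hPN
  have hcardN' : Nat.card N' = Nat.card (normalizerIn S P) := hγ.card_eq
  have hNS : Nat.card N' ≤ Nat.card S :=
    Nat.card_le_card_of_injective (Subgroup.inclusion hN'.1) (Subgroup.inclusion_injective _)
  have hA' := ih _ (by omega) N' rfl hN'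
  let e := MulAut.congr hγ.toMulEquiv
  have hβm : β ^ m ∈ F.autGroup (normalizerIn S P) := pow_mem (autOf_mem hbi) m
  have hzp : IsPGroup p (Subgroup.zpowers (β ^ m)) := by
    rintro ⟨z, hz⟩
    obtain ⟨i, rfl⟩ := Subgroup.mem_zpowers_iff.1 hz
    refine ⟨j, Subtype.ext ?_⟩
    show ((β ^ m) ^ i) ^ (p ^ j) = 1
    rw [← zpow_natCast, ← zpow_mul, mul_comm, zpow_mul, zpow_natCast, hj, one_zpow]
  obtain ⟨δ, hδ, hδc⟩ := exists_conj_le_autInducedBy hA'
    (T := (Subgroup.zpowers (β ^ m)).map e.toMonoidHom)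
    (by rw [← autGroup_map_congr hγ]; exact Subgroup.map_mono (Subgroup.zpowers_le.2 hβm))
    (hzp.map _)
  obtain ⟨s, hs, hsn, hsx⟩ := mem_autInducedBy.1 (hδc _ ⟨_, Subgroup.mem_zpowers _, rfl⟩)
  have hε := hγ.trans (isIso_autFun hN'.1 hδ)
  set ε := autFun δ ∘ γ with hεdef
  have hεconj : ∀ x ∈ normalizerIn S P, ε (autFun (β ^ m) x) = s * ε x * s⁻¹ := by
    intro x hx
    have h1 := hsx (δ (hγ.toMulEquiv ⟨x, hx⟩))
    simp only [MulAut.mul_apply, MulAut.inv_apply_self, e, MulEquiv.coe_toMonoidHom, congr_apply,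
      MulEquiv.symm_apply_apply] at h1
    show autFun δ (γ (autFun (β ^ m) x)) = s * autFun δ (γ x) * s⁻¹
    rw [autFun_apply δ (hγ.apply_mem (autFun_mem (β ^ m) hx)), autFun_apply δ (hγ.apply_mem hx)]
    simp only [autFun_apply (β ^ m) hx]
    exact h1
  -- the image of `P` has normalizer `N'`, so `s ∈ N'`
  have hP' := hε.restrict hPN.le
  set P' := hε.1.image P hPN.le with hP'def
  have hP'N : normalizerIn S P' = N' := by
    refine (eq_of_le_of_card_le' normalizerIn_le ?_ ?_).symm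
    · intro y hy
      obtain ⟨a, ha, rfl⟩ := hε.exists_apply hy
      exact hε.1.apply_mem_normalizerIn hPN.le hP' ha ha.2
    · rw [hcardN']; exact hP.2 P' hP'.isConj
  have hsN' : s ∈ N' := by
    rw [← hP'N]
    refine ⟨hs, mem_normalizer_of_conj_mem hP'.le' ?_⟩
    rintro _ ⟨x, hx, rfl⟩
    rw [← hεconj x (hPN.le hx)]
    exact ⟨_, by rw [hm x hx]; exact autFun_mem α hx, rfl⟩
  obtain ⟨n0, hn0, hn0e⟩ := hε.exists_apply hsN'
  refine hαT (mem_autInducedBy.2 ⟨n0, hn0.1, hn0.2, fun x => ?_⟩)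
  have hxN := hPN.le x.2
  apply hε.1.injOn (hPN.le (SetLike.coe_mem _))
    (mul_mem (mul_mem hn0 hxN) (inv_mem hn0))
  rw [hε.1.map_conj hxN hn0, hn0e, ← hεconj x hxN, hm x x.2, autFun_coe]

theorem isSaturated_of_receptive (hS : IsPGroup p S) (hA : F.IsFullyAutomized p S)
    (hR : ∀ P, F.IsFullyNormalized P → F.IsReceptive P) : F.IsSaturated p := fun P hP => by
  obtain ⟨Q, hc, hQ⟩ := exists_fullyNormalized (F := F) hP
  exact ⟨Q, hc, fullyAutomized_of_receptive hS hA hR Q hQ, hR Q hQ⟩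

/-! ### Centric subgroups -/

omit [Finite S] in
theorem centralizerIn_le_of_isCentric (h : F.IsCentric P) : centralizerIn S P ≤ P :=
  h.2 P (isConj_refl h.1)

omit [Finite S] in
theorem isCentric_of_isConj (h : F.IsCentric P) (hc : F.IsConj P Q) : F.IsCentric Q :=
  ⟨(le_of_isConj hc).2, fun R hR => h.2 R (isConj_trans hc hR)⟩

theorem fullyCentralized_of_isCentric (h : F.IsCentric P) : F.IsFullyCentralized P := by
  refine ⟨h.1, fun Q hQ => ?_⟩
  obtain ⟨f, hf⟩ := isConj_iff_exists_isIso.1 hQ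
  have hmem : ∀ c : centralizerIn S Q, ∃ x, x ∈ centralizerIn S P ∧ f x = c := by
    intro c
    obtain ⟨x, hx, he⟩ := hf.exists_apply (h.2 Q hQ c.2)
    refine ⟨x, mem_centralizerIn.2 ⟨h.1 hx, fun y hy => hf.1.injOn (P.mul_mem hy hx) (P.mul_mem hx hy) ?_⟩,
      he⟩
    rw [hf.1.map_mul hy hx, hf.1.map_mul hx hy, he]
    exact (mem_centralizerIn.1 c.2).2 _ (hf.apply_mem hy)
  choose x hx he using hmem
  have : Finite (centralizerIn S P) := finite_of_le centralizerIn_le
  exact Nat.card_le_card_of_injective (fun c => (⟨x c, hx c⟩ : centralizerIn S P)) fun a b hab =>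
    Subtype.ext ((he a).symm.trans ((congrArg f (congrArg Subtype.val hab :)).trans (he b)))

/-- Centric means: fully centralized and containing its centralizer. -/
theorem isCentric_of_fullyCentralized (hS : IsPGroup p S) (hF : F.IsSaturated p)
    (hU : F.IsFullyCentralized P) (hC : centralizerIn S P ≤ P) : F.IsCentric P := by
  refine ⟨hU.1, fun Q hQ => ?_⟩
  obtain ⟨f, hf⟩ := isConj_iff_exists_isIso.1 (isConj_symm hQ)
  obtain ⟨f', hf', he⟩ :=
    exists_extension_centralizer (fullyCentralized_receptive hS hF hU) hf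
  intro c hc
  have hcR := Subgroup.mem_sup_right (S := Q) hc
  obtain ⟨x, hx, hxe⟩ :=
    hf.exists_apply (hC (hf'.apply_mem_centralizerIn le_sup_left (hf.congr he) hcR hc))
  rw [← he x hx] at hxe
  rw [← hf'.injOn (Subgroup.mem_sup_left hx) hcR hxe]
  exact hx

end Cfsg.Agent.Fusion
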