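import Mathlib
import Cfsg.Agent.Lib.Fusion.Criteria

/-!
The fusion system of a finite group on a Sylow subgroup.
-/

set_option autoImplicit false

namespace Cfsg.Agent.Fusion

open Cfsg Cfsg.FusionSystem

variable {G : Type*} [Group G] {p : ℕ} {P Q R U : Subgroup G} {f : G → G}

theorem isMor_groupFusionSystem {T : Subgroup G} :
    IsMor (groupFusionSystem T) P f ↔
      P ≤ T ∧ (∀ x ∈ P, f x ∈ T) ∧ ∃ g : G, ∀ x ∈ P, f x = g * x * g⁻¹ := by
  constructor
  · rintro ⟨φ, ⟨hP, hT, g, hg⟩, hx⟩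
    exact ⟨hP, fun x hxP => hx ⟨x, hxP⟩ ▸ hT _, g, fun x hxP => (hx ⟨x, hxP⟩).symm.trans (hg _)⟩
  · rintro ⟨hP, hT, g, hg⟩
    exact ⟨conjHom P g, ⟨hP, fun x => by rw [conjHom_apply, ← hg x x.2]; exact hT x x.2, g,
      fun x => rfl⟩, fun x => (hg x x.2).symm⟩

theorem mem_map_conj {g y : G} : y ∈ P.map (MulAut.conj g).toMonoidHom ↔ ∃ x ∈ P, g * x * g⁻¹ = y :=
  Iff.rfl

theorem isIso_conj {T : Subgroup G} {g : G} (hP : P ≤ T) (hQ : P.map (MulAut.conj g).toMonoidHom ≤ T) :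
    IsIso (groupFusionSystem T) P (P.map (MulAut.conj g).toMonoidHom) (fun x => g * x * g⁻¹) :=
  ⟨isMor_groupFusionSystem.2 ⟨hP, fun x hx => hQ (mem_map_conj.2 ⟨x, hx, rfl⟩), g, fun _ _ => rfl⟩,
    fun _ => mem_map_conj⟩

theorem isConj_groupFusionSystem {T : Subgroup G} :
    (groupFusionSystem T).IsConj P Q ↔
      P ≤ T ∧ Q ≤ T ∧ ∃ g : G, P.map (MulAut.conj g).toMonoidHom = Q := by
  constructor
  · intro h
    obtain ⟨f, hf⟩ := isConj_iff_exists_isIso.1 h
    obtain ⟨hP, -, g, hg⟩ := isMor_groupFusionSystem.1 hf.1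
    refine ⟨hP, hf.le', g, Subgroup.ext fun y => ?_⟩
    rw [mem_map_conj, hf.2]
    exact ⟨fun ⟨x, hx, e⟩ => ⟨x, hx, (hg x hx).trans e⟩, fun ⟨x, hx, e⟩ => ⟨x, hx, (hg x hx).symm.trans e⟩⟩
  · rintro ⟨hP, hQ, g, rfl⟩
    exact (isIso_conj hP hQ).isConj

/-- `R` is a `p`-subgroup of `H` of largest possible order. -/
def IsMaxP (p : ℕ) (R H : Subgroup G) : Prop :=
  R ≤ H ∧ IsPGroup p R ∧ ∀ U : Subgroup G, U ≤ H → IsPGroup p U → Nat.card U ≤ Nat.card R

theorem card_map_conj (g : G) (P : Subgroup G) :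
    Nat.card (P.map (MulAut.conj g).toMonoidHom) = Nat.card P :=
  (Nat.card_congr (P.equivMapOfInjective _ (MulAut.conj g).injective).toEquiv).symm

theorem map_conj_mul (a b : G) (P : Subgroup G) :
    (P.map (MulAut.conj b).toMonoidHom).map (MulAut.conj a).toMonoidHom =
      P.map (MulAut.conj (a * b)).toMonoidHom := by
  rw [Subgroup.map_map]
  congr 1
  ext x
  simp [MulAut.conj_apply, mul_assoc]

theorem isPGroup_map_conj (h : IsPGroup p P) (g : G) :
    IsPGroup p (P.map (MulAut.conj g).toMonoidHom) := h.map _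

variable [Finite G] [Fact p.Prime]

theorem exists_sylow_subgroupOf_iff {R H : Subgroup G} (hR : R ≤ H) (hp : IsPGroup p R) :
    (∃ T : Sylow p H, (T : Subgroup H) = R.subgroupOf H) ↔ IsMaxP p R H := by
  constructor
  · rintro ⟨T, hT⟩
    refine ⟨hR, hp, fun U hU hUp => ?_⟩
    obtain ⟨T', hT'⟩ := (hUp.of_equiv (Subgroup.subgroupOfEquivOfLe hU).symm).exists_le_sylow
    calc Nat.card U = Nat.card (U.subgroupOf H) :=
          (Nat.card_congr (Subgroup.subgroupOfEquivOfLe hU).toEquiv).symm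
      _ ≤ Nat.card (T' : Subgroup H) :=
          Nat.card_le_card_of_injective (Subgroup.inclusion hT') (Subgroup.inclusion_injective _)
      _ = Nat.card (T : Subgroup H) := Nat.card_congr (Sylow.equiv T' T).toEquiv
      _ = Nat.card R := by rw [hT]; exact Nat.card_congr (Subgroup.subgroupOfEquivOfLe hR).toEquiv
  · intro h
    obtain ⟨T, hT⟩ := (hp.of_equiv (Subgroup.subgroupOfEquivOfLe hR).symm).exists_le_sylow
    refine ⟨T, (Subgroup.eq_of_le_of_card_ge hT ?_).symm⟩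
    rw [Nat.card_congr (Subgroup.subgroupOfEquivOfLe hR).toEquiv,
      Nat.card_congr ((T : Subgroup H).equivMapOfInjective H.subtype H.subtype_injective).toEquiv]
    exact h.2.2 _ (Subgroup.map_subtype_le _) (T.isPGroup'.map _)

theorem exists_isMaxP (H : Subgroup G) : ∃ R, IsMaxP p R H := by
  obtain ⟨R, hR, hmax⟩ := Set.Finite.exists_maximalFor (fun U : Subgroup G => Nat.card U)
    {U | U ≤ H ∧ IsPGroup p U} (Set.toFinite _) ⟨⊥, bot_le, IsPGroup.of_bot⟩
  refine ⟨R, hR.1, hR.2, fun U hU hUp => ?_⟩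
  by_contra h
  exact h (hmax ⟨hU, hUp⟩ (not_le.1 h).le)

/-- Sylow's theorem inside `H`. -/
theorem IsMaxP.exists_conj_le {R H : Subgroup G} (h : IsMaxP p R H) (hU : U ≤ H)
    (hUp : IsPGroup p U) : ∃ n ∈ H, U.map (MulAut.conj n).toMonoidHom ≤ R := by
  obtain ⟨T, hT⟩ := (exists_sylow_subgroupOf_iff h.1 h.2.1).2 h
  obtain ⟨T', hT'⟩ := (hUp.of_equiv (Subgroup.subgroupOfEquivOfLe hU).symm).exists_le_sylow
  obtain ⟨n, hn⟩ := MulAction.exists_smul_eq H T' T
  refine ⟨n, n.2, ?_⟩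
  rintro _ ⟨u, hu, rfl⟩
  have h1 : (⟨u, hU hu⟩ : H) ∈ (T' : Subgroup H) := hT' hu
  have h2 : n * ⟨u, hU hu⟩ * n⁻¹ ∈ (T : Subgroup H) := by
    rw [← hn, Sylow.coe_subgroup_smul]
    exact Subgroup.smul_mem_pointwise_smul _ (MulAut.conj n) _ h1
  rw [hT] at h2
  exact h2

/-- `p`-subgroups go into a given Sylow subgroup by conjugation. -/
theorem exists_conj_le_sylow (S : Sylow p G) (hU : IsPGroup p U) :
    ∃ g : G, U.map (MulAut.conj g).toMonoidHom ≤ S := by
  obtain ⟨T, hT⟩ := hU.exists_le_sylow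
  obtain ⟨g, hg⟩ := MulAction.exists_smul_eq G T S
  refine ⟨g, ?_⟩
  rintro _ ⟨u, hu, rfl⟩
  rw [← hg, Sylow.coe_subgroup_smul]
  exact Subgroup.smul_mem_pointwise_smul _ (MulAut.conj g) _ (hT hu)

theorem map_conj_normalizer_le (g : G) (P : Subgroup G) :
    (Subgroup.normalizer (P : Set G)).map (MulAut.conj g).toMonoidHom ≤
      Subgroup.normalizer ((P.map (MulAut.conj g).toMonoidHom : Subgroup G) : Set G) :=
  Subgroup.le_normalizer_map _

theorem isPGroup_inf_left (S : Sylow p G) (H : Subgroup G) : IsPGroup p ((S : Subgroup G) ⊓ H : Subgroup G) :=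
  S.isPGroup'.to_le inf_le_left

theorem exists_conj_isMaxP_normalizer (S : Sylow p G) (hP : P ≤ S) :
    ∃ g : G, P.map (MulAut.conj g).toMonoidHom ≤ S ∧
      IsMaxP p (normalizerIn (S : Subgroup G) (P.map (MulAut.conj g).toMonoidHom))
        (Subgroup.normalizer ((P.map (MulAut.conj g).toMonoidHom : Subgroup G) : Set G)) := by
  set N := Subgroup.normalizer (P : Set G) with hN
  obtain ⟨R, hR⟩ := exists_isMaxP (p := p) N
  -- a largest `p`-subgroup of the normalizer contains `P`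
  have hPR : P ≤ R := by
    have hsup : IsPGroup p (R ⊔ P : Subgroup G) :=
      hR.2.1.to_sup_of_normal_right' (S.isPGroup'.to_le hP) hR.1
    have := Subgroup.eq_of_le_of_card_ge (le_sup_left : R ≤ R ⊔ P)
      (hR.2.2 _ (sup_le hR.1 Subgroup.le_normalizer) hsup)
    rw [this]; exact le_sup_right
  obtain ⟨g, hg⟩ := exists_conj_le_sylow S hR.2.1
  set P' := P.map (MulAut.conj g).toMonoidHom with hP'
  have hP'S : P' ≤ S := (Subgroup.map_mono hPR).trans hg
  refine ⟨g, hP'S, inf_le_right, isPGroup_inf_left S _, fun U hU hUp => ?_⟩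
  have h1 : U.map (MulAut.conj g⁻¹).toMonoidHom ≤ N := by
    refine ((Subgroup.map_mono hU).trans (map_conj_normalizer_le g⁻¹ P')).trans (le_of_eq ?_)
    rw [hP', map_conj_mul, inv_mul_cancel, map_one]
    simp [hN]
  calc Nat.card U = Nat.card (U.map (MulAut.conj g⁻¹).toMonoidHom) := (card_map_conj _ _).symm
    _ ≤ Nat.card R := hR.2.2 _ h1 (isPGroup_map_conj hUp _)
    _ = Nat.card (R.map (MulAut.conj g).toMonoidHom) := (card_map_conj _ _).symm
    _ ≤ _ := Nat.card_le_card_of_injective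
        (Subgroup.inclusion (le_inf hg ((Subgroup.map_mono hR.1).trans (map_conj_normalizer_le g P))))
        (Subgroup.inclusion_injective _)

omit [Fact p.Prime] in
theorem map_conj_centralizer_le (g : G) (P : Subgroup G) :
    (Subgroup.centralizer (P : Set G)).map (MulAut.conj g).toMonoidHom ≤
      Subgroup.centralizer ((P.map (MulAut.conj g).toMonoidHom : Subgroup G) : Set G) := by
  rintro _ ⟨c, hc, rfl⟩
  rw [Subgroup.mem_centralizer_iff]
  rintro _ ⟨x, hx, rfl⟩
  rw [← map_mul, ← map_mul, Subgroup.mem_centralizer_iff.1 hc x hx]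

theorem centralizer_le_normalizer' (P : Subgroup G) :
    Subgroup.centralizer (P : Set G) ≤ Subgroup.normalizer (P : Set G) := fun c hc => by
  refine (centralizerIn_le_normalizerIn (S := ⊤) (P := P) ?_).2
  exact ⟨trivial, hc⟩

theorem IsMaxP.centralizer (S : Sylow p G)
    (h : IsMaxP p (normalizerIn (S : Subgroup G) Q) (Subgroup.normalizer (Q : Set G))) :
    IsMaxP p (centralizerIn (S : Subgroup G) Q) (Subgroup.centralizer (Q : Set G)) := by
  refine ⟨inf_le_right, isPGroup_inf_left S _, fun U hU hUp => ?_⟩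
  obtain ⟨n, hn, hle⟩ := h.exists_conj_le (hU.trans (centralizer_le_normalizer' Q)) hUp
  have hQn : Q.map (MulAut.conj n).toMonoidHom = Q := Subgroup.mem_normalizer_iff_map_conj_eq.1 hn
  rw [← card_map_conj n U]
  refine Nat.card_le_card_of_injective (Subgroup.inclusion
    (le_inf (hle.trans inf_le_left) ?_)) (Subgroup.inclusion_injective _)
  refine (Subgroup.map_mono hU).trans ((map_conj_centralizer_le n Q).trans (le_of_eq ?_))
  rw [hQn]

/-- The elements of the normalizer of `Q` inducing on it an automorphism induced from `S`. -/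
def actPreimage (S : Sylow p G) (Q : Subgroup G) : Subgroup G :=
  ((autInducedBy (S : Subgroup G) Q).comap Q.normalizerMonoidHom).map
    (Subgroup.normalizer (Q : Set G)).subtype

theorem mem_actPreimage {S : Sylow p G} {n : G} :
    n ∈ actPreimage S Q ↔ n ∈ Subgroup.normalizer (Q : Set G) ∧
      ∃ s ∈ normalizerIn (S : Subgroup G) Q, ∀ x ∈ Q, n * x * n⁻¹ = s * x * s⁻¹ := by
  constructor
  · rintro ⟨⟨m, hm⟩, hmem, rfl⟩
    obtain ⟨s, hs, hsn, hx⟩ := mem_autInducedBy.1 (Subgroup.mem_comap.1 hmem)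
    exact ⟨hm, s, ⟨hs, hsn⟩, fun x hx' => hx ⟨x, hx'⟩⟩
  · rintro ⟨hn, s, hs, hx⟩
    exact ⟨⟨n, hn⟩, mem_autInducedBy.2 ⟨s, hs.1, hs.2, fun x => hx x x.2⟩, rfl⟩

theorem isMaxP_actPreimage (S : Sylow p G)
    (hC : IsMaxP p (centralizerIn (S : Subgroup G) Q) (Subgroup.centralizer (Q : Set G))) :
    IsMaxP p (normalizerIn (S : Subgroup G) Q) (actPreimage S Q) := by
  refine ⟨fun s hs => mem_actPreimage.2 ⟨hs.2, s, hs, fun _ _ => rfl⟩, isPGroup_inf_left S _,
    fun U hU hUp => ?_⟩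
  have hUN : U ≤ Subgroup.normalizer (Q : Set G) := fun u hu => (mem_actPreimage.1 (hU hu)).1
  let π := Q.normalizerMonoidHom.comp (Subgroup.inclusion hUN)
  let ρ := Q.normalizerMonoidHom.comp (Subgroup.inclusion
    (inf_le_right : (S : Subgroup G) ⊓ Subgroup.normalizer (Q : Set G) ≤ _))
  have hπ : Nat.card π.range ≤ Nat.card ρ.range := by
    refine Nat.card_le_card_of_injective (Subgroup.inclusion ?_) (Subgroup.inclusion_injective _)
    rintro _ ⟨⟨u, hu⟩, rfl⟩
    obtain ⟨-, s, hs, hx⟩ := mem_actPreimage.1 (hU hu)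
    exact ⟨⟨s, hs⟩, MulEquiv.ext fun x => Subtype.ext (hx x x.2).symm⟩
  have hker : Nat.card π.ker ≤ Nat.card ρ.ker := by
    have h1 : Nat.card π.ker = Nat.card (U ⊓ Subgroup.centralizer (Q : Set G) : Subgroup G) := by
      rw [Nat.card_congr (π.ker.equivMapOfInjective U.subtype U.subtype_injective).toEquiv]
      refine congrArg (fun K : Subgroup G => Nat.card K) ?_
      ext x
      simp [π, MonoidHom.mem_ker, Subgroup.mem_centralizer_iff, DFunLike.ext_iff, Subtype.ext_iff]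
      exact ⟨fun ⟨h, hx⟩ => ⟨hx, fun a ha => ((mul_inv_eq_iff_eq_mul.1 (h a ha))).symm⟩,
        fun ⟨hx, h⟩ => ⟨fun a ha => mul_inv_eq_iff_eq_mul.2 (h a ha).symm, hx⟩⟩
    have h2 : Nat.card ρ.ker = Nat.card (centralizerIn (S : Subgroup G) Q) := by
      rw [Nat.card_congr (ρ.ker.equivMapOfInjective _ (Subgroup.subtype_injective _)).toEquiv]
      refine congrArg (fun K : Subgroup G => Nat.card K) ?_
      ext x
      simp only [ρ, Subgroup.mem_map, MonoidHom.mem_ker, MonoidHom.comp_apply, Subgroup.subtype_apply,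
        Subtype.exists, exists_and_right, exists_eq_right]
      constructor
      · rintro ⟨hx, he⟩
        refine mem_centralizerIn.2 ⟨hx.1, fun y hy => ?_⟩
        have := congrArg Subtype.val (DFunLike.congr_fun he ⟨y, hy⟩)
        simp at this
        exact (mul_inv_eq_iff_eq_mul.1 this).symm
      · intro hx
        refine ⟨centralizerIn_le_normalizerIn hx, MulEquiv.ext fun y => Subtype.ext ?_⟩
        simpa using conj_eq_of_mem_centralizerIn hx y.2
    rw [h1, h2]
    exact hC.2.2 _ inf_le_right (hUp.to_le inf_le_left)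
  calc Nat.card U = Nat.card π.ker * Nat.card π.range := by
        rw [← Subgroup.index_ker π]; exact (Subgroup.card_mul_index _).symm
    _ ≤ Nat.card ρ.ker * Nat.card ρ.range := Nat.mul_le_mul hker hπ
    _ = _ := by rw [← Subgroup.index_ker ρ]; exact Subgroup.card_mul_index _

theorem exists_centralizer_conj_le (S : Sylow p G)
    (hC : IsMaxP p (centralizerIn (S : Subgroup G) Q) (Subgroup.centralizer (Q : Set G)))
    (hU : U ≤ actPreimage S Q) (hUp : IsPGroup p U) :
    ∃ c ∈ Subgroup.centralizer (Q : Set G), U.map (MulAut.conj c).toMonoidHom ≤ S := by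
  obtain ⟨n, hn, hle⟩ := (isMaxP_actPreimage S hC).exists_conj_le hU hUp
  obtain ⟨hnN, s, hs, hx⟩ := mem_actPreimage.1 hn
  refine ⟨s⁻¹ * n, Subgroup.mem_centralizer_iff.2 fun x hxQ => ?_, ?_⟩
  · calc x * (s⁻¹ * n) = s⁻¹ * (s * x * s⁻¹) * n := by group
      _ = s⁻¹ * (n * x * n⁻¹) * n := by rw [hx x hxQ]
      _ = s⁻¹ * n * x := by group
  · rintro _ ⟨u, hu, rfl⟩
    have h1 : n * u * n⁻¹ ∈ (S : Subgroup G) := (hle ⟨u, hu, rfl⟩).1
    have : (MulAut.conj (s⁻¹ * n)).toMonoidHom u = s⁻¹ * (n * u * n⁻¹) * s := by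
      simp [MulAut.conj_apply, mul_assoc]
    rw [this]
    exact mul_mem (mul_mem (inv_mem hs.1) h1) hs.1

theorem autGroup_groupFusionSystem {T : Subgroup G} (hQ : Q ≤ T) :
    (groupFusionSystem T).autGroup Q = autInducedBy ⊤ Q := by
  ext α
  rw [mem_autInducedBy]
  constructor
  · intro h
    obtain ⟨-, -, g, hg⟩ := isMor_groupFusionSystem.1 (isMor_of_mem_autGroup hQ h)
    have hx : ∀ x : Q, ((α x : Q) : G) = g * x * g⁻¹ := fun x => (autFun_coe α x).symm.trans (hg x x.2)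
    exact ⟨g, trivial, mem_normalizer_of_conj_mem (S := ⊤) le_top fun x hxQ => hx ⟨x, hxQ⟩ ▸ (α ⟨x, hxQ⟩).2, hx⟩
  · rintro ⟨g, -, hgn, hx⟩
    exact mem_autGroup_of_isMor (f := fun x => g * x * g⁻¹)
      (isMor_groupFusionSystem.2 ⟨hQ, fun x hxQ => hQ (conj_mem_of_mem_normalizer hgn hxQ), g,
        fun _ _ => rfl⟩) hx

theorem fullyNormalized_group_iff (S : Sylow p G) (hP : P ≤ S) :
    (groupFusionSystem (S : Subgroup G)).IsFullyNormalized P ↔
      IsMaxP p (normalizerIn (S : Subgroup G) P) (Subgroup.normalizer (P : Set G)) := by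
  constructor
  · intro h
    refine ⟨inf_le_right, isPGroup_inf_left S _, fun U hU hUp => ?_⟩
    obtain ⟨g, hg, hmax⟩ := exists_conj_isMaxP_normalizer S hP
    refine le_trans ?_ (h.2 _ (isIso_conj hP hg).isConj)
    rw [← card_map_conj g U]
    exact hmax.2.2 _ ((Subgroup.map_mono hU).trans (map_conj_normalizer_le g P))
      (isPGroup_map_conj hUp g)
  · intro h
    refine ⟨hP, fun R hR => ?_⟩
    obtain ⟨-, -, g, rfl⟩ := isConj_groupFusionSystem.1 hR
    rw [← card_map_conj g⁻¹]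
    refine h.2.2 _ ((Subgroup.map_mono inf_le_right).trans
      ((map_conj_normalizer_le g⁻¹ _).trans (le_of_eq ?_))) (isPGroup_map_conj (isPGroup_inf_left S _) _)
    rw [map_conj_mul, inv_mul_cancel, map_one]
    simp

theorem fullyCentralized_group_iff (S : Sylow p G) (hP : P ≤ S) :
    (groupFusionSystem (S : Subgroup G)).IsFullyCentralized P ↔
      IsMaxP p (centralizerIn (S : Subgroup G) P) (Subgroup.centralizer (P : Set G)) := by
  constructor
  · intro h
    refine ⟨inf_le_right, isPGroup_inf_left S _, fun U hU hUp => ?_⟩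
    obtain ⟨g, hg, hmax⟩ := exists_conj_isMaxP_normalizer S hP
    refine le_trans ?_ (h.2 _ (isIso_conj hP hg).isConj)
    rw [← card_map_conj g U]
    exact (hmax.centralizer S).2.2 _ ((Subgroup.map_mono hU).trans (map_conj_centralizer_le g P))
      (isPGroup_map_conj hUp g)
  · intro h
    refine ⟨hP, fun R hR => ?_⟩
    obtain ⟨-, -, g, rfl⟩ := isConj_groupFusionSystem.1 hR
    rw [← card_map_conj g⁻¹]
    refine h.2.2 _ ((Subgroup.map_mono inf_le_right).trans
      ((map_conj_centralizer_le g⁻¹ _).trans (le_of_eq ?_))) (isPGroup_map_conj (isPGroup_inf_left S _) _)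
    rw [map_conj_mul, inv_mul_cancel, map_one]
    simp

theorem receptive_group (S : Sylow p G) (hQ : Q ≤ S)
    (hC : IsMaxP p (centralizerIn (S : Subgroup G) Q) (Subgroup.centralizer (Q : Set G))) :
    (groupFusionSystem (S : Subgroup G)).IsReceptive Q := by
  refine isReceptive_intro hQ fun P R f hf hle hcond => ?_
  obtain ⟨-, -, g, hg⟩ := isMor_groupFusionSystem.1 hf.1
  have hU : R.map (MulAut.conj g).toMonoidHom ≤ actPreimage S Q := by
    rintro _ ⟨a, ha, rfl⟩
    obtain ⟨haS, han, h, hh, hx⟩ := hcond a ha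
    have key : ∀ y ∈ Q, g * a * g⁻¹ * y * (g * a * g⁻¹)⁻¹ = h * y * h⁻¹ ∧ h * y * h⁻¹ ∈ Q := by
      intro y hy
      obtain ⟨x, hxP, rfl⟩ := hf.exists_apply hy
      have hax := conj_mem_of_mem_normalizer han hxP
      refine ⟨?_, hx x hxP ▸ hf.apply_mem hax⟩
      rw [← hx x hxP, hg x hxP, hg _ hax]; group
    refine mem_actPreimage.2 ⟨mem_normalizer_of_conj_mem (S := ⊤) le_top fun y hy => ?_, h,
      ⟨hh, mem_normalizer_of_conj_mem (S := ⊤) le_top fun y hy => (key y hy).2⟩, fun y hy => (key y hy).1⟩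
    have := (key y hy).1
    simp only [MulEquiv.coe_toMonoidHom, MulAut.conj_apply]
    rw [this]; exact (key y hy).2
  have hRS : R ≤ S := fun a ha => (hcond a ha).1
  obtain ⟨c, hc, hcS⟩ :=
    exists_centralizer_conj_le S hC hU (isPGroup_map_conj (S.isPGroup'.to_le hRS) g)
  rw [map_conj_mul] at hcS
  refine ⟨fun x => c * g * x * (c * g)⁻¹, isMor_groupFusionSystem.2
    ⟨hRS, fun x hx => hcS (mem_map_conj.2 ⟨x, hx, rfl⟩), c * g, fun _ _ => rfl⟩, fun x hx => ?_⟩
  have h1 : f x ∈ Q := hf.apply_mem hx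
  have h2 := Subgroup.mem_centralizer_iff.1 hc (f x) h1
  rw [hg x hx] at h2 ⊢
  calc c * g * x * (c * g)⁻¹ = (c * (g * x * g⁻¹)) * c⁻¹ := by group
    _ = (g * x * g⁻¹ * c) * c⁻¹ := by rw [← h2]
    _ = g * x * g⁻¹ := by group

theorem sylow_autInducedBy_group (S : Sylow p G)
    (hN : IsMaxP p (normalizerIn (S : Subgroup G) Q) (Subgroup.normalizer (Q : Set G))) :
    ∃ R : Sylow p (autInducedBy ⊤ Q),
      (R : Subgroup (autInducedBy ⊤ Q)) = (autInducedBy (S : Subgroup G) Q).subgroupOf (autInducedBy ⊤ Q) := by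
  obtain ⟨T, hT⟩ := (exists_sylow_subgroupOf_iff hN.1 hN.2.1).2 hN
  let π : Subgroup.normalizer (Q : Set G) →* autInducedBy ⊤ Q :=
    Q.normalizerMonoidHom.codRestrict _ fun n => mem_autInducedBy.2 ⟨n, trivial, n.2, fun _ => rfl⟩
  have hπ : Function.Surjective π := by
    rintro ⟨α, hα⟩
    obtain ⟨n, -, hn, hx⟩ := mem_autInducedBy.1 hα
    exact ⟨⟨n, hn⟩, Subtype.ext (MulEquiv.ext fun x => Subtype.ext (hx x).symm)⟩
  refine ⟨T.mapSurjective hπ, ?_⟩
  rw [Sylow.coe_mapSurjective, hT]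
  ext α
  constructor
  · rintro ⟨n, hn, rfl⟩
    exact mem_autInducedBy.2 ⟨n, hn.1, n.2, fun _ => rfl⟩
  · intro hα
    obtain ⟨n, hn, hnn, hx⟩ := mem_autInducedBy.1 (Subgroup.mem_subgroupOf.1 hα)
    exact ⟨⟨n, hnn⟩, ⟨hn, hnn⟩, Subtype.ext (MulEquiv.ext fun x => Subtype.ext (hx x).symm)⟩

theorem fullyAutomized_group (S : Sylow p G) (hQ : Q ≤ S)
    (hN : IsMaxP p (normalizerIn (S : Subgroup G) Q) (Subgroup.normalizer (Q : Set G))) :
    (groupFusionSystem (S : Subgroup G)).IsFullyAutomized p Q := by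
  refine ⟨hQ, ?_⟩
  rw [autGroup_groupFusionSystem hQ]
  exact sylow_autInducedBy_group S hN

theorem isSaturated_groupFusionSystem (S : Sylow p G) :
    (groupFusionSystem (S : Subgroup G)).IsSaturated p := by
  intro P hP
  obtain ⟨g, hg, hmax⟩ := exists_conj_isMaxP_normalizer S hP
  exact ⟨_, (isIso_conj hP hg).isConj, fullyAutomized_group S hg hmax,
    receptive_group S hg (hmax.centralizer S)⟩

end Cfsg.Agent.Fusion

namespace Cfsg.Agent.Fusion

open Cfsg Cfsg.FusionSystem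

variable {G : Type*} [Group G] {p : ℕ} {P Q R U : Subgroup G}

variable [Finite G] [Fact p.Prime]

theorem sylow_mem_normal_pSubgroup (S : Sylow p G) (R : Subgroup G) [hn : R.Normal]
    (hR : IsPGroup p R) : R ≤ S := by
  obtain ⟨g, hg⟩ := exists_conj_le_sylow S hR
  intro x hx
  have : g⁻¹ * x * g ∈ R := by simpa using hn.conj_mem x hx g⁻¹
  have h2 := hg ⟨_, this, rfl⟩
  simpa [MulAut.conj_apply, mul_assoc] using h2

theorem isNormal_group_of_normal (S : Sylow p G) (R : Subgroup G) [hn : R.Normal]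
    (hR : IsPGroup p R) : (groupFusionSystem (S : Subgroup G)).IsNormal R := by
  have hRS := sylow_mem_normal_pSubgroup S R hR
  refine ⟨hRS, ?_⟩
  rintro P φ ⟨hP, hT, g, hg⟩
  refine ⟨conjHom (P ⊔ R) g, ⟨sup_le hP hRS, ?_, g, fun x => rfl⟩, fun x => ?_, ?_⟩
  · intro x
    have : (P ⊔ R).map (MulAut.conj g).toMonoidHom ≤ S := by
      rw [Subgroup.map_sup]
      refine sup_le ?_ ?_
      · rintro _ ⟨y, hy, rfl⟩
        have := hT ⟨y, hy⟩
        rw [hg] at this
        simpa using this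
      · rintro _ ⟨y, hy, rfl⟩
        exact hRS (hn.conj_mem y hy g)
    exact this ⟨x, x.2, rfl⟩
  · rw [hg]; rfl
  · ext y
    constructor
    · rintro ⟨x, hx, rfl⟩
      exact hn.conj_mem x hx g
    · intro hy
      have h2 : g⁻¹ * y * g ∈ R := by simpa using hn.conj_mem y hy g⁻¹
      refine ⟨⟨_, Subgroup.mem_sup_right h2⟩, h2, ?_⟩
      show g * (g⁻¹ * y * g) * g⁻¹ = y
      group

/-- Conjugation into `S` of the part of the normalizer mapped into `N_S(Q) C_G(Q)`. -/
theorem exists_conj_extender_le (S : Sylow p G)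
    (hN : IsMaxP p (normalizerIn (S : Subgroup G) Q) (Subgroup.normalizer (Q : Set G))) (g : G) :
    ∃ h ∈ Subgroup.centralizer (Q : Set G),
      ((normalizerIn (S : Subgroup G) P) ⊓ (normalizerIn (S : Subgroup G) Q ⊔
        Subgroup.centralizer (Q : Set G)).comap (MulAut.conj g).toMonoidHom).map
          (MulAut.conj (h * g)).toMonoidHom ≤ S := by
  obtain ⟨h, hh, hle⟩ := exists_centralizer_conj_le (U := ((normalizerIn (S : Subgroup G) P) ⊓
      (normalizerIn (S : Subgroup G) Q ⊔ Subgroup.centralizer (Q : Set G)).comap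
        (MulAut.conj g).toMonoidHom).map (MulAut.conj g).toMonoidHom) S (hN.centralizer S)
    (le_trans (Subgroup.map_le_iff_le_comap.2 inf_le_right) (sup_le
      (fun s hs => mem_actPreimage.2 ⟨hs.2, s, hs, fun _ _ => rfl⟩)
      (fun c hc => mem_actPreimage.2 ⟨centralizer_le_normalizer' Q hc, 1, one_mem _, fun x hx => by
        have := Subgroup.mem_centralizer_iff.1 hc x hx
        simp [← this]⟩)))
    ((S.isPGroup'.to_le (inf_le_left.trans inf_le_left)).map _)
  exact ⟨h, hh, by rwa [map_conj_mul] at hle⟩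

/-- Fusion in `G` of subgroups of a Sylow subgroup lifts from a quotient by a normal `p'`-subgroup
(in fact any normal subgroup). -/
theorem exists_lift_conj (S : Sylow p G) (N : Subgroup G) [hn : N.Normal] (hP : P ≤ (S : Subgroup G))
    (γ : G ⧸ N) (hγ : ∀ x ∈ P, γ * QuotientGroup.mk x * γ⁻¹ ∈ (S : Subgroup G).map (QuotientGroup.mk' N)) :
    ∃ g : G, ∀ x ∈ P, g * x * g⁻¹ ∈ S ∧ (QuotientGroup.mk (g * x * g⁻¹) : G ⧸ N) = γ * QuotientGroup.mk x * γ⁻¹ := by
  obtain ⟨g₀, rfl⟩ := QuotientGroup.mk_surjective γ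
  have hmax : IsMaxP p (S : Subgroup G) ((S : Subgroup G) ⊔ N) := by
    refine ⟨le_sup_left, S.isPGroup', fun U _ hU => ?_⟩
    obtain ⟨g, hg⟩ := exists_conj_le_sylow S hU
    rw [← card_map_conj g U]
    exact Nat.card_le_card_of_injective (Subgroup.inclusion hg) (Subgroup.inclusion_injective _)
  have hsub : P.map (MulAut.conj g₀).toMonoidHom ≤ (S : Subgroup G) ⊔ N := by
    rintro _ ⟨x, hx, rfl⟩
    obtain ⟨s, hs, he⟩ := hγ x hx
    rw [QuotientGroup.mk'_apply, ← QuotientGroup.mk_mul, ← QuotientGroup.mk_inv, ← QuotientGroup.mk_mul,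
      QuotientGroup.eq] at he
    show g₀ * x * g₀⁻¹ ∈ (S : Subgroup G) ⊔ N
    rw [← mul_inv_cancel_left s (g₀ * x * g₀⁻¹)]
    exact Subgroup.mul_mem_sup hs he
  obtain ⟨n, hn', hle⟩ := hmax.exists_conj_le (U := P.map (MulAut.conj g₀).toMonoidHom) hsub
    (isPGroup_map_conj (S.isPGroup'.to_le hP) g₀)
  · obtain ⟨s, hs, m, hm, rfl⟩ : ∃ s ∈ (S : Subgroup G), ∃ m ∈ N, s * m = n := by
      rw [← SetLike.mem_coe, Subgroup.mul_normal] at hn'
      exact Set.mem_mul.1 hn'
    refine ⟨m * g₀, fun x hx => ⟨?_, ?_⟩⟩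
    · have h1 := hle ⟨_, ⟨x, hx, rfl⟩, rfl⟩
      simp only [MulEquiv.coe_toMonoidHom, MulAut.conj_apply] at h1
      have h2 := mul_mem (mul_mem (inv_mem hs) h1) hs
      have e : m * g₀ * x * (m * g₀)⁻¹ = s⁻¹ * (s * m * (g₀ * x * g₀⁻¹) * (s * m)⁻¹) * s := by group
      rw [e]
      exact h2
    · simp [QuotientGroup.mk_mul, (QuotientGroup.eq_one_iff m).2 hm]

end Cfsg.Agent.Fusion
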