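import Mathlib
import Cfsg.Prelude.Def_EvenType
import Cfsg.Agent.Lib.Fusion.GroupSystem

/-!
Strongly `p`-embedded subgroups: control of fusion of nontrivial `p`-elements.
-/

set_option autoImplicit false

open scoped Pointwise

namespace Cfsg.Agent.Fusion

open Cfsg Cfsg.FusionSystem

variable {X : Type*} [Group X] [Finite X] {p : ℕ} [Fact p.Prime]

omit [Finite X] [Fact p.Prime] in
theorem mem_smul_sylow {g y : X} {T : Sylow p X} : y ∈ g • T ↔ g⁻¹ * y * g ∈ T := by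
  show y ∈ ((g • T : Sylow p X) : Subgroup X) ↔ _
  rw [Sylow.coe_subgroup_smul, Subgroup.mem_pointwise_smul_iff_inv_smul_mem]
  simp [MulAut.smul_def]
  exact Iff.rfl

/-- A subgroup containing the normalizers of all nontrivial subgroups of a Sylow subgroup `T`
is transitive on the Sylow subgroups meeting `T` nontrivially. -/
theorem exists_smul_eq_of_inf_ne_bot (T : Sylow p X) {E : Subgroup X}
    (hE : ∀ Q : Subgroup X, Q ≤ (T : Subgroup X) → Q ≠ ⊥ → Subgroup.normalizer (Q : Set X) ≤ E)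
    (T' : Sylow p X) (h : (T : Subgroup X) ⊓ T' ≠ ⊥) : ∃ e ∈ E, e • T = T' := by
  induction hn : Nat.card (T : Subgroup X) - Nat.card ((T : Subgroup X) ⊓ T' : Subgroup X)
    using Nat.strong_induction_on generalizing T' with
  | _ n ih =>
  subst hn
  set D := (T : Subgroup X) ⊓ T' with hD
  by_cases hT : D = T
  · exact ⟨1, one_mem _, by
      rw [one_smul]
      exact Sylow.ext (T.is_maximal' T'.isPGroup' (inf_eq_left.1 hT)).symm⟩
  have h1 : D < (T : Subgroup X) := lt_of_le_of_ne inf_le_left hT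
  have h2 : D < (T' : Subgroup X) := by
    refine lt_of_le_of_ne inf_le_right fun h2 => hT ?_
    have := T'.is_maximal' T.isPGroup' (inf_eq_right.1 h2)
    rw [hD, ← this, inf_idem]
  have hA := normalizerIn_self_lt (p := p) T.isPGroup' h1
  have hB := normalizerIn_self_lt (p := p) T'.isPGroup' h2
  obtain ⟨R, hR⟩ := exists_isMaxP (p := p) (Subgroup.normalizer (D : Set X))
  obtain ⟨a, ha, hAle⟩ := hR.exists_conj_le (inf_le_right : normalizerIn (T : Subgroup X) D ≤ _)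
    (T.isPGroup'.to_le inf_le_left)
  obtain ⟨b, hb, hBle⟩ := hR.exists_conj_le (inf_le_right : normalizerIn (T' : Subgroup X) D ≤ _)
    (T'.isPGroup'.to_le inf_le_left)
  obtain ⟨T₁, hT₁⟩ := hR.2.1.exists_le_sylow
  have hlt : ∀ {A : Subgroup X} {T'' : Sylow p X}, D < A → ∀ c : X,
      A.map (MulAut.conj c).toMonoidHom ≤ (T : Subgroup X) ⊓ T'' →
      Nat.card (T : Subgroup X) - Nat.card ((T : Subgroup X) ⊓ T'' : Subgroup X) <
        Nat.card (T : Subgroup X) - Nat.card D ∧ (T : Subgroup X) ⊓ T'' ≠ ⊥ := by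
    intro A T'' hlt c hc
    have hDA : Nat.card D < Nat.card A := card_lt_of_lt (S := A) le_rfl hlt
    have hAc : Nat.card A ≤ Nat.card ((T : Subgroup X) ⊓ T'' : Subgroup X) := by
      rw [← card_map_conj c A]
      exact Nat.card_le_card_of_injective (Subgroup.inclusion hc) (Subgroup.inclusion_injective _)
    have hTT : Nat.card ((T : Subgroup X) ⊓ T'' : Subgroup X) ≤ Nat.card (T : Subgroup X) :=
      Nat.card_le_card_of_injective (Subgroup.inclusion inf_le_left) (Subgroup.inclusion_injective _)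
    have hD0 : 0 < Nat.card D := Nat.card_pos
    refine ⟨by omega, fun h0 => ?_⟩
    rw [h0, Subgroup.card_bot] at hAc
    omega
  -- a Sylow subgroup through `N_T(D)` and a conjugate of `N_{T'}(D)`
  obtain ⟨h3, h4⟩ := hlt (T'' := a⁻¹ • T₁) hA 1 (by
    rintro _ ⟨x, hx, rfl⟩
    simp only [map_one]
    refine ⟨hx.1, ?_⟩
    show x ∈ a⁻¹ • T₁
    rw [mem_smul_sylow, inv_inv]
    exact hT₁ (hAle ⟨x, hx, rfl⟩))
  obtain ⟨e, he, heq⟩ := ih _ h3 _ h4 rfl
  obtain ⟨h5, h6⟩ := hlt (T'' := (e⁻¹ * (a⁻¹ * b)) • T') hB (e⁻¹ * (a⁻¹ * b)) (by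
    rintro _ ⟨x, hx, rfl⟩
    simp only [MulEquiv.coe_toMonoidHom, MulAut.conj_apply]
    refine ⟨?_, ?_⟩
    · have : e⁻¹ * (a⁻¹ * b) * x * (e⁻¹ * (a⁻¹ * b))⁻¹ = e⁻¹ * (a⁻¹ * (b * x * b⁻¹) * a) * e := by
        group
      rw [this]
      have h7 : a⁻¹ * (b * x * b⁻¹) * a ∈ a⁻¹ • T₁ := by
        rw [mem_smul_sylow]
        have h8 : b * x * b⁻¹ ∈ (T₁ : Subgroup X) := hT₁ (hBle ⟨x, hx, rfl⟩)
        have e9 : a⁻¹⁻¹ * (a⁻¹ * (b * x * b⁻¹) * a) * a⁻¹ = b * x * b⁻¹ := by group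
        rw [e9]
        exact h8
      rw [← heq, mem_smul_sylow] at h7
      exact h7
    · show _ ∈ (e⁻¹ * (a⁻¹ * b)) • T'
      rw [mem_smul_sylow]
      have e8 : (e⁻¹ * (a⁻¹ * b))⁻¹ * (e⁻¹ * (a⁻¹ * b) * x * (e⁻¹ * (a⁻¹ * b))⁻¹) *
          (e⁻¹ * (a⁻¹ * b)) = x := by group
      rw [e8]
      exact hx.1)
  obtain ⟨e', he', heq'⟩ := ih _ h5 _ h6 rfl
  have hDne : D ≠ ⊥ := h
  have hn : a⁻¹ * b ∈ E := hE D inf_le_left hDne (mul_mem (inv_mem ha) hb)
  refine ⟨(e⁻¹ * (a⁻¹ * b))⁻¹ * e', mul_mem (inv_mem (mul_mem (inv_mem he) hn)) he', ?_⟩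
  rw [mul_smul, heq', inv_smul_smul]

/-- Such a subgroup contains every element moving a nontrivial element of `T` into `T`. -/
theorem mem_of_conj_mem_sylow (T : Sylow p X) {E : Subgroup X}
    (hE : ∀ Q : Subgroup X, Q ≤ (T : Subgroup X) → Q ≠ ⊥ → Subgroup.normalizer (Q : Set X) ≤ E)
    {u x : X} (hu : u ∈ T) (hu1 : u ≠ 1) (hx : x * u * x⁻¹ ∈ T) : x ∈ E := by
  have hu' : u ∈ x⁻¹ • T := by rw [mem_smul_sylow, inv_inv]; exact hx
  have hT : (T : Subgroup X) ≠ ⊥ := fun h => hu1 (by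
    have : u ∈ (T : Subgroup X) := hu
    rwa [h, Subgroup.mem_bot] at this)
  obtain ⟨e, he, heq⟩ := exists_smul_eq_of_inf_ne_bot T hE (x⁻¹ • T) fun h => hu1 (by
    have : u ∈ (T : Subgroup X) ⊓ (x⁻¹ • T : Sylow p X) := ⟨hu, hu'⟩
    rwa [h, Subgroup.mem_bot] at this)
  have hxe : x * e ∈ Subgroup.normalizer ((T : Subgroup X) : Set X) := by
    exact Sylow.smul_eq_iff_mem_normalizer.1 (by rw [mul_smul, heq, smul_inv_smul])
  have := mul_mem (hE T le_rfl hT hxe) (inv_mem he)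
  simpa using this

theorem not_pRankLE_zero_iff {Q : Subgroup X} (hQ : IsPGroup p Q) :
    ¬ PRankLE p 0 Q ↔ Q ≠ ⊥ := by
  have hp := (Fact.out : p.Prime)
  refine ⟨fun h hb => h ?_, fun h hr => ?_⟩
  · subst hb
    intro A _ _
    rw [pow_zero]
    calc Nat.card A ≤ Nat.card (⊥ : Subgroup X) :=
          Nat.card_le_card_of_injective A.subtype A.subtype_injective
      _ = 1 := Subgroup.card_bot
  · have : Nontrivial Q := (Subgroup.nontrivial_iff_ne_bot Q).2 h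
    obtain ⟨k, hk⟩ := IsPGroup.iff_card.1 hQ
    have hk0 : k ≠ 0 := fun h0 => by
      rw [h0, pow_zero] at hk
      exact (Finite.one_lt_card (α := Q)).ne' hk
    obtain ⟨g, hg⟩ := exists_prime_orderOf_dvd_card' (G := Q) p (hk ▸ dvd_pow_self p hk0)
    have hle := hr (Subgroup.zpowers g) inferInstance fun a ha => by
      obtain ⟨m, rfl⟩ := Subgroup.mem_zpowers_iff.1 ha
      rw [← zpow_natCast, ← zpow_mul, mul_comm, zpow_mul, zpow_natCast, ← hg, pow_orderOf_eq_one,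
        one_zpow]
    rw [Nat.card_zpowers, hg, pow_zero] at hle
    exact absurd hle (not_le.2 hp.one_lt)

/-- The intersection pattern of a strongly `p`-embedded subgroup, for any Sylow subgroup. -/
theorem exists_normalizer_le_of_stronglyPEmbedded {Y : Subgroup X} (hY : IsStronglyPEmbedded p Y)
    (T : Sylow p X) : ∃ E : Subgroup X, E ≠ ⊤ ∧
      ∀ Q : Subgroup X, Q ≤ (T : Subgroup X) → Q ≠ ⊥ → Subgroup.normalizer (Q : Set X) ≤ E := by
  obtain ⟨-, hne, T₁, hle⟩ := hY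
  obtain ⟨g, rfl⟩ := MulAction.exists_smul_eq X T₁ T
  refine ⟨Y.map (MulAut.conj g).toMonoidHom, fun h => hne ?_, fun Q hQ hQ1 n hn => ?_⟩
  · apply Subgroup.map_injective (f := (MulAut.conj g).toMonoidHom) (MulAut.conj g).injective
    rw [h, Subgroup.map_top_of_surjective _ (MulAut.conj g).surjective]
  · set Q' := Q.map (MulAut.conj g⁻¹).toMonoidHom with hQ'
    have hQ'T : Q' ≤ (T₁ : Subgroup X) := by
      rintro _ ⟨y, hy, rfl⟩
      have : y ∈ g • T₁ := hQ hy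
      rw [mem_smul_sylow] at this
      show g⁻¹ * y * g⁻¹⁻¹ ∈ T₁
      rwa [inv_inv]
    have hQ'ne : Q' ≠ ⊥ := fun h => hQ1 ((Subgroup.map_eq_bot_iff_of_injective _ (MulAut.conj g⁻¹).injective).1 h)
    have h1 : Subgroup.normalizer (Q' : Set X) ≤ Y := by
      refine le_trans ?_ hle
      exact le_iSup (fun R : {R : Subgroup X // R ≤ (T₁ : Subgroup X) ∧ ¬ PRankLE p (1 - 1) R} =>
        Subgroup.normalizer ((R : Subgroup X) : Set X))
        ⟨Q', hQ'T, by simpa using (not_pRankLE_zero_iff (T₁.isPGroup'.to_le hQ'T)).2 hQ'ne⟩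
    refine ⟨g⁻¹ * n * g, h1 (map_conj_normalizer_le g⁻¹ Q ⟨n, hn, by simp [MulAut.conj_apply]⟩), ?_⟩
    simp [MulAut.conj_apply, mul_assoc]

theorem isStronglyPEmbedded_of_normalizer_le {Y : Subgroup X} (T : Sylow p X)
    (hT : (T : Subgroup X) ≠ ⊥) (hY : Y ≠ ⊤)
    (h : ∀ Q : Subgroup X, Q ≤ (T : Subgroup X) → Q ≠ ⊥ → Subgroup.normalizer (Q : Set X) ≤ Y) :
    IsStronglyPEmbedded p Y := by
  refine ⟨?_, hY, T, iSup_le fun Q => h Q Q.2.1
    ((not_pRankLE_zero_iff (T.isPGroup'.to_le Q.2.1)).1 (by simpa using Q.2.2))⟩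
  have : Nontrivial (T : Subgroup X) := (Subgroup.nontrivial_iff_ne_bot _).2 hT
  obtain ⟨k, hk⟩ := IsPGroup.iff_card.1 T.isPGroup'
  have hk0 : k ≠ 0 := fun h0 => by
    rw [h0, pow_zero] at hk
    exact (Finite.one_lt_card (α := (T : Subgroup X))).ne' hk
  exact (hk ▸ dvd_pow_self p hk0 : p ∣ Nat.card (T : Subgroup X)).trans (Subgroup.card_subgroup_dvd_card _)

end Cfsg.Agent.Fusion
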