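import Mathlib
import Cfsg.Prelude.Def_FusionSystem
import Cfsg.Agent.Lib.Fusion.Criteria
import Cfsg.Agent.Lib.Fusion.Embedded
import Cfsg.Agent.Lib.Solv.Basic

/-!
Alperin's fusion theorem and essential subgroups.
-/

set_option autoImplicit false

namespace Cfsg.Agent.Fusion

open Cfsg Cfsg.FusionSystem

variable {Ω : Type*} [Group Ω] {S : Subgroup Ω} {F E : FusionSystem S} {P Q R : Subgroup Ω}
  {f g : Ω → Ω} {p : ℕ}

/-- The automorphisms of `P` extending to maps of `F` with larger source. -/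
def extSet (F : FusionSystem S) (P : Subgroup Ω) : Set (MulAut P) :=
  {α | ∃ (Q : Subgroup Ω) (hPQ : P < Q) (φ : Q →* Ω), φ ∈ F.Hom Q ∧
    ∀ x : P, φ (Subgroup.inclusion hPQ.le x) = α x}

theorem mem_extSet {α : MulAut P} :
    α ∈ extSet F P ↔ ∃ Q f, P < Q ∧ IsMor F Q f ∧ ∀ x : P, f x = ((α x : P) : Ω) := by
  constructor
  · rintro ⟨Q, h, φ, hφ, hx⟩
    exact ⟨Q, extFun φ, h, isMor_extFun hφ, fun x =>
      (extFun_apply φ (h.le x.2)).trans (hx x)⟩
  · rintro ⟨Q, f, h, ⟨φ, hφ, he⟩, hx⟩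
    exact ⟨Q, h, φ, hφ, fun x => (he _).trans (hx x)⟩

theorem closure_extSet_le_autGroup : Subgroup.closure (extSet F P) ≤ F.autGroup P :=
  (Subgroup.closure_le _).2 fun α hα => by
    obtain ⟨Q, f, h, hf, hx⟩ := mem_extSet.1 hα
    exact mem_autGroup_of_isMor (hf.restrict h.le) fun x => (hx x).symm

theorem autInducedBy_le_closure_extSet (hPS : P < S) :
    autInducedBy S P ≤ Subgroup.closure (extSet F P) := fun α hα => by
  obtain ⟨a, ha, -, hx⟩ := mem_autInducedBy.1 hα
  exact Subgroup.subset_closure (mem_extSet.2 ⟨S, _, hPS, isMor_conj le_rfl ha, fun x => (hx x).symm⟩)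

/-- An automorphism of a receptive subgroup carrying conjugation by some `a ∉ P` to a conjugation
extends. -/
theorem mem_extSet_of_conj (hP : F.IsReceptive P) {α : MulAut P} (hα : α ∈ F.autGroup P) {a h : Ω}
    (ha : a ∈ normalizerIn S P) (haP : a ∉ P) (hh : h ∈ S)
    (hc : ∀ x ∈ P, autFun α (a * x * a⁻¹) = h * autFun α x * h⁻¹) : α ∈ extSet F P := by
  have hi := isIso_autFun hP.1 hα
  obtain ⟨f, hf, he⟩ := exists_extension hP hi (R := P ⊔ Subgroup.zpowers a) fun b hb => by
    have hle : P ⊔ Subgroup.zpowers a ≤ extSubgroup S P (autFun α) :=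
      sup_le (le_extSubgroup hi.1) (Subgroup.zpowers_le.2 ⟨ha.1, ha.2, h, hh, hc⟩)
    exact hle hb
  refine mem_extSet.2 ⟨_, f, lt_of_le_of_ne le_sup_left fun h0 => haP ?_, hf, fun x => ?_⟩
  · rw [h0]
    exact Subgroup.mem_sup_right (Subgroup.mem_zpowers a)
  · rw [he x x.2 (Subgroup.mem_sup_left x.2), autFun_coe]

variable [Finite S] [Fact p.Prime]

/-- Without centricity everything extends. -/
theorem closure_extSet_eq_of_not_centric (hP : F.IsReceptive P) (hC : ¬ centralizerIn S P ≤ P) :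
    Subgroup.closure (extSet F P) = F.autGroup P := by
  refine le_antisymm closure_extSet_le_autGroup fun α hα => Subgroup.subset_closure ?_
  obtain ⟨a, ha, haP⟩ := SetLike.not_le_iff_exists.1 hC
  exact mem_extSet_of_conj hP hα (centralizerIn_le_normalizerIn ha) haP (one_mem S) fun x hx => by
    rw [conj_eq_of_mem_centralizerIn ha hx]
    simp

/-- An extending automorphism moves the conjugation by some `a ∉ P` to a conjugation. -/
theorem exists_conj_of_mem_extSet (hS : IsPGroup p S) {α : MulAut P} (hα : α ∈ extSet F P) :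
    ∃ a ∈ normalizerIn S P, a ∉ P ∧ ∃ h ∈ normalizerIn S P,
      ∀ x ∈ P, autFun α (a * x * a⁻¹) = h * autFun α x * h⁻¹ := by
  obtain ⟨Q, f, hPQ, hf, hx⟩ := mem_extSet.1 hα
  have hQS := hf.le
  have hQfin := finite_of_le hQS
  obtain ⟨a, ha, haP⟩ := SetLike.exists_of_lt (normalizerIn_self_lt (p := p) (hS.to_le hQS) hPQ)
  have he : ∀ x ∈ P, autFun α x = f x := fun x hxP => by
    rw [autFun_apply α hxP, ← hx ⟨x, hxP⟩]
  have hi : IsIso F P P f := by
    refine (hf.restrict hPQ.le).isIso_self fun x hxP => ?_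
    rw [← he x hxP]
    exact autFun_mem α hxP
  refine ⟨a, ⟨hQS ha.1, ha.2⟩, haP, f a,
    hf.apply_mem_normalizerIn hPQ.le hi ha.1 ha.2, fun x hxP => ?_⟩
  rw [he _ (conj_mem_of_mem_normalizer ha.2 hxP), he x hxP, hf.map_conj (hPQ.le hxP) ha.1]

/-! ### The outer automorphism group -/

/-- The projection of `Aut_F(P)` onto `Out_F(P)`. -/
abbrev outMap (F : FusionSystem S) (P : Subgroup Ω) :
    F.autGroup P →* F.autGroup P ⧸ (Inn P).subgroupOf (F.autGroup P) :=
  QuotientGroup.mk' ((Inn P).subgroupOf (F.autGroup P))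

theorem outMap_surjective : Function.Surjective (outMap F P) := QuotientGroup.mk'_surjective _

/-- The image of `Aut_S(P)` is a Sylow subgroup of `Out_F(P)`. -/
theorem exists_sylow_out (hA : F.IsFullyAutomized p P) :
    ∃ T : Sylow p (F.autGroup P ⧸ (Inn P).subgroupOf (F.autGroup P)),
      (T : Subgroup (F.autGroup P ⧸ (Inn P).subgroupOf (F.autGroup P))) =
        ((autInducedBy S P).subgroupOf (F.autGroup P)).map (outMap F P) := by
  have := finite_autGroup (F := F) hA.1
  obtain ⟨R, hR⟩ := hA.2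
  exact ⟨R.mapSurjective outMap_surjective, by rw [Sylow.coe_mapSurjective, hR]⟩

omit [Fact p.Prime] in
theorem comap_map_outMap (hP : P ≤ S) {H : Subgroup (MulAut P)} (hH : Inn P ≤ H) :
    ((H.subgroupOf (F.autGroup P)).map (outMap F P)).comap (outMap F P) =
      H.subgroupOf (F.autGroup P) := by
  have := finite_autGroup (F := F) hP
  rw [Subgroup.comap_map_eq, QuotientGroup.ker_mk', sup_eq_left]
  exact fun α hα => hH hα

theorem outMap_mem_map (hP : P ≤ S) {H : Subgroup (MulAut P)} (hH : Inn P ≤ H) {α : F.autGroup P} :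
    outMap F P α ∈ (H.subgroupOf (F.autGroup P)).map (outMap F P) ↔ (α : MulAut P) ∈ H := by
  rw [← Subgroup.mem_comap, comap_map_outMap hP hH, Subgroup.mem_subgroupOf]

theorem conjAut_mem (hP : P ≤ S) {a : Ω} (ha : a ∈ normalizerIn S P) :
    P.normalizerMonoidHom ⟨a, ha.2⟩ ∈ autInducedBy S P ∧
      P.normalizerMonoidHom ⟨a, ha.2⟩ ∈ F.autGroup P :=
  have h : P.normalizerMonoidHom ⟨a, ha.2⟩ ∈ autInducedBy S P :=
    mem_autInducedBy.2 ⟨a, ha.1, ha.2, fun _ => rfl⟩
  ⟨h, autInducedBy_le_autGroup hP h⟩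

theorem mem_of_conjAut_mem_inn {a : Ω} (hC : centralizerIn S P ≤ P) (hP : P ≤ S)
    (ha : a ∈ normalizerIn S P) (h : P.normalizerMonoidHom ⟨a, ha.2⟩ ∈ Inn P) : a ∈ P := by
  obtain ⟨x, hx⟩ := h
  have hc : (x : Ω)⁻¹ * a ∈ centralizerIn S P := by
    refine mem_centralizerIn.2 ⟨mul_mem (inv_mem (hP x.2)) ha.1, fun y hy => ?_⟩
    have e : (x : Ω) * y * (x : Ω)⁻¹ = a * y * a⁻¹ := by
      have e' := congrArg (fun β : MulAut P => ((β ⟨y, hy⟩ : P) : Ω)) hx
      simpa using e'
    calc y * ((x : Ω)⁻¹ * a) = (x : Ω)⁻¹ * ((x : Ω) * y * (x : Ω)⁻¹) * a := by group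
      _ = (x : Ω)⁻¹ * (a * y * a⁻¹) * a := by rw [e]
      _ = (x : Ω)⁻¹ * a * y := by group
  have := mul_mem x.2 (hC hc)
  simpa using this

theorem sylow_out_ne_bot (hS : IsPGroup p S) (hPS : P < S) (hC : centralizerIn S P ≤ P) :
    ((autInducedBy S P).subgroupOf (F.autGroup P)).map (outMap F P) ≠ ⊥ := by
  obtain ⟨a, ha, haP⟩ := SetLike.exists_of_lt (normalizerIn_self_lt (p := p) hS hPS)
  intro h
  obtain ⟨h1, h2⟩ := conjAut_mem (F := F) hPS.le ha
  have h3 : outMap F P ⟨_, h2⟩ ∈ (⊥ : Subgroup _) := h ▸ Subgroup.mem_map_of_mem _ h1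
  rw [Subgroup.mem_bot, QuotientGroup.mk'_apply, QuotientGroup.eq_one_iff] at h3
  exact haP (mem_of_conjAut_mem_inn hC hPS.le ha h3)

/-- Automorphisms in the normalizer of a nontrivial subgroup of the Sylow image extend. -/
theorem normalizer_le_map_closure_extSet (hP : F.IsReceptive P) (hPS : P < S)
    {U : Subgroup (F.autGroup P ⧸ (Inn P).subgroupOf (F.autGroup P))}
    (hU : U ≤ ((autInducedBy S P).subgroupOf (F.autGroup P)).map (outMap F P)) (hU1 : U ≠ ⊥) :
    Subgroup.normalizer (U : Set (F.autGroup P ⧸ (Inn P).subgroupOf (F.autGroup P))) ≤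
      ((Subgroup.closure (extSet F P)).subgroupOf (F.autGroup P)).map (outMap F P) := by
  intro n hn
  obtain ⟨α, rfl⟩ := outMap_surjective n
  obtain ⟨⟨u, hu⟩, hu1⟩ := Subgroup.ne_bot_iff_exists_ne_one.1 hU1
  replace hu1 : u ≠ 1 := fun h1 => hu1 (Subtype.ext h1)
  obtain ⟨t, ht, hte⟩ := hU hu
  have hconj := hU ((Subgroup.mem_normalizer_iff.1 hn _).1 (hte ▸ hu))
  rw [← map_inv, ← map_mul, ← map_mul, outMap_mem_map hPS.le (inn_le_autInducedBy hPS.le)] at hconj
  obtain ⟨a, ha, han, hx⟩ := mem_autInducedBy.1 (Subgroup.mem_subgroupOf.1 ht)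
  obtain ⟨b, hb, -, hy⟩ := mem_autInducedBy.1 hconj
  refine Subgroup.mem_map_of_mem _ (Subgroup.mem_subgroupOf.2 (Subgroup.subset_closure
    (mem_extSet_of_conj hP α.2 ⟨ha, han⟩ (fun haP => hu1 ?_) hb fun x hxP => ?_)))
  · rw [← hte, QuotientGroup.mk'_apply, QuotientGroup.eq_one_iff]
    exact ⟨⟨a, haP⟩, MulEquiv.ext fun x => Subtype.ext (hx x).symm⟩
  · have h1 := hy ((α : MulAut P) ⟨x, hxP⟩)
    simp only [Subgroup.coe_mul, Subgroup.coe_inv, MulAut.mul_apply, MulAut.inv_apply_self] at h1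
    rw [autFun_apply _ (conj_mem_of_mem_normalizer han hxP), autFun_apply _ hxP, ← h1]
    congr 2
    exact Subtype.ext (hx ⟨x, hxP⟩).symm

theorem lt_of_isEssential (hS : IsPGroup p S) (hF : F.IsSaturated p) (h : F.IsEssential p P) :
    P < S := by
  refine lt_of_le_of_ne h.1.1 fun hPS => ?_
  subst hPS
  obtain ⟨hA, -⟩ := fullyNormalized_receptive hS hF h.2.1
  obtain ⟨_, Y, hd, -⟩ := h.2.2
  have := finite_autGroup (F := F) (le_refl P)
  obtain ⟨T, hT⟩ := exists_sylow_out hA
  have hbot : T.toSubgroup = ⊥ := by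
    rw [hT, Subgroup.map_eq_bot_iff, QuotientGroup.ker_mk']
    intro α hα
    obtain ⟨a, ha, -, hx⟩ := mem_autInducedBy.1 (Subgroup.mem_subgroupOf.1 hα)
    exact ⟨⟨a, ha⟩, MulEquiv.ext fun x => Subtype.ext (hx x).symm⟩
  have := T.not_dvd_index
  rw [hbot, Subgroup.index_bot] at this
  exact this hd

section Saturated

variable (hS : IsPGroup p S) (hF : F.IsSaturated p)
include hS hF

theorem closure_extSet_ne_of_isEssential (h : F.IsEssential p P) :
    Subgroup.closure (extSet F P) ≠ F.autGroup P := by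
  intro heq
  have hPS := lt_of_isEssential hS hF h
  obtain ⟨hA, -⟩ := fullyNormalized_receptive hS hF h.2.1
  obtain ⟨_, Y, hY⟩ := h.2.2
  have := finite_autGroup (F := F) hPS.le
  obtain ⟨T, hT⟩ := exists_sylow_out hA
  obtain ⟨W, hW, hN⟩ := exists_normalizer_le_of_stronglyPEmbedded hY T
  refine hW (eq_top_iff.2 ?_)
  suffices hK : F.autGroup P ≤ (W.comap (outMap F P)).map (F.autGroup P).subtype by
    intro n _
    obtain ⟨α, rfl⟩ := outMap_surjective n
    obtain ⟨β, hβ, he⟩ := hK α.2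
    rw [← Subtype.ext he]
    exact hβ
  conv_lhs => rw [← heq]
  rw [Subgroup.closure_le]
  intro α hα
  have hαA : α ∈ F.autGroup P := closure_extSet_le_autGroup (Subgroup.subset_closure hα)
  refine ⟨⟨α, hαA⟩, ?_, rfl⟩
  obtain ⟨a, ha, haP, b, hb, hx⟩ := exists_conj_of_mem_extSet hS hα
  obtain ⟨h1, h2⟩ := conjAut_mem (F := F) hPS.le ha
  obtain ⟨h3, h4⟩ := conjAut_mem (F := F) hPS.le hb
  refine mem_of_conj_mem_sylow T hN (u := outMap F P ⟨_, h2⟩) ?_ (fun h0 => ?_) ?_
  · show _ ∈ T.toSubgroup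
    rw [hT]
    exact Subgroup.mem_map_of_mem _ h1
  · rw [QuotientGroup.mk'_apply, QuotientGroup.eq_one_iff] at h0
    exact haP (mem_of_conjAut_mem_inn (centralizerIn_le_of_isCentric h.1) hPS.le ha h0)
  · show _ ∈ T.toSubgroup
    rw [hT, ← map_inv, ← map_mul, ← map_mul]
    refine Subgroup.mem_map_of_mem _ (Subgroup.mem_subgroupOf.2 ?_)
    convert h3 using 1
    refine MulEquiv.ext fun x => Subtype.ext ?_
    have h5 := hx _ (α⁻¹ x).2
    rw [autFun_coe, show α (α⁻¹ x) = x by simp,
      autFun_apply _ (conj_mem_of_mem_normalizer ha.2 (α⁻¹ x).2)] at h5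
    exact h5

theorem isEssential_of_closure_extSet_ne (hPS : P < S) (hPn : F.IsFullyNormalized P)
    (h : Subgroup.closure (extSet F P) ≠ F.autGroup P) :
    F.IsEssential p P ∧ IsStronglyPEmbedded p
      (((Subgroup.closure (extSet F P)).subgroupOf (F.autGroup P)).map (outMap F P)) := by
  obtain ⟨hA, hR⟩ := fullyNormalized_receptive hS hF hPn
  have hC : centralizerIn S P ≤ P := by
    by_contra hC
    exact h (closure_extSet_eq_of_not_centric hR hC)
  have := finite_autGroup (F := F) hPS.le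
  obtain ⟨T, hT⟩ := exists_sylow_out hA
  have hsub : IsStronglyPEmbedded p
      (((Subgroup.closure (extSet F P)).subgroupOf (F.autGroup P)).map (outMap F P)) := by
    refine isStronglyPEmbedded_of_normalizer_le T (hT ▸ sylow_out_ne_bot hS hPS hC) (fun htop => h ?_) ?_
    · refine le_antisymm closure_extSet_le_autGroup fun α hα => ?_
      have hi := (inn_le_autInducedBy hPS.le).trans (autInducedBy_le_closure_extSet (F := F) hPS)
      exact (outMap_mem_map hPS.le hi (α := ⟨α, hα⟩)).1 (htop ▸ Subgroup.mem_top _)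
    · rw [hT]
      exact fun U hU hU1 => normalizer_le_map_closure_extSet hR hPS hU hU1
  exact ⟨⟨isCentric_of_fullyCentralized hS hF (fullyNormalized_fullyCentralized hS hF hPn) hC, hPn,
    inferInstance, _, hsub⟩, hsub⟩

/-- **Alperin's fusion theorem**, as an induction principle. -/
theorem alperin_induction
    (h : ∀ P, F.IsFullyNormalized P → ∀ α ∈ F.autGroup P,
      (∀ (Q : Subgroup Ω) (f : Ω → Ω), Nat.card P < Nat.card Q → IsMor F Q f → IsMor E Q f) → IsMor E P (autFun α)) :
    F ≤ E := by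
  rw [le_iff_isMor]
  intro P
  induction hn : Nat.card S - Nat.card P using Nat.strong_induction_on generalizing P with
  | _ n ih =>
  subst hn
  intro f hf
  have hbig : ∀ (Q : Subgroup Ω) (g : Ω → Ω), Nat.card P < Nat.card Q → IsMor F Q g → IsMor E Q g := by
    intro Q g hQ hg
    have := Nat.card_le_card_of_injective (Subgroup.inclusion hg.le) (Subgroup.inclusion_injective _)
    exact ih _ (by omega) Q rfl g hg
  rcases eq_or_lt_of_le hf.le with hPS | hPS
  · subst hPS
    have hn : F.IsFullyNormalized P := ⟨le_rfl, fun R _ => by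
      have : Finite (normalizerIn P P) := finite_of_le normalizerIn_le
      exact Nat.card_le_card_of_injective
        (Subgroup.inclusion (normalizerIn_le.trans (le_normalizerIn le_rfl)))
        (Subgroup.inclusion_injective _)⟩
    have hi := hf.isIso_self fun x hx => hf.mem hx
    exact (h P hn _ (autOf_mem hi) hbig).congr fun x hx =>
      ((autFun_apply _ hx).trans (autOf_apply hi ⟨x, hx⟩)).symm
  · have hQ := hf.isIso
    obtain ⟨R, hc, hR⟩ := exists_fullyNormalized (F := F) hPS.le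
    obtain ⟨g, g', hg, hg', hge, -⟩ := exists_iso_to_fullyNormalized hS hF hc hR
    obtain ⟨k, k', hk, hk', hke, -⟩ :=
      exists_iso_to_fullyNormalized hS hF (isConj_trans (isConj_symm hQ.isConj) hc) hR
    have hlt : ∀ {Q' : Subgroup Ω}, F.IsConj P Q' → Nat.card P < Nat.card (normalizerIn S Q') := by
      intro Q' hc'
      obtain ⟨m, hm⟩ := isConj_iff_exists_isIso.1 hc'
      rw [← hm.card_eq]
      have hQS : Q' < S := lt_of_le_of_ne hm.le' fun h0 => by
        have := card_lt_of_lt le_rfl hPS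
        rw [← hm.card_eq, h0] at this
        exact this.false
      exact card_lt_of_lt normalizerIn_le (normalizerIn_self_lt hS hQS)
    have hgE : IsIso E P R g := ⟨((hbig _ g' (hlt (isConj_refl hPS.le)) hg').restrict
      (le_normalizerIn hPS.le)).congr fun x hx => (hge x hx).symm, hg.2⟩
    have hkE : IsIso E (hf.image P le_rfl) R k := ⟨((hbig _ k' (hlt hQ.isConj) hk').restrict
      (le_normalizerIn hQ.le')).congr fun x hx => (hke x hx).symm, hk.2⟩
    obtain ⟨gi, hgi, hgl, hgr⟩ := hg.exists_symm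
    obtain ⟨ki, hki, hkl, -⟩ := hkE.exists_symm
    have hα : IsIso F R R (k ∘ f ∘ gi) := (hgi.trans hQ).trans hk
    have hαE : IsMor E R (autFun (autOf hα)) := by
      refine h R hR _ (autOf_mem hα) fun Q g'' hQ' hg'' => hbig Q g'' ?_ hg''
      rwa [hg.card_eq] at hQ'
    have hcomp := (hgE.1.comp hαE fun x hx => hgE.apply_mem hx).comp hki.1 fun x hx =>
      autFun_mem _ (hgE.apply_mem hx)
    refine hcomp.congr fun x hx => ?_
    have hgx := hgE.apply_mem hx
    show f x = ki (autFun (autOf hα) (g x))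
    rw [autFun_apply _ hgx, autOf_apply, Function.comp_apply, Function.comp_apply, hgl x hx,
      hkl _ (hQ.apply_mem hx)]

/-- **Alperin–Goldschmidt**: `F` is generated by the automorphisms of `S` and of the essential
subgroups. -/
theorem le_of_essential (hE : ∀ P : Subgroup Ω, (P = S ∨ F.IsEssential p P) → F.autGroup P ≤ E.autGroup P) :
    F ≤ E := by
  refine alperin_induction hS hF fun P hP α hα hbig => isMor_of_mem_autGroup hP.1 ?_
  rcases eq_or_lt_of_le hP.1 with h | h
  · exact hE P (Or.inl h) hα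
  by_cases hH : Subgroup.closure (extSet F P) = F.autGroup P
  · rw [← hH] at hα
    refine (Subgroup.closure_le _).2 (fun β hβ => ?_) hα
    obtain ⟨Q, f, hPQ, hf, hx⟩ := mem_extSet.1 hβ
    exact mem_autGroup_of_isMor ((hbig Q f (card_lt_of_lt hf.le hPQ) hf).restrict hPQ.le)
      fun x => (hx x).symm
  · exact hE P (Or.inr (isEssential_of_closure_extSet_ne hS hF h hP hH).1) hα

theorem eq_innerFusionSystem_of_autGroup_pGroup
    (h : ∀ P : Subgroup Ω, P ≤ S → IsPGroup p (F.autGroup P)) : F = innerFusionSystem S := by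
  refine eq_of_le_of_le (alperin_induction hS hF fun P hP α hα _ => ?_) ?_
  · obtain ⟨hA, -⟩ := fullyNormalized_receptive hS hF hP
    obtain ⟨R, hR⟩ := hA.2
    have hR' : (R : Subgroup (F.autGroup P)) = ⊤ := by
      refine (R.is_maximal' (Q := ⊤) ?_ le_top).symm
      exact (h P hP.1).to_subgroup ⊤
    have : (⟨α, hα⟩ : F.autGroup P) ∈ (R : Subgroup (F.autGroup P)) := hR' ▸ Subgroup.mem_top _
    rw [hR] at this
    exact isMor_of_mem_autGroup hP.1 (autInducedBy_le_autGroup hP.1 this)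
  · rw [le_iff_isMor]
    intro P f hf
    obtain ⟨φ, ⟨hP, a, ha, hx⟩, he⟩ := hf
    exact (isMor_conj hP ha).congr fun x hxP => (he ⟨x, hxP⟩).symm.trans (hx _)

theorem isRadical_of_isEssential (h : F.IsEssential p P) : F.IsRadical p P := by
  have hPS := lt_of_isEssential hS hF h
  have := finite_autGroup (F := F) hPS.le
  obtain ⟨hA, -⟩ := fullyNormalized_receptive hS hF h.2.1
  obtain ⟨T, hT⟩ := exists_sylow_out hA
  obtain ⟨_, Y, hY⟩ := h.2.2
  obtain ⟨W, hW, hN⟩ := exists_normalizer_le_of_stronglyPEmbedded hY T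
  refine ⟨hPS.le, le_antisymm ?_ ?_⟩
  · have hcore : (pCore p (F.autGroup P)).map (outMap F P) = ⊥ := by
      by_contra hne
      have hn : (pCore p (F.autGroup P)).Normal :=
        have := Solv.pCore_characteristic p (F.autGroup P); inferInstance
      have hn' := hn.map (outMap F P) outMap_surjective
      refine hW (eq_top_iff.2 ?_)
      rw [← Subgroup.normalizer_eq_top_iff.2 hn']
      refine hN _ ?_ hne
      rw [hT]
      obtain ⟨R, hR⟩ := hA.2
      exact Subgroup.map_mono (hR ▸ Solv.pCore_le_sylow R)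
    rw [Subgroup.map_eq_bot_iff, QuotientGroup.ker_mk'] at hcore
    rintro _ ⟨α, hα, rfl⟩
    exact hcore hα
  · intro α hα
    refine ⟨⟨α, inn_le_autGroup hPS.le hα⟩, ?_, rfl⟩
    have hn : ((Inn P).subgroupOf (F.autGroup P)).Normal := inferInstance
    refine Solv.le_pCore (N := (Inn P).subgroupOf (F.autGroup P)) ?_ hα
    exact ((isPGroup_autInducedBy hS P).to_le (inn_le_autInducedBy hPS.le)).of_equiv
      (Subgroup.subgroupOfEquivOfLe (inn_le_autGroup hPS.le)).symm

/-- If the fully normalized centric radical subgroups have a normal Sylow subgroup of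
automorphisms, every map extends to `S`. -/
theorem exists_isMor_top_of_closed_sylow
    (hcl : ∀ P : Subgroup Ω, F.IsFullyNormalized P → F.IsCentric P → F.IsRadical p P →
      ∃ R : Sylow p (F.autGroup P), (R : Subgroup (F.autGroup P)).Normal)
    {E : FusionSystem S} (hE : F.autGroup S ≤ E.autGroup S) : F ≤ E := by
  refine le_of_essential hS hF fun P hP => ?_
  rcases hP with rfl | hP
  · exact hE
  exfalso
  have hPS := lt_of_isEssential hS hF hP
  have := finite_autGroup (F := F) hPS.le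
  obtain ⟨R, hR⟩ := hcl P hP.2.1 hP.1 (isRadical_of_isEssential hS hF hP)
  obtain ⟨hA, -⟩ := fullyNormalized_receptive hS hF hP.2.1
  obtain ⟨R', hR'⟩ := hA.2
  have h1 : (autInducedBy S P).subgroupOf (F.autGroup P) ≤ (Inn P).subgroupOf (F.autGroup P) := by
    intro α hα
    rw [← hR'] at hα
    have h2 : α ∈ pCore p (F.autGroup P) := by
      refine Solv.le_pCore (N := (R : Subgroup (F.autGroup P))) R.isPGroup' ?_
      have : R' = R := by
        have := R.unique_of_normal hR
        exact Subsingleton.elim _ _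
      rw [← this]
      exact hα
    show (α : MulAut P) ∈ Inn P
    rw [← (isRadical_of_isEssential hS hF hP).2]
    exact ⟨α, h2, rfl⟩
  refine sylow_out_ne_bot (F := F) hS hPS (centralizerIn_le_of_isCentric hP.1) ?_
  rw [Subgroup.map_eq_bot_iff, QuotientGroup.ker_mk']
  exact h1

end Saturated

end Cfsg.Agent.Fusion
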