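import Mathlib
import Cfsg.Prelude.Def_FusionSystem
import Cfsg.Agent.Lib.Fusion.Saturation

/-!
Subsystems cut out by a condition on maps; normal subgroups of a fusion system.
-/

set_option autoImplicit false

namespace Cfsg.Agent.Fusion

open Cfsg Cfsg.FusionSystem

variable {Ω : Type*} [Group Ω] {S : Subgroup Ω} {F : FusionSystem S} {P Q R : Subgroup Ω}
  {f g k : Ω → Ω}

/-- A condition on maps that is stable under the fusion system operations. -/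
structure MapCond (F : FusionSystem S) (T : Subgroup Ω := S) where
  C : Subgroup Ω → (Ω → Ω) → Prop
  le : T ≤ S
  congr : ∀ {P f g}, IsMor F P f → C P f → (∀ x ∈ P, g x = f x) → C P g
  conj : ∀ {P a}, P ≤ T → a ∈ T → C P (fun x => a * x * a⁻¹)
  comp : ∀ {P Q f g}, IsMor F P f → C P f → IsMor F Q g → C Q g → (∀ x ∈ P, f x ∈ Q) → C P (g ∘ f)
  symm : ∀ {P R f g}, IsIso F P R f → C P f → IsIso F R P g → (∀ x ∈ P, g (f x) = x) →
    (∀ y ∈ R, f (g y) = y) → C R g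

/-- The subsystem of the maps satisfying a stable condition. -/
noncomputable def MapCond.system {T : Subgroup Ω} (c : MapCond F T) : FusionSystem T where
  Hom P := {φ | φ ∈ F.Hom P ∧ (P ≤ T ∧ ∀ x : P, φ x ∈ T) ∧ c.C P (extFun φ)}
  le_of_mem h := h.2.1
  injective_of_mem h := F.injective_of_mem h.1
  conj_mem := by
    intro P a hP ha
    exact ⟨F.conj_mem (hP.trans c.le) (c.le ha),
      ⟨hP, fun x => T.mul_mem (T.mul_mem ha (hP x.2)) (T.inv_mem ha)⟩,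
      c.congr (isMor_conj (hP.trans c.le) (c.le ha)) (c.conj hP ha)
        fun x hx => (extFun_apply _ hx).trans (conjHom_apply _ _ _)⟩
  comp_mem := by
    intro P Q φ ψ hφ hψ h
    refine ⟨F.comp_mem hφ.1 hψ.1 h, ⟨hφ.2.1.1, fun x => hψ.2.1.2 _⟩, ?_⟩
    have hmem : ∀ x ∈ P, extFun φ x ∈ Q := fun x hx => by
      rw [extFun_apply φ hx]
      exact h _
    refine c.congr ((isMor_extFun hφ.1).comp (isMor_extFun hψ.1) hmem)
      (c.comp (isMor_extFun hφ.1) hφ.2.2 (isMor_extFun hψ.1) hψ.2.2 hmem) fun x hx => ?_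
    rw [extFun_apply _ hx, Function.comp_apply, extFun_apply φ hx, extFun_apply ψ (h _)]
    rfl
  inv_mem := by
    intro P φ hφ
    obtain ⟨ψ, hψ, hx⟩ := F.inv_mem hφ.1
    have hi : IsIso F P φ.range (extFun φ) := by
      refine ⟨isMor_extFun hφ.1, fun y => ⟨?_, ?_⟩⟩
      · rintro ⟨x, rfl⟩
        exact ⟨x, x.2, extFun_coe φ x⟩
      · rintro ⟨x, hx, rfl⟩
        exact ⟨⟨x, hx⟩, (extFun_apply φ hx).symm⟩
    obtain ⟨g, hg, hgl, hgr⟩ := hi.exists_symm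
    refine ⟨ψ, ⟨hψ, ⟨?_, ?_⟩, c.congr hg.1 (c.symm hi hφ.2.2 hg hgl hgr) fun y hy => ?_⟩, hx⟩
    · rintro _ ⟨x, rfl⟩
      exact hφ.2.1.2 x
    · rintro ⟨_, x, rfl⟩
      have e := hx x
      rw [e]
      exact hφ.2.1.1 x.2
    obtain ⟨x, rfl⟩ := hy
    have e : g (φ x) = (x : Ω) := by
      have e1 := hgl _ x.2
      rwa [extFun_coe] at e1
    rw [e, extFun_apply ψ ⟨x, rfl⟩]
    exact hx x

theorem MapCond.isMor_system' {T : Subgroup Ω} (c : MapCond F T) :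
    IsMor c.system P f ↔ IsMor F P f ∧ (P ≤ T ∧ ∀ x ∈ P, f x ∈ T) ∧ c.C P f := by
  constructor
  · rintro ⟨φ, hφ, he⟩
    replace hφ : φ ∈ F.Hom P ∧ (P ≤ T ∧ ∀ x : P, φ x ∈ T) ∧ c.C P (extFun φ) := hφ
    exact ⟨⟨φ, hφ.1, he⟩, ⟨hφ.2.1.1, fun x hx => (he ⟨x, hx⟩) ▸ hφ.2.1.2 ⟨x, hx⟩⟩,
      c.congr (isMor_extFun hφ.1) hφ.2.2 fun x hx => (he ⟨x, hx⟩).symm.trans (extFun_apply φ hx).symm⟩
  · rintro ⟨hf, ⟨hP, hT⟩, hc⟩
    obtain ⟨φ, hφ, he⟩ := id hf
    have hmem : φ ∈ F.Hom P ∧ (P ≤ T ∧ ∀ x : P, φ x ∈ T) ∧ c.C P (extFun φ) :=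
      ⟨hφ, ⟨hP, fun x => by rw [he x]; exact hT x x.2⟩,
        c.congr hf hc fun x hx => (extFun_apply φ hx).trans (he ⟨x, hx⟩)⟩
    exact ⟨φ, hmem, he⟩

theorem MapCond.isMor_system (c : MapCond F) :
    IsMor c.system P f ↔ IsMor F P f ∧ c.C P f := by
  rw [c.isMor_system']
  exact ⟨fun h => ⟨h.1, h.2.2⟩, fun h => ⟨h.1, ⟨h.1.le, fun _ hx => h.1.mem hx⟩, h.2⟩⟩

theorem MapCond.system_le (c : MapCond F) : c.system ≤ F := fun _ _ h =>
  And.left (h : _ ∈ F.Hom _ ∧ _)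

/-- `f` extends to a map on `P Q` mapping `Q` onto itself. -/
def NExt (F : FusionSystem S) (Q P : Subgroup Ω) (f : Ω → Ω) : Prop :=
  ∃ k, IsMor F (P ⊔ Q) k ∧ (∀ x ∈ P, k x = f x) ∧ IsIso F Q Q k

theorem IsMor.mapsTo_sup (hk : IsMor F (P ⊔ Q) k) (hP : ∀ x ∈ P, k x ∈ R) (hQ : ∀ x ∈ Q, k x ∈ R)
    {x : Ω} (hx : x ∈ P ⊔ Q) : k x ∈ R := by
  rw [Subgroup.sup_eq_closure] at hx
  have hle : Subgroup.closure ((P : Set Ω) ∪ Q) ≤ P ⊔ Q := le_of_eq (Subgroup.sup_eq_closure P Q).symm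
  induction hx using Subgroup.closure_induction with
  | mem y hy => exact hy.elim (hP y) (hQ y)
  | one => rw [hk.map_one]; exact one_mem R
  | mul y z hy hz h1 h2 => rw [hk.map_mul (hle hy) (hle hz)]; exact mul_mem h1 h2
  | inv y hy h1 => rw [hk.map_inv (hle hy)]; exact inv_mem h1

theorem IsMor.eqOn_sup (hk : IsMor F (P ⊔ Q) k) (hf : IsMor F (P ⊔ Q) f)
    (hP : ∀ x ∈ P, k x = f x) (hQ : ∀ x ∈ Q, k x = f x) {x : Ω} (hx : x ∈ P ⊔ Q) : k x = f x := by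
  rw [Subgroup.sup_eq_closure] at hx
  have hle : Subgroup.closure ((P : Set Ω) ∪ Q) ≤ P ⊔ Q := le_of_eq (Subgroup.sup_eq_closure P Q).symm
  induction hx using Subgroup.closure_induction with
  | mem y hy => exact hy.elim (hP y) (hQ y)
  | one => rw [hk.map_one, hf.map_one]
  | mul y z hy hz h1 h2 => rw [hk.map_mul (hle hy) (hle hz), hf.map_mul (hle hy) (hle hz), h1, h2]
  | inv y hy h1 => rw [hk.map_inv (hle hy), hf.map_inv (hle hy), h1]

theorem isIso_conj_self (hQ : Q ≤ S) {a : Ω} (ha : a ∈ S) (han : a ∈ Subgroup.normalizer (Q : Set Ω)) :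
    IsIso F Q Q (fun x => a * x * a⁻¹) := by
  refine ⟨isMor_conj hQ ha, fun y => ⟨fun hy => ⟨a⁻¹ * y * a, ?_, by group⟩, ?_⟩⟩
  · simpa using conj_mem_of_mem_normalizer (inv_mem han) hy
  · rintro ⟨x, hx, rfl⟩
    exact conj_mem_of_mem_normalizer han hx

/-- A family of maps of `Q` onto itself, stable under composition and inversion. -/
structure SelfCond (F : FusionSystem S) (Q T : Subgroup Ω) where
  M : (Ω → Ω) → Prop
  conj : ∀ {a}, a ∈ T → M (fun x => a * x * a⁻¹)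
  comp : ∀ {k l}, IsIso F Q Q k → M k → IsIso F Q Q l → M l → M (l ∘ k)
  symm : ∀ {k l}, IsIso F Q Q k → M k → IsIso F Q Q l → (∀ x ∈ Q, l (k x) = x) → M l

/-- The maps extending so as to preserve `Q`, inducing on it a map in the given family. -/
noncomputable def extCondOn (F : FusionSystem S) {Q T : Subgroup Ω} (hQ : Q ≤ S) (hT : T ≤ S)
    (hn : T ≤ Subgroup.normalizer (Q : Set Ω)) (M : SelfCond F Q T) : MapCond F T where
  C P f := ∃ k, IsMor F (P ⊔ Q) k ∧ (∀ x ∈ P, k x = f x) ∧ IsIso F Q Q k ∧ M.M k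
  le := hT
  congr := fun _ ⟨k, hk, he, hi⟩ hfg => ⟨k, hk, fun x hx => (he x hx).trans (hfg x hx).symm, hi⟩
  conj := fun hP ha => ⟨_, isMor_conj (sup_le (hP.trans hT) hQ) (hT ha), fun _ _ => rfl,
    isIso_conj_self hQ (hT ha) (hn ha), M.conj ha⟩
  comp := by
    rintro P R f g hf ⟨k, hk, hke, hki, hkM⟩ hg ⟨l, hl, hle, hli, hlM⟩ hm
    refine ⟨l ∘ k, hk.comp hl fun x hx => hk.mapsTo_sup (R := R ⊔ Q)
      (fun y hy => Subgroup.mem_sup_left (by rw [hke y hy]; exact hm y hy))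
      (fun y hy => Subgroup.mem_sup_right (hki.apply_mem hy)) hx, fun x hx => ?_, hki.trans hli, M.comp hki hkM hli hlM⟩
    rw [Function.comp_apply, hke x hx, hle _ (hm x hx)]
    rfl
  symm := by
    rintro P R f g hf ⟨k, hk, hke, hki, hkM⟩ hg hgf hfg
    obtain ⟨l, hl, hlk, hkl⟩ := hk.isIso.exists_symm
    have hle : R ⊔ Q ≤ hk.image (P ⊔ Q) le_rfl := by
      refine sup_le (fun y hy => ?_) fun y hy => ?_
      · exact ⟨g y, Subgroup.mem_sup_left (hg.apply_mem hy),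
          (hke _ (hg.apply_mem hy)).trans (hfg y hy)⟩
      · obtain ⟨x, hx, rfl⟩ := hki.exists_apply hy
        exact ⟨x, Subgroup.mem_sup_right hx, rfl⟩
    suffices hli : IsIso F Q Q l by
      refine ⟨l, hl.1.restrict hle, fun y hy => ?_, hli,
        M.symm hki hkM hli fun x hx => hlk _ (Subgroup.mem_sup_right hx)⟩
      conv_lhs => rw [← hfg y hy, ← hke _ (hg.apply_mem hy)]
      rw [hlk _ (Subgroup.mem_sup_left (hg.apply_mem hy))]
    refine ⟨hl.1.restrict (le_sup_right.trans hle), fun x => ⟨fun hx => ?_, ?_⟩⟩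
    · exact ⟨k x, hki.apply_mem hx, hlk _ (Subgroup.mem_sup_right hx)⟩
    · rintro ⟨y, hy, rfl⟩
      obtain ⟨x, hx, rfl⟩ := hki.exists_apply hy
      rwa [hlk _ (Subgroup.mem_sup_right hx)]

/-- The maps extending so as to preserve `Q`. -/
noncomputable def normCond (F : FusionSystem S) (Q : Subgroup Ω) (hQ : Q ≤ S)
    (hn : S ≤ Subgroup.normalizer (Q : Set Ω)) : MapCond F :=
  extCondOn F hQ le_rfl hn ⟨fun _ => True, fun _ => trivial, fun _ _ _ _ => trivial, fun _ _ _ _ => trivial⟩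

theorem normCond_iff {hQ : Q ≤ S} {hn : S ≤ Subgroup.normalizer (Q : Set Ω)} :
    (normCond F Q hQ hn).C P f ↔ NExt F Q P f :=
  ⟨fun ⟨k, h1, h2, h3, _⟩ => ⟨k, h1, h2, h3⟩, fun ⟨k, h1, h2, h3⟩ => ⟨k, h1, h2, h3, trivial⟩⟩

theorem isNormal_iff : F.IsNormal Q ↔ Q ≤ S ∧ ∀ P f, IsMor F P f → NExt F Q P f := by
  constructor
  · rintro ⟨hQ, h⟩
    refine ⟨hQ, fun P f hf => ?_⟩
    obtain ⟨φ, hφ, he⟩ := id hf
    obtain ⟨ψ, hψ, hx, hm⟩ := h P φ hφ
    refine ⟨extFun ψ, isMor_extFun hψ, fun x hxP => ?_,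
      (isMor_extFun hψ).restrict le_sup_right, fun y => ?_⟩
    · rw [extFun_apply ψ (Subgroup.mem_sup_left hxP)]
      exact (hx ⟨x, hxP⟩).trans (he _)
    · constructor
      · intro hy
        rw [← hm] at hy
        obtain ⟨x, hx', rfl⟩ := hy
        exact ⟨x, hx', extFun_coe ψ x⟩
      · rintro ⟨x, hx', rfl⟩
        rw [extFun_apply ψ (Subgroup.mem_sup_right hx')]
        exact hm.le ⟨⟨x, Subgroup.mem_sup_right hx'⟩, hx', rfl⟩
  · rintro ⟨hQ, h⟩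
    refine ⟨hQ, fun P φ hφ => ?_⟩
    obtain ⟨k, ⟨ψ, hψ, hke⟩, hkf, hki⟩ := h P _ (isMor_extFun hφ)
    refine ⟨ψ, hψ, fun x => ?_, ?_⟩
    · rw [hke, Subgroup.coe_inclusion, hkf _ x.2, extFun_coe]
    · ext y
      constructor
      · rintro ⟨x, hx, rfl⟩
        rw [hke]
        exact hki.apply_mem hx
      · intro hy
        obtain ⟨x, hx, rfl⟩ := hki.exists_apply hy
        exact ⟨⟨x, Subgroup.mem_sup_right hx⟩, hx, hke _⟩

theorem isNormal_of_le_normCond (hQ : Q ≤ S) (hn : S ≤ Subgroup.normalizer (Q : Set Ω))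
    (h : F ≤ (normCond F Q hQ hn).system) : F.IsNormal Q :=
  isNormal_iff.2 ⟨hQ, fun P f hf =>
    normCond_iff.1 ((normCond F Q hQ hn).isMor_system.1 (le_iff_isMor.1 h P f hf)).2⟩

theorem autGroup_le_normCond (hQ : Q ≤ S) (hn : S ≤ Subgroup.normalizer (Q : Set Ω)) (hP : Q ≤ P)
    (hPS : P ≤ S)
    (h : ∀ α ∈ F.autGroup P, IsIso F Q Q (autFun α)) :
    F.autGroup P ≤ (normCond F Q hQ hn).system.autGroup P := fun α hα => by
  refine mem_autGroup_of_isMor ((normCond F Q hQ hn).isMor_system.2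
    ⟨isMor_of_mem_autGroup hPS hα, normCond_iff.2 ⟨autFun α, ?_, fun _ _ => rfl, h α hα⟩⟩) fun x => (autFun_coe α x).symm
  rw [sup_eq_left.2 hP]
  exact isMor_of_mem_autGroup hPS hα

end Cfsg.Agent.Fusion
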