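import Mathlib
import Cfsg.Agent.Lib.Fusion.Alperin
import Cfsg.Agent.Lib.Fusion.SubSystem

/-!
Normal and central subgroups of a saturated fusion system.
-/

set_option autoImplicit false

namespace Cfsg.Agent.Fusion

open Cfsg Cfsg.FusionSystem

open scoped commutatorElement

variable {Ω : Type*} [Group Ω] {S : Subgroup Ω} {F : FusionSystem S} {P Q R U : Subgroup Ω}
  {f g k : Ω → Ω} {p : ℕ}

theorem normal_le_normalizer (h : F.IsNormal Q) : S ≤ Subgroup.normalizer (Q : Set Ω) := by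
  obtain ⟨hQ, h⟩ := isNormal_iff.1 h
  intro a ha
  obtain ⟨k, -, he, hk⟩ := h S _ (isMor_conj le_rfl ha)
  refine Subgroup.mem_normalizer_iff.2 fun y => ⟨fun hy => ?_, fun hy => ?_⟩
  · have := hk.apply_mem hy
    rwa [he y (hQ hy)] at this
  · obtain ⟨x, hx, hxy⟩ := hk.exists_apply hy
    rw [he x (hQ hx)] at hxy
    rwa [← mul_left_cancel (mul_right_cancel hxy)]

theorem stronglyClosed_apply (h : F.StronglyClosed Q) (hf : IsMor F R f) {x : Ω} (hxR : x ∈ R)
    (hxQ : x ∈ Q) : f x ∈ Q := by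
  obtain ⟨φ, hφ, he⟩ := hf.restrict (Subgroup.zpowers_le.2 hxR)
  have := h.2 _ (Subgroup.zpowers_le.2 hxQ) φ hφ ⟨x, Subgroup.mem_zpowers x⟩
  rwa [he] at this

theorem stronglyClosed_of_apply_mem (hQ : Q ≤ S)
    (h : ∀ R f, R ≤ Q → IsMor F R f → ∀ x ∈ R, f x ∈ Q) : F.StronglyClosed Q :=
  ⟨hQ, fun R hR φ hφ x => by
    have := h R _ hR (isMor_extFun hφ) x x.2
    rwa [extFun_coe] at this⟩

theorem normal_stronglyClosed (h : F.IsNormal Q) : F.StronglyClosed Q := by
  obtain ⟨hQ, h⟩ := isNormal_iff.1 h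
  refine stronglyClosed_of_apply_mem hQ fun R f hR hf x hx => ?_
  obtain ⟨k, -, he, hk⟩ := h R f hf
  rw [← he x hx]
  exact hk.apply_mem (hR hx)

theorem le_normalizer_of_stronglyClosed (h : F.StronglyClosed Q) :
    S ≤ Subgroup.normalizer (Q : Set Ω) := fun a ha =>
  Subgroup.mem_normalizer_iff.2 fun y => ⟨fun hy => stronglyClosed_apply h (isMor_conj h.1 ha) hy hy, fun hy => by
    have h2 := stronglyClosed_apply h (isMor_conj h.1 (inv_mem ha)) hy hy
    simpa [mul_assoc] using h2⟩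

theorem normal_isIso (h : F.IsNormal Q) (hf : IsMor F P f) (hQP : Q ≤ P) : IsIso F Q Q f := by
  obtain ⟨-, h⟩ := isNormal_iff.1 h
  obtain ⟨k, -, he, hk⟩ := h P f hf
  exact hk.congr fun x hx => (he x (hQP hx)).symm

theorem centralizer_le_normalizer_set (Q : Subgroup Ω) :
    Subgroup.centralizer (Q : Set Ω) ≤ Subgroup.normalizer (Q : Set Ω) := fun c hc =>
  Subgroup.mem_normalizer_iff.2 fun y => ⟨fun hy => by
    have e := Subgroup.mem_centralizer_iff.1 hc y hy
    rwa [show c * y * c⁻¹ = y by rw [← e]; group], fun hy => by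
    have e := Subgroup.mem_centralizer_iff.1 hc _ hy
    have e2 : c * y * c⁻¹ = y := mul_left_cancel (a := c) (by rw [← e]; group)
    rwa [e2] at hy⟩

/-- A characteristic subgroup of a normal subgroup is normal. -/
theorem isNormal_of_characteristic (hQ : F.IsNormal Q) (hUQ : U ≤ Q)
    (hU : (U.subgroupOf Q).Characteristic) : F.IsNormal U := by
  obtain ⟨hQS, h⟩ := isNormal_iff.1 hQ
  refine isNormal_iff.2 ⟨hUQ.trans hQS, fun P f hf => ?_⟩
  obtain ⟨k, hk, he, hkQ⟩ := h P f hf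
  refine ⟨k, hk.restrict (sup_le_sup_left hUQ P), he, hkQ.1.restrict hUQ, fun y => ?_⟩
  have hmap := Subgroup.characteristic_iff_map_eq.1 hU (autOf hkQ)
  constructor
  · intro hy
    have hmem : (⟨y, hUQ hy⟩ : Q) ∈ U.subgroupOf Q := hy
    rw [← hmap] at hmem
    obtain ⟨x, hx, hxy⟩ := hmem
    exact ⟨x, hx, congrArg Subtype.val hxy⟩
  · rintro ⟨x, hx, rfl⟩
    have hmem : autOf hkQ ⟨x, hUQ hx⟩ ∈ U.subgroupOf Q := hmap.le ⟨⟨x, hUQ hx⟩, hx, rfl⟩
    exact hmem

theorem isNormal_bot : F.IsNormal (⊥ : Subgroup Ω) := by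
  refine isNormal_iff.2 ⟨bot_le, fun P f hf => ⟨f, by rwa [sup_bot_eq], fun _ _ => rfl,
    hf.restrict bot_le, fun y => ?_⟩⟩
  simp only [Subgroup.mem_bot, exists_eq_left, hf.map_one]
  exact eq_comm

theorem isNormal_sup (h₁ : F.IsNormal Q) (h₂ : F.IsNormal U) : F.IsNormal (Q ⊔ U) := by
  obtain ⟨hQ, hQ'⟩ := isNormal_iff.1 h₁
  obtain ⟨hU, hU'⟩ := isNormal_iff.1 h₂
  refine isNormal_iff.2 ⟨sup_le hQ hU, fun P f hf => ?_⟩
  obtain ⟨k, hk, hke, hkQ⟩ := hQ' P f hf
  obtain ⟨l, hl, hle, hlU⟩ := hU' _ k hk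
  rw [sup_assoc] at hl
  refine ⟨l, hl, fun x hx => (hle x (Subgroup.mem_sup_left hx)).trans (hke x hx),
    hl.restrict le_sup_right, fun y => ⟨fun hy => ?_, ?_⟩⟩
  · have hi := (hl.restrict (le_sup_right : Q ⊔ U ≤ _)).isIso
    have hle' : Q ⊔ U ≤ (hl.restrict le_sup_right).image (Q ⊔ U) le_rfl := by
      refine sup_le (fun z hz => ?_) fun z hz => ?_
      · obtain ⟨x, hx, rfl⟩ := hkQ.exists_apply hz
        exact ⟨x, Subgroup.mem_sup_left hx, hle x (Subgroup.mem_sup_right hx)⟩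
      · obtain ⟨x, hx, rfl⟩ := hlU.exists_apply hz
        exact ⟨x, Subgroup.mem_sup_right hx, rfl⟩
    exact hi.exists_apply (hle' hy)
  · rintro ⟨x, hx, rfl⟩
    refine (hl.restrict le_sup_right).mapsTo_sup (R := Q ⊔ U) (fun z hz => Subgroup.mem_sup_left ?_)
      (fun z hz => Subgroup.mem_sup_right (hlU.apply_mem hz)) hx
    rw [hle z (Subgroup.mem_sup_right hz)]
    exact hkQ.apply_mem hz

theorem isNormal_core [Finite S] (F : FusionSystem S) : F.IsNormal F.core := by
  have hfin : {Q : Subgroup Ω | F.IsNormal Q}.Finite :=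
    (setOf_le_finite S).subset fun Q hQ => hQ.1
  suffices h : ∀ T : Set (Subgroup Ω), T.Finite → T ⊆ {Q | F.IsNormal Q} → F.IsNormal (sSup T) from
    h _ hfin le_rfl
  intro T hT
  induction T, hT using Set.Finite.induction_on with
  | empty => intro; rw [sSup_empty]; exact isNormal_bot
  | @insert a T _ _ ih =>
    intro h
    rw [sSup_insert]
    exact isNormal_sup (h (Set.mem_insert _ _)) (ih fun x hx => h (Set.mem_insert_of_mem _ hx))

/-! ### Stabilizers of chains -/

/-- An automorphism of a finite `p`-group stabilizing a chain has `p`-power order. -/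
theorem exists_pow_eq_one_of_stabilizes {H : Type*} [Group H] [Finite H] [Fact p.Prime]
    (hH : IsPGroup p H) {m : ℕ} (K : ℕ → Subgroup H) (h0 : K 0 = ⊥) (hm : K m = ⊤)
    (hmono : ∀ i < m, K i ≤ K (i + 1)) {α : MulAut H}
    (hα : ∀ i < m, ∀ x ∈ K (i + 1), x⁻¹ * α x ∈ K i) : ∃ k : ℕ, α ^ (p ^ k) = 1 := by
  suffices h : ∀ i ≤ m, ∃ k : ℕ, ∀ x ∈ K i, (α ^ (p ^ k)) x = x by
    obtain ⟨k, hk⟩ := h m le_rfl
    exact ⟨k, MulEquiv.ext fun x => hk x (hm ▸ Subgroup.mem_top x)⟩
  have hinv : ∀ i ≤ m, ∀ x ∈ K i, α x ∈ K i := by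
    rintro (_ | i) hi x hx
    · rw [h0, Subgroup.mem_bot] at hx ⊢
      rw [hx, map_one]
    · have := mul_mem hx (hmono i hi (hα i hi x hx))
      rwa [mul_inv_cancel_left] at this
  intro i
  induction i with
  | zero => exact fun _ => ⟨0, fun x hx => by rw [h0, Subgroup.mem_bot] at hx; rw [hx, map_one]⟩
  | succ i ih =>
    intro hi
    obtain ⟨k, hk⟩ := ih (Nat.le_of_succ_le hi)
    have hc : ∀ n : ℕ, ∀ x ∈ K (i + 1), x⁻¹ * (α ^ n) x ∈ K i := by
      intro n
      induction n with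
      | zero => intro x _; simp
      | succ n ihn =>
        intro x hx
        have e : x⁻¹ * (α ^ (n + 1)) x = (x⁻¹ * α x) * α (x⁻¹ * (α ^ n) x) := by
          rw [pow_succ', MulAut.mul_apply, map_mul, map_inv]
          group
        rw [e]
        exact mul_mem (hα i hi x hx) (hinv i (Nat.le_of_succ_le hi) _ (ihn x hx))
    obtain ⟨e, he⟩ := IsPGroup.iff_card.1 hH
    refine ⟨k + e, fun x hx => ?_⟩
    set β := α ^ (p ^ k) with hβ
    have hβc : β (x⁻¹ * β x) = x⁻¹ * β x := hk _ (hc _ x hx)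
    have hn : ∀ n : ℕ, (β ^ n) x = x * (x⁻¹ * β x) ^ n := by
      intro n
      induction n with
      | zero => simp
      | succ n ihn =>
        rw [pow_succ' β, MulAut.mul_apply, ihn, map_mul, map_pow, hβc, pow_succ' (x⁻¹ * β x),
          ← mul_assoc x, mul_inv_cancel_left]
    rw [pow_add, pow_mul, ← hβ, hn, ← he, pow_card_eq_one', mul_one]

section Saturated

variable [Finite S] [Fact p.Prime]

/-- A subgroup inducing on a centric radical `P` automorphisms stabilizing an invariant chain lies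
in `P`. -/
theorem le_of_radical_of_stabilizes (hS : IsPGroup p S) (hP : F.IsCentric P) (hPr : F.IsRadical p P)
    {C : Subgroup Ω} (hCS : C ≤ S) (hCn : S ≤ Subgroup.normalizer (C : Set Ω)) {m : ℕ}
    (K : ℕ → Subgroup Ω) (hK0 : K 0 = ⊥) (hKm : K m = P) (hKP : ∀ i ≤ m, K i ≤ P)
    (hmono : ∀ i < m, K i ≤ K (i + 1))
    (hinv : ∀ i ≤ m, ∀ α ∈ F.autGroup P, ∀ x ∈ K i, autFun α x ∈ K i)
    (hstab : ∀ i < m, ∀ a ∈ C, a ∈ Subgroup.normalizer (P : Set Ω) →
      ∀ x ∈ K (i + 1), x⁻¹ * (a * x * a⁻¹) ∈ K i) : C ≤ P := by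
  have hPS := hP.1
  have hPf := finite_of_le hPS
  have := finite_autGroup (F := F) hPS
  let St : Subgroup (F.autGroup P) :=
    { carrier := {α | ∀ i < m, ∀ x ∈ K (i + 1), x⁻¹ * autFun (α : MulAut P) x ∈ K i}
      one_mem' := fun i hi x hx => by
        rw [Subgroup.coe_one, autFun_one (hKP _ hi hx)]
        simp
      mul_mem' := by
        intro α β hα hβ i hi x hx
        have hxP := hKP _ hi hx
        rw [Subgroup.coe_mul, autFun_mul _ _ hxP]
        have h1 := hα i hi _ (hinv _ hi _ β.2 x hx)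
        have h2 := hβ i hi x hx
        have := mul_mem h2 h1
        simpa [mul_assoc] using this
      inv_mem' := by
        intro α hα i hi x hx
        have hy : autFun (↑α⁻¹ : MulAut P) x ∈ K (i + 1) := hinv _ hi _ (α⁻¹).2 x hx
        have h1 := inv_mem (hα i hi _ hy)
        rw [← autFun_mul _ _ (hKP _ hi hx), ← Subgroup.coe_mul, mul_inv_cancel, Subgroup.coe_one,
          autFun_one (hKP _ hi hx), mul_inv_rev, inv_inv] at h1
        exact h1 }
  have hStn : St.Normal := ⟨by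
    intro α hα γ i hi x hx
    have hxP := hKP _ hi hx
    have hy : autFun (↑γ⁻¹ : MulAut P) x ∈ K (i + 1) := hinv _ hi _ (γ⁻¹).2 x hx
    have hy' := hKP _ hi hy
    have h1 := hinv i (le_of_lt hi) _ γ.2 _ (hα i hi _ hy)
    have hm : IsMor F P (autFun (γ : MulAut P)) := isMor_of_mem_autGroup hPS γ.2
    have e : autFun (γ : MulAut P) (autFun (↑γ⁻¹ : MulAut P) x) = x := by
      rw [← autFun_mul _ _ hxP, ← Subgroup.coe_mul, mul_inv_cancel, Subgroup.coe_one, autFun_one hxP]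
    rw [hm.map_mul (inv_mem hy') (autFun_mem _ hy'), hm.map_inv hy', e] at h1
    rw [Subgroup.coe_mul, Subgroup.coe_mul, autFun_mul _ _ hxP, autFun_mul _ _ (autFun_mem _ hxP)]
    exact h1⟩
  have hStp : IsPGroup p St := by
    rintro ⟨α, hα⟩
    obtain ⟨k, hk⟩ := exists_pow_eq_one_of_stabilizes (p := p) (hS.to_le hPS)
      (fun i => (K i).subgroupOf P) (α := (α : MulAut P)) (by simp [hK0]) (by simp [hKm])
      (fun i hi x hx => hmono i hi hx) fun i hi x hx => by
        rw [Subgroup.mem_subgroupOf, Subgroup.coe_mul, Subgroup.coe_inv, ← autFun_coe]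
        exact hα i hi x hx
    exact ⟨k, Subtype.ext (Subtype.ext (by simpa using hk))⟩
  have hN : normalizerIn C P ≤ P := by
    intro a ha
    have haN : a ∈ normalizerIn S P := ⟨hCS ha.1, ha.2⟩
    obtain ⟨h1, h2⟩ := conjAut_mem (F := F) hPS haN
    have hmem : (⟨_, h2⟩ : F.autGroup P) ∈ St := fun i hi x hx => by
      rw [autFun_apply _ (hKP _ hi hx)]
      exact hstab i hi a ha.1 ha.2 x hx
    refine mem_of_conjAut_mem_inn (centralizerIn_le_of_isCentric hP) hPS haN ?_
    rw [← hPr.2]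
    exact ⟨_, Solv.le_pCore (hN := hStn) hStp hmem, rfl⟩
  by_contra hC
  have hlt : P < P ⊔ C := lt_of_le_of_ne le_sup_left fun h => hC (h ▸ le_sup_right)
  have := finite_of_le (sup_le hPS hCS)
  obtain ⟨u, hu, huP⟩ := SetLike.exists_of_lt
    (normalizerIn_self_lt (p := p) (hS.to_le (sup_le hPS hCS)) hlt)
  obtain ⟨hu1, hu2⟩ := hu
  replace hu1 : u ∈ ((P ⊔ C : Subgroup Ω) : Set Ω) := hu1
  rw [Subgroup.coe_mul_of_left_le_normalizer_right _ _ (hPS.trans hCn)] at hu1
  obtain ⟨x, hx, c, hc, rfl⟩ := Set.mem_mul.1 hu1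
  have hcn : c ∈ Subgroup.normalizer (P : Set Ω) := by
    have := mul_mem (inv_mem (Subgroup.le_normalizer hx)) hu2
    rwa [inv_mul_cancel_left] at this
  exact huP (mul_mem hx (hN ⟨hc, hcn⟩))

variable (hS : IsPGroup p S) (hF : F.IsSaturated p)
include hS hF

omit hF in
theorem normal_le_radical (hQ : F.IsNormal Q) (hP : F.IsCentric P) (hPr : F.IsRadical p P) :
    Q ≤ P := by
  have hn := normal_le_normalizer hQ
  by_contra hQP
  have hPS := hP.1
  -- `N_Q(P)` induces a normal `p`-subgroup of `Aut_F(P)`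
  have := finite_autGroup (F := F) hPS
  have hN : normalizerIn Q P ≤ P := by
    intro a ha
    have haN : a ∈ normalizerIn S P := ⟨hQ.1 ha.1, ha.2⟩
    obtain ⟨h1, h2⟩ := conjAut_mem (F := F) hPS haN
    refine mem_of_conjAut_mem_inn (centralizerIn_le_of_isCentric hP) hPS haN ?_
    rw [← hPr.2]
    refine ⟨⟨_, h2⟩, Solv.le_pCore (N := (autInducedBy Q P).subgroupOf (F.autGroup P)) (hN := ⟨?_⟩) ?_
      (mem_autInducedBy.2 ⟨a, ha.1, ha.2, fun _ => rfl⟩), rfl⟩
    · intro β hβ γ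
      obtain ⟨b, hb, hbn, hx⟩ := mem_autInducedBy.1 (Subgroup.mem_subgroupOf.1 hβ)
      obtain ⟨k, hk, hke, hkQ⟩ := (isNormal_iff.1 hQ).2 P _ (isMor_of_mem_autGroup hPS γ.2)
      have hbk := hk.apply_mem_normalizerIn le_sup_left
        ((isIso_autFun hPS γ.2).congr hke) (Subgroup.mem_sup_right hb) hbn
      refine mem_autInducedBy.2 ⟨k b, hkQ.apply_mem hb, hbk.2, fun y => ?_⟩
      have h3 := hke _ ((γ : MulAut P)⁻¹ y).2
      rw [autFun_coe, MulAut.apply_inv_self] at h3
      rw [← h3, ← hk.map_conj (Subgroup.mem_sup_left ((γ : MulAut P)⁻¹ y).2) (Subgroup.mem_sup_right hb),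
        hke _ (conj_mem_of_mem_normalizer hbn ((γ : MulAut P)⁻¹ y).2),
        autFun_apply _ (conj_mem_of_mem_normalizer hbn ((γ : MulAut P)⁻¹ y).2)]
      show (((γ : MulAut P) ((β : MulAut P) ((γ : MulAut P)⁻¹ y)) : P) : Ω) = _
      congr 2
      exact Subtype.ext (hx _)
    · exact ((isPGroup_autInducedBy hS P).to_le (autInducedBy_mono hQ.1)).of_equiv
        (Subgroup.subgroupOfEquivOfLe ((autInducedBy_mono hQ.1).trans (autInducedBy_le_autGroup hPS))).symm
  have hlt : P < P ⊔ Q := lt_of_le_of_ne le_sup_left fun h => hQP (h ▸ le_sup_right)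
  have := finite_of_le (sup_le hPS hQ.1)
  obtain ⟨u, hu, huP⟩ := SetLike.exists_of_lt
    (normalizerIn_self_lt (p := p) (hS.to_le (sup_le hPS hQ.1)) hlt)
  obtain ⟨hu1, hu2⟩ := hu
  replace hu1 : u ∈ ((P ⊔ Q : Subgroup Ω) : Set Ω) := hu1
  rw [Subgroup.coe_mul_of_left_le_normalizer_right _ _ (hPS.trans hn)] at hu1
  obtain ⟨x, hx, c, hc, rfl⟩ := Set.mem_mul.1 hu1
  have hcn : c ∈ Subgroup.normalizer (P : Set Ω) := by
    have := mul_mem (inv_mem (Subgroup.le_normalizer hx)) hu2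
    rwa [inv_mul_cancel_left] at this
  exact huP (mul_mem hx (hN ⟨hc, hcn⟩))

/-- Normality from the essential subgroups. -/
theorem isNormal_of_essential
    (h : ∀ P : Subgroup Ω, (P = S ∨ F.IsEssential p P) →
      Q ≤ P ∧ ∀ α ∈ F.autGroup P, ∀ x ∈ Q, autFun α x ∈ Q) : F.IsNormal Q := by
  have hQ := (h S (Or.inl rfl)).1
  have hn : S ≤ Subgroup.normalizer (Q : Set Ω) := fun a ha => by
    refine mem_normalizer_of_conj_mem hQ fun x hx => ?_
    have haN : a ∈ normalizerIn S S := ⟨ha, Subgroup.le_normalizer ha⟩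
    have := (h S (Or.inl rfl)).2 _ (conjAut_mem (F := F) le_rfl haN).2 x hx
    rwa [autFun_apply _ (hQ hx)] at this
  refine isNormal_of_le_normCond hQ hn (le_of_essential hS hF fun P hP => ?_)
  obtain ⟨hQP, hα⟩ := h P hP
  have hPS : P ≤ S := hP.elim le_of_eq fun h => h.1.1
  exact autGroup_le_normCond hQ hn hQP hPS fun α hα' =>
    ((isMor_of_mem_autGroup hPS hα').restrict hQP).isIso_self (hα α hα')

theorem isNormal_of_centric_radical (hQ : F.StronglyClosed Q)
    (h : ∀ P : Subgroup Ω, F.IsCentric P → F.IsRadical p P → Q ≤ P) : F.IsNormal Q := by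
  refine isNormal_of_essential hS hF fun P hP => ?_
  have hQP : Q ≤ P := by
    rcases hP with rfl | hP
    · exact hQ.1
    · exact h P hP.1 (isRadical_of_isEssential hS hF hP)
  have hPS : P ≤ S := hP.elim le_of_eq fun h => h.1.1
  exact ⟨hQP, fun α hα x hx => stronglyClosed_apply hQ (isMor_of_mem_autGroup hPS hα) (hQP hx) hx⟩

/-- A strongly closed subgroup with a central series of weakly closed subgroups is normal. -/
theorem isNormal_of_series (hQ : F.StronglyClosed Q) {n : ℕ} (C : Fin (n + 1) → Subgroup Ω)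
    (h0 : C 0 = ⊥) (hn : C (Fin.last n) = Q) (hm : Monotone C)
    (hc : ∀ i : Fin n, ⁅C i.succ, Q⁆ ≤ C i.castSucc) (hw : ∀ i : Fin n, F.WeaklyClosed (C i.castSucc)) :
    F.IsNormal Q := by
  have hwc : ∀ j, F.WeaklyClosed (C j) := by
    intro j
    induction j using Fin.lastCases with
    | cast i => exact hw i
    | last =>
      rw [hn]
      refine ⟨hQ.1, fun φ hφ => ?_⟩
      have hi := (isMor_extFun hφ).isIso_self fun x hx => stronglyClosed_apply hQ (isMor_extFun hφ) hx hx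
      ext y
      rw [hi.2 y]
      exact ⟨fun ⟨x, e⟩ => ⟨x, x.2, (extFun_coe φ x).trans e⟩,
        fun ⟨x, hx, e⟩ => ⟨⟨x, hx⟩, (extFun_apply φ hx).symm.trans e⟩⟩
  have hCQ : ∀ j, C j ≤ Q := fun j => hn ▸ hm (Fin.le_last j)
  have hpres : ∀ j P, ∀ α ∈ F.autGroup P, P ≤ S → C j ≤ P → ∀ x ∈ C j, autFun α x ∈ C j := by
    intro j P α hα hPS hle x hx
    obtain ⟨φ, hφ, he⟩ := (isMor_of_mem_autGroup hPS hα).restrict hle
    rw [← he ⟨x, hx⟩]
    exact ((hwc j).2 φ hφ).le ⟨_, rfl⟩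
  have hCn : ∀ j, S ≤ Subgroup.normalizer (C j : Set Ω) := fun j a ha => by
    refine mem_normalizer_of_conj_mem (hwc j).1 fun x hx => ?_
    exact ((hwc j).2 _ (F.conj_mem (hwc j).1 ha)).le ⟨⟨x, hx⟩, rfl⟩
  refine isNormal_of_centric_radical hS hF hQ fun P hP hPr => ?_
  suffices h : ∀ j, C j ≤ P from hn ▸ h (Fin.last n)
  intro j
  induction j using Fin.induction with
  | zero => rw [h0]; exact bot_le
  | succ j ih =>
    refine le_of_radical_of_stabilizes hS hP hPr (m := (j : ℕ) + 2) (hwc _).1 (hCn _)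
      (fun i => if h : i ≤ (j : ℕ) then C ⟨i, by omega⟩ else if i = (j : ℕ) + 1 then P ⊓ Q else P)
      (by simp [h0]) (by simp) ?_ ?_ ?_ ?_
    · intro i hi
      beta_reduce
      split_ifs with h1 h2
      · exact (hm (Fin.mk_le_mk.2 h1 : (⟨i, _⟩ : Fin (n + 1)) ≤ j.castSucc)).trans ih
      · exact inf_le_left
      · exact le_rfl
    · intro i hi
      beta_reduce
      rcases lt_trichotomy i (j : ℕ) with h1 | h1 | h1
      · rw [dif_pos h1.le, dif_pos (show i + 1 ≤ (j : ℕ) by omega)]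
        exact hm (Fin.mk_le_mk.2 (Nat.le_succ i))
      · rw [dif_pos h1.le, dif_neg (by omega), if_pos (by omega)]
        refine le_inf ?_ (hCQ _)
        exact (hm (Fin.mk_le_mk.2 h1.le : (⟨i, _⟩ : Fin (n + 1)) ≤ j.castSucc)).trans ih
      · rw [dif_neg (by omega), if_pos (by omega), dif_neg (by omega), if_neg (by omega)]
        exact inf_le_left
    · intro i hi α hα
      beta_reduce
      split_ifs with h1 h2
      · exact hpres _ P α hα hP.1
          ((hm (Fin.mk_le_mk.2 h1 : (⟨i, _⟩ : Fin (n + 1)) ≤ j.castSucc)).trans ih)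
      · exact fun x hx => ⟨autFun_mem α hx.1, stronglyClosed_apply hQ (isMor_of_mem_autGroup hP.1 hα) hx.1 hx.2⟩
      · exact fun x hx => autFun_mem α hx
    · intro i hi a ha han x
      beta_reduce
      have haQ : a ∈ Q := hCQ _ ha
      have e : x⁻¹ * (a * x * a⁻¹) = ⁅x⁻¹, a⁆ := by simp [commutatorElement_def, mul_assoc]
      rcases lt_trichotomy i (j : ℕ) with h1 | h1 | h1
      · rw [dif_pos h1.le, dif_pos (show i + 1 ≤ (j : ℕ) by omega)]
        intro hx
        rw [e]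
        exact hc ⟨i, by omega⟩ (Subgroup.commutator_mem_commutator ((C _).inv_mem hx) haQ)
      · rw [dif_neg (by omega), if_pos (by omega), dif_pos h1.le]
        intro hx
        rw [e]
        have h2 := hc j (Subgroup.commutator_mem_commutator ha (inv_mem hx.2))
        rw [← commutatorElement_inv] at h2
        have h3 : (j.castSucc : Fin (n + 1)) = ⟨i, by omega⟩ := Fin.ext h1.symm
        rw [← h3]
        simpa using inv_mem h2
      · rw [dif_neg (by omega), if_neg (by omega), dif_neg (by omega), if_pos (by omega)]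
        intro hx
        refine ⟨P.mul_mem (P.inv_mem hx) (conj_mem_of_mem_normalizer han hx), ?_⟩
        rw [show x⁻¹ * (a * x * a⁻¹) = (x⁻¹ * a * x) * a⁻¹ by group]
        refine Q.mul_mem ?_ (Q.inv_mem haQ)
        simpa using conj_mem_of_mem_normalizer (le_normalizer_of_stronglyClosed hQ (inv_mem (hP.1 hx))) haQ

end Saturated

end Cfsg.Agent.Fusion
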