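import Mathlib
import Cfsg.Prelude.Def_FusionComponents
import Cfsg.Agent.Lib.Fusion.Alperin
import Cfsg.Agent.Lib.Fusion.Normal

/-!
Maps of a saturated system modulo a strongly closed subgroup; factor systems.
-/

set_option autoImplicit false

namespace Cfsg.Agent.Fusion

open Cfsg Cfsg.FusionSystem

variable {Ω : Type*} [Group Ω] {S : Subgroup Ω} {F : FusionSystem S} {P Q R T : Subgroup Ω}
  {f g k : Ω → Ω} {p : ℕ}

theorem stronglyClosed_isIso [Finite S] (hT : F.StronglyClosed T) (hk : IsMor F R k) (hTR : T ≤ R) :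
    IsIso F T T k :=
  (hk.restrict hTR).isIso_self fun _ hx => stronglyClosed_apply hT hk (hTR hx) hx

/-- `f` agrees modulo `T` with a map having source `P ⊔ T`. -/
def ModExt (F : FusionSystem S) (T P : Subgroup Ω) (f : Ω → Ω) : Prop :=
  ∃ k, IsMor F (P ⊔ T) k ∧ ∀ x ∈ P, (f x)⁻¹ * k x ∈ T

/-- The maps agreeing modulo `T` with maps having sources containing `T`. -/
noncomputable def modCond [Finite S] (F : FusionSystem S) (T : Subgroup Ω) (hT : F.StronglyClosed T) :
    MapCond F where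
  C P f := ModExt F T P f
  le := le_rfl
  congr := fun _ ⟨k, hk, he⟩ hfg => ⟨k, hk, fun x hx => (hfg x hx).symm ▸ he x hx⟩
  conj := fun {P a} hP ha => ⟨_, isMor_conj (sup_le hP hT.1) ha, fun x _ => by simp [mul_assoc]⟩
  comp := by
    rintro P Q f g hf ⟨k, hk, hke⟩ hg ⟨l, hl, hle⟩ hm
    have hkT : ∀ x ∈ T, k x ∈ T := fun x hx => stronglyClosed_apply hT hk (le_sup_right (a := P) hx) hx
    have hkm : ∀ x ∈ P, k x ∈ Q ⊔ T := fun x hx => by
      have : k x = f x * ((f x)⁻¹ * k x) := by group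
      rw [this]
      exact mul_mem (Subgroup.mem_sup_left (hm x hx)) (Subgroup.mem_sup_right (hke x hx))
    refine ⟨l ∘ k, hk.comp hl fun x hx => hk.mapsTo_sup hkm
      (fun y hy => Subgroup.mem_sup_right (hkT y hy)) hx, fun x hx => ?_⟩
    have : k x = f x * ((f x)⁻¹ * k x) := by group
    show (g (f x))⁻¹ * l (k x) ∈ T
    rw [this, hl.map_mul (Subgroup.mem_sup_left (hm x hx)) (Subgroup.mem_sup_right (hke x hx)), ← mul_assoc]
    exact T.mul_mem (hle _ (hm x hx))
      (stronglyClosed_apply hT hl (le_sup_right (a := Q) (hke x hx)) (hke x hx))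
  symm := by
    rintro P R f g hf ⟨k, hk, hke⟩ hg hgf hfg
    obtain ⟨l, hl, hlk, -⟩ := hk.isIso.exists_symm
    have hkT := stronglyClosed_isIso hT hk le_sup_right
    have hle : R ⊔ T ≤ hk.image (P ⊔ T) le_rfl := by
      have hT' : T ≤ hk.image (P ⊔ T) le_rfl := fun y hy => by
        obtain ⟨x, hx, rfl⟩ := hkT.exists_apply hy
        exact ⟨x, Subgroup.mem_sup_right hx, rfl⟩
      refine sup_le (fun y hy => ?_) hT'
      obtain ⟨x, hx, rfl⟩ := hf.exists_apply hy
      have : f x = k x * ((f x)⁻¹ * k x)⁻¹ := by group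
      rw [this]
      exact mul_mem ⟨x, Subgroup.mem_sup_left hx, rfl⟩ (hT' (T.inv_mem (hke x hx)))
    refine ⟨l, hl.1.restrict hle, fun y hy => ?_⟩
    obtain ⟨x, hx, rfl⟩ := hf.exists_apply hy
    rw [hgf x hx]
    have hd := T.inv_mem (hke x hx)
    have hkx : k x ∈ hk.image (P ⊔ T) le_rfl := ⟨x, Subgroup.mem_sup_left hx, rfl⟩
    have : f x = k x * ((f x)⁻¹ * k x)⁻¹ := by group
    rw [this, hl.1.map_mul hkx (hle (Subgroup.mem_sup_right hd)), hlk x (Subgroup.mem_sup_left hx),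
      inv_mul_cancel_left]
    exact stronglyClosed_apply hT hl.1 (hle (Subgroup.mem_sup_right hd)) hd

/-- Intersection of a Sylow subgroup with a normal subgroup. -/
theorem exists_sylow_of_normal {G : Type*} [Group G] [Finite G] [Fact p.Prime] (R : Sylow p G)
    (H : Subgroup G) [hn : H.Normal] : ∃ Q : Sylow p H, (Q : Subgroup H) = (R : Subgroup G).subgroupOf H := by
  obtain ⟨Q, hQ⟩ := (R.isPGroup'.comap_subtype (K := H)).exists_le_sylow
  refine ⟨Q, (Subgroup.eq_of_le_of_card_ge hQ ?_).symm⟩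
  obtain ⟨g, hg⟩ := exists_conj_le_sylow R (Q.isPGroup'.map H.subtype)
  have hle : ((Q : Subgroup H).map H.subtype).map (MulAut.conj g).toMonoidHom ≤ (R : Subgroup G) ⊓ H := by
    refine le_inf hg ?_
    rintro _ ⟨_, ⟨x, -, rfl⟩, rfl⟩
    exact hn.conj_mem _ x.2 g
  have h1 := Nat.card_le_card_of_injective _ (Subgroup.inclusion_injective hle)
  rw [card_map_conj, Nat.card_congr ((Q : Subgroup H).equivMapOfInjective H.subtype
    H.subtype_injective).toEquiv.symm] at h1
  rwa [← Nat.card_congr (Subgroup.subgroupOfEquivOfLe (inf_le_right : (R : Subgroup G) ⊓ H ≤ H)).toEquiv,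
    Subgroup.inf_subgroupOf_right] at h1

/-- Frattini argument. -/
theorem exists_mul_of_normal {G : Type*} [Group G] [Finite G] [Fact p.Prime] (R : Sylow p G)
    (H : Subgroup G) [hn : H.Normal] (a : G) : ∃ h ∈ H, ∃ c : G,
      c ∈ Subgroup.normalizer (((R : Subgroup G) ⊓ H : Subgroup G) : Set G) ∧ a = h * c := by
  obtain ⟨Q, hQ⟩ := exists_sylow_of_normal R H
  have h := Q.normalizer_sup_eq_top
  rw [hQ, Subgroup.subgroupOf_map_subtype, sup_comm] at h
  have : a ∈ H ⊔ Subgroup.normalizer (((R : Subgroup G) ⊓ H : Subgroup G) : Set G) := h ▸ Subgroup.mem_top a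
  obtain ⟨x, hx, y, hy, hxy⟩ := Subgroup.mem_sup_of_normal_left.1 this
  exact ⟨x, hx, y, hy, hxy.symm⟩

/-- The automorphisms trivial modulo `T`. -/
def modKer (F : FusionSystem S) (T P : Subgroup Ω) : Subgroup (F.autGroup P) where
  carrier := {α | ∀ x ∈ P, x⁻¹ * autFun (α : MulAut P) x ∈ T}
  one_mem' x hx := by simp [autFun_one hx]
  mul_mem' := by
    intro α β hα hβ x hx
    rw [Subgroup.coe_mul, autFun_mul _ _ hx]
    have hy := autFun_mem (β : MulAut P) hx
    have : x⁻¹ * autFun (α : MulAut P) (autFun (β : MulAut P) x) = x⁻¹ * autFun (β : MulAut P) x *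
      ((autFun (β : MulAut P) x)⁻¹ * autFun (α : MulAut P) (autFun (β : MulAut P) x)) := by group
    rw [this]
    exact T.mul_mem (hβ x hx) (hα _ hy)
  inv_mem' := by
    intro α hα x hx
    have hy := autFun_mem ((α⁻¹ : F.autGroup P) : MulAut P) hx
    have h1 := T.inv_mem (hα _ hy)
    rwa [← autFun_mul _ _ hx, ← Subgroup.coe_mul, mul_inv_cancel, Subgroup.coe_one, autFun_one hx,
      mul_inv_rev, inv_inv] at h1

theorem modKer_normal (hT : F.StronglyClosed T) (hP : P ≤ S) : (modKer F T P).Normal := ⟨fun β hβ α x hx => by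
  rw [Subgroup.coe_mul, Subgroup.coe_mul, autFun_mul _ _ hx, autFun_mul _ _ (autFun_mem _ hx)]
  set y := autFun ((α⁻¹ : F.autGroup P) : MulAut P) x with hy
  have hyP : y ∈ P := autFun_mem _ hx
  have hz : autFun (β : MulAut P) y ∈ P := autFun_mem _ hyP
  have hm : IsMor F P (autFun (α : MulAut P)) := isMor_of_mem_autGroup hP α.2
  have e : autFun (α : MulAut P) y = x := by
    rw [hy, ← autFun_mul _ _ hx, ← Subgroup.coe_mul, mul_inv_cancel, Subgroup.coe_one, autFun_one hx]
  rw [← e, ← hm.map_inv hyP, ← hm.map_mul (P.inv_mem hyP) hz]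
  exact stronglyClosed_apply hT hm (P.mul_mem (P.inv_mem hyP) hz) (hβ y hyP)⟩

section Saturated

variable [Finite S] [Fact p.Prime] (hS : IsPGroup p S) (hF : F.IsSaturated p) (hT : F.StronglyClosed T)
include hS hF hT

theorem le_modCond : F ≤ (modCond F T hT).system := by
  refine alperin_induction hS hF fun P hP α hα hbig => (modCond F T hT).isMor_system.2
    ⟨isMor_of_mem_autGroup hP.1 hα, ?_⟩
  show ModExt F T P (autFun α)
  have hm := isMor_of_mem_autGroup hP.1 hα
  by_cases hTP : T ≤ P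
  · exact ⟨autFun α, by rwa [sup_eq_left.2 hTP], fun x _ => by simp⟩
  have := finite_autGroup (F := F) hP.1
  obtain ⟨hA, hR⟩ := fullyNormalized_receptive hS hF hP
  obtain ⟨Sy, hSy⟩ := hA.2
  set H := modKer F T P
  have := modKer_normal hT hP.1
  obtain ⟨β, hβ, γ, hγ, hαe⟩ := exists_mul_of_normal Sy H ⟨α, hα⟩
  have hTn := le_normalizer_of_stronglyClosed hT
  -- the part of `T` normalizing `P`
  set N := normalizerIn S P ⊓ T with hN
  have hYS : P ⊔ N ≤ S := sup_le hP.1 (inf_le_left.trans normalizerIn_le)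
  have hlt : P < P ⊔ N := by
    refine lt_of_le_of_ne le_sup_left fun he => hTP ?_
    have hPT : P ⊔ T ≤ S := sup_le hP.1 hT.1
    by_contra hTP'
    have hlt : P < P ⊔ T := lt_of_le_of_ne le_sup_left fun h => hTP' (h ▸ le_sup_right)
    have := finite_of_le hPT
    obtain ⟨z, hz, hzP⟩ := SetLike.exists_of_lt (normalizerIn_self_lt (hS.to_le hPT) hlt)
    have hzPT : z ∈ ((P ⊔ T : Subgroup Ω) : Set Ω) := hz.1
    rw [Subgroup.coe_mul_of_left_le_normalizer_right P T (hP.1.trans hTn)] at hzPT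
    obtain ⟨a, ha, t, ht, rfl⟩ := hzPT
    refine hzP (P.mul_mem ha (?_ : t ∈ P))
    rw [he]
    refine Subgroup.mem_sup_right ⟨⟨hT.1 ht, ?_⟩, ht⟩
    have := mul_mem (inv_mem (Subgroup.le_normalizer ha)) hz.2
    rwa [inv_mul_cancel_left] at this
  have hγm : IsMor F P (autFun (γ : MulAut P)) := isMor_of_mem_autGroup hP.1 γ.2
  have hγi : IsIso F P P (autFun (γ : MulAut P)) := hγm.isIso_self fun x hx => autFun_mem _ hx
  have hext : ∀ a ∈ P ⊔ N, ExtCond S P (autFun (γ : MulAut P)) a := by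
    refine fun a ha => (sup_le (a := P) (b := N) ?_ ?_ : P ⊔ N ≤ extSubgroup S P (autFun (γ : MulAut P))) ha
    · exact le_extSubgroup hγm
    rintro a ⟨ha, haT⟩
    have hcm : IsMor F P (fun x => a * x * a⁻¹) := isMor_conj hP.1 ha.1
    have hci := hcm.isIso_self fun x hx => conj_mem_of_mem_normalizer ha.2 hx
    have hc : (⟨autOf hci, autOf_mem hci⟩ : F.autGroup P) ∈ (Sy : Subgroup (F.autGroup P)) ⊓ H := by
      refine ⟨?_, fun x hx => ?_⟩
      · show _ ∈ (Sy : Subgroup (F.autGroup P))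
        rw [hSy]
        exact mem_autInducedBy.2 ⟨a, ha.1, ha.2, fun x => autOf_apply hci x⟩
      · rw [autFun_apply _ hx, autOf_apply]
        have e : x⁻¹ * (a * x * a⁻¹) = (x⁻¹ * a * (x⁻¹)⁻¹) * a⁻¹ := by group
        rw [e]
        exact T.mul_mem (conj_mem_of_mem_normalizer (hTn (hP.1 (P.inv_mem hx))) haT) (T.inv_mem haT)
    have hc' := ((Subgroup.mem_normalizer_iff.1 hγ) _).1 hc
    have hc'' := hc'.1
    rw [hSy] at hc''
    obtain ⟨b, hb, -, hbe⟩ := mem_autInducedBy.1 hc''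
    refine ⟨ha.1, ha.2, b, hb, fun x hx => ?_⟩
    have := hbe ⟨autFun (γ : MulAut P) x, autFun_mem _ hx⟩
    rw [← this]
    have e : (⟨autFun (γ : MulAut P) x, autFun_mem _ hx⟩ : P) = (γ : MulAut P) ⟨x, hx⟩ :=
      Subtype.ext (autFun_apply _ hx)
    rw [e, autFun_apply _ (conj_mem_of_mem_normalizer ha.2 hx)]
    rw [Subgroup.subtype_apply, Subgroup.coe_mul, Subgroup.coe_mul, Subgroup.coe_inv, MulAut.mul_apply,
      MulAut.mul_apply, MulAut.inv_apply_self]
    congr 2
  obtain ⟨g, hg, hge⟩ := exists_extension hR hγi hext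
  obtain ⟨k, hk, hke⟩ := ((modCond F T hT).isMor_system.1 (hbig _ g (card_lt_of_lt hYS hlt) hg)).2
  refine ⟨k, hk.restrict (sup_le_sup_right le_sup_left T), fun x hx => ?_⟩
  have hy := autFun_mem (γ : MulAut P) hx
  have hαx : autFun α x = autFun (β : MulAut P) (autFun (γ : MulAut P) x) := by
    rw [← autFun_mul _ _ hx, ← Subgroup.coe_mul, ← hαe]
  rw [hαx]
  have h1 := hke x (Subgroup.mem_sup_left hx)
  rw [hge x hx (Subgroup.mem_sup_left hx)] at h1
  have e : (autFun (β : MulAut P) (autFun (γ : MulAut P) x))⁻¹ * k x =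
      ((autFun (γ : MulAut P) x)⁻¹ * autFun (β : MulAut P) (autFun (γ : MulAut P) x))⁻¹ *
        ((autFun (γ : MulAut P) x)⁻¹ * k x) := by group
  rw [e]
  exact T.mul_mem (T.inv_mem (hβ _ hy)) h1

/-- Every map agrees modulo a strongly closed `T` with one defined on `P ⊔ T`. -/
theorem exists_modExt (hf : IsMor F P f) : ModExt F T P f :=
  ((modCond F T hT).isMor_system.1 (le_iff_isMor.1 (le_modCond hS hF hT) P f hf)).2

end Saturated

end Cfsg.Agent.Fusion
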