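import Mathlib
import Cfsg.Prelude.Def_FusionComponents
import Cfsg.Agent.Lib.Fusion.Factor

/-!
Factor systems read through a homomorphism out of `S`.
-/

set_option autoImplicit false

namespace Cfsg.Agent.Fusion

open Cfsg Cfsg.FusionSystem

variable {Ω : Type*} [Group Ω] {S : Subgroup Ω} {F : FusionSystem S} {P Q R T : Subgroup Ω}
  {f g k : Ω → Ω} {Ω' : Type*} [Group Ω'] {S' : Subgroup Ω'} {θ : S →* Ω'} {P' Q' : Subgroup Ω'}
  {E : FusionSystem S'}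

open Classical in
/-- The extension by `1` of a homomorphism out of `S`. -/
noncomputable def qfun (θ : S →* Ω') (x : Ω) : Ω' := if h : x ∈ S then θ ⟨x, h⟩ else 1

theorem qfun_apply (θ : S →* Ω') {x : Ω} (h : x ∈ S) : qfun θ x = θ ⟨x, h⟩ := by
  classical
  exact dif_pos h

theorem qfun_coe (θ : S →* Ω') (x : S) : qfun θ (x : Ω) = θ x := qfun_apply θ x.2

theorem qfun_mul (θ : S →* Ω') {x y : Ω} (hx : x ∈ S) (hy : y ∈ S) :
    qfun θ (x * y) = qfun θ x * qfun θ y := by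
  rw [qfun_apply θ (S.mul_mem hx hy), qfun_apply θ hx, qfun_apply θ hy, ← map_mul]
  rfl

theorem qfun_inv (θ : S →* Ω') {x : Ω} (hx : x ∈ S) : qfun θ x⁻¹ = (qfun θ x)⁻¹ := by
  rw [qfun_apply θ (S.inv_mem hx), qfun_apply θ hx, ← map_inv]
  rfl

theorem qfun_one (θ : S →* Ω') : qfun θ 1 = 1 := by
  rw [qfun_apply θ S.one_mem]
  exact map_one θ

theorem mem_preimageAlong {x : Ω} : x ∈ preimageAlong θ P' ↔ x ∈ S ∧ qfun θ x ∈ P' := by
  constructor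
  · rintro ⟨y, hy, rfl⟩
    exact ⟨y.2, (qfun_coe θ y).symm ▸ hy⟩
  · rintro ⟨hx, h⟩
    exact ⟨⟨x, hx⟩, (qfun_apply θ hx ▸ h : θ ⟨x, hx⟩ ∈ P'), rfl⟩

theorem mem_imageAlong {y : Ω'} : y ∈ imageAlong θ P ↔ ∃ x, x ∈ P ∧ x ∈ S ∧ qfun θ x = y := by
  constructor
  · rintro ⟨x, hx, rfl⟩
    exact ⟨x, hx, x.2, qfun_coe θ x⟩
  · rintro ⟨x, hx, hxS, rfl⟩
    exact ⟨⟨x, hxS⟩, hx, (qfun_apply θ hxS).symm⟩

theorem preimageAlong_le : preimageAlong θ P' ≤ S := fun _ h => (mem_preimageAlong.1 h).1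

theorem imageAlong_mem (hP : P ≤ S) {x : Ω} (hx : x ∈ P) : qfun θ x ∈ imageAlong θ P :=
  mem_imageAlong.2 ⟨x, hx, hP hx, rfl⟩

theorem exists_qfun_eq (hr : θ.range = S') (hP' : P' ≤ S') {y : Ω'} (hy : y ∈ P') :
    ∃ x ∈ preimageAlong θ P', qfun θ x = y := by
  obtain ⟨x, rfl⟩ : y ∈ θ.range := hr.symm ▸ hP' hy
  exact ⟨x, mem_preimageAlong.2 ⟨x.2, (qfun_coe θ x).symm ▸ hy⟩, qfun_coe θ x⟩

theorem qfun_mem_range (hr : θ.range = S') {x : Ω} (hx : x ∈ S) : qfun θ x ∈ S' :=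
  hr ▸ ⟨⟨x, hx⟩, (qfun_apply θ hx).symm⟩

/-- `f'` is induced by `f` on the source `P`. -/
def Induces (θ : S →* Ω') (P : Subgroup Ω) (f : Ω → Ω) (f' : Ω' → Ω') : Prop :=
  ∀ x ∈ P, f' (qfun θ x) = qfun θ (f x)

theorem inducedAlong_iff {φ : P →* Ω} {φ' : P' →* Ω'} :
    InducedAlong θ φ φ' ↔ P ≤ S ∧ (∀ x : P, φ x ∈ S) ∧ (∀ x ∈ P, qfun θ x ∈ P') ∧
      Induces θ P (extFun φ) (extFun φ') := by
  constructor
  · rintro ⟨hP, hφ, hP', h⟩
    refine ⟨hP, hφ, fun x hx => qfun_apply θ (hP hx) ▸ hP' ⟨x, hx⟩, fun x hx => ?_⟩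
    rw [qfun_apply θ (hP hx), extFun_apply φ' (hP' ⟨x, hx⟩), extFun_apply φ hx, qfun_apply θ (hφ _)]
    exact h ⟨x, hx⟩
  · rintro ⟨hP, hφ, hP', h⟩
    refine ⟨hP, hφ, fun x => qfun_apply θ (hP x.2) ▸ hP' x x.2, fun x => ?_⟩
    have := h x x.2
    rw [qfun_apply θ (hP x.2), extFun_apply φ' (qfun_apply θ (hP x.2) ▸ hP' x x.2), extFun_coe,
      qfun_apply θ (hφ _)] at this
    exact this

theorem qfun_eq_iff (hk : ∀ s : S, θ s = 1 ↔ (s : Ω) ∈ T) {x y : Ω} (hx : x ∈ S) (hy : y ∈ S) :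
    qfun θ x = qfun θ y ↔ x⁻¹ * y ∈ T := by
  rw [qfun_apply θ hx, qfun_apply θ hy, ← inv_mul_eq_one, ← map_inv, ← map_mul, hk]
  rfl

theorem le_preimageAlong (hT : T ≤ S) (hk : ∀ s : S, θ s = 1 ↔ (s : Ω) ∈ T) :
    T ≤ preimageAlong θ P' := fun x hx =>
  mem_preimageAlong.2 ⟨hT hx, qfun_apply θ (hT hx) ▸ ((hk ⟨x, hT hx⟩).2 hx).symm ▸ P'.one_mem⟩

theorem preimage_imageAlong (hT : T ≤ S) (hk : ∀ s : S, θ s = 1 ↔ (s : Ω) ∈ T) (hP : P ≤ S) :
    preimageAlong θ (imageAlong θ P) = P ⊔ T := by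
  refine le_antisymm (fun x hx => ?_)
    (sup_le (fun x hx => mem_preimageAlong.2 ⟨hP hx, imageAlong_mem hP hx⟩) (le_preimageAlong hT hk))
  obtain ⟨hxS, h⟩ := mem_preimageAlong.1 hx
  obtain ⟨y, hy, hyS, he⟩ := mem_imageAlong.1 h
  rw [qfun_eq_iff hk hyS hxS] at he
  have : x = y * (y⁻¹ * x) := by group
  rw [this]
  exact Subgroup.mul_mem _ (Subgroup.mem_sup_left hy) (Subgroup.mem_sup_right he)

theorem imageAlong_le (hr : θ.range = S') : imageAlong θ P ≤ S' := fun _ h => by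
  obtain ⟨x, -, hx, rfl⟩ := mem_imageAlong.1 h
  exact qfun_mem_range hr hx

/-- A map with source a full preimage induces a homomorphism. -/
theorem exists_induced (hr : θ.range = S') (hP' : P' ≤ S')
    (hk : ∀ s : S, θ s = 1 ↔ (s : Ω) ∈ T) (hT : F.StronglyClosed T)
    (hf : IsMor F (preimageAlong θ P') f) :
    ∃ φ' : P' →* Ω', Induces θ (preimageAlong θ P') f (extFun φ') := by
  classical
  choose s hs hse using fun y : P' => exists_qfun_eq hr hP' y.2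
  have hwd : ∀ {x y : Ω}, x ∈ preimageAlong θ P' → y ∈ preimageAlong θ P' → qfun θ x = qfun θ y →
      qfun θ (f x) = qfun θ (f y) := by
    intro x y hx hy h
    rw [qfun_eq_iff hk (preimageAlong_le hx) (preimageAlong_le hy)] at h
    rw [qfun_eq_iff hk (hf.mem hx) (hf.mem hy), ← hf.map_inv hx,
      ← hf.map_mul (Subgroup.inv_mem _ hx) hy]
    exact stronglyClosed_apply hT hf (Subgroup.mul_mem _ (Subgroup.inv_mem _ hx) hy) h
  refine ⟨MonoidHom.mk' (fun y => qfun θ (f (s y))) fun y z => ?_, fun x hx => ?_⟩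
  · rw [← qfun_mul θ (hf.mem (hs y)) (hf.mem (hs z)), ← hf.map_mul (hs y) (hs z)]
    refine hwd (hs _) (Subgroup.mul_mem _ (hs y) (hs z)) ?_
    rw [hse, qfun_mul θ (preimageAlong_le (hs y)) (preimageAlong_le (hs z)), hse, hse]
    rfl
  · have hm := (mem_preimageAlong.1 hx).2
    rw [extFun_apply _ hm]
    exact hwd (hs _) hx (hse ⟨_, hm⟩)

section Iff

variable (hE : F.IsFactorSystem T θ E)
include hE

theorem IsMor.factor_lift {f' : Ω' → Ω'} (h : IsMor E P' f') :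
    P' ≤ S' ∧ ∃ f, IsMor F (preimageAlong θ P') f ∧ Induces θ (preimageAlong θ P') f f' := by
  obtain ⟨φ', hφ', he⟩ := h
  obtain ⟨hP', φ, hφ, hi⟩ := (hE.2.2.2 P' φ').1 hφ'
  obtain ⟨-, -, hm, hi⟩ := inducedAlong_iff.1 hi
  refine ⟨hP', extFun φ, isMor_extFun hφ, fun x hx => ?_⟩
  rw [← hi x hx, extFun_apply φ' (hm x hx)]
  exact (he ⟨qfun θ x, hm x hx⟩).symm

theorem factor_push (hT : F.StronglyClosed T) (hP' : P' ≤ S') (hf : IsMor F (preimageAlong θ P') f) :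
    ∃ f', IsMor E P' f' ∧ Induces θ (preimageAlong θ P') f f' := by
  obtain ⟨φ', hi⟩ := exists_induced hE.2.2.1 hP' hE.2.1 hT hf
  obtain ⟨φ, hφ, he⟩ := id hf
  refine ⟨extFun φ', isMor_extFun ((hE.2.2.2 P' φ').2 ⟨hP', φ, hφ, inducedAlong_iff.2
    ⟨preimageAlong_le, (F.le_of_mem hφ).2, fun x hx => (mem_preimageAlong.1 hx).2, fun x hx => ?_⟩⟩), hi⟩
  rw [hi x hx, extFun_apply φ hx, he]

end Iff

theorem factor_isMor_of {p : ℕ} [Finite S] [Fact p.Prime] (hS : IsPGroup p S) (hF : F.IsSaturated p)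
    (hT : F.StronglyClosed T) (hE : F.IsFactorSystem T θ E) (hf : IsMor F P f) :
    ∃ f', IsMor E (imageAlong θ P) f' ∧ Induces θ P f f' := by
  obtain ⟨k, hk, hke⟩ := exists_modExt hS hF hT hf
  rw [← preimage_imageAlong hE.1 hE.2.1 hf.le] at hk
  obtain ⟨f', hf', hi⟩ := factor_push hE hT (imageAlong_le hE.2.2.1) hk
  refine ⟨f', hf', fun x hx => ?_⟩
  have hx' : x ∈ preimageAlong θ (imageAlong θ P) :=
    mem_preimageAlong.2 ⟨hf.le hx, imageAlong_mem hf.le hx⟩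
  rw [hi x hx', eq_comm, qfun_eq_iff hE.2.1 (hf.mem hx) (hk.mem hx')]
  exact hke x hx

theorem factor_surjective {p : ℕ} [Finite S] [Fact p.Prime] (hS : IsPGroup p S) (hF : F.IsSaturated p)
    (hT : F.StronglyClosed T) (hE : F.IsFactorSystem T θ E) : F.IsSurjectiveMorphism E θ := by
  refine ⟨⟨fun s => hE.2.2.1 ▸ ⟨s, rfl⟩, fun P φ hφ => ?_⟩, hE.2.2.1,
    fun P' _ φ' hφ' => ((hE.2.2.2 P' φ').1 hφ').2⟩
  obtain ⟨f', hf', hi⟩ := factor_isMor_of hS hF hT hE (isMor_extFun hφ)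
  obtain ⟨φ', hφ', he⟩ := hf'
  refine ⟨φ', hφ', inducedAlong_iff.2 ⟨(F.le_of_mem hφ).1, (F.le_of_mem hφ).2,
    fun x hx => imageAlong_mem (F.le_of_mem hφ).1 hx, fun x hx => ?_⟩⟩
  rw [← hi x hx, extFun_apply φ' (imageAlong_mem (F.le_of_mem hφ).1 hx)]
  exact he _

section Exists

variable [Finite S] (hk : ∀ s : S, θ s = 1 ↔ (s : Ω) ∈ T) (hr : θ.range = S') (hT : F.StronglyClosed T)

theorem induces_le {φ : preimageAlong θ P' →* Ω} (hφ : φ ∈ F.Hom _) {φ' : P' →* Ω'}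
    (h : Induces θ (preimageAlong θ P') (extFun φ) (extFun φ')) (hr : θ.range = S') (hP' : P' ≤ S')
    (y : P') : ∃ x : preimageAlong θ P', qfun θ x = y ∧ φ' y = qfun θ (φ x) := by
  obtain ⟨x, hx, hxy⟩ := exists_qfun_eq hr hP' y.2
  refine ⟨⟨x, hx⟩, hxy, ?_⟩
  have := h x hx
  rw [hxy, extFun_apply φ' y.2, extFun_apply φ hx] at this
  exact this

include hk hr hT

/-- The factor system exists whenever the subgroup is strongly closed. -/
theorem exists_factor : ∃ E : FusionSystem S', F.IsFactorSystem T θ E := by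
  refine ⟨
    { Hom := fun P' => {φ' | P' ≤ S' ∧ ∃ φ ∈ F.Hom (preimageAlong θ P'), InducedAlong θ φ φ'}
      le_of_mem := ?_, injective_of_mem := ?_, conj_mem := ?_, comp_mem := ?_, inv_mem := ?_ },
    hT.1, hk, hr, fun _ _ => Iff.rfl⟩
  · rintro P' φ' ⟨hP', φ, hφ, hi⟩
    refine ⟨hP', fun y => ?_⟩
    obtain ⟨x, -, he⟩ := induces_le hφ (inducedAlong_iff.1 hi).2.2.2 hr hP' y
    exact he ▸ qfun_mem_range hr ((F.le_of_mem hφ).2 x)
  · rintro P' φ' ⟨hP', φ, hφ, hi⟩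
    rw [← MonoidHom.ker_eq_bot_iff, eq_bot_iff]
    intro y hy
    obtain ⟨x, hxy, he⟩ := induces_le hφ (inducedAlong_iff.1 hi).2.2.2 hr hP' y
    have hm := isMor_extFun hφ
    have hTi := stronglyClosed_isIso hT hm (le_preimageAlong hT.1 hk)
    have h1 : φ x ∈ T := by
      refine (hk ⟨φ x, (F.le_of_mem hφ).2 x⟩).1 ?_
      rw [← qfun_apply θ ((F.le_of_mem hφ).2 x), ← he]
      exact hy
    obtain ⟨t, ht, hte⟩ := hTi.exists_apply h1
    rw [← extFun_coe φ x] at hte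
    have hxt := hm.injOn (le_preimageAlong hT.1 hk ht) x.2 hte
    refine Subgroup.mem_bot.2 (Subtype.ext ?_)
    rw [← hxy, ← hxt, qfun_apply θ (hT.1 ht)]
    exact (hk _).2 ht
  · intro P' a hP' ha
    obtain ⟨s, rfl⟩ : a ∈ θ.range := hr.symm ▸ ha
    refine ⟨hP', _, F.conj_mem preimageAlong_le s.2, inducedAlong_iff.2
      ⟨preimageAlong_le, (F.le_of_mem (F.conj_mem preimageAlong_le s.2)).2,
        fun x hx => (mem_preimageAlong.1 hx).2, fun x hx => ?_⟩⟩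
    rw [extFun_apply _ (mem_preimageAlong.1 hx).2, extFun_apply _ hx, conjHom_apply, conjHom_apply,
      qfun_mul θ (S.mul_mem s.2 (preimageAlong_le hx)) (S.inv_mem s.2),
      qfun_mul θ s.2 (preimageAlong_le hx), qfun_inv θ s.2, qfun_coe]
  · rintro P' Q' φ' ψ' ⟨hP', φ, hφ, hi⟩ ⟨-, ψ, hψ, hj⟩ h
    have hi' := (inducedAlong_iff.1 hi).2.2.2
    have hj' := (inducedAlong_iff.1 hj).2.2.2
    have hm : ∀ x : preimageAlong θ P', φ x ∈ preimageAlong θ Q' := fun x => by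
      refine mem_preimageAlong.2 ⟨(F.le_of_mem hφ).2 x, ?_⟩
      rw [← extFun_coe φ x, ← hi' x x.2, extFun_apply φ' (mem_preimageAlong.1 x.2).2]
      exact h _
    refine ⟨hP', _, F.comp_mem hφ hψ hm, inducedAlong_iff.2 ⟨preimageAlong_le,
      (F.le_of_mem (F.comp_mem hφ hψ hm)).2, fun x hx => (mem_preimageAlong.1 hx).2, fun x hx => ?_⟩⟩
    have hy := (mem_preimageAlong.1 hx).2
    rw [extFun_apply _ hy, extFun_apply _ hx]
    have h1 := hi' x hx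
    have h2 := hj' _ (hm ⟨x, hx⟩)
    rw [extFun_apply φ' hy, extFun_apply φ hx] at h1
    rw [← h1, extFun_apply ψ' (h1 ▸ h ⟨_, hy⟩), extFun_apply ψ (hm ⟨x, hx⟩)] at h2
    exact h2
  · rintro P' φ' ⟨hP', φ, hφ, hi⟩
    have hi' := (inducedAlong_iff.1 hi).2.2.2
    have hm := isMor_extFun hφ
    have hR : φ'.range ≤ S' := by
      rintro _ ⟨y, rfl⟩
      obtain ⟨x, -, he⟩ := induces_le hφ hi' hr hP' y
      exact he ▸ qfun_mem_range hr ((F.le_of_mem hφ).2 x)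
    obtain ⟨g, hg, hgl, -⟩ := hm.isIso.exists_symm
    have hle : preimageAlong θ φ'.range ≤ hm.image _ le_rfl := by
      intro z hz
      obtain ⟨hzS, y, hy⟩ := mem_preimageAlong.1 hz
      obtain ⟨x, -, he⟩ := induces_le hφ hi' hr hP' y
      rw [he, qfun_eq_iff hk ((F.le_of_mem hφ).2 x) hzS] at hy
      have : z = φ x * ((φ x)⁻¹ * z) := by group
      rw [this]
      refine Subgroup.mul_mem _ ⟨x, x.2, extFun_coe φ x⟩ ?_
      obtain ⟨t, ht, hte⟩ := (stronglyClosed_isIso hT hm (le_preimageAlong hT.1 hk)).exists_apply hy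
      exact ⟨t, le_preimageAlong hT.1 hk ht, hte⟩
    obtain ⟨ψ, hψ, hψe⟩ := hg.1.restrict hle
    obtain ⟨ψ', hi2⟩ := exists_induced hr hR hk hT (hg.1.restrict hle)
    refine ⟨ψ', ⟨hR, ψ, hψ, inducedAlong_iff.2 ⟨preimageAlong_le, (F.le_of_mem hψ).2,
      fun x hx => (mem_preimageAlong.1 hx).2, fun x hx => ?_⟩⟩, fun y => ?_⟩
    · rw [hi2 x hx, extFun_apply ψ hx, hψe]
    · obtain ⟨x, hxy, he⟩ := induces_le hφ hi' hr hP' y
      have hmem : φ x ∈ preimageAlong θ φ'.range :=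
        mem_preimageAlong.2 ⟨(F.le_of_mem hφ).2 x, he ▸ ⟨y, rfl⟩⟩
      have h1 := hi2 _ hmem
      rw [extFun_apply ψ' (he ▸ ⟨y, rfl⟩ : qfun θ (φ x) ∈ φ'.range)] at h1
      simp only [← he] at h1
      rw [h1, ← extFun_coe φ x, hgl x x.2, hxy]

end Exists

end Cfsg.Agent.Fusion
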