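import Mathlib
import Cfsg.Agent.Lib.Fusion.FactorSystem
import Cfsg.Agent.Lib.Fusion.GroupSystem

/-!
A factor system of a saturated system is saturated.
-/

set_option autoImplicit false

namespace Cfsg.Agent.Fusion

open Cfsg Cfsg.FusionSystem

variable {Ω : Type*} [Group Ω] {S : Subgroup Ω} {F : FusionSystem S} {P Q R T : Subgroup Ω}
  {f g k : Ω → Ω} {Ω' : Type*} [Group Ω'] {S' : Subgroup Ω'} {θ : S →* Ω'} {P' Q' R' : Subgroup Ω'}
  {E : FusionSystem S'} {p : ℕ}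

theorem image_preimageAlong (hr : θ.range = S') (hP' : P' ≤ S') :
    imageAlong θ (preimageAlong θ P') = P' := by
  refine le_antisymm (fun y hy => ?_) fun y hy => ?_
  · obtain ⟨x, hx, -, rfl⟩ := mem_imageAlong.1 hy
    exact (mem_preimageAlong.1 hx).2
  · obtain ⟨x, hx, rfl⟩ := exists_qfun_eq hr hP' hy
    exact imageAlong_mem preimageAlong_le hx

theorem conj_mem_preimage {a : Ω} (ha : a ∈ S) {x : Ω} (hx : x ∈ S) :
    qfun θ (a * x * a⁻¹) = qfun θ a * qfun θ x * (qfun θ a)⁻¹ := by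
  rw [qfun_mul θ (S.mul_mem ha hx) (S.inv_mem ha), qfun_mul θ ha hx, qfun_inv θ ha]

section Fac

variable [Finite S] [Fact p.Prime] (hS : IsPGroup p S) (hF : F.IsSaturated p)
  (hT : F.StronglyClosed T) (hE : F.IsFactorSystem T θ E)
include hT hE

theorem Induces.isIso (hP' : P' ≤ S') {f' : Ω' → Ω'} (hf' : IsMor E P' f')
    (hi : Induces θ (preimageAlong θ P') f f') (hf : IsIso F (preimageAlong θ P') (preimageAlong θ Q') f)
    (hQ' : Q' ≤ S') : IsIso E P' Q' f' := by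
  refine ⟨hf', fun y => ⟨fun hy => ?_, ?_⟩⟩
  · obtain ⟨z, hz, rfl⟩ := exists_qfun_eq hE.2.2.1 hQ' hy
    obtain ⟨x, hx, rfl⟩ := hf.exists_apply hz
    exact ⟨_, (mem_preimageAlong.1 hx).2, hi x hx⟩
  · rintro ⟨x', hx', rfl⟩
    obtain ⟨x, hx, rfl⟩ := exists_qfun_eq hE.2.2.1 hP' hx'
    rw [hi x hx]
    exact (mem_preimageAlong.1 (hf.apply_mem hx)).2

theorem factor_lift_iso {f' : Ω' → Ω'} (hf' : IsIso E P' Q' f') :
    ∃ f, IsIso F (preimageAlong θ P') (preimageAlong θ Q') f ∧ Induces θ (preimageAlong θ P') f f' := by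
  obtain ⟨hP', f, hf, hi⟩ := hf'.1.factor_lift hE
  refine ⟨f, ⟨hf, fun y => ⟨fun hy => ?_, ?_⟩⟩, hi⟩
  · obtain ⟨hyS, hyQ⟩ := mem_preimageAlong.1 hy
    obtain ⟨x', hx', hxy⟩ := hf'.exists_apply hyQ
    obtain ⟨x, hx, rfl⟩ := exists_qfun_eq hE.2.2.1 hP' hx'
    rw [hi x hx, qfun_eq_iff hE.2.1 (hf.mem hx) hyS] at hxy
    obtain ⟨t, ht, hte⟩ := (stronglyClosed_isIso hT hf (le_preimageAlong hT.1 hE.2.1)).exists_apply hxy
    refine ⟨x * t, Subgroup.mul_mem _ hx (le_preimageAlong hT.1 hE.2.1 ht), ?_⟩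
    rw [hf.map_mul hx (le_preimageAlong hT.1 hE.2.1 ht), hte, mul_inv_cancel_left]
  · rintro ⟨x, hx, rfl⟩
    refine mem_preimageAlong.2 ⟨hf.mem hx, ?_⟩
    rw [← hi x hx]
    exact hf'.apply_mem (mem_preimageAlong.1 hx).2

theorem factor_autHom (hQ' : Q' ≤ S') :
    ∃ ρ : F.autGroup (preimageAlong θ Q') →* E.autGroup Q', Function.Surjective ρ ∧
      ∀ α : F.autGroup (preimageAlong θ Q'),
        Induces θ (preimageAlong θ Q') (autFun (α : MulAut (preimageAlong θ Q'))) (autFun (ρ α : MulAut Q')) := by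
  have hex : ∀ α : F.autGroup (preimageAlong θ Q'), ∃ β : E.autGroup Q',
      Induces θ (preimageAlong θ Q') (autFun (α : MulAut (preimageAlong θ Q'))) (autFun (β : MulAut Q')) := by
    intro α
    have hm := isMor_of_mem_autGroup preimageAlong_le α.2
    obtain ⟨f', hf', hi⟩ := factor_push hE hT hQ' hm
    have hi' := hi.isIso hT hE hQ' hf' (hm.isIso_self fun x hx => autFun_mem _ hx) hQ'
    refine ⟨⟨autOf hi', autOf_mem hi'⟩, fun x hx => ?_⟩
    rw [autFun_apply _ (mem_preimageAlong.1 hx).2, autOf_apply]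
    exact hi x hx
  choose ρ hρ using hex
  have : Finite S' := hE.2.2.1 ▸ Finite.of_surjective _ θ.rangeRestrict_surjective
  have huniq : ∀ α (β : E.autGroup Q'),
      Induces θ (preimageAlong θ Q') (autFun (α : MulAut (preimageAlong θ Q'))) (autFun (β : MulAut Q')) →
      ∀ h : α ∈ F.autGroup _, ρ ⟨α, h⟩ = β := by
    intro α β hβ h
    refine Subtype.ext (MulEquiv.ext fun y => Subtype.ext ?_)
    obtain ⟨x, hx, hxy⟩ := exists_qfun_eq hE.2.2.1 hQ' y.2
    have h1 := hρ ⟨α, h⟩ x hx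
    rw [← hβ x hx, hxy, autFun_coe, autFun_coe] at h1
    exact h1
  refine ⟨MonoidHom.mk' ρ fun α β => huniq (↑(α * β)) (ρ α * ρ β) (fun x hx => ?_) (α * β).2, ?_, hρ⟩
  · rw [Subgroup.coe_mul, Subgroup.coe_mul, autFun_mul _ _ (mem_preimageAlong.1 hx).2, hρ β x hx,
      autFun_mul _ _ hx, hρ α _ (autFun_mem _ hx)]
  · intro β
    have hm := isMor_of_mem_autGroup hQ' β.2
    obtain ⟨f, hf, hi⟩ := factor_lift_iso hT hE (hm.isIso_self fun x hx => autFun_mem _ hx)
    · refine ⟨⟨autOf hf, autOf_mem hf⟩, huniq _ β (fun x hx => ?_) _⟩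
      rw [autFun_apply (autOf hf) hx, autOf_apply]
      exact hi x hx

omit [Finite S] in
theorem map_autInducedBy {Q' : Subgroup Ω'} (hQ' : Q' ≤ S')
    (ρ : F.autGroup (preimageAlong θ Q') →* E.autGroup Q')
    (hρ : ∀ α : F.autGroup (preimageAlong θ Q'),
        Induces θ (preimageAlong θ Q') (autFun (α : MulAut (preimageAlong θ Q'))) (autFun (ρ α : MulAut Q'))) :
    ((autInducedBy S (preimageAlong θ Q')).subgroupOf _).map ρ =
      (autInducedBy S' Q').subgroupOf _ := by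
  have hr := hE.2.2.1
  ext β
  constructor
  · rintro ⟨α, hα, rfl⟩
    obtain ⟨a, ha, han, hax⟩ := mem_autInducedBy.1 hα
    simp only [Subgroup.subtype_apply] at hax
    refine mem_autInducedBy.2 ⟨qfun θ a, qfun_mem_range hr ha, ?_, fun y => ?_⟩
    · refine Subgroup.mem_normalizer_iff.2 fun y => ⟨fun hy => ?_, fun hy => ?_⟩
      · obtain ⟨x, hx, rfl⟩ := exists_qfun_eq hr hQ' hy
        rw [← conj_mem_preimage ha (preimageAlong_le hx)]
        exact (mem_preimageAlong.1 ((Subgroup.mem_normalizer_iff.1 han x).1 hx)).2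
      · obtain ⟨x, hx, hxe⟩ := exists_qfun_eq hr hQ' hy
        have h1 : a⁻¹ * x * a ∈ preimageAlong θ Q' := by
          refine (Subgroup.mem_normalizer_iff.1 han _).2 ?_
          rwa [show a * (a⁻¹ * x * a) * a⁻¹ = x by group]
        have h2 := conj_mem_preimage (θ := θ) (S.inv_mem ha) (preimageAlong_le hx)
        rw [inv_inv, qfun_inv θ ha, hxe] at h2
        have := (mem_preimageAlong.1 h1).2
        rw [h2] at this
        simpa [mul_assoc] using this
    · obtain ⟨x, hx, hxy⟩ := exists_qfun_eq hr hQ' y.2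
      have h1 := hρ α x hx
      rw [hxy, autFun_coe, autFun_apply _ hx, hax] at h1
      rw [← hxy]
      exact h1.trans (conj_mem_preimage ha (preimageAlong_le hx))
  · intro hβ
    obtain ⟨b, hb, hbn, hbx⟩ := mem_autInducedBy.1 hβ
    simp only [Subgroup.subtype_apply] at hbx
    obtain ⟨a, ha⟩ : b ∈ θ.range := hr.symm ▸ hb
    have hab : qfun θ (a : Ω) = b := (qfun_coe θ a).trans ha
    have hcj : ∀ x ∈ preimageAlong θ Q', (a : Ω) * x * (a : Ω)⁻¹ ∈ preimageAlong θ Q' := fun x hx => by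
      refine mem_preimageAlong.2 ⟨S.mul_mem (S.mul_mem a.2 (preimageAlong_le hx)) (S.inv_mem a.2), ?_⟩
      rw [conj_mem_preimage a.2 (preimageAlong_le hx), hab]
      exact conj_mem_of_mem_normalizer hbn (mem_preimageAlong.1 hx).2
    have hna : (a : Ω) ∈ Subgroup.normalizer (preimageAlong θ Q' : Set Ω) := by
      refine Subgroup.mem_normalizer_iff.2 fun x => ⟨hcj x, fun h => ?_⟩
      have hxS : x ∈ S := by
        have := S.mul_mem (S.mul_mem (S.inv_mem a.2) (preimageAlong_le h)) a.2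
        simpa [mul_assoc] using this
      refine mem_preimageAlong.2 ⟨hxS, (Subgroup.mem_normalizer_iff.1 hbn _).2 ?_⟩
      rw [← hab, ← conj_mem_preimage a.2 hxS]
      exact (mem_preimageAlong.1 h).2
    let γ : MulAut (preimageAlong θ Q') := Subgroup.normalizerMonoidHom _ ⟨(a : Ω), hna⟩
    have hγ : γ ∈ autInducedBy S (preimageAlong θ Q') :=
      mem_autInducedBy.2 ⟨a, a.2, hna, fun x => rfl⟩
    refine ⟨⟨γ, autInducedBy_le_autGroup preimageAlong_le hγ⟩, hγ,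
      Subtype.ext (MulEquiv.ext fun y => Subtype.ext ?_)⟩
    obtain ⟨x, hx, hxy⟩ := exists_qfun_eq hr hQ' y.2
    have h1 := hρ ⟨γ, autInducedBy_le_autGroup preimageAlong_le hγ⟩ x hx
    rw [hxy, autFun_coe, autFun_apply _ hx] at h1
    rw [h1, hbx, ← hxy]
    show qfun θ ((a : Ω) * x * (a : Ω)⁻¹) = _
    rw [conj_mem_preimage a.2 (preimageAlong_le hx), hab]

include hS hF

theorem factor_receptive (hQ' : Q' ≤ S') (hA : F.IsFullyAutomized p (preimageAlong θ Q'))
    (hR : F.IsReceptive (preimageAlong θ Q')) : E.IsReceptive Q' := by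
  have hr := hE.2.2.1
  refine isReceptive_intro hQ' fun P' R' f' hf' hPR' hR' => ?_
  have hP' : P' ≤ S' := hf'.le
  obtain ⟨f, hf, hi⟩ := factor_lift_iso hT hE hf'
  set P := preimageAlong θ P' with hP
  set Q := preimageAlong θ Q' with hQ
  set R := preimageAlong θ R' with hRd
  obtain ⟨ρ, -, hρ⟩ := factor_autHom hT hE hQ'
  have hmap := map_autInducedBy hT hE hQ' ρ hρ
  have := finite_autGroup (F := F) (preimageAlong_le (θ := θ) (P' := Q'))
  rw [← hQ] at this
  obtain ⟨Sy, hSy⟩ := hA.2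
  have hPR : P ≤ R := fun x hx =>
    mem_preimageAlong.2 ⟨preimageAlong_le hx, hPR' (mem_preimageAlong.1 hx).2⟩
  have hnorm : ∀ a ∈ R, a ∈ Subgroup.normalizer (P : Set Ω) := by
    intro a ha
    refine mem_normalizer_of_conj_mem preimageAlong_le fun x hx => ?_
    obtain ⟨haS, haR⟩ := mem_preimageAlong.1 ha
    refine mem_preimageAlong.2 ⟨S.mul_mem (S.mul_mem haS (preimageAlong_le hx)) (S.inv_mem haS), ?_⟩
    rw [conj_mem_preimage haS (preimageAlong_le hx)]
    exact conj_mem_of_mem_normalizer (hR' _ haR).2.1 (mem_preimageAlong.1 hx).2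
  let e : P ≃* Q := MulEquiv.ofBijective
    (MonoidHom.mk' (fun x : P => (⟨f x, hf.apply_mem x.2⟩ : Q))
      fun u v => Subtype.ext (hf.1.map_mul u.2 v.2))
    ⟨fun u v huv => Subtype.ext (hf.1.injOn u.2 v.2 (congrArg Subtype.val huv)), fun y => by
      obtain ⟨x, hx, hxy⟩ := hf.exists_apply y.2
      exact ⟨⟨x, hx⟩, Subtype.ext hxy⟩⟩
  have he : ∀ x : P, ((e x : Q) : Ω) = f x := fun _ => rfl
  set U : Subgroup (MulAut Q) := (autInducedBy R P).map (MulAut.congr e).toMonoidHom with hU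
  have hUp : IsPGroup p U :=
    ((isPGroup_autInducedBy hS P).to_le (autInducedBy_mono preimageAlong_le)).map _
  have hUA : U ≤ F.autGroup Q := by
    rintro _ ⟨α, hα, rfl⟩
    obtain ⟨g, hg, hgf, hfg⟩ := hf.exists_symm
    obtain ⟨a, ha, -, hax⟩ := mem_autInducedBy.1 hα
    refine mem_autGroup_of_isMor ((hg.1.comp (isMor_conj (F := F) (P := P) preimageAlong_le
      (preimageAlong_le ha)) fun x hx => hg.apply_mem hx).comp hf.1 fun x hx => ?_) fun y => ?_
    · exact conj_mem_of_mem_normalizer (hnorm a ha) (hg.apply_mem hx)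
    · show ((e (α (e.symm y)) : Q) : Ω) = f (a * g y * a⁻¹)
      rw [he, hax]
      congr 3
      obtain ⟨x, rfl⟩ := e.surjective y
      rw [e.symm_apply_apply, he, hgf x x.2]
  set K := ρ.ker
  set M := (Sy : Subgroup (F.autGroup Q)) ⊔ K
  have hUM : U.subgroupOf (F.autGroup Q) ≤ M := by
    rintro ⟨u, hu⟩ ⟨α, hα, hαu⟩
    obtain ⟨a, ha, -, hax⟩ := mem_autInducedBy.1 hα
    obtain ⟨haS, haR⟩ := mem_preimageAlong.1 ha
    obtain ⟨b, hb, hbe⟩ := (hR' _ haR).2.2
    have hm : ρ ⟨u, hu⟩ ∈ ((autInducedBy S Q).subgroupOf _).map ρ := by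
      rw [hmap]
      have key : ∀ y : Q', ((ρ ⟨u, hu⟩ : MulAut Q') y : Ω') = b * y * b⁻¹ := by
        intro y
        obtain ⟨z, hz, hzy⟩ := exists_qfun_eq hr hQ' y.2
        have h1 := hρ ⟨u, hu⟩ z hz
        rw [hzy, autFun_coe, autFun_apply _ hz] at h1
        obtain ⟨⟨x, hx⟩, hxz⟩ := e.surjective ⟨z, hz⟩
        have hαu' : MulAut.congr e α = u := hαu
        have h2 : ((u ⟨z, hz⟩ : Q) : Ω) = f (a * x * a⁻¹) := by
          rw [← hαu', ← hxz]
          show ((e (α (e.symm (e ⟨x, hx⟩))) : Q) : Ω) = _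
          rw [e.symm_apply_apply, he, hax]
        have hxP := conj_mem_of_mem_normalizer (hnorm a ha) hx
        rw [h1]
        rw [show ((⟨u, hu⟩ : F.autGroup Q) : MulAut Q) = u from rfl, h2, ← hi _ hxP,
          conj_mem_preimage haS (preimageAlong_le hx), hbe _ (mem_preimageAlong.1 hx).2, hi x hx]
        have hz' : f x = z := congrArg Subtype.val hxz
        rw [hz', hzy]
      refine mem_autInducedBy.2 ⟨b, hb, ?_, key⟩
      refine Subgroup.mem_normalizer_iff.2 fun y => ⟨fun hy => key ⟨y, hy⟩ ▸ Subtype.prop _, fun hy => ?_⟩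
      obtain ⟨w, hw⟩ := ((ρ ⟨u, hu⟩ : E.autGroup Q') : MulAut Q').surjective ⟨_, hy⟩
      have h3 := key w
      rw [hw] at h3
      have : (w : Ω') = y := by simpa using h3.symm
      exact this ▸ w.2
    obtain ⟨γ, hγ, hγe⟩ := hm
    have : (⟨u, hu⟩ : F.autGroup Q) = γ * (γ⁻¹ * ⟨u, hu⟩) := by group
    rw [this]
    refine Subgroup.mul_mem_sup (hSy ▸ hγ) (MonoidHom.mem_ker.2 ?_)
    rw [map_mul, map_inv, hγe, inv_mul_cancel]
  have hmax : IsMaxP p (Sy : Subgroup (F.autGroup Q)) M := by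
    refine ⟨le_sup_left, Sy.isPGroup', fun V _ hV => ?_⟩
    obtain ⟨c, hc⟩ := Fusion.exists_conj_le_sylow Sy hV
    rw [← card_map_conj c V]
    exact Nat.card_le_card_of_injective (Subgroup.inclusion hc) (Subgroup.inclusion_injective _)
  obtain ⟨m, hm, hmle⟩ := hmax.exists_conj_le hUM
    (hUp.of_equiv (Subgroup.subgroupOfEquivOfLe hUA).symm)
  have hKn : K.Normal := MonoidHom.normal_ker ρ
  obtain ⟨σ, hσ, κ, hκ, rfl⟩ := Subgroup.mem_sup_of_normal_right.1 hm
  have hκf : IsIso F Q Q (autFun (κ : MulAut Q)) :=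
    (isMor_of_mem_autGroup preimageAlong_le κ.2).isIso_self fun x hx => autFun_mem _ hx
  have hext : ∀ a ∈ R, ExtCond S P (autFun (κ : MulAut Q) ∘ f) a := by
    intro a ha
    obtain ⟨haS, haR⟩ := mem_preimageAlong.1 ha
    have hα : (P.normalizerMonoidHom ⟨a, hnorm a ha⟩) ∈ autInducedBy R P :=
      mem_autInducedBy.2 ⟨a, ha, hnorm a ha, fun _ => rfl⟩
    have hu : (MulAut.congr e) (P.normalizerMonoidHom ⟨a, hnorm a ha⟩) ∈ U := ⟨_, hα, rfl⟩
    set u : F.autGroup Q := ⟨_, hUA hu⟩ with hud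
    have h1 : σ * κ * u * (σ * κ)⁻¹ ∈ (Sy : Subgroup (F.autGroup Q)) := hmle ⟨u, hu, rfl⟩
    have h2 : κ * u * κ⁻¹ ∈ (Sy : Subgroup (F.autGroup Q)) := by
      have := mul_mem (mul_mem (inv_mem hσ) h1) hσ
      rwa [show σ⁻¹ * (σ * κ * u * (σ * κ)⁻¹) * σ = κ * u * κ⁻¹ by group] at this
    rw [hSy] at h2
    obtain ⟨s, hs, -, hsx⟩ := mem_autInducedBy.1 h2
    refine ⟨haS, hnorm a ha, s, hs, fun x hx => ?_⟩
    have hxP := conj_mem_of_mem_normalizer (hnorm a ha) hx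
    have h3 := hsx ((κ : MulAut Q) (e ⟨x, hx⟩))
    simp only [Function.comp_apply]
    rw [autFun_apply _ (hf.apply_mem hxP), autFun_apply _ (hf.apply_mem hx)]
    have e1 : (⟨f x, hf.apply_mem hx⟩ : Q) = e ⟨x, hx⟩ := rfl
    rw [e1, ← h3]
    simp only [hud, Subgroup.subtype_apply, Subgroup.coe_mul, Subgroup.coe_inv, MulAut.mul_apply, MulAut.inv_apply_self]
    congr 2
    show _ = e (P.normalizerMonoidHom ⟨a, hnorm a ha⟩ (e.symm (e ⟨x, hx⟩)))
    rw [e.symm_apply_apply]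
    rfl
  obtain ⟨g, hg, hge⟩ := exists_extension hR (hf.trans hκf) hext
  obtain ⟨g', hg', hgi⟩ := factor_push hE hT (fun y hy => (hR' y hy).1) hg
  refine ⟨g', hg', fun y hy => ?_⟩
  obtain ⟨x, hx, rfl⟩ := exists_qfun_eq hr hP' hy
  have hκ1 : ρ κ = 1 := hκ
  rw [hgi x (hPR hx), hge x hx (hPR hx), Function.comp_apply, ← hρ κ _ (hf.apply_mem hx), hκ1,
    Subgroup.coe_one, autFun_one (mem_preimageAlong.1 (hf.apply_mem hx)).2, hi x hx]

/-- A factor system of a saturated system is saturated. -/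
theorem factor_saturated : E.IsSaturated p := by
  intro P' hP'
  have hr := hE.2.2.1
  have hTP := le_preimageAlong (θ := θ) (P' := P') hT.1 hE.2.1
  obtain ⟨Q, hc, hQn⟩ := exists_fullyNormalized (F := F) (preimageAlong_le (θ := θ) (P' := P'))
  obtain ⟨hA, hR⟩ := fullyNormalized_receptive hS hF hQn
  obtain ⟨f, hf⟩ := isConj_iff_exists_isIso.1 hc
  set Q' := imageAlong θ Q with hQ'
  have hpre : preimageAlong θ Q' = Q := by
    rw [hQ', preimage_imageAlong hT.1 hE.2.1 hf.le', sup_eq_left]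
    intro y hy
    obtain ⟨x, hx, rfl⟩ := (stronglyClosed_isIso hT hf.1 hTP).exists_apply hy
    exact hf.apply_mem (hTP hx)
  have hQS : Q' ≤ S' := imageAlong_le hr
  rw [← hpre] at hA hR hf
  obtain ⟨f', hf', hi⟩ := factor_push hE hT hP' hf.1
  refine ⟨Q', (hi.isIso hT hE hP' hf' hf hQS).isConj, ?_, factor_receptive hS hF hT hE hQS hA hR⟩
  obtain ⟨ρ, hρs, hρ⟩ := factor_autHom hT hE hQS
  have hmap := map_autInducedBy hT hE hQS ρ hρ
  have := finite_autGroup (F := F) (preimageAlong_le (θ := θ) (P' := Q'))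
  obtain ⟨Sy, hSy⟩ := hA.2
  exact ⟨hQS, Sy.mapSurjective hρs, by rw [Sylow.coe_mapSurjective, hSy, hmap]⟩

end Fac

/-- A surjective morphism reads as a factor system modulo its kernel. -/
theorem isFactorSystem_of_surjective [Finite S] {F' : FusionSystem S'} {α : S →* Ω'}
    (hα : F.IsSurjectiveMorphism F' α) :
    F.StronglyClosed (α.ker.map S.subtype) ∧ F.IsFactorSystem (α.ker.map S.subtype) α F' := by
  obtain ⟨hm, hr, hs⟩ := hα
  have hk : ∀ s : S, α s = 1 ↔ (s : Ω) ∈ α.ker.map S.subtype := fun s =>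
    ⟨fun h => ⟨s, h, rfl⟩, by rintro ⟨t, ht, hts⟩; rw [← Subtype.ext hts]; exact ht⟩
  refine ⟨⟨Subgroup.map_subtype_le _, fun R hR φ hφ x => ?_⟩, Subgroup.map_subtype_le _, hk, hr, fun P' φ' => ?_⟩
  · obtain ⟨φ', -, hi⟩ := hm.2 R φ hφ
    obtain ⟨hR', hv, -, hi⟩ := inducedAlong_iff.1 hi
    refine (hk ⟨φ x, hv x⟩).1 ?_
    have h1 : qfun α (x : Ω) = 1 :=
      (qfun_apply α (hR' x.2)).trans ((hk _).2 (hR x.2))
    have h2 := hi x x.2
    rw [h1, extFun_apply φ' (Subgroup.one_mem _), extFun_coe, qfun_apply α (hv x)] at h2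
    rw [← h2]
    exact map_one φ'
  · refine ⟨fun h => ⟨(F'.le_of_mem h).1, hs P' (F'.le_of_mem h).1 φ' h⟩, ?_⟩
    rintro ⟨hP', φ, hφ, hi⟩
    obtain ⟨φ'', h'', hi'⟩ := hm.2 _ φ hφ
    refine mem_hom_of_isMor (f := extFun φ'') ?_ fun y => ?_
    · have := isMor_extFun h''
      exact this.restrict (image_preimageAlong hr hP').ge
    · obtain ⟨x, hx, hxy⟩ := exists_qfun_eq hr hP' y.2
      have h1 := (inducedAlong_iff.1 hi).2.2.2 x hx
      have h2 := (inducedAlong_iff.1 hi').2.2.2 x hx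
      rw [hxy] at h1 h2
      rw [← extFun_coe φ' y, h1, h2]

end Cfsg.Agent.Fusion
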