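import Mathlib
import Cfsg.Agent.Lib.Fusion.FactorSat
import Cfsg.Agent.Lib.Solv.NormalPComplement

/-!
The hyperfocal subgroup of a factor system; the centre of a factor system.
-/

set_option autoImplicit false

namespace Cfsg.Agent.Fusion

open Cfsg Cfsg.FusionSystem

variable {Ω : Type*} [Group Ω] {S : Subgroup Ω} {F : FusionSystem S} {P Q R T : Subgroup Ω}
  {f g k : Ω → Ω} {Ω' : Type*} [Group Ω'] {S' : Subgroup Ω'} {θ : S →* Ω'} {P' Q' R' : Subgroup Ω'}
  {E : FusionSystem S'} {p : ℕ}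

theorem map_pResidual_le {G H : Type*} [Group G] [Group H] (f : G →* H) :
    (pResidual p G).map f ≤ pResidual p H := by
  rw [pResidual, MonoidHom.map_closure]
  refine Subgroup.closure_mono ?_
  rintro _ ⟨g, hg, rfl⟩
  exact hg.coprime_dvd_left (orderOf_map_dvd f g)

theorem map_pResidual_eq {G H : Type*} [Group G] [Group H] [Finite G] [Fact p.Prime] {f : G →* H}
    (hf : Function.Surjective f) : (pResidual p G).map f = pResidual p H := by
  have : Finite H := Finite.of_surjective f hf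
  refine le_antisymm (map_pResidual_le f) ?_
  have hn : (pResidual p G).Normal := inferInstance
  have := hn.map f hf
  refine Solv.pResidual_le_of_index _ ?_
  obtain ⟨k, hk⟩ := Solv.exists_pResidual_index (p := p) (G := G)
  obtain ⟨i, -, hi⟩ := (Nat.dvd_prime_pow (Fact.out : p.Prime)).mp
    (hk ▸ Subgroup.index_map_dvd (pResidual p G) hf)
  exact ⟨i, hi⟩

section Fac

variable [Finite S] [Fact p.Prime] (hS : IsPGroup p S) (hF : F.IsSaturated p)
  (hT : F.StronglyClosed T) (hE : F.IsFactorSystem T θ E)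
include hS hF hT hE

theorem factor_autHom_image (hP : P ≤ S) :
    ∃ σ : F.autGroup P →* E.autGroup (imageAlong θ P),
      ∀ α : F.autGroup P, Induces θ P (autFun (α : MulAut P)) (autFun (σ α : MulAut (imageAlong θ P))) := by
  have hr := hE.2.2.1
  have : Finite S' := hr ▸ Finite.of_surjective _ θ.rangeRestrict_surjective
  have hex : ∀ α : F.autGroup P, ∃ β : E.autGroup (imageAlong θ P),
      Induces θ P (autFun (α : MulAut P)) (autFun (β : MulAut (imageAlong θ P))) := by
    intro α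
    obtain ⟨f', hf', hi⟩ := factor_isMor_of hS hF hT hE (isMor_of_mem_autGroup hP α.2)
    have hi' : IsIso E (imageAlong θ P) (imageAlong θ P) f' := hf'.isIso_self fun y hy => by
      obtain ⟨x, hx, -, rfl⟩ := mem_imageAlong.1 hy
      rw [hi x hx]
      exact imageAlong_mem hP (autFun_mem _ hx)
    refine ⟨⟨autOf hi', autOf_mem hi'⟩, fun x hx => ?_⟩
    rw [autFun_apply _ (imageAlong_mem hP hx), autOf_apply]
    exact hi x hx
  choose σ hσ using hex
  refine ⟨MonoidHom.mk' σ fun α β => Subtype.ext (MulEquiv.ext fun y => Subtype.ext ?_), hσ⟩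
  obtain ⟨x, hx, -, hxy⟩ := mem_imageAlong.1 y.2
  have h1 := hσ (α * β) x hx
  have h2 := hσ β x hx
  have h3 := hσ α _ (autFun_mem (β : MulAut P) hx)
  rw [← h2, ← autFun_mul _ _ (imageAlong_mem hP hx), ← Subgroup.coe_mul] at h3
  rw [Subgroup.coe_mul, autFun_mul _ _ hx, ← h3, hxy, autFun_coe, autFun_coe] at h1
  exact h1

/-- The hyperfocal subgroup maps onto that of the factor system. -/
theorem factor_hyperfocal :
    E.hyperfocalSubgroup p = ((F.hyperfocalSubgroup p).subgroupOf S).map θ := by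
  have hr := hE.2.2.1
  apply le_antisymm
  · refine (Subgroup.closure_le _).2 ?_
    rintro _ ⟨P', β, y, hP', hβ, rfl⟩
    have := finite_autGroup (F := F) (preimageAlong_le (θ := θ) (P' := P'))
    obtain ⟨ρ, hρs, hρ⟩ := factor_autHom hT hE hP'
    rw [← map_pResidual_eq hρs] at hβ
    obtain ⟨α, hα, rfl⟩ := hβ
    obtain ⟨x, hx, hxy⟩ := exists_qfun_eq hr hP' y.2
    have hxS := preimageAlong_le hx
    have hm : x⁻¹ * autFun (α : MulAut _) x ∈ F.hyperfocalSubgroup p :=
      Subgroup.subset_closure ⟨_, α, ⟨x, hx⟩, preimageAlong_le, hα, by rw [autFun_apply _ hx]⟩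
    have hmS : x⁻¹ * autFun (α : MulAut _) x ∈ S :=
      S.mul_mem (S.inv_mem hxS) (preimageAlong_le (autFun_mem _ hx))
    refine ⟨⟨_, hmS⟩, hm, ?_⟩
    rw [← qfun_apply θ hmS, qfun_mul θ (S.inv_mem hxS) (preimageAlong_le (autFun_mem _ hx)),
      qfun_inv θ hxS, ← hρ α x hx, hxy, autFun_coe]
  · rw [Subgroup.map_le_iff_le_comap]
    rintro ⟨z, hzS⟩ hz
    have key : ∀ z ∈ F.hyperfocalSubgroup p, z ∈ S ∧ qfun θ z ∈ E.hyperfocalSubgroup p := by
      intro z hz
      induction hz using Subgroup.closure_induction with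
      | mem z hz =>
        obtain ⟨P, α, x, hP, hα, rfl⟩ := hz
        obtain ⟨σ, hσ⟩ := factor_autHom_image hS hF hT hE hP
        refine ⟨S.mul_mem (S.inv_mem (hP x.2)) (hP (SetLike.coe_mem _)), ?_⟩
        rw [qfun_mul θ (S.inv_mem (hP x.2)) (hP (SetLike.coe_mem _)), qfun_inv θ (hP x.2)]
        have h1 := hσ α x x.2
        rw [autFun_coe, autFun_apply _ (imageAlong_mem hP x.2)] at h1
        rw [← h1]
        exact Subgroup.subset_closure ⟨_, σ α, ⟨_, imageAlong_mem hP x.2⟩, imageAlong_le hr,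
          map_pResidual_le σ ⟨α, hα, rfl⟩, rfl⟩
      | one => exact ⟨S.one_mem, by rw [qfun_one]; exact one_mem _⟩
      | mul a b _ _ ha hb => exact ⟨S.mul_mem ha.1 hb.1, by rw [qfun_mul θ ha.1 hb.1]; exact mul_mem ha.2 hb.2⟩
      | inv a _ ha => exact ⟨S.inv_mem ha.1, by rw [qfun_inv θ ha.1]; exact inv_mem ha.2⟩
    show θ ⟨z, hzS⟩ ∈ E.hyperfocalSubgroup p
    exact qfun_apply θ hzS ▸ (key z hz).2

end Fac

end Cfsg.Agent.Fusion
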