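import Mathlib
import Cfsg.Agent.Lib.Fusion.Alperin
import Cfsg.Agent.Lib.Fusion.SubSystem
import Cfsg.Agent.Lib.Solv.NormalPComplement

/-!
The focal and hyperfocal subgroups of a saturated system.
-/

set_option autoImplicit false

open scoped commutatorElement

namespace Cfsg.Agent.Fusion

open Cfsg Cfsg.FusionSystem

variable {Ω : Type*} [Group Ω] {S : Subgroup Ω} {F : FusionSystem S} {P Q R : Subgroup Ω}
  {f g : Ω → Ω} {p : ℕ}

theorem hyperfocal_le (F : FusionSystem S) (p : ℕ) : F.hyperfocalSubgroup p ≤ S := by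
  refine (Subgroup.closure_le _).2 ?_
  rintro _ ⟨P, α, x, hP, -, rfl⟩
  exact S.mul_mem (S.inv_mem (hP x.2)) (hP (SetLike.coe_mem _))

theorem mem_focal_of_isMor (hf : IsMor F P f) {x : Ω} (hx : x ∈ P) :
    x⁻¹ * f x ∈ F.focalSubgroup := by
  obtain ⟨φ, hφ, he⟩ := hf
  exact Subgroup.subset_closure ⟨P, φ, ⟨x, hx⟩, hφ, by rw [he]⟩

theorem focal_le (F : FusionSystem S) : F.focalSubgroup ≤ S := by
  refine (Subgroup.closure_le _).2 ?_
  rintro _ ⟨P, φ, x, hφ, rfl⟩
  exact S.mul_mem (S.inv_mem ((F.le_of_mem hφ).1 x.2)) ((F.le_of_mem hφ).2 x)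

theorem commutator_le_focal : ⁅S, S⁆ ≤ F.focalSubgroup := by
  refine Subgroup.commutator_le.2 fun a ha b hb => ?_
  have := mem_focal_of_isMor (isMor_conj (F := F) (P := S) le_rfl hb) (x := a⁻¹) (S.inv_mem ha)
  simpa [commutatorElement_def, mul_assoc] using this

theorem hyperfocal_le_focal : F.hyperfocalSubgroup p ≤ F.focalSubgroup := by
  refine (Subgroup.closure_le _).2 ?_
  rintro _ ⟨P, α, x, hP, -, rfl⟩
  have := mem_focal_of_isMor (isMor_of_mem_autGroup hP α.2) x.2
  rwa [autFun_coe] at this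

/-- An iso of the system transports automisers. -/
theorem exists_autHom [Finite S] (hf : IsIso F P Q f) :
    ∃ τ : F.autGroup P →* F.autGroup Q, ∀ (α : F.autGroup P), ∀ x ∈ P,
      autFun (τ α : MulAut Q) (f x) = f (autFun (α : MulAut P) x) := by
  let e : P ≃* Q := MulEquiv.ofBijective
    (MonoidHom.mk' (fun x : P => (⟨f x, hf.apply_mem x.2⟩ : Q))
      fun u v => Subtype.ext (hf.1.map_mul u.2 v.2))
    ⟨fun u v huv => Subtype.ext (hf.1.injOn u.2 v.2 (congrArg Subtype.val huv)), fun y => by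
      obtain ⟨x, hx, hxy⟩ := hf.exists_apply y.2
      exact ⟨⟨x, hx⟩, Subtype.ext hxy⟩⟩
  have hmem : ∀ α : F.autGroup P, MulAut.congr e (α : MulAut P) ∈ F.autGroup Q := by
    intro α
    obtain ⟨g, hg, hgf, -⟩ := hf.exists_symm
    refine mem_autGroup_of_isMor ((hg.1.comp (isMor_of_mem_autGroup hf.le α.2)
      fun x hx => hg.apply_mem hx).comp hf.1 fun x hx => autFun_mem _ (hg.apply_mem hx)) fun y => ?_
    obtain ⟨x, rfl⟩ := e.surjective y
    show ((e ((α : MulAut P) (e.symm (e x))) : Q) : Ω) = f (autFun (α : MulAut P) (g (f x)))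
    rw [e.symm_apply_apply, hgf x x.2, autFun_coe]
    rfl
  refine ⟨(((MulAut.congr e).toMonoidHom.comp (F.autGroup P).subtype)).codRestrict _ hmem,
    fun α x hx => ?_⟩
  rw [autFun_apply _ (hf.apply_mem hx), autFun_apply _ hx]
  show ((e ((α : MulAut P) (e.symm (e ⟨x, hx⟩))) : Q) : Ω) = _
  rw [e.symm_apply_apply]
  rfl

theorem conj_mem_hyperfocal [Finite S] {a z : Ω} (ha : a ∈ S) (hz : z ∈ F.hyperfocalSubgroup p) :
    a * z * a⁻¹ ∈ F.hyperfocalSubgroup p := by
  induction hz using Subgroup.closure_induction with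
  | mem z hz =>
    obtain ⟨P, α, x, hP, hα, rfl⟩ := hz
    have hm := isMor_conj (F := F) hP ha
    obtain ⟨τ, hτ⟩ := exists_autHom hm.isIso
    have hτm : τ α ∈ pResidual p _ := by
      refine (Subgroup.closure_le (K := (pResidual p _).comap τ)).2 ?_ hα
      exact fun β hβ => Solv.mem_pResidual (hβ.coprime_dvd_left (orderOf_map_dvd τ β))
    have hax : a * (x : Ω) * a⁻¹ ∈ hm.image P le_rfl := ⟨x, x.2, rfl⟩
    refine Subgroup.subset_closure ⟨hm.image P le_rfl, τ α, ⟨_, hax⟩, hm.isIso.le', hτm, ?_⟩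
    have h := hτ α x x.2
    rw [autFun_apply _ hax, autFun_coe] at h
    rw [h]
    group
  | one => simp
  | mul u v _ _ hu hv =>
    have : a * (u * v) * a⁻¹ = a * u * a⁻¹ * (a * v * a⁻¹) := by group
    rw [this]; exact mul_mem hu hv
  | inv u _ hu =>
    have : a * u⁻¹ * a⁻¹ = (a * u * a⁻¹)⁻¹ := by group
    rw [this]; exact inv_mem hu

theorem le_normalizer_hyperfocal [Finite S] :
    S ≤ Subgroup.normalizer (F.hyperfocalSubgroup p : Set Ω) := fun _ ha =>
  mem_normalizer_of_conj_mem (hyperfocal_le F p) fun _ hz => conj_mem_hyperfocal ha hz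

section Saturated

variable [Finite S] [Fact p.Prime] (hS : IsPGroup p S) (hF : F.IsSaturated p)
include hS hF

/-- Automorphisms of fully normalised subgroups are conjugations modulo the hyperfocal subgroup. -/
theorem exists_conj_mod_hyperfocal (hP : F.IsFullyNormalized P) {α : MulAut P} (hα : α ∈ F.autGroup P) :
    ∃ a ∈ S, ∀ x ∈ P, (a * x * a⁻¹)⁻¹ * autFun α x ∈ F.hyperfocalSubgroup p := by
  have := finite_autGroup (F := F) hP.1
  obtain ⟨hA, -⟩ := fullyNormalized_receptive hS hF hP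
  obtain ⟨Sy, hSy⟩ := hA.2
  have h := Solv.sup_pResidual_eq_top Sy
  rw [sup_comm] at h
  have hm : (⟨α, hα⟩ : F.autGroup P) ∈ pResidual p _ ⊔ (Sy : Subgroup (F.autGroup P)) :=
    h ▸ Subgroup.mem_top _
  obtain ⟨k, hk, c, hc, hkc⟩ := Subgroup.mem_sup_of_normal_left.1 hm
  rw [hSy] at hc
  obtain ⟨a, ha, han, hax⟩ := mem_autInducedBy.1 hc
  simp only [Subgroup.subtype_apply] at hax
  refine ⟨a, ha, fun x hx => ?_⟩
  have hy := conj_mem_of_mem_normalizer han hx
  refine Subgroup.subset_closure ⟨P, k, ⟨_, hy⟩, hP.1, hk, ?_⟩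
  have e : autFun α x = autFun (k : MulAut P) (a * x * a⁻¹) := by
    have h1 : autFun (c : MulAut P) x = a * x * a⁻¹ := by rw [autFun_apply _ hx]; exact hax ⟨x, hx⟩
    rw [← h1, ← autFun_mul _ _ hx, ← Subgroup.coe_mul, hkc]
  rw [e, autFun_apply _ hy]

/-- The focal subgroup is the hyperfocal subgroup times the derived subgroup. -/
theorem focal_eq : F.focalSubgroup = F.hyperfocalSubgroup p ⊔ ⁅S, S⁆ := by
  refine le_antisymm ?_ (sup_le hyperfocal_le_focal commutator_le_focal)
  set M := F.hyperfocalSubgroup p ⊔ ⁅S, S⁆ with hM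
  have hMS : M ≤ S := sup_le (hyperfocal_le F p) (Subgroup.commutator_le.2 fun a ha b hb =>
    S.mul_mem (S.mul_mem (S.mul_mem ha hb) (S.inv_mem ha)) (S.inv_mem hb))
  let c : MapCond F :=
    { C := fun P f => ∀ x ∈ P, x⁻¹ * f x ∈ M
      le := le_rfl
      congr := fun _ h he x hx => (he x hx).symm ▸ h x hx
      conj := fun {P a} hP ha x hx => Subgroup.mem_sup_right (by
        have := Subgroup.commutator_mem_commutator (S.inv_mem (hP hx)) ha
        simpa [commutatorElement_def, mul_assoc] using this)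
      comp := fun {P Q f g} _ h1 _ h2 hm x hx => by
        have e : x⁻¹ * g (f x) = x⁻¹ * f x * ((f x)⁻¹ * g (f x)) := by group
        rw [Function.comp_apply, e]
        exact M.mul_mem (h1 x hx) (h2 _ (hm x hx))
      symm := fun {P R f g} _ h hg hgf hfg y hy => by
        have h1 := h _ (hg |>.apply_mem hy)
        rw [hfg y hy] at h1
        simpa using M.inv_mem h1 }
  have hle : F ≤ c.system := alperin_induction hS hF fun P hP α hα _ => by
    refine c.isMor_system.2 ⟨isMor_of_mem_autGroup hP.1 hα, fun x hx => ?_⟩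
    obtain ⟨a, ha, h⟩ := exists_conj_mod_hyperfocal hS hF hP hα
    have e : x⁻¹ * autFun α x = ⁅x⁻¹, a⁆ * ((a * x * a⁻¹)⁻¹ * autFun α x) := by
      simp [commutatorElement_def]; group
    rw [e]
    exact M.mul_mem (Subgroup.mem_sup_right (Subgroup.commutator_mem_commutator (S.inv_mem (hP.1 hx)) ha))
      (Subgroup.mem_sup_left (h x hx))
  refine (Subgroup.closure_le _).2 ?_
  rintro _ ⟨P, φ, x, hφ, rfl⟩
  have := ((c.isMor_system).1 (le_iff_isMor.1 hle P _ (isMor_extFun hφ))).2 x x.2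
  rwa [extFun_coe] at this

/-- The hyperfocal subgroup is strongly closed. -/
theorem hyperfocal_stronglyClosed : F.StronglyClosed (F.hyperfocalSubgroup p) := by
  set L := F.hyperfocalSubgroup p with hL
  let c : MapCond F :=
    { C := fun P f => ∀ x ∈ P, x ∈ L ↔ f x ∈ L
      le := le_rfl
      congr := fun _ h he x hx => (he x hx).symm ▸ h x hx
      conj := fun {P a} _ ha x _ => ⟨fun h => conj_mem_hyperfocal ha h, fun h => by
        have := conj_mem_hyperfocal (S.inv_mem ha) h
        simpa [mul_assoc] using this⟩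
      comp := fun {P Q f g} _ h1 _ h2 hm x hx => (h1 x hx).trans (h2 _ (hm x hx))
      symm := fun {P R f g} _ h hg _ hfg y hy => by
        have h1 := h _ (hg.apply_mem hy)
        rw [hfg y hy] at h1
        exact h1.symm }
  have hle : F ≤ c.system := alperin_induction hS hF fun P hP α hα _ => by
    refine c.isMor_system.2 ⟨isMor_of_mem_autGroup hP.1 hα, fun x hx => ?_⟩
    obtain ⟨a, ha, h⟩ := exists_conj_mod_hyperfocal hS hF hP hα
    constructor
    · intro hxL
      have := L.mul_mem (conj_mem_hyperfocal ha hxL) (h x hx)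
      rwa [mul_inv_cancel_left] at this
    · intro hαx
      have h1 := L.mul_mem hαx (L.inv_mem (h x hx))
      rw [mul_inv_rev, inv_inv, mul_inv_cancel_left] at h1
      have := conj_mem_hyperfocal (S.inv_mem ha) h1
      simpa [mul_assoc] using this
  refine ⟨hyperfocal_le F p, fun R hR φ hφ x => ?_⟩
  have := ((c.isMor_system).1 (le_iff_isMor.1 hle R _ (isMor_extFun hφ))).2 x x.2
  rw [extFun_coe] at this
  exact this.1 (hR x.2)

end Saturated

end Cfsg.Agent.Fusion
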