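import Mathlib
import Cfsg.Agent.Lib.Fusion.Hyperfocal
import Cfsg.Agent.Lib.Fusion.GroupSystem
import Cfsg.Agent.Lib.Fusion.FactorHyperfocal

/-!
The hyperfocal subgroup theorem for finite groups.
-/

set_option autoImplicit false

open scoped commutatorElement

namespace Cfsg.Agent.Fusion

open Cfsg Cfsg.FusionSystem

variable {G : Type*} [Group G] [Finite G] {p : ℕ} [Fact p.Prime]

theorem hyperfocal_group_le (S : Sylow p G) :
    (groupFusionSystem (S : Subgroup G)).hyperfocalSubgroup p ≤ (S : Subgroup G) ⊓ pResidual p G := by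
  refine le_inf (hyperfocal_le _ p) ((Subgroup.closure_le _).2 ?_)
  rintro _ ⟨P, α, x, hP, hα, rfl⟩
  have hA := autGroup_groupFusionSystem (T := (S : Subgroup G)) hP
  have hmem : ∀ n : Subgroup.normalizer (P : Set G),
      P.normalizerMonoidHom n ∈ (groupFusionSystem (S : Subgroup G)).autGroup P := fun n => by
    rw [hA]
    exact mem_autInducedBy.2 ⟨n, trivial, n.2, fun _ => rfl⟩
  set π := (P.normalizerMonoidHom).codRestrict _ hmem
  have hπ : Function.Surjective π := by
    rintro ⟨β, hβ⟩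
    rw [hA] at hβ
    obtain ⟨g, -, hg, hgx⟩ := mem_autInducedBy.1 hβ
    exact ⟨⟨g, hg⟩, Subtype.ext (MulEquiv.ext fun y => Subtype.ext (hgx y).symm)⟩
  rw [← map_pResidual_eq hπ] at hα
  obtain ⟨n, hn, rfl⟩ := hα
  have hk : (n : G) ∈ pResidual p G :=
    map_pResidual_le (Subgroup.normalizer (P : Set G)).subtype ⟨n, hn, rfl⟩
  have hN : (pResidual p G).Normal := inferInstance
  have := (pResidual p G).mul_mem (hN.conj_mem _ hk (x : G)⁻¹) ((pResidual p G).inv_mem hk)
  show (x : G)⁻¹ * ((n : G) * x * (n : G)⁻¹) ∈ pResidual p G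
  simpa [mul_assoc] using this

/-- A subgroup of a nilpotent group generated modulo `L` by its commutators lies in `L`. -/
theorem le_of_le_sup_commutator {M T L : Subgroup G} (hM : Group.IsNilpotent M) (hTM : T ≤ M)
    (hLM : L ≤ M) (hn : M ≤ Subgroup.normalizer (L : Set G)) (h : T ≤ L ⊔ ⁅T, M⁆) : T ≤ L := by
  obtain ⟨n, hn0⟩ := (Subgroup.isNilpotent_iff_lowerCentralSeries M).mp hM
  have key : ∀ k, T ≤ L ⊔ M.lowerCentralSeries k := by
    intro k
    induction k with
    | zero => exact hTM.trans (le_sup_of_le_right (le_of_eq (Subgroup.lowerCentralSeries_zero M).symm))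
    | succ k ih =>
      refine h.trans (sup_le le_sup_left (Subgroup.commutator_le.2 fun a ha b hb => ?_))
      have hlc : M.lowerCentralSeries k ≤ M := Subgroup.lowerCentralSeries_le_self M k
      have hab := ih ha
      rw [← SetLike.mem_coe, Subgroup.coe_mul_of_right_le_normalizer_left L _ (hlc.trans hn)] at hab
      obtain ⟨l, hl, c, hc, rfl⟩ := hab
      have e : ⁅l * c, b⁆ = l * ⁅c, b⁆ * l⁻¹ * (l * (b * l⁻¹ * b⁻¹)) := by
        simp [commutatorElement_def]; group
      rw [e]
      refine mul_mem (mul_mem (mul_mem (Subgroup.mem_sup_left hl) (Subgroup.mem_sup_right ?_))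
        (Subgroup.mem_sup_left (L.inv_mem hl))) (Subgroup.mem_sup_left (L.mul_mem hl ?_))
      · rw [Subgroup.lowerCentralSeries_succ]
        exact Subgroup.commutator_mem_commutator hc hb
      · exact conj_mem_of_mem_normalizer (hn hb) (L.inv_mem hl)
  have := key n
  rwa [hn0, sup_bot_eq] at this

/-- **The hyperfocal subgroup theorem.** -/
theorem hyperfocal_group (S : Sylow p G) :
    (groupFusionSystem (S : Subgroup G)).hyperfocalSubgroup p = (S : Subgroup G) ⊓ pResidual p G := by
  refine le_antisymm (hyperfocal_group_le S) ?_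
  have hS := S.isPGroup'
  have hF := isSaturated_groupFusionSystem S
  set F := groupFusionSystem (S : Subgroup G)
  set L := F.hyperfocalSubgroup p with hL
  set K := pResidual p G with hK
  set T := (S : Subgroup G) ⊓ K with hT
  set M := L ⊔ ⁅T, (S : Subgroup G)⁆ with hM
  have hLS : L ≤ (S : Subgroup G) := hyperfocal_le F p
  let c : MapCond F :=
    { C := fun P f => ∀ x ∈ P, (x ∈ T ↔ f x ∈ T) ∧ (x ∈ T → x⁻¹ * f x ∈ M)
      le := le_rfl
      congr := fun _ h he x hx => (he x hx).symm ▸ h x hx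
      conj := fun {P a} hP ha x hx => by
        have hKn : K.Normal := inferInstance
        refine ⟨⟨fun h => ⟨(S : Subgroup G).mul_mem ((S : Subgroup G).mul_mem ha h.1) ((S : Subgroup G).inv_mem ha),
          hKn.conj_mem _ h.2 a⟩, fun h => ⟨hP hx, ?_⟩⟩, fun h => Subgroup.mem_sup_right ?_⟩
        · simpa [mul_assoc] using hKn.conj_mem _ h.2 a⁻¹
        · have := Subgroup.commutator_mem_commutator (T.inv_mem h) ha
          simpa [commutatorElement_def, mul_assoc] using this
      comp := fun {P Q f g} _ h1 _ h2 hm x hx => by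
        refine ⟨(h1 x hx).1.trans (h2 _ (hm x hx)).1, fun hxT => ?_⟩
        have e : x⁻¹ * g (f x) = x⁻¹ * f x * ((f x)⁻¹ * g (f x)) := by group
        rw [Function.comp_apply, e]
        exact M.mul_mem ((h1 x hx).2 hxT) ((h2 _ (hm x hx)).2 ((h1 x hx).1.1 hxT))
      symm := fun {P R f g} _ h hg _ hfg y hy => by
        obtain ⟨h1, h2⟩ := h _ (hg.apply_mem hy)
        rw [hfg y hy] at h1 h2
        exact ⟨h1.symm, fun hyT => by simpa using M.inv_mem (h2 (h1.2 hyT))⟩ }
  have hTS : T ≤ (S : Subgroup G) := inf_le_left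
  have hle : F ≤ c.system := alperin_induction hS hF fun P hP α hα _ => by
    refine c.isMor_system.2 ⟨isMor_of_mem_autGroup hP.1 hα, fun x hx => ?_⟩
    obtain ⟨a, ha, h⟩ := exists_conj_mod_hyperfocal hS hF hP hα
    have hz := h x hx
    have hzT : (a * x * a⁻¹)⁻¹ * autFun α x ∈ T := hyperfocal_group_le S hz
    have hax : a * x * a⁻¹ ∈ T ↔ x ∈ T := by
      have hKn : K.Normal := inferInstance
      refine ⟨fun hh => ⟨hP.1 hx, by simpa [mul_assoc] using hKn.conj_mem _ hh.2 a⁻¹⟩, fun hh =>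
        ⟨(S : Subgroup G).mul_mem ((S : Subgroup G).mul_mem ha hh.1) ((S : Subgroup G).inv_mem ha),
          hKn.conj_mem _ hh.2 a⟩⟩
    have e0 : autFun α x = a * x * a⁻¹ * ((a * x * a⁻¹)⁻¹ * autFun α x) := by group
    refine ⟨?_, fun hxT => ?_⟩
    · rw [e0, T.mul_mem_cancel_right hzT, hax]
    · have e : x⁻¹ * autFun α x = ⁅x⁻¹, a⁆ * ((a * x * a⁻¹)⁻¹ * autFun α x) := by
        simp [commutatorElement_def]; group
      rw [e]
      exact M.mul_mem (Subgroup.mem_sup_right (Subgroup.commutator_mem_commutator (T.inv_mem hxT) ha))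
        (Subgroup.mem_sup_left hz)
  refine le_of_le_sup_commutator hS.isNilpotent hTS hLS le_normalizer_hyperfocal ?_
  -- the focal subgroup of `K`
  obtain ⟨R, hR⟩ := exists_sylow_of_normal S K
  have hfoc := Solv.focalSubgroup_eq_of_pResidual_eq_top R Solv.pResidual_eq_top_of_map
  have h1 : (R : Subgroup K).map K.subtype = T := by rw [hR, Subgroup.subgroupOf_map_subtype]
  refine h1.symm.le.trans ?_
  rw [← hfoc, Subgroup.focalSubgroup_def, MonoidHom.map_closure, Subgroup.closure_le]
  rintro _ ⟨g, ⟨hgR, x, hx, u, rfl⟩, rfl⟩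
  rw [hR, Subgroup.mem_subgroupOf] at hx hgR
  have hux : (u : G) * x * (u : G)⁻¹ ∈ (S : Subgroup G) := by
    have h2 := (S : Subgroup G).mul_mem ((S : Subgroup G).inv_mem hx) hgR
    simp only [commutatorElement_def, Subgroup.coe_mul, Subgroup.coe_inv] at h2
    have h3 := (S : Subgroup G).inv_mem h2
    simpa [mul_assoc] using h3
  have hf : IsMor F (Subgroup.zpowers (x : G)) (fun y => (u : G) * y * (u : G)⁻¹) := by
    refine isMor_groupFusionSystem.2 ⟨Subgroup.zpowers_le.2 hx, fun y hy => ?_, u, fun _ _ => rfl⟩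
    obtain ⟨k, rfl⟩ := hy
    have := zpow_mem hux k
    rwa [conj_zpow] at this
  have h5 := ((c.isMor_system).1 (le_iff_isMor.1 hle _ _ hf)).2 (x : G) (Subgroup.mem_zpowers _)
  have h6 := h5.2 ⟨hx, x.2⟩
  show ((⁅x, u⁆ : K) : G) ∈ M
  have h7 : ((⁅x, u⁆ : K) : G) = (x : G) * ((x : G)⁻¹ * ((u : G) * x * (u : G)⁻¹))⁻¹ * (x : G)⁻¹ := by
    simp [commutatorElement_def]; group
  rw [h7]
  have hMn : (x : G) ∈ Subgroup.normalizer (M : Set G) := by
    have hMS : M ≤ (S : Subgroup G) := sup_le hLS (Subgroup.commutator_le.2 fun a ha b hb =>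
      (S : Subgroup G).mul_mem ((S : Subgroup G).mul_mem ((S : Subgroup G).mul_mem (hTS ha) hb)
        ((S : Subgroup G).inv_mem (hTS ha))) ((S : Subgroup G).inv_mem hb))
    refine mem_normalizer_of_conj_mem hMS fun z hz => ?_
    refine (sup_le (?_ : L ≤ M.comap (MulAut.conj (x : G)).toMonoidHom) ?_ : M ≤ _) hz
    · exact fun w hw => Subgroup.mem_sup_left (conj_mem_hyperfocal hx hw)
    · exact fun w hw => Subgroup.mem_sup_right
        (conj_mem_of_mem_normalizer (Subgroup.normalizer_commutator_ge_right T _ hx) hw)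
  exact conj_mem_of_mem_normalizer hMn (M.inv_mem h6)

end Cfsg.Agent.Fusion
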