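import Mathlib
import Cfsg.Agent.Lib.Fusion.Alperin
import Cfsg.Agent.Lib.Fusion.SubSystem

/-!
A saturated system is not generated without one given class of essential subgroups.
-/

set_option autoImplicit false

namespace Cfsg.Agent.Fusion

open Cfsg Cfsg.FusionSystem

variable {Ω : Type*} [Group Ω] {S : Subgroup Ω} {F : FusionSystem S} {P Q R : Subgroup Ω}
  {f g k : Ω → Ω} {p : ℕ}

/-- An isomorphism onto `Q` defined on the whole normalizer. -/
def NormExt (F : FusionSystem S) (P Q : Subgroup Ω) (g : Ω → Ω) : Prop :=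
  IsIso F P Q g ∧ IsMor F (normalizerIn S P) g

/-- `f` is, transported to `Q`, generated by the extendable automorphisms. -/
def Good (F : FusionSystem S) (Q P : Subgroup Ω) (f : Ω → Ω) : Prop :=
  ∀ (R : Subgroup Ω) (g g' : Ω → Ω) (α : MulAut Q), IsIso F P R f → NormExt F P Q g →
    NormExt F R Q g' → (∀ x ∈ P, autFun α (g x) = g' (f x)) → α ∈ Subgroup.closure (extSet F Q)

theorem Good.congr (h : Good F Q P f) (he : ∀ x ∈ P, g x = f x) : Good F Q P g :=
  fun R g₁ g₂ α hi h1 h2 hx => h R g₁ g₂ α (hi.congr fun x hx' => (he x hx').symm) h1 h2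
    fun x hx' => by rw [hx x hx', he x hx']

theorem autFun_injOn {α β : MulAut P} (h : ∀ x ∈ P, autFun α x = autFun β x) : α = β :=
  MulEquiv.ext fun x => Subtype.ext (by rw [← autFun_coe, ← autFun_coe, h x x.2])

theorem mem_autGroup_of_transport {α : MulAut Q} (hg : IsIso F P Q g) (hk : IsIso F P R f)
    (hg' : IsIso F R Q k) (hx : ∀ x ∈ P, autFun α (g x) = k (f x)) : α ∈ F.autGroup Q := by
  obtain ⟨gi, hgi, -, hgr⟩ := hg.exists_symm
  refine mem_autGroup_of_isMor ((hgi.trans hk).trans hg').1 fun y => ?_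
  have h1 := hx _ (hgi.apply_mem y.2)
  rw [hgr _ y.2, autFun_coe] at h1
  exact h1

variable [Finite S] [Fact p.Prime]

/-- A map with a larger extension is good. -/
theorem good_of_extends (hS : IsPGroup p S) (hQ : F.IsReceptive Q) {U : Subgroup Ω} (hPU : P < U)
    (hk : IsMor F U k) (he : ∀ x ∈ P, f x = k x) : Good F Q P f := by
  intro R g g' α hi hg hg' hx
  have hfin := finite_of_le hk.le
  obtain ⟨a, ha, haP⟩ := SetLike.exists_of_lt (normalizerIn_self_lt (p := p) (hS.to_le hk.le) hPU)
  have hPS : P ≤ S := hi.le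
  have haN : a ∈ normalizerIn S P := ⟨hk.le ha.1, ha.2⟩
  have hkR : k a ∈ normalizerIn S R :=
    hk.apply_mem_normalizerIn hPU.le (hi.congr fun x hx' => (he x hx').symm) ha.1 ha.2
  refine Subgroup.subset_closure (mem_extSet_of_conj hQ (mem_autGroup_of_transport hg.1 hi hg'.1 hx)
    (hg.2.apply_mem_normalizerIn (le_normalizerIn hPS) hg.1 haN ha.2) (fun hgQ => haP ?_)
    (hg'.2.mem hkR) fun y hy => ?_)
  · obtain ⟨x, hxP, hxe⟩ := hg.1.exists_apply hgQ
    rwa [← hg.2.injOn (le_normalizerIn hPS hxP) haN hxe]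
  · obtain ⟨x, hxP, rfl⟩ := hg.1.exists_apply hy
    have hax := conj_mem_of_mem_normalizer ha.2 hxP
    have hfR : k x ∈ R := he x hxP ▸ hi.apply_mem hxP
    rw [← hg.2.map_conj (le_normalizerIn hPS hxP) haN, hx _ hax, hx x hxP, he _ hax, he x hxP,
      hk.map_conj (hPU.le hxP) ha.1, hg'.2.map_conj (le_normalizerIn hi.le' hfR) hkR]

/-- Goodness as a condition on maps. -/
noncomputable def goodCond (hS : IsPGroup p S) (hF : F.IsSaturated p) (hQ : F.IsFullyNormalized Q)
    (hQS : Q < S) : MapCond F where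
  C P f := Good F Q P f
  le := le_rfl
  congr := fun _ h he => h.congr he
  conj := by
    intro P a hP ha R g g' α hi hg hg' hx
    have hPS : P < S := lt_of_le_of_ne hP fun h0 => by
      have := card_lt_of_lt le_rfl hQS
      rw [hg.1.card_eq, h0] at this
      exact this.false
    exact good_of_extends hS (fullyNormalized_receptive hS hF hQ).2 hPS (isMor_conj le_rfl ha)
      (fun _ _ => rfl) R g g' α hi hg hg' hx
  comp := by
    intro P U f k hf hgf hk hgk hm R g g' α hi hg hg' hx
    have hi1 := hf.isIso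
    obtain ⟨g1, g1', hg1, hg1', hg1e, -⟩ := exists_iso_to_fullyNormalized hS hF
      (isConj_trans (isConj_symm hi1.isConj) hg.1.isConj) hQ
    have hN1 : NormExt F (hf.image P le_rfl) Q g1' := ⟨hg1.congr hg1e, hg1'⟩
    obtain ⟨gi, hgi, hgl, hgr⟩ := hg.1.exists_symm
    let hh := (hgi.trans hi1).trans hN1.1
    have hα1 : autOf hh ∈ Subgroup.closure (extSet F Q) :=
      hgf _ g g1' _ hi1 hg hN1 fun x hx' => by
        rw [autFun_apply _ (hg.1.apply_mem hx'), autOf_apply]
        show g1' (f (gi (g x))) = _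
        rw [hgl x hx']
    -- the second factor
    have hsub : hf.image P le_rfl ≤ U := by
      rintro _ ⟨x, hx', rfl⟩
      exact hm x hx'
    have hi2 : IsIso F (hf.image P le_rfl) R k := ⟨hk.restrict hsub, fun y => by
      rw [hi.2 y]
      exact ⟨fun ⟨x, hx', e⟩ => ⟨f x, ⟨x, hx', rfl⟩, e⟩,
        fun ⟨_, ⟨x, hx', rfl⟩, e⟩ => ⟨x, hx', e⟩⟩⟩
    have hgood : Good F Q (hf.image P le_rfl) k := by
      rcases eq_or_lt_of_le hsub with h0 | h0
      · rw [h0]; exact hgk
      · exact good_of_extends hS (fullyNormalized_receptive hS hF hQ).2 h0 hk fun _ _ => rfl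
    have hα2 : α * (autOf hh)⁻¹ ∈ Subgroup.closure (extSet F Q) := by
      refine hgood R g1' g' _ hi2 hN1 hg' ?_
      rintro _ ⟨x, hx', rfl⟩
      have h1 : autOf hh ⟨g x, hg.1.apply_mem hx'⟩ = ⟨g1' (f x), hN1.1.apply_mem ⟨x, hx', rfl⟩⟩ :=
        Subtype.ext (by
          rw [autOf_apply]
          show g1' (f (gi (g x))) = g1' (f x)
          rw [hgl x hx'])
      have h2 := hx x hx'
      rw [autFun_apply _ (hg.1.apply_mem hx')] at h2
      rw [autFun_apply _ (hN1.1.apply_mem ⟨x, hx', rfl⟩), ← h1, MulAut.mul_apply,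
        MulAut.inv_apply_self]
      exact h2
    have := mul_mem hα2 hα1
    rwa [inv_mul_cancel_right] at this
  symm := by
    intro P R f k hi hgood hk hkf hfk P' g g' α hi' hg hg' hx
    obtain rfl : P' = P := (hk.image_unique hi').symm
    have := hgood R g' g α⁻¹ hi hg' hg fun x hx' => by
      have h1 := hx (f x) (hi.apply_mem hx')
      rw [hkf x hx', autFun_apply _ (hg.1.apply_mem (hi.apply_mem hx'))] at h1
      rw [autFun_apply _ (hg'.1.apply_mem hx')]
      have h2 : (⟨g' x, hg'.1.apply_mem hx'⟩ : Q) = α ⟨g (f x), hg.1.apply_mem (hi.apply_mem hx')⟩ :=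
        Subtype.ext h1.symm
      rw [h2, MulAut.inv_apply_self]
    simpa using inv_mem this

theorem exists_system_without_essential (hS : IsPGroup p S) (hF : F.IsSaturated p)
    (hQ : F.IsEssential p Q) :
    ∃ E : FusionSystem S, (∀ R : Subgroup Ω, R ≤ S → ¬ F.IsConj Q R → F.autGroup R ≤ E.autGroup R) ∧
      ¬ F ≤ E := by
  refine ⟨(goodCond hS hF hQ.2.1 (lt_of_isEssential hS hF hQ)).system, fun R hR hc α hα => ?_,
    fun hle => ?_⟩
  · exact mem_autGroup_of_isMor ((MapCond.isMor_system _).2 ⟨isMor_of_mem_autGroup hR hα,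
      fun _ g _ _ _ hg _ _ => absurd (isConj_symm hg.1.isConj) hc⟩) fun x => (autFun_coe α x).symm
  · refine closure_extSet_ne_of_isEssential hS hF hQ (le_antisymm closure_extSet_le_autGroup fun α hα => ?_)
    have hi := isIso_autFun hQ.1.1 hα
    have hid : NormExt F Q Q id := ⟨isIso_id hQ.1.1, isMor_id normalizerIn_le⟩
    exact ((MapCond.isMor_system _).1 (le_iff_isMor.1 hle _ _ hi.1)).2 Q id id α hi hid hid
      fun x _ => rfl

theorem le_of_inter_generating (hS : IsPGroup p S) (hF : F.IsSaturated p)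
    (𝒬₁ 𝒬₂ : Set (Subgroup Ω))
    (h₁ : ∀ R ∈ 𝒬₁, ∀ R', F.IsConj R R' → R' ∈ 𝒬₁) (h₂ : ∀ R ∈ 𝒬₂, ∀ R', F.IsConj R R' → R' ∈ 𝒬₂)
    (hg₁ : ∀ E : FusionSystem S, (∀ R ∈ 𝒬₁, F.autGroup R ≤ E.autGroup R) → F ≤ E)
    (hg₂ : ∀ E : FusionSystem S, (∀ R ∈ 𝒬₂, F.autGroup R ≤ E.autGroup R) → F ≤ E)
    (E : FusionSystem S) (hE : ∀ R ∈ 𝒬₁ ∩ 𝒬₂, F.autGroup R ≤ E.autGroup R) : F ≤ E := by
  refine le_of_essential hS hF fun P hP => ?_
  rcases hP with rfl | hP
  · -- `S` lies in both families unless all its automorphisms are inner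
    let c : MapCond F :=
      { C := fun U f => U = P → ∃ a ∈ P, ∀ x ∈ U, f x = a * x * a⁻¹
        le := le_rfl
        congr := fun _ h he hU => by
          obtain ⟨a, ha, hx⟩ := h hU
          exact ⟨a, ha, fun x hx' => (he x hx').trans (hx x hx')⟩
        conj := fun _ ha _ => ⟨_, ha, fun _ _ => rfl⟩
        comp := by
          intro U V f g hf hfc hg hgc hm hU
          obtain ⟨a, ha, hx⟩ := hfc hU
          have hV : V = P := by
            refine le_antisymm hg.le fun y hy => ?_
            have hy' : a⁻¹ * y * a ∈ U := by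
              rw [hU]
              exact mul_mem (mul_mem (inv_mem ha) hy) ha
            have := hm _ hy'
            rw [hx _ hy'] at this
            simpa [mul_assoc] using this
          obtain ⟨b, hb, hy⟩ := hgc hV
          exact ⟨b * a, mul_mem hb ha, fun x hx' => by
            rw [Function.comp_apply, hy _ (hm x hx'), hx x hx']; group⟩
        symm := by
          intro U R f g hi hfc hg hgf _ hR
          have hU : U = P := eq_of_le_of_card_le' le_rfl hi.le (by rw [← hR, hi.card_eq])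
          obtain ⟨a, ha, hx⟩ := hfc hU
          refine ⟨a⁻¹, inv_mem ha, fun y hy => ?_⟩
          obtain ⟨x, hx', rfl⟩ := hi.exists_apply hy
          rw [hgf x hx', hx x hx']
          group }
    have hc : ∀ R ≤ P, R ≠ P → F.autGroup R ≤ c.system.autGroup R := fun R hR hne α hα =>
      mem_autGroup_of_isMor (c.isMor_system.2 ⟨isMor_of_mem_autGroup hR hα, fun h => absurd h hne⟩)
        fun x => (autFun_coe α x).symm
    by_cases hP : P ∈ 𝒬₁ ∩ 𝒬₂
    · exact hE P hP
    have hle : F ≤ c.system := by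
      by_contra hle
      refine hP ⟨?_, ?_⟩
      · by_contra h
        refine hle (hg₁ _ fun R hR => ?_)
        by_cases hRS : R ≤ P
        · exact hc R hRS fun h0 => h (h0 ▸ hR)
        · refine (Subgroup.closure_le _).2 fun α hα => ?_
          exact absurd (F.le_of_mem hα).1 hRS
      · by_contra h
        refine hle (hg₂ _ fun R hR => ?_)
        by_cases hRS : R ≤ P
        · exact hc R hRS fun h0 => h (h0 ▸ hR)
        · refine (Subgroup.closure_le _).2 fun α hα => ?_
          exact absurd (F.le_of_mem hα).1 hRS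
    intro α hα
    obtain ⟨a, ha, hx⟩ := (c.isMor_system.1 (le_iff_isMor.1 hle _ _ (isMor_of_mem_autGroup le_rfl hα))).2 rfl
    exact mem_autGroup_of_isMor (isMor_conj le_rfl ha) fun x => (autFun_coe α x).symm.trans (hx x x.2)
  · obtain ⟨E', hE', hne⟩ := exists_system_without_essential hS hF hP
    refine hE P ⟨?_, ?_⟩
    · by_contra h
      refine hne (hg₁ E' fun R hR => ?_)
      by_cases hRS : R ≤ S
      · exact hE' R hRS fun hc => h (h₁ R hR P (isConj_symm hc))
      · exact (Subgroup.closure_le _).2 fun α hα => absurd (F.le_of_mem hα).1 hRS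
    · by_contra h
      refine hne (hg₂ E' fun R hR => ?_)
      by_cases hRS : R ≤ S
      · exact hE' R hRS fun hc => h (h₂ R hR P (isConj_symm hc))
      · exact (Subgroup.closure_le _).2 fun α hα => absurd (F.le_of_mem hα).1 hRS

/-- `S` is normal when the centric radical subgroups have normal Sylow subgroups of automorphisms. -/
theorem isNormal_top_of_closed_sylow (hS : IsPGroup p S) (hF : F.IsSaturated p)
    (hcl : ∀ P : Subgroup Ω, F.IsFullyNormalized P → F.IsCentric P → F.IsRadical p P →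
      ∃ R : Sylow p (F.autGroup P), (R : Subgroup (F.autGroup P)).Normal) : F.IsNormal S :=
  isNormal_of_le_normCond le_rfl Subgroup.le_normalizer <|
    exists_isMor_top_of_closed_sylow hS hF hcl <|
      autGroup_le_normCond le_rfl _ le_rfl le_rfl fun _ hα => isIso_autFun le_rfl hα

end Cfsg.Agent.Fusion
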