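import Mathlib
import Cfsg.Agent.Lib.Fusion.Normal
import Cfsg.Agent.Lib.Fusion.EssentialDrop

/-!
Criteria for normality and centrality in a saturated fusion system.
-/

set_option autoImplicit false

open scoped commutatorElement

namespace Cfsg.Agent.Fusion

open Cfsg Cfsg.FusionSystem

variable {Ω : Type*} [Group Ω] {S : Subgroup Ω} {F : FusionSystem S} {P Q R U : Subgroup Ω}
  {f g k : Ω → Ω} {p : ℕ}

/-- The upper central series of `Q`, seen in `Ω`. -/
def centralSeriesOf (Q : Subgroup Ω) (i : ℕ) : Subgroup Ω := (Subgroup.upperCentralSeries Q i).map Q.subtype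

theorem centralSeriesOf_le (Q : Subgroup Ω) (i : ℕ) : centralSeriesOf Q i ≤ Q :=
  Subgroup.map_subtype_le _

theorem centralSeriesOf_mono (Q : Subgroup Ω) : Monotone (centralSeriesOf Q) := fun _ _ h =>
  Subgroup.map_mono (Subgroup.upperCentralSeries_mono Q h)

theorem commutator_centralSeriesOf (Q : Subgroup Ω) (i : ℕ) :
    ⁅centralSeriesOf Q (i + 1), Q⁆ ≤ centralSeriesOf Q i := by
  refine Subgroup.commutator_le.2 ?_
  rintro _ ⟨x, hx, rfl⟩ y hy
  exact ⟨⁅x, ⟨y, hy⟩⁆, Subgroup.mem_upperCentralSeries_succ_iff.1 hx _, rfl⟩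

theorem centralSeriesOf_characteristic (Q : Subgroup Ω) (i : ℕ) :
    ((centralSeriesOf Q i).subgroupOf Q).Characteristic := by
  have h : (centralSeriesOf Q i).subgroupOf Q = Subgroup.upperCentralSeries Q i := by
    rw [centralSeriesOf, Subgroup.subgroupOf,
      Subgroup.comap_map_eq_self_of_injective Q.subtype_injective]
  rw [h]
  infer_instance

/-- The series of characteristic subgroups used in the normality criteria. -/
theorem exists_central_series [Finite S] [Fact p.Prime] (hS : IsPGroup p S) (hQ : Q ≤ S) :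
    ∃ (n : ℕ) (C : Fin (n + 1) → Subgroup Ω), C 0 = ⊥ ∧ C (Fin.last n) = Q ∧ Monotone C ∧
      (∀ i : Fin n, ⁅C i.succ, Q⁆ ≤ C i.castSucc) ∧
      ∀ i, C i ≤ Q ∧ ((C i).subgroupOf Q).Characteristic := by
  have := finite_of_le hQ
  have := (hS.to_le hQ).isNilpotent
  refine ⟨Group.nilpotencyClass Q, fun i => centralSeriesOf Q i, ?_, ?_,
    fun _ _ h => centralSeriesOf_mono Q h, fun i => commutator_centralSeriesOf Q i,
    fun i => ⟨centralSeriesOf_le Q _, centralSeriesOf_characteristic Q _⟩⟩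
  · simp [centralSeriesOf, Subgroup.upperCentralSeries_zero]
  · simp [centralSeriesOf, Subgroup.upperCentralSeries_nilpotencyClass, ← MonoidHom.range_eq_map]

/-- `f` extends to an automorphism of `Q` belonging to `F`. -/
def ExtAut (F : FusionSystem S) (Q P : Subgroup Ω) (f : Ω → Ω) : Prop :=
  ∃ α ∈ F.autGroup Q, ∀ x ∈ P, autFun α x = f x

theorem weaklyClosed_of_extAut (hQ : Q ≤ S)
    (h : ∀ P f, P ≤ Q → IsMor F P f → ExtAut F Q P f) (hUQ : U ≤ Q)
    (hU : (U.subgroupOf Q).Characteristic) : F.WeaklyClosed U := by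
  refine ⟨hUQ.trans hQ, fun φ hφ => ?_⟩
  obtain ⟨α, -, hx⟩ := h U _ hUQ (isMor_extFun hφ)
  have hmap := Subgroup.characteristic_iff_map_eq.1 hU α
  ext y
  constructor
  · rintro ⟨x, rfl⟩
    have e := hx x x.2
    rw [extFun_coe] at e
    rw [← e, autFun_apply α (hUQ x.2)]
    exact hmap.le ⟨⟨x, hUQ x.2⟩, x.2, rfl⟩
  · intro hy
    have hmem : (⟨y, hUQ hy⟩ : Q) ∈ U.subgroupOf Q := hy
    rw [← hmap] at hmem
    obtain ⟨x, hx', hxy⟩ := hmem
    refine ⟨⟨x, hx'⟩, ?_⟩
    rw [← extFun_coe φ ⟨x, hx'⟩]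
    show extFun φ (x : Ω) = y
    rw [← hx (x : Ω) hx', autFun_coe]
    exact congrArg Subtype.val hxy

theorem extAut_of_isNormal (h : F.IsNormal Q) (hf : IsMor F P f) (hP : P ≤ Q) : ExtAut F Q P f := by
  obtain ⟨-, h'⟩ := isNormal_iff.1 h
  obtain ⟨k, hk, he, hkQ⟩ := h' P f hf
  refine ⟨autOf hkQ, autOf_mem hkQ, fun x hx => ?_⟩
  rw [autFun_apply _ (hP hx), autOf_apply, he x hx]

theorem weaklyClosed_of_stronglyClosed [Finite S] (h : F.StronglyClosed Q) : F.WeaklyClosed Q := by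
  refine ⟨h.1, fun φ hφ => ?_⟩
  have hi := (isMor_extFun hφ).isIso_self fun x hx => stronglyClosed_apply h (isMor_extFun hφ) hx hx
  ext y
  rw [hi.2 y]
  exact ⟨fun ⟨x, e⟩ => ⟨x, x.2, (extFun_coe φ x).trans e⟩,
    fun ⟨x, hx, e⟩ => ⟨⟨x, hx⟩, (extFun_apply φ hx).symm.trans e⟩⟩

section Saturated

variable [Finite S] [Fact p.Prime] (hS : IsPGroup p S) (hF : F.IsSaturated p)
include hS hF

theorem isNormal_iff_extAut (hQ : Q ≤ S) :
    F.IsNormal Q ↔ ∀ P f, P ≤ Q → IsMor F P f → ExtAut F Q P f := by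
  refine ⟨fun h P f hP hf => extAut_of_isNormal h hf hP, fun h => ?_⟩
  obtain ⟨n, C, h0, hn, hm, hc, hC⟩ := exists_central_series (p := p) hS hQ
  refine isNormal_of_series hS hF (stronglyClosed_of_apply_mem hQ fun R f hR hf x hx => ?_)
    C h0 hn hm hc fun i => weaklyClosed_of_extAut hQ h (hC _).1 (hC _).2
  obtain ⟨α, -, he⟩ := h R f hR hf
  rw [← he x hx]
  exact autFun_mem α (hR hx)

theorem isNormal_iff_series :
    F.IsNormal Q ↔ F.StronglyClosed Q ∧ ∃ (n : ℕ) (C : Fin (n + 1) → Subgroup Ω), C 0 = ⊥ ∧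
      C (Fin.last n) = Q ∧ Monotone C ∧ (∀ i : Fin n, ⁅C i.succ, Q⁆ ≤ C i.castSucc) ∧
      ∀ i : Fin n, F.WeaklyClosed (C i.castSucc) := by
  refine ⟨fun h => ⟨normal_stronglyClosed h, ?_⟩, fun ⟨hQ, n, C, h0, hn, hm, hc, hw⟩ =>
    isNormal_of_series hS hF hQ C h0 hn hm hc hw⟩
  obtain ⟨n, C, h0, hn, hm, hc, hC⟩ := exists_central_series (p := p) hS h.1
  exact ⟨n, C, h0, hn, hm, hc, fun i => weaklyClosed_of_stronglyClosed
    (normal_stronglyClosed (isNormal_of_characteristic h (hC _).1 (hC _).2))⟩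

theorem isNormal_iff_chain :
    F.IsNormal Q ↔ ∃ (n : ℕ) (Qs : Fin (n + 1) → Subgroup Ω), Qs 0 = ⊥ ∧ Qs (Fin.last n) = Q ∧
      Monotone Qs ∧ ∀ i : Fin n, F.StronglyClosed (Qs i.succ) ∧ ⁅Q, Qs i.succ⁆ ≤ Qs (Fin.castSucc i) := by
  constructor
  · intro h
    obtain ⟨n, C, h0, hn, hm, hc, hC⟩ := exists_central_series (p := p) hS h.1
    exact ⟨n, C, h0, hn, hm, fun i =>
      ⟨normal_stronglyClosed (isNormal_of_characteristic h (hC _).1 (hC _).2),
        (Subgroup.commutator_comm _ _).le.trans (hc i)⟩⟩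
  · rintro ⟨n, C, h0, hn, hm, h⟩
    rcases n with _ | n
    · rw [← hn, show Fin.last 0 = 0 from rfl, h0]
      exact isNormal_bot
    have hQ : F.StronglyClosed Q := by
      have := (h (Fin.last n)).1
      rwa [Fin.succ_last, hn] at this
    refine isNormal_of_series hS hF hQ C h0 hn hm
      (fun i => (Subgroup.commutator_comm _ _).le.trans (h i).2) fun i => ?_
    induction i using Fin.cases with
    | zero =>
      rw [Fin.castSucc_zero, h0]
      exact weaklyClosed_of_stronglyClosed (normal_stronglyClosed isNormal_bot)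
    | succ i =>
      rw [← Fin.succ_castSucc]
      exact weaklyClosed_of_stronglyClosed (h i.castSucc).1

theorem isNormal_iff_centric_radical :
    F.IsNormal Q ↔ F.StronglyClosed Q ∧
      ∀ P : Subgroup Ω, F.IsCentric P → F.IsRadical p P → Q ≤ P :=
  ⟨fun h => ⟨normal_stronglyClosed h, fun _ hP hPr => normal_le_radical hS h hP hPr⟩,
    fun h => isNormal_of_centric_radical hS hF h.1 h.2⟩

theorem isNormal_iff_essential :
    F.IsNormal Q ↔ ∀ P : Subgroup Ω, (P = S ∨ F.IsEssential p P) →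
      (Q ≤ P ∧ ∀ α ∈ F.autGroup P, (Q.subgroupOf P).map α.toMonoidHom = Q.subgroupOf P) := by
  constructor
  · intro h P hP
    have hQP : Q ≤ P := by
      rcases hP with rfl | hP
      · exact h.1
      · exact normal_le_radical hS h hP.1 (isRadical_of_isEssential hS hF hP)
    have hPS : P ≤ S := hP.elim le_of_eq fun h => h.1.1
    refine ⟨hQP, fun α hα => ?_⟩
    have hi := normal_isIso h (isMor_of_mem_autGroup hPS hα) hQP
    ext y
    constructor
    · rintro ⟨x, hx, rfl⟩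
      have := hi.apply_mem (x := x) hx
      rwa [autFun_coe] at this
    · intro hy
      obtain ⟨x, hx, e⟩ := hi.exists_apply (y := y) hy
      rw [autFun_apply α (hQP hx)] at e
      exact ⟨⟨x, hQP hx⟩, hx, Subtype.ext e⟩
  · intro h
    refine isNormal_of_essential hS hF fun P hP => ⟨(h P hP).1, fun α hα x hx => ?_⟩
    rw [autFun_apply α ((h P hP).1 hx)]
    exact ((h P hP).2 α hα).le ⟨⟨x, (h P hP).1 hx⟩, hx, rfl⟩

theorem core_ne_bot_iff :
    F.core ≠ ⊥ ↔ ∃ Q : Subgroup Ω, Q ≠ ⊥ ∧ IsMulCommutative Q ∧ F.StronglyClosed Q := by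
  constructor
  · intro h
    have hn := isNormal_core F
    obtain ⟨n, C, h0, hl, hm, hc, hC⟩ := exists_central_series (p := p) hS hn.1
    have hz : F.IsNormal ((Subgroup.center F.core).map F.core.subtype) := by
      refine isNormal_of_characteristic hn (Subgroup.map_subtype_le _) ?_
      rw [Subgroup.subgroupOf, Subgroup.comap_map_eq_self_of_injective (Subgroup.subtype_injective _)]
      infer_instance
    refine ⟨_, fun hb => ?_, Subgroup.map_isMulCommutative _ _, normal_stronglyClosed hz⟩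
    rw [Subgroup.map_eq_bot_iff_of_injective _ (Subgroup.subtype_injective _)] at hb
    have := finite_of_le hn.1
    have : Nontrivial F.core := (Subgroup.nontrivial_iff_ne_bot _).2 h
    have := (hS.to_le hn.1).center_nontrivial
    exact (Subgroup.nontrivial_iff_ne_bot _).1 this hb
  · rintro ⟨Q, hne, hab, hQ⟩ h
    have hn : F.IsNormal Q := by
      refine (isNormal_iff_chain hS hF).2 ⟨1, ![⊥, Q], rfl, rfl, ?_, ?_⟩
      · intro a b hab'
        fin_cases a <;> fin_cases b <;> simp_all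
      · intro i
        fin_cases i
        exact ⟨hQ, by
          show ⁅Q, Q⁆ ≤ ⊥
          rw [le_bot_iff, Subgroup.commutator_eq_bot_iff_le_centralizer]
          exact Subgroup.le_centralizer Q⟩
    have hle : Q ≤ F.core := le_sSup hn
    rw [h] at hle
    exact hne (le_bot_iff.1 hle)

end Saturated

/-! ### Central subgroups -/

theorem isCentral_bot : F.IsCentral (⊥ : Subgroup Ω) := by
  refine ⟨bot_le, fun P φ hφ => ?_⟩
  obtain ⟨ψ, hψ, he⟩ := (by rw [sup_bot_eq]; exact isMor_extFun hφ : IsMor F (P ⊔ ⊥) (extFun φ))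
  refine ⟨ψ, hψ, fun x => ?_, fun x => ?_⟩
  · rw [he, Subgroup.coe_inclusion, extFun_coe]
  · rw [he, Subgroup.coe_inclusion, Subgroup.mem_bot.1 x.2]
    exact (isMor_extFun hφ).map_one

theorem isCentral_iff : F.IsCentral Q ↔ Q ≤ S ∧ ∀ P f, IsMor F P f →
    ∃ k, IsMor F (P ⊔ Q) k ∧ (∀ x ∈ P, k x = f x) ∧ ∀ x ∈ Q, k x = x := by
  constructor
  · rintro ⟨hQ, h⟩
    refine ⟨hQ, fun P f hf => ?_⟩
    obtain ⟨φ, hφ, he⟩ := id hf
    obtain ⟨ψ, hψ, hx, hm⟩ := h P φ hφ
    refine ⟨extFun ψ, isMor_extFun hψ, fun x hxP => ?_, fun x hxQ => ?_⟩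
    · rw [extFun_apply ψ (Subgroup.mem_sup_left hxP)]
      exact (hx ⟨x, hxP⟩).trans (he _)
    · rw [extFun_apply ψ (Subgroup.mem_sup_right hxQ)]
      exact hm ⟨x, hxQ⟩
  · rintro ⟨hQ, h⟩
    refine ⟨hQ, fun P φ hφ => ?_⟩
    obtain ⟨k, ⟨ψ, hψ, hke⟩, hkf, hkQ⟩ := h P _ (isMor_extFun hφ)
    exact ⟨ψ, hψ, fun x => by rw [hke, Subgroup.coe_inclusion, hkf _ x.2, extFun_coe],
      fun x => by rw [hke, Subgroup.coe_inclusion, hkQ _ x.2]⟩

theorem isCentral_sup (h₁ : F.IsCentral Q) (h₂ : F.IsCentral U) : F.IsCentral (Q ⊔ U) := by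
  obtain ⟨hQ, hQ'⟩ := isCentral_iff.1 h₁
  obtain ⟨hU, hU'⟩ := isCentral_iff.1 h₂
  refine isCentral_iff.2 ⟨sup_le hQ hU, fun P f hf => ?_⟩
  obtain ⟨k, hk, hke, hkQ⟩ := hQ' P f hf
  obtain ⟨l, hl, hle, hlU⟩ := hU' _ k hk
  rw [sup_assoc] at hl
  refine ⟨l, hl, fun x hx => (hle x (Subgroup.mem_sup_left hx)).trans (hke x hx), fun x hx => ?_⟩
  refine (hl.restrict le_sup_right).eqOn_sup (isMor_id (sup_le hQ hU)) (fun z hz => ?_) hlU hx
  exact (hle z (Subgroup.mem_sup_right hz)).trans (hkQ z hz)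

theorem isCentral_center [Finite S] (F : FusionSystem S) : F.IsCentral F.center := by
  have hfin : {Q : Subgroup Ω | F.IsCentral Q}.Finite :=
    (setOf_le_finite S).subset fun Q hQ => hQ.1
  suffices h : ∀ T : Set (Subgroup Ω), T.Finite → T ⊆ {Q | F.IsCentral Q} → F.IsCentral (sSup T) from
    h _ hfin le_rfl
  intro T hT
  induction T, hT using Set.Finite.induction_on with
  | empty => intro; rw [sSup_empty]; exact isCentral_bot
  | @insert a T _ _ ih =>
    intro h
    rw [sSup_insert]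
    exact isCentral_sup (h (Set.mem_insert _ _)) (ih fun x hx => h (Set.mem_insert_of_mem _ hx))

theorem isCentral_iff_isConjElt [Finite S] [Fact p.Prime] (hS : IsPGroup p S) (hF : F.IsSaturated p) :
    F.IsCentral Q ↔ (Q ≤ S ∧ ∀ x ∈ Q, ∀ y : Ω, F.IsConjElt x y → y = x) := by
  constructor
  · intro h
    refine ⟨h.1, fun x hx y hy => ?_⟩
    obtain ⟨φ, hφ, rfl⟩ := hy
    obtain ⟨k, -, he, hk⟩ := (isCentral_iff.1 h).2 _ _ (isMor_extFun hφ)
    have e := he x (Subgroup.mem_zpowers x)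
    rw [extFun_apply φ (Subgroup.mem_zpowers x)] at e
    exact e.symm.trans (hk x hx)
  · rintro ⟨hQ, h⟩
    have hfix : ∀ P f, IsMor F P f → ∀ x ∈ Q, x ∈ P → f x = x := fun P f hf x hx hxP => by
      obtain ⟨φ, hφ, he⟩ := hf.restrict (Subgroup.zpowers_le.2 hxP)
      refine h x hx _ ⟨φ, hφ, ?_⟩
      rw [he]
    have hC : S ≤ Subgroup.centralizer (Q : Set Ω) := fun a ha =>
      Subgroup.mem_centralizer_iff.2 fun x hx => by
        have e := hfix Q _ (isMor_conj (F := F) hQ ha) x hx hx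
        calc x * a = (a * x * a⁻¹) * a := by rw [e]
          _ = a * x := by group
    have hn : S ≤ Subgroup.normalizer (Q : Set Ω) := hC.trans (centralizer_le_normalizer_set Q)
    let M : SelfCond F Q S :=
      { M := fun k => ∀ x ∈ Q, k x = x
        conj := fun {a} ha x hx => by
          show a * x * a⁻¹ = x
          rw [← Subgroup.mem_centralizer_iff.1 (hC ha) x hx, mul_inv_cancel_right]
        comp := fun {k l} _ hk _ hl x hx => by rw [Function.comp_apply, hk x hx, hl x hx]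
        symm := fun {k l} _ hk _ hl x hx => by
          have := hl x hx
          rwa [hk x hx] at this }
    have hle : F ≤ (extCondOn F hQ le_rfl hn M).system := le_of_essential hS hF fun P hP => by
      have hPS : P ≤ S := hP.elim le_of_eq fun h => h.1.1
      have hQP : Q ≤ P := by
        rcases hP with rfl | hP
        · exact hQ
        · intro x hx
          refine centralizerIn_le_of_isCentric hP.1 (mem_centralizerIn.2 ⟨hQ hx, fun y hy => ?_⟩)
          exact (Subgroup.mem_centralizer_iff.1 (hC (hPS hy)) x hx).symm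
      intro α hα
      have hm := isMor_of_mem_autGroup hPS hα
      refine mem_autGroup_of_isMor ((MapCond.isMor_system _).2 ⟨hm, autFun α,
        by rwa [sup_eq_left.2 hQP], fun _ _ => rfl,
        (hm.restrict hQP).isIso_self (fun x hx => ?_), fun x hx => hfix P _ hm x hx (hQP hx)⟩)
        fun x => (autFun_coe α x).symm
      rw [hfix P _ hm x hx (hQP hx)]
      exact hx
    refine isCentral_iff.2 ⟨hQ, fun P f hf => ?_⟩
    obtain ⟨k, hk, he, -, hkQ⟩ := ((MapCond.isMor_system _).1 (le_iff_isMor.1 hle P f hf)).2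
    exact ⟨k, hk, he, hkQ⟩

end Cfsg.Agent.Fusion
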