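import Mathlib
import Cfsg.Agent.Lib.Fusion.Normal

/-!
Extensions from centric subgroups are unique up to the centre; consequences for saturated subsystems.
-/

set_option autoImplicit false

namespace Cfsg.Agent.Fusion

open Cfsg Cfsg.FusionSystem

variable {Ω : Type*} [Group Ω] {S : Subgroup Ω} {F E : FusionSystem S} {P Q R U : Subgroup Ω}
  {f g : Ω → Ω} {p : ℕ}

theorem IsMor.of_le (h : IsMor E P f) (hle : E ≤ F) : IsMor F P f := le_iff_isMor.1 hle P f h

theorem IsIso.of_le (h : IsIso E P Q f) (hle : E ≤ F) : IsIso F P Q f := ⟨h.1.of_le hle, h.2⟩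

theorem isCentric_of_ge (hQ : F.IsCentric Q) (hQP : Q ≤ P) (hP : P ≤ S) : F.IsCentric P := by
  refine ⟨hP, fun R hR => ?_⟩
  obtain ⟨u, hu⟩ := isConj_iff_exists_isIso.1 hR
  have hi := hu.restrict hQP
  intro c hc
  refine hu.image_le hQP (hQ.2 _ hi.isConj (mem_centralizerIn.2 ⟨(mem_centralizerIn.1 hc).1, fun y hy => ?_⟩))
  exact (mem_centralizerIn.1 hc).2 y (hu.image_le hQP hy)

theorem isCentric_of_sub (hle : E ≤ F) (hP : F.IsCentric P) : E.IsCentric P :=
  ⟨hP.1, fun R hR => hP.2 R (by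
    obtain ⟨u, hu⟩ := isConj_iff_exists_isIso.1 hR
    exact (hu.of_le hle).isConj)⟩

variable [Finite S] [Fact p.Prime]

/-- An automorphism fixing a normal centric subgroup pointwise is conjugation by an element of its
centre. -/
theorem exists_inner_of_fixing (hS : IsPGroup p S) (hF : F.IsSaturated p) (hQ : F.IsCentric Q)
    (hQP : Q ≤ P) (hPS : P ≤ S) (hPQ : P ≤ Subgroup.normalizer (Q : Set Ω)) {α : MulAut P}
    (hα : α ∈ F.autGroup P) (hfix : ∀ x ∈ Q, autFun α x = x) :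
    ∃ z ∈ Q, z ∈ Subgroup.centralizer (Q : Set Ω) ∧ ∀ y ∈ P, autFun α y = z * y * z⁻¹ := by
  have hm := isMor_of_mem_autGroup hPS hα
  have hPf := finite_of_le hPS
  -- `α` has `p`-power order
  obtain ⟨k, hk⟩ := exists_pow_eq_one_of_stabilizes (p := p) (m := 2) (α := α) (hS.to_le hPS)
    (fun i => if i = 0 then ⊥ else if i = 1 then Q.subgroupOf P else ⊤) (by simp) (by simp) (by
      intro i hi
      rcases i with _ | _ | i
      · simp
      · simp
      · omega) (by
      intro i hi x hx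
      rcases i with _ | _ | i
      · simp only [zero_add, one_ne_zero, ↓reduceIte] at hx ⊢
        rw [Subgroup.mem_bot]
        have e : α x = x := Subtype.ext (by rw [← autFun_coe]; exact hfix x hx)
        rw [e, inv_mul_cancel]
      · simp only [zero_add, one_ne_zero, ↓reduceIte]
        show ((x⁻¹ * α x : P) : Ω) ∈ Q
        refine centralizerIn_le_of_isCentric hQ (mem_centralizerIn.2 ⟨hPS (x⁻¹ * α x).2, fun y hy => ?_⟩)
        rw [Subgroup.coe_mul, Subgroup.coe_inv, ← autFun_coe]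
        have hxy := conj_mem_of_mem_normalizer (hPQ x.2) hy
        have e := hm.map_conj (hQP hy) x.2
        rw [hfix y hy, hfix _ hxy] at e
        calc y * ((x : Ω)⁻¹ * autFun α x) = (x : Ω)⁻¹ * ((x : Ω) * y * (x : Ω)⁻¹) * autFun α x := by group
          _ = (x : Ω)⁻¹ * (autFun α x * y * (autFun α x)⁻¹) * autFun α x := by rw [e]
          _ = (x : Ω)⁻¹ * autFun α x * y := by group
      · omega)
  obtain ⟨R, hc, hR⟩ := exists_fullyNormalized (F := F) hPS
  obtain ⟨u, hu⟩ := isConj_iff_exists_isIso.1 hc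
  obtain ⟨hA, -⟩ := fullyNormalized_receptive hS hF hR
  obtain ⟨ui, hui, hul, hur⟩ := hu.exists_symm
  have hθ : IsIso F R R (u ∘ autFun α ∘ ui) := (hui.trans (isIso_autFun hPS hα)).trans hu
  have hθp : autOf hθ ^ (p ^ k) = 1 := by
    have hn : ∀ n : ℕ, ∀ x : R, ((autOf hθ ^ n) x : Ω) = u (autFun (α ^ n) (ui x)) := by
      intro n
      induction n with
      | zero => intro x; simp [autFun_one (hui.apply_mem x.2), hur _ x.2]
      | succ n ih =>
        intro x
        rw [pow_succ', MulAut.mul_apply, autOf_apply, pow_succ', autFun_mul _ _ (hui.apply_mem x.2)]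
        show u (autFun α (ui _)) = _
        rw [ih x, hul _ (autFun_mem _ (hui.apply_mem x.2))]
    refine MulEquiv.ext fun x => Subtype.ext ?_
    rw [hn, hk, autFun_one (hui.apply_mem x.2), hur _ x.2]
    rfl
  obtain ⟨γ, hγ, hconj⟩ := exists_conj_le_autInducedBy hA (T := Subgroup.zpowers (autOf hθ))
    (Subgroup.zpowers_le.2 (autOf_mem hθ)) (by
      rintro ⟨_, n, rfl⟩
      refine ⟨k, Subtype.ext ?_⟩
      show ((autOf hθ) ^ n) ^ (p ^ k) = 1
      rw [← zpow_natCast, ← zpow_mul, mul_comm, zpow_mul, zpow_natCast, hθp, one_zpow])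
  obtain ⟨s, hs, -, hx⟩ := mem_autInducedBy.1 (hconj _ (Subgroup.mem_zpowers _))
  -- `v` transports `α` to conjugation by `s`
  have hv : IsIso F P R (autFun γ ∘ u) := hu.trans (isIso_autFun hu.le' hγ)
  have key : ∀ y ∈ P, (autFun γ ∘ u) (autFun α y) = s * (autFun γ ∘ u) y * s⁻¹ := by
    intro y hy
    have h1 := hx (γ ⟨u y, hu.apply_mem hy⟩)
    have h2 : autOf hθ ⟨u y, hu.apply_mem hy⟩ = ⟨u (autFun α y), hu.apply_mem (autFun_mem α hy)⟩ :=
      Subtype.ext (by
        rw [autOf_apply]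
        show u (autFun α (ui (u y))) = _
        rw [hul y hy])
    simp only [MulAut.mul_apply, MulAut.inv_apply_self, h2] at h1
    rw [Function.comp_apply, Function.comp_apply, autFun_apply _ (hu.apply_mem (autFun_mem α hy)),
      autFun_apply _ (hu.apply_mem hy)]
    exact h1
  have hi := hv.restrict hQP
  have hsc : s ∈ centralizerIn S (hv.1.image Q hQP) := by
    refine mem_centralizerIn.2 ⟨hs, ?_⟩
    rintro _ ⟨q, hq, rfl⟩
    have e := key q (hQP hq)
    rw [hfix q hq] at e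
    calc (autFun γ ∘ u) q * s = (s * (autFun γ ∘ u) q * s⁻¹) * s := by rw [← e]
      _ = s * (autFun γ ∘ u) q := by group
  obtain ⟨z, hz, hzs⟩ := hi.exists_apply (centralizerIn_le_of_isCentric (isCentric_of_isConj hQ hi.isConj) hsc)
  refine ⟨z, hz, Subgroup.mem_centralizer_iff.2 fun q hq => ?_, fun y hy => ?_⟩
  · refine hv.1.injOn (P.mul_mem (hQP hq) (hQP hz)) (P.mul_mem (hQP hz) (hQP hq)) ?_
    rw [hv.1.map_mul (hQP hq) (hQP hz), hv.1.map_mul (hQP hz) (hQP hq), hzs]
    exact (mem_centralizerIn.1 hsc).2 _ ⟨q, hq, rfl⟩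
  · refine hv.1.injOn (autFun_mem α hy) (P.mul_mem (P.mul_mem (hQP hz) hy) (P.inv_mem (hQP hz))) ?_
    rw [key y hy, hv.1.map_conj hy (hQP hz), hzs]

/-- Two maps agreeing on a centric subgroup differ by an element of its centre. -/
theorem exists_twist_of_eqOn_centric (hS : IsPGroup p S) (hF : F.IsSaturated p) (hQ : F.IsCentric Q)
    (hQP : Q ≤ P) (hf : IsMor F P f) (hg : IsMor F P g) (h : ∀ x ∈ Q, f x = g x) :
    ∃ z ∈ Q, z ∈ Subgroup.centralizer (Q : Set Ω) ∧ ∀ y ∈ P, g y = f (z * y * z⁻¹) := by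
  induction hn : Nat.card P - Nat.card Q using Nat.strong_induction_on generalizing Q f with
  | _ n ih =>
  subst hn
  rcases eq_or_lt_of_le hQP with hEq | hlt
  · exact ⟨1, one_mem _, one_mem _, fun y hy => by
      rw [one_mul, inv_one, mul_one]
      exact (h y (hEq ▸ hy)).symm⟩
  have hPS := hf.le
  have := finite_of_le hPS
  have hlt1 : Q < normalizerIn P Q := normalizerIn_self_lt (p := p) (hS.to_le hPS) hlt
  set Q1 := normalizerIn P Q with hQ1
  have hQ1P : Q1 ≤ P := inf_le_left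
  have hQQ1 : Q ≤ Q1 := hlt1.le
  -- compare on `N_P(Q)`
  have hiQ := (hf.restrict hQP).isIso
  have hfQ := isCentric_of_isConj hQ hiQ.isConj
  have hdiff : ∀ y ∈ Q1, (f y)⁻¹ * g y ∈ hf.image Q hQP := by
    intro y hy
    refine centralizerIn_le_of_isCentric hfQ
      (mem_centralizerIn.2 ⟨mul_mem (inv_mem (hf.mem (hQ1P hy))) (hg.mem (hQ1P hy)), ?_⟩)
    rintro _ ⟨q, hq, rfl⟩
    have hyq := conj_mem_of_mem_normalizer hy.2 hq
    have e1 := hf.map_conj (hQP hq) (hQ1P hy)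
    have e2 := hg.map_conj (hQP hq) (hQ1P hy)
    rw [h _ hyq, e2, ← h q hq] at e1
    calc f q * ((f y)⁻¹ * g y) = (f y)⁻¹ * (f y * f q * (f y)⁻¹) * g y := by group
      _ = (f y)⁻¹ * (g y * f q * (g y)⁻¹) * g y := by rw [e1]
      _ = (f y)⁻¹ * g y * f q := by group
  have hif := (hf.restrict hQ1P).isIso
  have hgm : ∀ y ∈ Q1, g y ∈ (hf.restrict hQ1P).image Q1 le_rfl := by
    intro y hy
    obtain ⟨q, hq, e⟩ := hdiff y hy
    refine ⟨y * q, Q1.mul_mem hy (hQQ1 hq), ?_⟩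
    rw [hf.map_mul (hQ1P hy) (hQP hq), e, mul_inv_cancel_left]
  obtain ⟨fi, hfi, hfl, hfr⟩ := hif.exists_symm
  have hθm : IsMor F Q1 (fi ∘ g) := (hg.restrict hQ1P).comp hfi.1 hgm
  have hθ := hθm.isIso_self fun y hy => hfi.apply_mem (hgm y hy)
  obtain ⟨z, hz, hzc, hzy⟩ := exists_inner_of_fixing hS hF hQ hQQ1 (hQ1P.trans hPS) inf_le_right
    (autOf_mem hθ) fun x hx => by
      rw [autFun_apply _ (hQQ1 hx), autOf_apply]
      show fi (g x) = x
      rw [← h x hx, hfl x (hQQ1 hx)]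
  have hf1 : IsMor F P (fun y => f (z * y * z⁻¹)) :=
    (isMor_conj hPS (hPS (hQP hz))).comp hf fun y hy =>
      P.mul_mem (P.mul_mem (hQP hz) hy) (P.inv_mem (hQP hz))
  have hagree : ∀ y ∈ Q1, f (z * y * z⁻¹) = g y := by
    intro y hy
    rw [← hzy y hy, autFun_apply _ hy, autOf_apply]
    exact hfr _ (hgm y hy)
  have hlt2 := card_lt_of_lt (S := S) (hQ1P.trans hPS) hlt1
  have hle2 : Nat.card Q1 ≤ Nat.card P :=
    Nat.card_le_card_of_injective (Subgroup.inclusion hQ1P) (Subgroup.inclusion_injective _)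
  obtain ⟨w, hw, hwc, hwy⟩ := ih _ (by omega) (isCentric_of_ge hQ hQQ1 (hQ1P.trans hPS)) hQ1P hf1
    hagree rfl
  have hwQ : w ∈ Q := centralizerIn_le_of_isCentric hQ (mem_centralizerIn.2
    ⟨hPS (hQ1P hw), fun q hq => Subgroup.mem_centralizer_iff.1 hwc q (hQQ1 hq)⟩)
  refine ⟨z * w, Q.mul_mem hz hwQ, Subgroup.mul_mem _ hzc
    (Subgroup.mem_centralizer_iff.2 fun q hq => Subgroup.mem_centralizer_iff.1 hwc q (hQQ1 hq)), fun y hy => ?_⟩
  rw [hwy y hy]
  congr 1
  group

/-- A map of `F` whose restriction to an `F`-centric subgroup lies in a saturated subsystem lies in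
it. -/
theorem isMor_sub_of_centric (hS : IsPGroup p S) (hF : F.IsSaturated p) (hE : E.IsSaturated p)
    (hle : E ≤ F) (hQ : F.IsCentric Q) (hQU : Q ≤ U) (hf : IsMor F U f) (hfQ : IsMor E Q f) :
    IsMor E U f := by
  induction hn : Nat.card U - Nat.card Q using Nat.strong_induction_on generalizing Q with
  | _ n ih =>
  subst hn
  rcases eq_or_lt_of_le hQU with hEq | hlt
  · exact hEq ▸ hfQ
  have hUS := hf.le
  have := finite_of_le hUS
  have hlt1 : Q < normalizerIn U Q := normalizerIn_self_lt (p := p) (hS.to_le hUS) hlt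
  set Q1 := normalizerIn U Q with hQ1
  have hQ1U : Q1 ≤ U := inf_le_left
  have hQQ1 : Q ≤ Q1 := hlt1.le
  have hiQ : IsIso E Q (hfQ.image Q le_rfl) f := hfQ.isIso
  have hc : F.IsCentric (hfQ.image Q le_rfl) := isCentric_of_isConj hQ (hiQ.of_le hle).isConj
  have hrec := fullyCentralized_receptive hS hE (fullyCentralized_of_isCentric (isCentric_of_sub hle hc))
  obtain ⟨k, hk, hke⟩ := exists_extension hrec hiQ (R := Q1) fun a ha =>
    ⟨hUS (hQ1U ha), ha.2, f a, hf.mem (hQ1U ha), fun x hx => hf.map_conj (hQU hx) (hQ1U ha)⟩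
  obtain ⟨z, hz, -, hzy⟩ := exists_twist_of_eqOn_centric hS hF hQ hQQ1 (hk.of_le hle)
    (hf.restrict hQ1U) fun x hx => hke x hx (hQQ1 hx)
  have h1 : IsMor E Q1 f :=
    ((isMor_conj (hQ1U.trans hUS) (hQ.1 hz)).comp hk fun y hy =>
      Q1.mul_mem (Q1.mul_mem (hQQ1 hz) hy) (Q1.inv_mem (hQQ1 hz))).congr fun y hy => hzy y hy
  have hlt2 := card_lt_of_lt (S := S) (hQ1U.trans hUS) hlt1
  have hle2 : Nat.card Q1 ≤ Nat.card U :=
    Nat.card_le_card_of_injective (Subgroup.inclusion hQ1U) (Subgroup.inclusion_injective _)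
  exact ih _ (by omega) (isCentric_of_ge hQ hQQ1 (hQ1U.trans hUS)) hQ1U h1 rfl

/-- Two-out-of-three for maps between centric subgroups. -/
theorem isMor_sub_two_of_three (hS : IsPGroup p S) (hF : F.IsSaturated p) (hE : E.IsSaturated p)
    (hle : E ≤ F) (hQ : F.IsCentric Q) (hf : IsMor F Q f) (hfR : ∀ x ∈ Q, f x ∈ R) (hg : IsMor F R g) :
    (IsMor E R g → IsMor E Q (g ∘ f) → IsMor E Q f) ∧
      (IsMor E Q f → IsMor E Q (g ∘ f) → IsMor E R g) := by
  have hsub : hf.image Q le_rfl ≤ R := by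
    rintro _ ⟨x, hx, rfl⟩
    exact hfR x hx
  constructor
  · intro hgE hgf
    obtain ⟨gi, hgi, hgl, -⟩ := hgE.isIso.exists_symm
    refine (hgf.comp hgi.1 fun x hx => hgE.isIso.apply_mem (hfR x hx)).congr fun x hx => ?_
    exact (hgl _ (hfR x hx)).symm
  · intro hfE hgf
    obtain ⟨fi, hfi, -, hfr⟩ := hfE.isIso.exists_symm
    refine isMor_sub_of_centric hS hF hE hle (isCentric_of_isConj hQ hf.isIso.isConj) hsub hg ?_
    refine (hfi.1.comp hgf fun x hx => hfi.apply_mem hx).congr fun y hy => ?_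
    show g y = g (f (fi y))
    rw [hfr y hy]

end Cfsg.Agent.Fusion
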