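import Mathlib
import Cfsg.Prelude.Def_FusionComponents
import Cfsg.Agent.Lib.Fusion.Centric
import Cfsg.Agent.Lib.Fusion.GroupSystem

/-!
Invariant subsystems and simplicity criteria.
-/

set_option autoImplicit false

namespace Cfsg.Agent.Fusion

open Cfsg Cfsg.FusionSystem

variable {Ω : Type*} [Group Ω] {S : Subgroup Ω} {F E : FusionSystem S} {T P Q R U : Subgroup Ω}
  {D : FusionSystem T} {f g u : Ω → Ω} {p : ℕ}

theorem isMor_of_subsystem (hD : D.IsSubsystemOf F) (h : IsMor D P f) : IsMor F P f := by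
  obtain ⟨φ, hφ, he⟩ := h
  exact ⟨φ, hD P hφ, he⟩

theorem le_of_subsystem (hD : D.IsSubsystemOf F) : T ≤ S := by
  obtain ⟨φ, hφ, -⟩ := isMor_id (F := D) (le_refl T)
  exact (F.le_of_mem (hD T hφ)).1

theorem subnormal_le {S T : Subgroup Ω} {F : FusionSystem S} {D : FusionSystem T}
    (hD : D.IsSubnormalIn F p) : T ≤ S := by
  induction hD with
  | refl F p => exact le_rfl
  | step h1 h2 ih => exact ih.trans (le_of_subsystem h2.1.2.2.1)

theorem invariant_transport (h : D.IsInvariantIn F) (hf : IsMor D P f) {α : MulAut T}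
    (hα : α ∈ F.autGroup T) :
    ∃ (P' : Subgroup Ω) (k : Ω → Ω), (∀ y, y ∈ P' ↔ ∃ x ∈ P, autFun α x = y) ∧ IsMor D P' k ∧
      ∀ x ∈ P, k (autFun α x) = autFun α (f x) := by
  have hP : P ≤ T := hf.le
  obtain ⟨φ, hφ, he⟩ := hf
  obtain ⟨χ, hχ, hx⟩ := h.2.2.1 P hP φ hφ α hα
  refine ⟨_, extFun χ, fun y => ?_, isMor_extFun hχ, fun x hxP => ?_⟩
  · constructor
    · rintro ⟨x, hx', rfl⟩
      exact ⟨x, hx', autFun_coe α x⟩
    · rintro ⟨x, hx', rfl⟩
      exact ⟨⟨x, hP hx'⟩, hx', (autFun_apply α (hP hx')).symm⟩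
  · have hφx : φ ⟨x, hxP⟩ ∈ T := (D.le_of_mem hφ).2 _
    have hmem : ((α ⟨x, hP hxP⟩ : T) : Ω) ∈ (P.subgroupOf T).map (T.subtype.comp α.toMonoidHom) :=
      ⟨⟨x, hP hxP⟩, hxP, rfl⟩
    have e1 := hx ⟨x, hxP⟩ hφx hmem
    rw [autFun_apply α (hP hxP), extFun_apply χ hmem]
    rw [e1, ← autFun_apply α hφx]
    exact congrArg (autFun α) (he ⟨x, hxP⟩)

theorem invariant_frattini (h : D.IsInvariantIn F) (hP : P ≤ T) (hf : IsMor F P f) :
    ∃ α ∈ F.autGroup T, ∃ g, IsMor D P g ∧ ∀ x ∈ P, f x = autFun α (g x) := by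
  obtain ⟨φ, hφ, he⟩ := hf
  obtain ⟨α, hα, φ₀, hφ₀, hx⟩ := h.2.2.2 P hP φ hφ
  refine ⟨α, hα, extFun φ₀, isMor_extFun hφ₀, fun x hxP => ?_⟩
  have hm : φ₀ ⟨x, hxP⟩ ∈ T := (D.le_of_mem hφ₀).2 _
  rw [← he ⟨x, hxP⟩, hx ⟨x, hxP⟩ hm, extFun_apply φ₀ hxP, autFun_apply α hm]

/-- The subsystem is stable under transport by isomorphisms of the big system. -/
theorem invariant_conj (h : D.IsInvariantIn F) (hPT : P ≤ T) (hu : IsIso F P Q u) (hf : IsMor D P f)
    (hfP : ∀ x ∈ P, f x ∈ P) {ui : Ω → Ω} (huil : ∀ x ∈ P, ui (u x) = x) :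
    IsMor D Q (fun y => u (f (ui y))) := by
  obtain ⟨α, hα, g, hg, he⟩ := invariant_frattini h hPT hu.1
  obtain ⟨gi, hgi, hgl, hgr⟩ := hg.isIso.exists_symm
  have h0 : IsMor D (hg.image P le_rfl) (g ∘ f ∘ gi) :=
    (hgi.1.comp hf fun y hy => hgi.apply_mem hy).comp hg fun y hy => hfP _ (hgi.apply_mem hy)
  obtain ⟨P', k, hP', hk, hkx⟩ := invariant_transport h h0 hα
  have hQ : P' = Q := by
    ext y
    rw [hP', hu.2]
    constructor
    · rintro ⟨_, ⟨x, hx, rfl⟩, rfl⟩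
      exact ⟨x, hx, he x hx⟩
    · rintro ⟨x, hx, rfl⟩
      exact ⟨g x, ⟨x, hx, rfl⟩, (he x hx).symm⟩
  subst hQ
  refine hk.congr fun y hy => ?_
  obtain ⟨x, hx, rfl⟩ := hu.exists_apply hy
  rw [huil x hx, he x hx, hkx (g x) ⟨x, hx, rfl⟩]
  show u (f x) = autFun α (g (f (gi (g x))))
  rw [hgl x hx, he _ (hfP x hx)]

theorem autGroup_conj_mem (hE : E ≤ F)
    (hinv : ∀ (P Q : Subgroup Ω) (f u ui : Ω → Ω), IsIso F P Q u → IsMor E P f → (∀ x ∈ P, f x ∈ P) →
      (∀ x ∈ P, ui (u x) = x) → IsMor E Q (fun y => u (f (ui y))))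
    (hP : P ≤ S) {α γ : MulAut P} (hα : α ∈ E.autGroup P) (hγ : γ ∈ F.autGroup P) :
    γ * α * γ⁻¹ ∈ E.autGroup P := by
  refine mem_autGroup_of_isMor (hinv P P _ _ (autFun γ⁻¹) (isIso_autFun hP hγ)
    (isMor_of_mem_autGroup hP hα) (fun x hx => autFun_mem α hx) fun x hx => ?_) fun x => ?_
  · rw [← autFun_mul _ _ hx, inv_mul_cancel, autFun_one hx]
  · rw [← autFun_coe, autFun_mul _ _ x.2, autFun_mul _ _ (autFun_mem _ x.2)]

section Saturated

variable [Finite S] [Fact p.Prime]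

/-- A normal subgroup of `Aut_F(P)` containing a Sylow subgroup contains all `p`-elements. -/
theorem mem_sub_of_pow (hS : IsPGroup p S) (hA : F.IsFullyAutomized p P)
    (hn : ∀ α ∈ E.autGroup P, ∀ γ ∈ F.autGroup P, γ * α * γ⁻¹ ∈ E.autGroup P) {β : MulAut P}
    (hβ : β ∈ F.autGroup P) {k : ℕ} (hk : β ^ (p ^ k) = 1) : β ∈ E.autGroup P := by
  obtain ⟨γ, hγ, hconj⟩ := exists_conj_le_autInducedBy hA (T := Subgroup.zpowers β)
    (Subgroup.zpowers_le.2 hβ) (by
      rintro ⟨_, n, rfl⟩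
      refine ⟨k, Subtype.ext ?_⟩
      show (β ^ n) ^ (p ^ k) = 1
      rw [← zpow_natCast, ← zpow_mul, mul_comm, zpow_mul, zpow_natCast, hk, one_zpow])
  have := hn _ (autInducedBy_le_autGroup hA.1 (hconj β (Subgroup.mem_zpowers β))) γ⁻¹ (inv_mem hγ)
  simpa [mul_assoc] using this

theorem isFullyNormalized_of_sub (hle : E ≤ F) (h : F.IsFullyNormalized P) : E.IsFullyNormalized P :=
  ⟨h.1, fun R hR => h.2 R (by
    obtain ⟨v, hv⟩ := isConj_iff_exists_isIso.1 hR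
    exact (hv.of_le hle).isConj)⟩

variable (hS : IsPGroup p S) (hF : F.IsSaturated p) (hE : E.IsSaturated p)
include hS hF hE

/-- A saturated invariant subsystem with the same automorphisms of `S` is everything. -/
theorem le_of_normalizing (hle : E ≤ F)
    (hn : ∀ P ≤ S, ∀ α ∈ E.autGroup P, ∀ γ ∈ F.autGroup P, γ * α * γ⁻¹ ∈ E.autGroup P)
    (htop : F.autGroup S ≤ E.autGroup S) : F ≤ E := by
  refine alperin_induction hS hF fun P hP α hα hbig => isMor_of_mem_autGroup hP.1 ?_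
  rcases eq_or_lt_of_le hP.1 with h | h
  · subst h
    exact htop hα
  obtain ⟨-, hR⟩ := fullyNormalized_receptive hS hF hP
  obtain ⟨hAE, -⟩ := fullyNormalized_receptive hS hE (isFullyNormalized_of_sub hle hP)
  have hTE : autInducedBy S P ≤ E.autGroup P := autInducedBy_le_autGroup hP.1
  obtain ⟨γ, hγ, hconj⟩ := exists_conj_le_autInducedBy hAE
    (T := (autInducedBy S P).map (MulAut.conj α).toMonoidHom) (by
      rintro _ ⟨t, ht, rfl⟩
      exact hn P hP.1 t (hTE ht) α hα) ((isPGroup_autInducedBy hS P).map _)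
  obtain ⟨a, ha, haP⟩ := SetLike.exists_of_lt (normalizerIn_self_lt (p := p) hS h)
  obtain ⟨b, hb, -, hx⟩ := mem_autInducedBy.1
    (hconj _ ⟨_, (conjAut_mem (F := F) hP.1 ha).1, rfl⟩)
  have hγF : γ ∈ F.autGroup P := autGroup_mono hle P hγ
  have hext : γ * α ∈ extSet F P := by
    refine mem_extSet_of_conj hR (mul_mem hγF hα) ha haP hb fun x hxP => ?_
    have e := hx ((γ * α) ⟨x, hxP⟩)
    rw [autFun_apply _ (conj_mem_of_mem_normalizer ha.2 hxP), autFun_apply _ hxP, ← e]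
    simp only [MulEquiv.coe_toMonoidHom, MulAut.conj_apply, MulAut.mul_apply, MulAut.inv_apply_self]
    rfl
  obtain ⟨Q, k, hPQ, hk, hke⟩ := mem_extSet.1 hext
  have h1 : γ * α ∈ E.autGroup P :=
    mem_autGroup_of_isMor ((hbig Q k (card_lt_of_lt hk.le hPQ) hk).restrict hPQ.le) fun x => (hke x).symm
  have := mul_mem (inv_mem hγ) h1
  rwa [inv_mul_cancel_left] at this

theorem isMor_top_of_pElements (hle : E ≤ F)
    (hn : ∀ P ≤ S, ∀ α ∈ E.autGroup P, ∀ γ ∈ F.autGroup P, γ * α * γ⁻¹ ∈ E.autGroup P)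
    (hQ : F.IsCentric Q) (hf : IsMor F S f) (hfQ : ∀ x ∈ Q, f x ∈ Q)
    (hmem : ∀ α : MulAut Q, (∀ x : Q, ((α x : Q) : Ω) = f x) → α ∈ E.autGroup Q) : IsMor E S f := by
  have hi := (hf.restrict hQ.1).isIso_self hfQ
  refine isMor_sub_of_centric hS hF hE hle hQ hQ.1 hf ?_
  exact (isMor_of_mem_autGroup hQ.1 (hmem (autOf hi) fun x => rfl)).congr fun x hx => by
    rw [autFun_apply _ hx, autOf_apply]

end Saturated

/-- A weakly normal subsystem over `S` containing `Aut_F(S)` is the whole system. -/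
theorem hom_eq_of_invariant_top (h : E.IsInvariantIn F) (htop : F.autGroup S ≤ E.autGroup S) :
    ∀ P : Subgroup Ω, E.Hom P = F.Hom P := by
  refine fun P => Set.Subset.antisymm (h.1 P) fun φ hφ => ?_
  obtain ⟨hPS, -⟩ := F.le_of_mem hφ
  obtain ⟨α, hα, g, hg, he⟩ := invariant_frattini h hPS (isMor_extFun hφ)
  have hc : IsMor E P (autFun α ∘ g) :=
    hg.comp (isMor_of_mem_autGroup le_rfl (htop hα)) fun x hx => hg.mem hx
  exact mem_hom_of_isMor hc fun x => (extFun_coe φ x).symm.trans (he x x.2)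

theorem isSimple_of_autGroup (hF : F.IsSaturated p) (hS1 : S ≠ ⊥)
    (hsc : ∀ T : Subgroup Ω, F.StronglyClosed T → T = ⊥ ∨ T = S)
    (htop : ∀ E : FusionSystem S, E.IsNormalIn F p → F.autGroup S ≤ E.autGroup S) : F.IsSimple p := by
  refine ⟨hF, hS1, fun T E hE => ?_⟩
  rcases hsc T hE.1.2.2.2.1 with h | h
  · exact Or.inl h
  · subst h
    exact Or.inr ⟨rfl, hom_eq_of_invariant_top hE.1.2.2 (htop E hE)⟩

/-! ### Strongly closed subsystems and fully normalized subgroups -/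

section StronglyClosed

variable [Finite S] [Fact p.Prime] (hS : IsPGroup p S) (hF : F.IsSaturated p)
include hS hF

theorem fullyNormalized_subsystem (hT : F.StronglyClosed T) (hD : D.IsSubsystemOf F) (hPT : P ≤ T)
    (hP : F.IsFullyNormalized P) : D.IsFullyNormalized P := by
  refine ⟨hPT, fun R hR => ?_⟩
  obtain ⟨v, hv⟩ := isConj_iff_exists_isIso.1 hR
  have hv' : IsIso F P R v := ⟨isMor_of_subsystem hD hv.1, hv.2⟩
  obtain ⟨g, g', hg, hg', hge, hmem⟩ :=
    exists_iso_to_fullyNormalized hS hF (isConj_symm hv'.isConj) hP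
  have := finite_of_le ((normalizerIn_le : normalizerIn T P ≤ T).trans hT.1)
  refine Nat.card_le_card_of_injective (fun a : normalizerIn T R => (⟨g' a,
    stronglyClosed_apply hT hg' ⟨hT.1 a.2.1, a.2.2⟩ a.2.1, (hmem a ⟨hT.1 a.2.1, a.2.2⟩).2⟩ :
      normalizerIn T P)) fun a b hab => ?_
  exact Subtype.ext (hg'.injOn ⟨hT.1 a.2.1, a.2.2⟩ ⟨hT.1 b.2.1, b.2.2⟩ (congrArg Subtype.val hab))

theorem fullyCentralized_subsystem (hT : F.StronglyClosed T) (hD : D.IsSubsystemOf F) (hPT : P ≤ T)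
    (hP : F.IsFullyCentralized P) : D.IsFullyCentralized P := by
  refine ⟨hPT, fun R hR => ?_⟩
  obtain ⟨v, hv⟩ := isConj_iff_exists_isIso.1 hR
  have hv' : IsIso F P R v := ⟨isMor_of_subsystem hD hv.1, hv.2⟩
  obtain ⟨vi, hvi, -, -⟩ := hv'.exists_symm
  obtain ⟨g', hg', hge⟩ := exists_extension_centralizer (fullyCentralized_receptive hS hF hP) hvi
  have hsub : ∀ a : centralizerIn T R, (a : Ω) ∈ centralizerIn S R := fun a => ⟨hT.1 a.2.1, a.2.2⟩
  have := finite_of_le ((centralizerIn_le : centralizerIn T P ≤ T).trans hT.1)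
  refine Nat.card_le_card_of_injective (fun a : centralizerIn T R => (⟨g' a,
    stronglyClosed_apply hT hg' (Subgroup.mem_sup_right (hsub a)) a.2.1,
    (hg'.apply_mem_centralizerIn le_sup_left (hvi.congr hge) (Subgroup.mem_sup_right (hsub a)) (hsub a)).2⟩ :
      centralizerIn T P)) fun a b hab => ?_
  exact Subtype.ext (hg'.injOn (Subgroup.mem_sup_right (hsub a)) (Subgroup.mem_sup_right (hsub b))
    (congrArg Subtype.val hab))

end StronglyClosed

theorem subnormal_fullyNormalized {S T : Subgroup Ω} {F : FusionSystem S}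
    {D : FusionSystem T} (hD : D.IsSubnormalIn F p) :
    Finite S → Fact p.Prime → IsPGroup p S → F.IsSaturated p → ∀ P, P ≤ T → F.IsFullyNormalized P →
      D.IsFullyNormalized P := by
  induction hD with
  | refl F p => exact fun _ _ _ _ _ _ h => h
  | step h1 h2 ih =>
    intro hfin hp hS hF P hPT hP
    have hUS := le_of_subsystem h2.1.2.2.1
    have hTU := subnormal_le h1
    exact ih (finite_of_le hUS) hp (hS.to_le hUS) h2.1.1 P hPT
      (fullyNormalized_subsystem hS hF h2.1.2.2.2.1 h2.1.2.2.1 (hPT.trans hTU) hP)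

end Cfsg.Agent.Fusion
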