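import Mathlib
import Cfsg.Agent.Lib.Fusion.Weakly
import Cfsg.Agent.Lib.Fusion.NormalCriteria

/-!
Sufficient conditions for simplicity; determination of saturated subsystems.
-/

set_option autoImplicit false

namespace Cfsg.Agent.Fusion

open Cfsg Cfsg.FusionSystem

section General

variable {Ω : Type*} [Group Ω] {S : Subgroup Ω} {F E : FusionSystem S} {P Q R U T : Subgroup Ω}
  {f g : Ω → Ω} {p : ℕ} [Finite S] [Fact p.Prime]

theorem exists_minimal_centric (hP : F.IsCentric P) :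
    ∃ Q ≤ P, F.IsCentric Q ∧ ∀ R : Subgroup Ω, R < Q → ¬ F.IsCentric R := by
  induction hn : Nat.card P using Nat.strong_induction_on generalizing P with
  | _ n ih =>
  subst hn
  by_cases h : ∀ R : Subgroup Ω, R < P → ¬ F.IsCentric R
  · exact ⟨P, le_rfl, hP, h⟩
  push Not at h
  obtain ⟨R, hR, hRc⟩ := h
  obtain ⟨Q, hQ, hQc, hmin⟩ := ih _ (card_lt_of_lt hP.1 hR) hRc rfl
  exact ⟨Q, hQ.trans hR.le, hQc, hmin⟩

theorem hom_eq_of_minimal_centric (hS : IsPGroup p S) (hF : F.IsSaturated p) (hE : E.IsSaturated p)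
    (hle : E ≤ F)
    (hmin : ∀ Q : Subgroup Ω, F.IsCentric Q → (∀ R : Subgroup Ω, R < Q → ¬ F.IsCentric R) →
      F.Hom Q = E.Hom Q) : F = E := by
  refine eq_of_le_of_le (le_of_essential hS hF fun P hP α hα => ?_) hle
  have hPc : F.IsCentric P := by
    rcases hP with rfl | hP
    · exact isCentric_of_fullyCentralized hS hF
        (fullyNormalized_fullyCentralized hS hF ⟨le_rfl, fun R _ => by
          have : Finite (normalizerIn P P) := finite_of_le normalizerIn_le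
          exact Nat.card_le_card_of_injective
            (Subgroup.inclusion (normalizerIn_le.trans (le_normalizerIn le_rfl)))
            (Subgroup.inclusion_injective _)⟩) inf_le_left
    · exact hP.1
  obtain ⟨Q, hQP, hQ, hQm⟩ := exists_minimal_centric hPc
  have hm := isMor_of_mem_autGroup hPc.1 hα
  obtain ⟨φ, hφ, he⟩ := hm.restrict hQP
  rw [hmin Q hQ hQm] at hφ
  exact mem_autGroup_of_isMor (isMor_sub_of_centric hS hF hE hle hQ hQP hm ⟨φ, hφ, he⟩)
    fun x => (autFun_coe α x).symm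

/-- Invariance in the form of statement S5338 gives equality. -/
theorem hom_eq_of_invariant (hS : IsPGroup p S) (hF : F.IsSaturated p) (hE : E.IsSaturated p)
    (hle : E ≤ F)
    (hinv : ∀ (Q : Subgroup Ω) (φ : ↥Q →* Ω), φ ∈ F.Hom Q → ∀ (R : Subgroup Ω) (hRQ : R ≤ Q) (ψ : ↥R →* Ω),
      ψ ∈ E.Hom R → ∀ (hψQ : ∀ x : R, ψ x ∈ Q), ∃ χ ∈ E.Hom ((R.subgroupOf Q).map φ),
        ∀ (x : R) (hx : φ ⟨(x : Ω), hRQ x.2⟩ ∈ (R.subgroupOf Q).map φ),
          χ ⟨φ ⟨(x : Ω), hRQ x.2⟩, hx⟩ = φ ⟨ψ x, hψQ x⟩)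
    (htop : E.autGroup S = F.autGroup S) : E = F := by
  refine eq_of_le_of_le hle (le_of_normalizing hS hF hE hle (fun P hP α hα γ hγ => ?_) htop.ge)
  obtain ⟨χ, hχ, hx⟩ := hinv P _ ((mem_autGroup hP).1 hγ) P le_rfl _ ((mem_autGroup hP).1 hα)
    fun x => (α x).2
  refine mem_autGroup_of_isMor (f := extFun χ) ((isMor_extFun hχ).restrict fun y hy =>
    ⟨γ⁻¹ ⟨y, hy⟩, (γ⁻¹ ⟨y, hy⟩).2, congrArg Subtype.val (γ.apply_symm_apply ⟨y, hy⟩)⟩) fun x => ?_
  have hm : ((γ (γ⁻¹ x) : P) : Ω) ∈ (P.subgroupOf P).map (P.subtype.comp γ.toMonoidHom) :=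
    ⟨γ⁻¹ x, (γ⁻¹ x).2, rfl⟩
  have e : χ ⟨_, hm⟩ = ((γ (α (γ⁻¹ x)) : P) : Ω) := hx (γ⁻¹ x) hm
  have hxe : γ (γ⁻¹ x) = x := γ.apply_symm_apply x
  have hm' : (x : Ω) ∈ (P.subgroupOf P).map (P.subtype.comp γ.toMonoidHom) := by
    have := hm
    rwa [hxe] at this
  rw [extFun_apply χ hm']
  refine Eq.trans ?_ (e.symm.trans (congrArg χ (Subtype.ext ?_)))
  · rfl
  · show ((γ (γ⁻¹ x) : P) : Ω) = x
    rw [hxe]

theorem isSimple_of_inn (hS : IsPGroup p S) (hF : F.IsSaturated p) (hS1 : S ≠ ⊥)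
    (htop : F.autGroup S = Inn S) (hsc : ∀ T : Subgroup Ω, F.StronglyClosed T → T = ⊥ ∨ T = S) :
    F.IsSimple p :=
  isSimple_of_autGroup hF hS1 hsc fun _ _ => htop ▸ inn_le_autGroup le_rfl

theorem stronglyClosed_eq_bot_or_top (hS : IsPGroup p S)
    (hgen : Subgroup.closure {x : Ω | x ∈ S ∧ orderOf x = p} = S)
    (htr : ∀ A B : Subgroup Ω, A ≤ S → B ≤ S → Nat.card A = p → Nat.card B = p → F.IsConj A B)
    (hT : F.StronglyClosed T) : T = ⊥ ∨ T = S := by
  rcases eq_or_ne T ⊥ with h | h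
  · exact Or.inl h
  refine Or.inr (le_antisymm hT.1 ?_)
  have hne : Nontrivial T := (Subgroup.nontrivial_iff_ne_bot T).2 h
  have := finite_of_le hT.1
  obtain ⟨k, hk⟩ := IsPGroup.iff_card.1 (hS.to_le hT.1)
  have hk0 : k ≠ 0 := fun h0 => by
    rw [h0, pow_zero] at hk
    exact (Finite.one_lt_card (α := T)).ne' hk
  obtain ⟨x, hx⟩ := exists_prime_orderOf_dvd_card' (G := T) p (hk ▸ dvd_pow_self p hk0)
  rw [← hgen, Subgroup.closure_le]
  rintro y ⟨hy, hyo⟩
  obtain ⟨φ, hφ, hr⟩ := htr (Subgroup.zpowers (x : Ω)) (Subgroup.zpowers y)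
    (Subgroup.zpowers_le.2 (hT.1 x.2)) (Subgroup.zpowers_le.2 hy)
    (by rw [Nat.card_zpowers, Subgroup.orderOf_coe, hx]) (by rw [Nat.card_zpowers, hyo])
  obtain ⟨z, hz⟩ := hr.ge (Subgroup.mem_zpowers y)
  rw [← hz]
  exact hT.2 _ (Subgroup.zpowers_le.2 x.2) φ hφ z

end General

section Group

variable {G : Type*} [Group G] [Finite G] {p : ℕ} [Fact p.Prime]

/-- Simplicity of `F_S(G)` from generation of `Aut_G(S)` by `p`-elements of local subgroups. -/
theorem isSimple_group (S : Sylow p G) (hS1 : (S : Subgroup G) ≠ ⊥)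
    (ha : ∀ T : Subgroup G, (groupFusionSystem (S : Subgroup G)).StronglyClosed T → T = ⊥ ∨ T = (S : Subgroup G))
    (hb : autInducedBy ⊤ (S : Subgroup G) ≤ ⨆ (R : Subgroup G) (_ : (groupFusionSystem (S : Subgroup G)).IsFullyNormalized R ∧
      (groupFusionSystem (S : Subgroup G)).IsRadical p R ∧ (groupFusionSystem (S : Subgroup G)).IsCentric R),
        autInducedBy (Subgroup.closure {g : G | g ∈ Subgroup.normalizer (R : Set G) ∧ ∃ k : ℕ, orderOf g = p ^ k}) (S : Subgroup G)) :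
    (groupFusionSystem (S : Subgroup G)).IsSimple p := by
  have hF := isSaturated_groupFusionSystem S
  refine isSimple_of_autGroup hF hS1 ha fun E hE => ?_
  have hle : E ≤ groupFusionSystem (S : Subgroup G) := hE.1.2.2.1
  have hn := fun P (hP : P ≤ (S : Subgroup G)) (α : MulAut P) (hα : α ∈ E.autGroup P) (γ : MulAut P)
      (hγ : γ ∈ (groupFusionSystem (S : Subgroup G)).autGroup P) =>
    autGroup_conj_mem hle (fun _ _ _ _ _ hu hf hfP hui => invariant_conj hE.1.2.2 hu.le hu hf hfP hui)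
      hP hα hγ
  rw [autGroup_groupFusionSystem le_rfl]
  refine hb.trans (iSup₂_le fun R hR α hα => ?_)
  obtain ⟨hRn, -, hRc⟩ := hR
  obtain ⟨g, hg, hgn, hgx⟩ := mem_autInducedBy.1 hα
  obtain ⟨hA, -⟩ := fullyNormalized_receptive S.isPGroup' hF hRn
  have hK : Subgroup.closure {g : G | g ∈ Subgroup.normalizer (R : Set G) ∧ ∃ k : ℕ, orderOf g = p ^ k} ≤
      ((E.autGroup R).comap R.normalizerMonoidHom).map (Subgroup.normalizer (R : Set G)).subtype := by
    rw [Subgroup.closure_le]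
    rintro x ⟨hx, k, hk⟩
    refine ⟨⟨x, hx⟩, Subgroup.mem_comap.2 (mem_sub_of_pow S.isPGroup' hA (hn R hRn.1) ?_ (k := k) ?_), rfl⟩
    · rw [autGroup_groupFusionSystem hRn.1]
      exact mem_autInducedBy.2 ⟨x, trivial, hx, fun _ => rfl⟩
    · rw [← map_pow, show (⟨x, hx⟩ : Subgroup.normalizer (R : Set G)) ^ (p ^ k) = 1 from
        Subtype.ext (by rw [Subgroup.coe_pow, ← hk, pow_orderOf_eq_one]; rfl), map_one]
  obtain ⟨⟨g', hgR⟩, hgE, e⟩ := hK hg
  obtain rfl : g' = g := e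
  have hgS : ∀ x ∈ (S : Subgroup G), g' * x * g'⁻¹ ∈ (S : Subgroup G) := fun x hx =>
    conj_mem_of_mem_normalizer hgn hx
  refine mem_autGroup_of_isMor (f := fun x => g' * x * g'⁻¹) ?_ hgx
  refine isMor_top_of_pElements S.isPGroup' hF hE.1.1 hle hn hRc
    (isMor_groupFusionSystem.2 ⟨le_rfl, hgS, g', fun _ _ => rfl⟩)
    (fun x hx => conj_mem_of_mem_normalizer hgR hx) fun β hβ => ?_
  have : β = R.normalizerMonoidHom ⟨g', hgR⟩ := MulEquiv.ext fun x => Subtype.ext (hβ x)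
  rw [this]
  exact hgE

end Group

end Cfsg.Agent.Fusion
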