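import Cfsg.Agent.Lib.Classical.Unitary
import Cfsg.Prelude.Def_CaseTheorems
import Mathlib.FieldTheory.Finite.Extension
import Mathlib.GroupTheory.Sylow

/-!
# Sylow 2-subgroups of `GL(2, q)` and `GU(2, q)`, `q` odd
-/

set_option autoImplicit false

namespace Cfsg.Agent.Fusion.GLTwoSylow

open Subgroup

theorem factorization_two {N e o : ℕ} (h : N = 2 ^ e * o) (ho : ¬ 2 ∣ o) : N.factorization 2 = e := by
  have ho0 : o ≠ 0 := fun h0 => ho (h0 ▸ dvd_zero 2)
  rw [h, Nat.factorization_mul (by positivity) ho0, Finsupp.add_apply,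
    Nat.Prime.factorization_pow Nat.prime_two, Finsupp.single_eq_same,
    Nat.factorization_eq_zero_of_not_dvd ho, add_zero]

theorem exists_two_pow {N : ℕ} (hN : N ≠ 0) : ∃ e o, ¬ 2 ∣ o ∧ N = 2 ^ e * o :=
  Nat.exists_eq_pow_mul_and_not_dvd hN 2 (by norm_num)

variable {G : Type*} [Group G] [Finite G]

theorem isPGroup_zpowers {x : G} {n : ℕ} (hx : orderOf x = 2 ^ n) : IsPGroup 2 (zpowers x) :=
  IsPGroup.of_card (n := n) (by rw [Nat.card_zpowers, hx])

theorem mem_normalizer_zpowers {x y : G} (h : y * x * y⁻¹ ∈ zpowers x) :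
    y ∈ normalizer (zpowers x : Set G) := by
  refine mem_normalizer_iff_map_conj_eq.2 (Subgroup.eq_of_le_of_card_ge ?_ (le_of_eq ?_))
  · rw [MonoidHom.map_zpowers, zpowers_le]
    exact h
  · exact (Nat.card_congr (equivMapOfInjective _ _ (MulAut.conj y).injective).toEquiv)

theorem quasiDihedral_of {x y : G} {n : ℕ} (hn : 3 ≤ n) (hx : orderOf x = 2 ^ n) (hy : orderOf y = 2)
    (hrel : y * x * y⁻¹ = x ^ (2 ^ (n - 1) - 1)) (hcard : (Nat.card G).factorization 2 = n + 1)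
    (P : Sylow 2 G) : Cfsg.IsQuasiDihedral (P : Subgroup G) := by
  haveI : Fact (Nat.Prime 2) := ⟨Nat.prime_two⟩
  have hnorm : y ∈ normalizer (zpowers x : Set G) :=
    mem_normalizer_zpowers (hrel ▸ pow_mem (mem_zpowers x) _)
  have hW : IsPGroup 2 ↥(zpowers y ⊔ zpowers x) :=
    IsPGroup.to_sup_of_normal_right' (isPGroup_zpowers (n := 1) (by rw [hy, pow_one]))
      (isPGroup_zpowers hx) (zpowers_le.2 hnorm)
  obtain ⟨Q, hQ⟩ := hW.exists_le_sylow
  obtain ⟨c, rfl⟩ := MulAction.exists_smul_eq G Q P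
  have hmem : ∀ g ∈ (Q : Subgroup G), c * g * c⁻¹ ∈ ((c • Q : Sylow 2 G) : Subgroup G) := by
    intro g hg
    rw [Sylow.coe_subgroup_smul]
    exact Subgroup.smul_mem_pointwise_smul g (MulAut.conj c) _ hg
  have hxQ : x ∈ (Q : Subgroup G) := hQ (mem_sup_right (mem_zpowers x))
  have hyQ : y ∈ (Q : Subgroup G) := hQ (mem_sup_left (mem_zpowers y))
  refine ⟨n, hn, by rw [Sylow.card_eq_multiplicity, hcard], ⟨_, hmem x hxQ⟩, ⟨_, hmem y hyQ⟩, ?_, ?_, ?_⟩
  · rw [Subgroup.orderOf_mk]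
    exact (MulEquiv.orderOf_eq (MulAut.conj c) x).trans hx
  · rw [Subgroup.orderOf_mk]
    exact (MulEquiv.orderOf_eq (MulAut.conj c) y).trans hy
  · refine Subtype.ext ?_
    show MulAut.conj c y * MulAut.conj c x * (MulAut.conj c y)⁻¹ = MulAut.conj c x ^ _
    rw [← map_inv, ← map_mul, ← map_mul, hrel, map_pow]

theorem wreathed_of {x y z : G} {n : ℕ} (hn : 2 ≤ n) (hx : orderOf x = 2 ^ n) (hxy : x * y = y * x)
    (hinf : zpowers x ⊓ zpowers y = ⊥) (hz : orderOf z = 2) (hrel : z * x * z⁻¹ = y)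
    (hrel' : z * y * z⁻¹ = x) (hcard : (Nat.card G).factorization 2 = 2 * n + 1)
    (P : Sylow 2 G) : Cfsg.IsWreathed (P : Subgroup G) := by
  haveI : Fact (Nat.Prime 2) := ⟨Nat.prime_two⟩
  have hy : orderOf y = 2 ^ n := by
    rw [← hrel, ← hx]; exact MulEquiv.orderOf_eq (MulAut.conj z) x
  have hA : IsPGroup 2 ↥(zpowers y ⊔ zpowers x) := by
    refine IsPGroup.to_sup_of_normal_right' (isPGroup_zpowers hy) (isPGroup_zpowers hx)
      (zpowers_le.2 (mem_normalizer_zpowers ?_))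
    rw [← hxy, mul_inv_cancel_right]
    exact mem_zpowers x
  have hnorm : z ∈ normalizer ((zpowers y ⊔ zpowers x : Subgroup G) : Set G) := by
    refine mem_normalizer_iff_map_conj_eq.2 ?_
    rw [Subgroup.map_sup, MonoidHom.map_zpowers, MonoidHom.map_zpowers, sup_comm]
    show zpowers (z * x * z⁻¹) ⊔ zpowers (z * y * z⁻¹) = _
    rw [hrel, hrel']
  have hW : IsPGroup 2 ↥(zpowers z ⊔ (zpowers y ⊔ zpowers x)) :=
    IsPGroup.to_sup_of_normal_right' (isPGroup_zpowers (n := 1) (by rw [hz, pow_one])) hA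
      (zpowers_le.2 hnorm)
  obtain ⟨Q, hQ⟩ := hW.exists_le_sylow
  obtain ⟨c, rfl⟩ := MulAction.exists_smul_eq G Q P
  have hmem : ∀ g ∈ (Q : Subgroup G), c * g * c⁻¹ ∈ ((c • Q : Sylow 2 G) : Subgroup G) := by
    intro g hg
    rw [Sylow.coe_subgroup_smul]
    exact Subgroup.smul_mem_pointwise_smul g (MulAut.conj c) _ hg
  have hzQ : z ∈ (Q : Subgroup G) := hQ (mem_sup_left (mem_zpowers z))
  have hxQ : x ∈ (Q : Subgroup G) := hQ (mem_sup_right (mem_sup_right (mem_zpowers x)))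
  have hyQ : y ∈ (Q : Subgroup G) := hQ (mem_sup_right (mem_sup_left (mem_zpowers y)))
  refine ⟨n, hn, by rw [Sylow.card_eq_multiplicity, hcard], ⟨_, hmem x hxQ⟩, ⟨_, hmem y hyQ⟩,
    ⟨_, hmem z hzQ⟩, ?_, ?_, ?_, ?_, ?_⟩
  · rw [Subgroup.orderOf_mk]
    exact (MulEquiv.orderOf_eq (MulAut.conj c) x).trans hx
  · refine Subtype.ext ?_
    show MulAut.conj c x * MulAut.conj c y = MulAut.conj c y * MulAut.conj c x
    rw [← map_mul, ← map_mul, hxy]
  · rw [eq_bot_iff]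
    rintro w ⟨h1, h2⟩
    obtain ⟨i, hi⟩ := mem_zpowers_iff.1 h1
    obtain ⟨j, hj⟩ := mem_zpowers_iff.1 h2
    have h1' := congrArg Subtype.val hi
    have h2' := congrArg Subtype.val hj
    rw [Subgroup.coe_zpow] at h1' h2'
    change (MulAut.conj c x) ^ i = (w : G) at h1'
    change (MulAut.conj c y) ^ j = (w : G) at h2'
    rw [← map_zpow] at h1' h2'
    have : x ^ i ∈ zpowers x ⊓ zpowers y :=
      ⟨zpow_mem (mem_zpowers x) i, mem_zpowers_iff.2 ⟨j, (MulAut.conj c).injective (h2'.trans h1'.symm)⟩⟩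
    rw [hinf, mem_bot] at this
    rw [this, map_one] at h1'
    exact mem_bot.2 (Subtype.ext h1'.symm)
  · rw [Subgroup.orderOf_mk]
    exact (MulEquiv.orderOf_eq (MulAut.conj c) z).trans hz
  · refine Subtype.ext ?_
    show MulAut.conj c z * MulAut.conj c x * (MulAut.conj c z)⁻¹ = MulAut.conj c y
    rw [← map_inv, ← map_mul, ← map_mul, hrel]

/-! ### `GL(2, q)` -/

variable {F : Type*} [Field F]

/-- Diagonal elements. -/
def diag2 : Fˣ × Fˣ →* GL (Fin 2) F where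
  toFun p := ⟨!![(p.1 : F), 0; 0, (p.2 : F)], !![((p.1⁻¹ : Fˣ) : F), 0; 0, ((p.2⁻¹ : Fˣ) : F)],
    by ext i j; fin_cases i <;> fin_cases j <;> simp [Matrix.mul_apply, Fin.sum_univ_two],
    by ext i j; fin_cases i <;> fin_cases j <;> simp [Matrix.mul_apply, Fin.sum_univ_two]⟩
  map_one' := Units.ext (by ext i j; fin_cases i <;> fin_cases j <;> simp)
  map_mul' a b := Units.ext (by
    ext i j; fin_cases i <;> fin_cases j <;> simp [Matrix.mul_apply, Fin.sum_univ_two])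

theorem diag2_injective : Function.Injective (diag2 (F := F)) := by
  intro a b h
  have h0 := Matrix.ext_iff.2 (congrArg Units.val h) 0 0
  have h1 := Matrix.ext_iff.2 (congrArg Units.val h) 1 1
  exact Prod.ext (Units.ext (by simpa [diag2] using h0)) (Units.ext (by simpa [diag2] using h1))

/-- The swap. -/
def swap2 : GL (Fin 2) F :=
  ⟨!![0, 1; 1, 0], !![0, 1; 1, 0],
    by ext i j; fin_cases i <;> fin_cases j <;> simp [Matrix.mul_apply, Fin.sum_univ_two],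
    by ext i j; fin_cases i <;> fin_cases j <;> simp [Matrix.mul_apply, Fin.sum_univ_two]⟩

theorem swap2_diag2 (a b : Fˣ) : swap2 * diag2 (a, b) * (swap2)⁻¹ = diag2 (b, a) := by
  rw [mul_inv_eq_iff_eq_mul]
  refine Units.ext ?_
  ext i j
  fin_cases i <;> fin_cases j <;> simp [swap2, diag2, Matrix.mul_apply, Fin.sum_univ_two]

theorem orderOf_swap2 : orderOf (swap2 : GL (Fin 2) F) = 2 := by
  haveI : Fact (Nat.Prime 2) := ⟨Nat.prime_two⟩
  refine orderOf_eq_prime (Units.ext ?_) fun h => ?_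
  · ext i j; fin_cases i <;> fin_cases j <;> simp [swap2, sq, Matrix.mul_apply, Fin.sum_univ_two]
  · have := Matrix.ext_iff.2 (congrArg Units.val h) 0 1
    simp [swap2] at this

theorem diag_inf {Z : Subgroup Fˣ} {ζ : Fˣ} (_hZ : ζ ∈ Z) :
    zpowers (diag2 (ζ, 1)) ⊓ zpowers (diag2 (1, ζ)) = ⊥ := by
  rw [eq_bot_iff]
  rintro w ⟨h1, h2⟩
  obtain ⟨i, rfl⟩ := mem_zpowers_iff.1 h1
  obtain ⟨j, hj⟩ := mem_zpowers_iff.1 h2
  rw [← map_zpow, ← map_zpow] at hj
  have := congrArg Prod.fst (diag2_injective hj)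
  simp at this
  rw [mem_bot, ← map_zpow]
  simp [← this]
  exact map_one diag2

theorem exists_orderOf_units [Fintype F] {d : ℕ} (hd : d ∣ Fintype.card F - 1) :
    ∃ u : Fˣ, orderOf u = d := by
  obtain ⟨g, hg⟩ := IsCyclic.exists_ofOrder_eq_natCard (α := Fˣ)
  rw [Nat.card_units, Nat.card_eq_fintype_card] at hg
  refine ⟨g ^ (orderOf g / d), orderOf_pow_orderOf_div ?_ (hg ▸ hd)⟩
  rw [hg]; have := Fintype.one_lt_card (α := F); omega

theorem card_gl2 [Fintype F] : Nat.card (GL (Fin 2) F) =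
    (Fintype.card F ^ 2 - 1) * (Fintype.card F ^ 2 - Fintype.card F) := by
  rw [Matrix.card_GL_field]
  simp [Fin.prod_univ_two]

theorem gl_case_one [Fintype F] (h : Fintype.card F % 4 = 1) (P : Sylow 2 (GL (Fin 2) F)) :
    Cfsg.IsWreathed (P : Subgroup (GL (Fin 2) F)) := by
  classical
  set q := Fintype.card F with hq
  have hq1 := Fintype.one_lt_card (α := F)
  obtain ⟨n, o, ho, hno⟩ := exists_two_pow (show q - 1 ≠ 0 by omega)
  obtain ⟨k, hk⟩ : ∃ k, q = 4 * k + 1 := ⟨q / 4, by omega⟩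
  have hn : 2 ≤ n := by
    by_contra hn
    interval_cases n <;> omega
  obtain ⟨ζ, hζ⟩ := exists_orderOf_units (F := F) (d := 2 ^ n) ⟨o, hno⟩
  refine wreathed_of (x := diag2 (ζ, 1)) (y := diag2 (1, ζ)) (z := swap2) hn ?_ ?_ ?_ orderOf_swap2
    (swap2_diag2 ζ 1) (swap2_diag2 1 ζ) ?_ P
  · rw [orderOf_injective _ diag2_injective, Prod.orderOf, orderOf_one, hζ, Nat.lcm_one_right]
  · rw [← map_mul, ← map_mul, mul_comm]
  · exact diag_inf (Z := ⊤) (mem_top ζ)
  · refine factorization_two (o := o * o * (2 * k + 1) * q) ?_ ?_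
    · rw [card_gl2, ← hq]
      have e1 : q ^ 2 - 1 = (q - 1) * (q + 1) := by
        rw [mul_comm, show (q + 1) * (q - 1) = q ^ 2 - 1 ^ 2 from (Nat.sq_sub_sq q 1).symm, one_pow]
      have e2 : q ^ 2 - q = (q - 1) * q := by rw [Nat.sub_mul, sq, one_mul]
      have e3 : q + 1 = 2 * (2 * k + 1) := by omega
      rw [e1, e2, hno, e3, show 2 * n + 1 = n + n + 1 by omega, pow_succ, pow_add]
      ring
    · simp only [Nat.Prime.dvd_mul Nat.prime_two]
      omega

theorem gl_case_three [Fintype F] (h : Fintype.card F % 4 = 3) (P : Sylow 2 (GL (Fin 2) F)) :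
    Cfsg.IsQuasiDihedral (P : Subgroup (GL (Fin 2) F)) := by
  classical
  haveI : Fact (Nat.Prime 2) := ⟨Nat.prime_two⟩
  set q := Fintype.card F with hq
  obtain ⟨p, hp⟩ := CharP.exists F
  haveI := hp
  haveI : Fact p.Prime := ⟨CharP.char_is_prime F p⟩
  obtain ⟨k, hk⟩ : ∃ k, q = 4 * k + 3 := ⟨q / 4, by omega⟩
  obtain ⟨m, o, ho, hmo⟩ := exists_two_pow (show q + 1 ≠ 0 by omega)
  have hm : 2 ≤ m := by
    by_contra hm
    interval_cases m <;> omega
  let L := FiniteField.Extension F p 2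
  letI : Fintype L := Fintype.ofFinite L
  have hL : Fintype.card L = q ^ 2 := by
    rw [← Nat.card_eq_fintype_card, FiniteField.natCard_extension, Nat.card_eq_fintype_card]
  obtain ⟨j, hj⟩ : ∃ j, o = 2 * j + 1 := ⟨o / 2, by omega⟩
  obtain ⟨u, hu⟩ := exists_orderOf_units (F := L) (d := 2 ^ (m + 1)) ⟨(2 * k + 1) * o, by
    rw [hL, show q ^ 2 - 1 = (q + 1) * (q - 1) by
      rw [show (q + 1) * (q - 1) = q ^ 2 - 1 ^ 2 from (Nat.sq_sub_sq q 1).symm, one_pow],
      hmo, show q - 1 = 2 * (2 * k + 1) by omega, pow_succ]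
    ring⟩
  let b : Module.Basis (Fin 2) F L := Module.finBasisOfFinrankEq F L (FiniteField.finrank_extension F p 2)
  let e : GL (Fin 2) F ≃* (Module.End F L)ˣ :=
    (Units.mapEquiv (LinearMap.toMatrixAlgEquiv b).toMulEquiv).symm
  let Φ : Lˣ →* (Module.End F L)ˣ := Units.map (Algebra.lmul F L).toMonoidHom
  have hΦ : Function.Injective Φ := fun a c hac => Units.ext (by
    have := LinearMap.congr_fun (congrArg Units.val hac) 1
    simpa [Φ] using this)
  let fr : Module.End F L := (FiniteField.Extension.frob F p 2).toLinearMap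
  have hfr : ∀ a : L, fr a = a ^ q := fun a => by
    show FiniteField.Extension.frob F p 2 a = _
    rw [FiniteField.Extension.frob_apply, Nat.card_eq_fintype_card]
  have hfr2 : fr * fr = 1 := LinearMap.ext fun a => by
    rw [Module.End.mul_apply, Module.End.one_apply, hfr, hfr, ← pow_mul, ← sq, ← hL, FiniteField.pow_card]
  let y : (Module.End F L)ˣ := ⟨fr, fr, hfr2, hfr2⟩
  have hconj : y * Φ u * y⁻¹ = Φ (u ^ q) := by
    rw [mul_inv_eq_iff_eq_mul]
    refine Units.ext (LinearMap.ext fun a => ?_)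
    show fr ((u : L) * a) = ((u ^ q : Lˣ) : L) * fr a
    rw [hfr, hfr, mul_pow, Units.val_pow_eq_pow_val]
  have hmod : u ^ q = u ^ (2 ^ m - 1) := by
    rw [show q = (2 ^ m - 1) + 2 ^ (m + 1) * j by
      have : q + 1 = 2 ^ m + 2 ^ (m + 1) * j := by rw [hmo, hj, pow_succ]; ring
      have := Nat.one_le_two_pow (n := m)
      omega, pow_add, pow_mul, ← hu, pow_orderOf_eq_one, one_pow, mul_one]
  have hy : orderOf y = 2 := by
    refine orderOf_eq_prime (by rw [sq]; exact Units.ext hfr2) fun hy1 => ?_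
    rw [hy1, one_mul, inv_one, mul_one] at hconj
    have h1 := hΦ hconj
    have h2 : u ^ (q - 1) = 1 := by
      refine mul_right_cancel (b := u) ?_
      rw [← pow_succ, Nat.sub_add_cancel (by omega), one_mul, ← h1]
    have h3 : 4 ∣ q - 1 := by
      refine dvd_trans ?_ (orderOf_dvd_of_pow_eq_one h2)
      rw [hu]
      exact ⟨2 ^ (m - 1), by rw [show m + 1 = (m - 1) + 2 by omega, pow_add]; norm_num; ring⟩
    omega
  refine quasiDihedral_of (x := e.symm (Φ u)) (y := e.symm y) (n := m + 1) (by omega)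
    (by rw [MulEquiv.orderOf_eq, orderOf_injective _ hΦ, hu]) (by rw [MulEquiv.orderOf_eq, hy]) ?_ ?_ P
  · rw [← map_inv, ← map_mul, ← map_mul, hconj, hmod, map_pow, map_pow, Nat.add_sub_cancel]
  · refine factorization_two (o := (2 * k + 1) * (2 * k + 1) * o * q) ?_ ?_
    · rw [card_gl2, ← hq]
      have e1 : q ^ 2 - 1 = (q - 1) * (q + 1) := by
        rw [mul_comm, show (q + 1) * (q - 1) = q ^ 2 - 1 ^ 2 from (Nat.sq_sub_sq q 1).symm, one_pow]
      have e2 : q ^ 2 - q = (q - 1) * q := by rw [Nat.sub_mul, sq, one_mul]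
      have e3 : q - 1 = 2 * (2 * k + 1) := by omega
      rw [e1, e2, hmo, e3, pow_succ, pow_succ]
      ring
    · simp only [Nat.Prime.dvd_mul Nat.prime_two]
      omega

/-! ### `GU(2, q)` -/

variable [Fintype F] {q : ℕ}

/-- A unit of norm one gives a diagonal unitary element. -/
theorem diag2_mem (hF : Fintype.card F = q ^ 2) {a b : Fˣ} (ha : a ^ (q + 1) = 1) (hb : b ^ (q + 1) = 1) :
    diag2 (a, b) ∈ Cfsg.GU 2 F q := by
  have hq0 : q ≠ 0 := by have := Classical.Unitary.one_lt_q hF; omega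
  rw [Classical.Unitary.mem_GU_iff hF]
  have ha' : (a : F) * (a : F) ^ q = 1 := by
    rw [← pow_succ', ← Units.val_pow_eq_pow_val, ha, Units.val_one]
  have hb' : (b : F) * (b : F) ^ q = 1 := by
    rw [← pow_succ', ← Units.val_pow_eq_pow_val, hb, Units.val_one]
  intro i j
  fin_cases i <;> fin_cases j <;>
    simp [Cfsg.hermForm, diag2, Fin.sum_univ_two, hq0, ha', hb']

theorem swap2_mem (hF : Fintype.card F = q ^ 2) : (swap2 : GL (Fin 2) F) ∈ Cfsg.GU 2 F q := by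
  have hq0 : q ≠ 0 := by have := Classical.Unitary.one_lt_q hF; omega
  rw [Classical.Unitary.mem_GU_iff hF]
  intro i j
  fin_cases i <;> fin_cases j <;> simp [Cfsg.hermForm, swap2, Fin.sum_univ_two, hq0]

theorem card_gu2 (hF : Fintype.card F = q ^ 2) :
    Nat.card ↥(Cfsg.GU 2 F q) = q * ((q + 1) * (q ^ 2 - 1)) := by
  rw [Classical.Unitary.card_GU hF 2]
  simp [Finset.prod_range_succ]

theorem gu_case_three (hF : Fintype.card F = q ^ 2) (h : q % 4 = 3)
    (P : Sylow 2 ↥(Cfsg.GU 2 F q)) : Cfsg.IsWreathed (P : Subgroup ↥(Cfsg.GU 2 F q)) := by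
  classical
  obtain ⟨k, hk⟩ : ∃ k, q = 4 * k + 3 := ⟨q / 4, by omega⟩
  obtain ⟨n, o, ho, hno⟩ := exists_two_pow (show q + 1 ≠ 0 by omega)
  have hn : 2 ≤ n := by
    by_contra hn
    interval_cases n <;> omega
  have e1 : q ^ 2 - 1 = (q + 1) * (q - 1) := by
    rw [show (q + 1) * (q - 1) = q ^ 2 - 1 ^ 2 from (Nat.sq_sub_sq q 1).symm, one_pow]
  obtain ⟨ζ, hζ⟩ := exists_orderOf_units (F := F) (d := 2 ^ n) ⟨o * (q - 1), by
    rw [hF, e1, hno, mul_assoc]⟩
  have hζ1 : ζ ^ (q + 1) = 1 := orderOf_dvd_iff_pow_eq_one.1 (hζ ▸ ⟨o, hno⟩)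
  refine wreathed_of (x := ⟨_, diag2_mem hF hζ1 (one_pow _)⟩) (y := ⟨_, diag2_mem hF (one_pow _) hζ1⟩)
    (z := ⟨_, swap2_mem hF⟩) hn ?_ ?_ ?_ ?_ (Subtype.ext (swap2_diag2 ζ 1)) (Subtype.ext (swap2_diag2 1 ζ)) ?_ P
  · rw [Subgroup.orderOf_mk, orderOf_injective _ diag2_injective, Prod.orderOf, orderOf_one, hζ,
      Nat.lcm_one_right]
  · exact Subtype.ext (show diag2 (ζ, 1) * diag2 (1, ζ) = diag2 (1, ζ) * diag2 (ζ, 1) by
      rw [← map_mul, ← map_mul, mul_comm])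
  · rw [eq_bot_iff]
    rintro w ⟨h1, h2⟩
    obtain ⟨i, hi⟩ := mem_zpowers_iff.1 h1
    obtain ⟨j, hj⟩ := mem_zpowers_iff.1 h2
    have hi' := congrArg Subtype.val hi
    have hj' := congrArg Subtype.val hj
    rw [Subgroup.coe_zpow] at hi' hj'
    have : (w : GL (Fin 2) F) ∈ zpowers (diag2 (ζ, 1)) ⊓ zpowers (diag2 (1, ζ)) :=
      ⟨mem_zpowers_iff.2 ⟨i, hi'⟩, mem_zpowers_iff.2 ⟨j, hj'⟩⟩
    rw [diag_inf (Z := ⊤) (mem_top ζ), mem_bot] at this
    exact mem_bot.2 (Subtype.ext this)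
  · rw [Subgroup.orderOf_mk, orderOf_swap2]
  · refine factorization_two (o := o * o * (2 * k + 1) * q) ?_ ?_
    · rw [card_gu2 hF, e1, hno, show q - 1 = 2 * (2 * k + 1) by omega,
        show 2 * n + 1 = n + n + 1 by omega, pow_succ, pow_add]
      ring
    · simp only [Nat.Prime.dvd_mul Nat.prime_two]
      omega

theorem gu_case_one (hF : Fintype.card F = q ^ 2) (h : q % 4 = 1)
    (P : Sylow 2 ↥(Cfsg.GU 2 F q)) : Cfsg.IsQuasiDihedral (P : Subgroup ↥(Cfsg.GU 2 F q)) := by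
  classical
  haveI : Fact (Nat.Prime 2) := ⟨Nat.prime_two⟩
  obtain ⟨σ, hσ, -, hσ2⟩ := Classical.Unitary.exists_frob hF
  have hq2 := Classical.Unitary.one_lt_q hF
  obtain ⟨k, hk⟩ : ∃ k, q = 4 * k + 1 := ⟨q / 4, by omega⟩
  obtain ⟨m, o, ho, hmo⟩ := exists_two_pow (show q - 1 ≠ 0 by omega)
  have hm : 2 ≤ m := by
    by_contra hm
    interval_cases m <;> omega
  obtain ⟨j, hj⟩ : ∃ j, o = 2 * j + 1 := ⟨o / 2, by omega⟩
  have e1 : q ^ 2 - 1 = (q + 1) * (q - 1) := by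
    rw [show (q + 1) * (q - 1) = q ^ 2 - 1 ^ 2 from (Nat.sq_sub_sq q 1).symm, one_pow]
  obtain ⟨l, hl⟩ := exists_orderOf_units (F := F) (d := 2 ^ (m + 1)) ⟨(2 * k + 1) * o, by
    rw [hF, e1, hmo, show q + 1 = 2 * (2 * k + 1) by omega, pow_succ]
    ring⟩
  -- an element of norm `-1`
  obtain ⟨g, hg⟩ := IsCyclic.exists_ofOrder_eq_natCard (α := Fˣ)
  rw [Nat.card_units, Nat.card_eq_fintype_card, hF] at hg
  obtain ⟨r, hr⟩ : ∃ r, q - 1 = 2 * r := ⟨2 * k, by omega⟩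
  set i : Fˣ := g ^ r with hi
  have hi1 : ((i : F)) * σ i = -1 := by
    rw [hσ, ← pow_succ', ← Units.val_pow_eq_pow_val, hi, ← pow_mul]
    have hne : g ^ (r * (q + 1)) ≠ 1 := by
      intro e
      have hrpos : 0 < r * (q + 1) := Nat.mul_pos (by omega) (by omega)
      have h1 := Nat.le_of_dvd hrpos (orderOf_dvd_of_pow_eq_one e)
      rw [hg, e1, hr] at h1
      nlinarith [hrpos, h1]
    have hsq : ((g ^ (r * (q + 1)) : Fˣ) : F) * ((g ^ (r * (q + 1)) : Fˣ) : F) = 1 := by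
      rw [← Units.val_mul, ← pow_add, show r * (q + 1) + r * (q + 1) = orderOf g by
        rw [hg, e1, hr]; ring, pow_orderOf_eq_one, Units.val_one]
    exact (mul_self_eq_one_iff.1 hsq).resolve_left fun e => hne (Units.ext (by rw [e, Units.val_one]))
  have h2F : (2 : F) ≠ 0 := by
    intro h2
    haveI : CharP F 2 := CharTwo.of_one_ne_zero_of_two_eq_zero one_ne_zero h2
    obtain ⟨n, -, hn⟩ := FiniteField.card F 2
    have hq : 2 ∣ q ^ 2 := by rw [← hF, hn]; exact dvd_pow_self 2 n.pos.ne'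
    have := Nat.prime_two.dvd_of_dvd_pow hq
    omega
  have hc : (l : F) * σ (l : F) ≠ 0 := mul_ne_zero l.ne_zero (by simp [l.ne_zero])
  set μ : F := (σ (l : F))⁻¹ with hμ
  have hμσ : σ μ = (l : F)⁻¹ := by rw [hμ, map_inv₀, hσ2]
  have hσl : σ (l : F) = μ⁻¹ := by rw [hμ, inv_inv]
  have hμ0 : μ ≠ 0 := inv_ne_zero (by simp [l.ne_zero])
  have hiσ : σ (i : F) = -((i : F)⁻¹) := by
    field_simp
    linear_combination hi1
  let MX : Matrix (Fin 2) (Fin 2) F :=
    !![((l : F) + μ) / 2, ((l : F) - μ) / (2 * (i : F)); (i : F) * ((l : F) - μ) / 2, ((l : F) + μ) / 2]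
  let MY : Matrix (Fin 2) (Fin 2) F :=
    !![((l : F)⁻¹ + μ⁻¹) / 2, ((l : F)⁻¹ - μ⁻¹) / (2 * (i : F));
      (i : F) * ((l : F)⁻¹ - μ⁻¹) / 2, ((l : F)⁻¹ + μ⁻¹) / 2]
  have hl0 : (l : F) ≠ 0 := l.ne_zero
  have hi0 : (i : F) ≠ 0 := i.ne_zero
  let D : GL (Fin 2) F := diag2 (l, Units.mk0 μ hμ0)
  let M : GL (Fin 2) F :=
    Matrix.GeneralLinearGroup.mkOfDetNeZero !![1, 1; (i : F), -(i : F)] (by
      rw [Matrix.det_fin_two_of]
      intro e
      exact mul_ne_zero h2F hi0 (by linear_combination -e))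
  set X : GL (Fin 2) F := M * D * M⁻¹ with hX
  have hXv : (X : Matrix (Fin 2) (Fin 2) F) = MX := by
    have h1 : MX * (M : Matrix (Fin 2) (Fin 2) F) = (M : Matrix (Fin 2) (Fin 2) F) * (D : Matrix (Fin 2) (Fin 2) F) := by
      show MX * !![1, 1; (i : F), -(i : F)] = !![1, 1; (i : F), -(i : F)] * !![(l : F), 0; 0, μ]
      ext a b
      fin_cases a <;> fin_cases b <;> simp [MX, Matrix.mul_apply, Fin.sum_univ_two] <;> field_simp <;> ring
    rw [hX, Units.val_mul, Units.val_mul, ← h1, Units.mul_inv_cancel_right]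
  let Y : GL (Fin 2) F := diag2 (1, -1)
  have hY : Y ∈ Cfsg.GU 2 F q := diag2_mem hF (one_pow _)
    (by rw [Even.neg_one_pow ⟨2 * k + 1, by omega⟩])
  have hXmem : X ∈ Cfsg.GU 2 F q := by
    rw [Classical.Unitary.mem_GU_iff hF, hXv]
    intro a b
    fin_cases a <;> fin_cases b <;>
      simp [Cfsg.hermForm, MX, Fin.sum_univ_two, ← hσ, map_div₀, hμσ, hσl, hiσ, map_ofNat] <;>
      field_simp <;> ring
  have hord : orderOf X = 2 ^ (m + 1) := by
    rw [hX, ← MulAut.conj_apply, MulEquiv.orderOf_eq, orderOf_injective _ diag2_injective,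
      Prod.orderOf]
    have hμu : Units.mk0 μ hμ0 = (l ^ q)⁻¹ := Units.ext (by
      rw [Units.val_mk0, Units.val_inv_eq_inv_val, Units.val_pow_eq_pow_val, ← hσ, hμ])
    rw [hμu, orderOf_inv, Nat.lcm_eq_left (orderOf_pow_dvd q), hl]
  have hconj : Y * X * Y⁻¹ = X ^ (2 ^ m - 1) := by
    have hw : Y * M = M * swap2 := by
      refine Units.ext ?_
      show !![(1 : F), 0; 0, ((-1 : Fˣ) : F)] * !![1, 1; (i : F), -(i : F)] = !![1, 1; (i : F), -(i : F)] * !![0, 1; 1, 0]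
      ext a b
      fin_cases a <;> fin_cases b <;> simp [Matrix.mul_apply, Fin.sum_univ_two]
    rw [hX, ← MulAut.conj_apply (g := M), ← map_pow, MulAut.conj_apply, MulAut.conj_apply,
      show Y * (M * D * M⁻¹) * Y⁻¹ = (Y * M) * D * (Y * M)⁻¹ by group, hw,
      show M * swap2 * D * (M * swap2)⁻¹ = M * (swap2 * D * swap2⁻¹) * M⁻¹ by group, swap2_diag2,
      ← map_pow, Prod.pow_mk]
    have hlq : (l ^ q)⁻¹ = l ^ (2 ^ m - 1) := by
      rw [inv_eq_iff_mul_eq_one, ← pow_add, show q + (2 ^ m - 1) = 2 ^ (m + 1) * (j + 1) by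
        have : q = 2 ^ m + 2 ^ (m + 1) * j + 1 := by
          rw [show 2 ^ m + 2 ^ (m + 1) * j = 2 ^ m * o by rw [hj, pow_succ]; ring, ← hmo]; omega
        have := Nat.one_le_two_pow (n := m)
        have h2 : 2 ^ (m + 1) * (j + 1) = 2 ^ (m + 1) * j + 2 ^ (m + 1) := by ring
        have h3 : 2 ^ (m + 1) = 2 * 2 ^ m := pow_succ' 2 m
        omega, pow_mul, ← hl, pow_orderOf_eq_one, one_pow]
    have hμu : Units.mk0 μ hμ0 = l ^ (2 ^ m - 1) := by
      rw [← hlq]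
      exact Units.ext (by
        rw [Units.val_mk0, Units.val_inv_eq_inv_val, Units.val_pow_eq_pow_val, ← hσ, hμ])
    have hsq : l = (l ^ (2 ^ m - 1)) ^ (2 ^ m - 1) := by
      obtain ⟨m', rfl⟩ : ∃ m', m = m' + 1 := ⟨m - 1, by omega⟩
      have h1 := Nat.one_le_two_pow (n := m')
      have e : (2 ^ (m' + 1) - 1) * (2 ^ (m' + 1) - 1) = 2 ^ (m' + 1 + 1) * (2 ^ m' - 1) + 1 := by
        simp only [pow_succ]
        obtain ⟨t, ht⟩ : ∃ t, 2 ^ m' = t + 1 := ⟨2 ^ m' - 1, by omega⟩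
        rw [ht, Nat.add_sub_cancel, show (t + 1) * 2 - 1 = 2 * t + 1 by omega]
        ring
      rw [← pow_mul, e, pow_succ, pow_mul, ← hl, pow_orderOf_eq_one, one_pow, one_mul]
    rw [hμu, ← hsq]
  refine quasiDihedral_of (x := ⟨X, hXmem⟩) (y := ⟨Y, hY⟩) (n := m + 1) (by omega)
    (by rw [Subgroup.orderOf_mk, hord]) ?_ ?_ ?_ P
  · rw [Subgroup.orderOf_mk, orderOf_injective _ diag2_injective, Prod.orderOf, orderOf_one, Nat.lcm_one_left,
      ← orderOf_units, Units.val_neg, Units.val_one, orderOf_neg_one, if_neg]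
    intro hc2
    haveI := (ringChar.eq_iff (R := F) (p := 2)).1 hc2
    exact h2F (by exact_mod_cast CharP.cast_eq_zero F 2)
  · refine Subtype.ext ?_
    show Y * X * Y⁻¹ = X ^ (2 ^ (m + 1 - 1) - 1)
    rw [Nat.add_sub_cancel, hconj]
  · refine factorization_two (o := (2 * k + 1) * (2 * k + 1) * o * q) ?_ ?_
    · rw [card_gu2 hF, e1, hmo, show q + 1 = 2 * (2 * k + 1) by omega, pow_succ, pow_succ]
      ring
    · simp only [Nat.Prime.dvd_mul Nat.prime_two]
      omega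

end Cfsg.Agent.Fusion.GLTwoSylow
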