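import Mathlib
import Cfsg.Prelude.Def_CaseTheorems

/-!
An explicit model of the quasi-dihedral 2-groups.
-/

set_option autoImplicit false

namespace Cfsg.Agent.Fusion.QuasiDihedral

/-- The twisting multiplier. -/
def mu (n : ℕ) : ZMod (2 ^ n) := if 3 ≤ n then ((2 ^ (n - 1) : ℕ) : ZMod (2 ^ n)) - 1 else 1

theorem natCast_half_sq {n : ℕ} (hn : 2 ≤ n) : ((2 ^ (n - 1) : ℕ) : ZMod (2 ^ n)) * (2 ^ (n - 1) : ℕ) = 0 := by
  rw [← Nat.cast_mul, ← pow_add, ZMod.natCast_eq_zero_iff]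
  exact pow_dvd_pow 2 (by omega)

theorem natCast_half_two {n : ℕ} (hn : 1 ≤ n) : ((2 ^ (n - 1) : ℕ) : ZMod (2 ^ n)) + (2 ^ (n - 1) : ℕ) = 0 := by
  rw [← Nat.cast_add, ← two_mul, ← pow_succ', Nat.sub_add_cancel hn, ZMod.natCast_self]

theorem mu_mul_mu (n : ℕ) : mu n * mu n = 1 := by
  unfold mu
  split
  · next h => linear_combination natCast_half_sq (n := n) (by omega) - natCast_half_two (n := n) (by omega)
  · exact one_mul 1

/-- Residues with a reflecting bit. -/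
@[ext] structure Q (n : ℕ) where
  i : ZMod (2 ^ n)
  e : Bool
deriving DecidableEq

namespace Q

variable {n : ℕ}

def equivProd (n : ℕ) : Q n ≃ ZMod (2 ^ n) × Bool where
  toFun u := (u.i, u.e)
  invFun u := ⟨u.1, u.2⟩
  left_inv _ := rfl
  right_inv _ := rfl

instance : Fintype (Q n) := Fintype.ofEquiv _ (equivProd n).symm

theorem card_eq : Nat.card (Q n) = 2 ^ (n + 1) := by
  rw [Nat.card_congr (equivProd n), Nat.card_prod, Nat.card_zmod, Nat.card_eq_fintype_card, Fintype.card_bool, pow_succ]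

instance : Mul (Q n) := ⟨fun u v => bif u.e then ⟨u.i + mu n * v.i, !v.e⟩ else ⟨u.i + v.i, v.e⟩⟩
instance : One (Q n) := ⟨⟨0, false⟩⟩
instance : Inv (Q n) := ⟨fun u => bif u.e then ⟨-(mu n * u.i), true⟩ else ⟨-u.i, false⟩⟩

theorem one_def : (1 : Q n) = ⟨0, false⟩ := rfl

@[simp] theorem mk_false_mul (i : ZMod (2 ^ n)) (v : Q n) : (⟨i, false⟩ : Q n) * v = ⟨i + v.i, v.e⟩ := rfl
@[simp] theorem mk_true_mul (i : ZMod (2 ^ n)) (v : Q n) : (⟨i, true⟩ : Q n) * v = ⟨i + mu n * v.i, !v.e⟩ := rfl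
@[simp] theorem inv_mk_false (i : ZMod (2 ^ n)) : (⟨i, false⟩ : Q n)⁻¹ = ⟨-i, false⟩ := rfl
@[simp] theorem inv_mk_true (i : ZMod (2 ^ n)) : (⟨i, true⟩ : Q n)⁻¹ = ⟨-(mu n * i), true⟩ := rfl

instance : Group (Q n) :=
  Group.ofLeftAxioms
    (by
      rintro ⟨a, _ | _⟩ ⟨b, _ | _⟩ ⟨c, f⟩ <;> simp [add_assoc, mul_add]
      rw [← mul_assoc, mu_mul_mu, one_mul])
    (by rintro ⟨a, e⟩; show (⟨0, false⟩ : Q n) * _ = _; simp)
    (by rintro ⟨a, _ | _⟩ <;> simp [one_def])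

theorem e_mul (u v : Q n) : (u * v).e = xor u.e v.e := by
  obtain ⟨a, _ | _⟩ := u <;> simp

/-- The cyclic subgroup of index two. -/
def rot (n : ℕ) : Multiplicative (ZMod (2 ^ n)) →* Q n where
  toFun k := ⟨k.toAdd, false⟩
  map_one' := rfl
  map_mul' _ _ := rfl

theorem pow_mk_false (i : ZMod (2 ^ n)) (k : ℕ) : (⟨i, false⟩ : Q n) ^ k = ⟨k * i, false⟩ := by
  induction k with
  | zero => simp [one_def]
  | succ k ih => rw [pow_succ, ih]; simp [add_mul]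

theorem mk_true_sq (i : ZMod (2 ^ n)) : (⟨i, true⟩ : Q n) ^ 2 = ⟨i + mu n * i, false⟩ := by
  rw [sq (⟨i, true⟩ : Q n)]; simp

theorem conj_rot (k i : ZMod (2 ^ n)) (e : Bool) :
    (⟨k, false⟩ : Q n) * ⟨i, e⟩ * (⟨k, false⟩ : Q n)⁻¹ = bif e then ⟨i + (1 - mu n) * k, true⟩ else ⟨i, false⟩ := by
  cases e <;> ext <;> simp <;> ring

theorem conj_ref (i : ZMod (2 ^ n)) (e : Bool) :
    (⟨0, true⟩ : Q n) * ⟨i, e⟩ * (⟨0, true⟩ : Q n)⁻¹ = ⟨mu n * i, e⟩ := by
  cases e <;> ext <;> simp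

end Q

open Q

/-- A quasi-dihedral group is isomorphic to the model. -/
theorem exists_equiv {S : Type*} [Group S] [Finite S] (hS : Cfsg.IsQuasiDihedral S) :
    ∃ n : ℕ, 3 ≤ n ∧ Nat.card S = 2 ^ (n + 1) ∧ Nonempty (Q n ≃* S) := by
  obtain ⟨n, hn, hcard, x, y, hx, hy, hyx⟩ := hS
  refine ⟨n, hn, hcard, ?_⟩
  have hxN : x ^ 2 ^ n = 1 := by rw [← hx, pow_orderOf_eq_one]
  have hp : ∀ i j : ZMod (2 ^ n), x ^ (i + j).val = x ^ i.val * x ^ j.val := fun i j => by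
    rw [← pow_add, ZMod.val_add]
    exact (pow_eq_pow_mod _ hxN).symm
  have hyy : y * y = 1 := by rw [← sq, ← hy, pow_orderOf_eq_one]
  have hr : ((2 ^ (n - 1) - 1 : ℕ) : ZMod (2 ^ n)) = mu n := by
    rw [mu, if_pos hn, Nat.cast_sub Nat.one_le_two_pow, Nat.cast_one]
  have hym : ∀ j : ZMod (2 ^ n), y * x ^ j.val = x ^ (mu n * j).val * y := fun j => by
    have h1 : y * x ^ j.val * y⁻¹ = x ^ ((2 ^ (n - 1) - 1) * j.val) := by
      rw [show y * x ^ j.val * y⁻¹ = MulAut.conj y (x ^ j.val) from rfl, map_pow, MulAut.conj_apply, hyx, ← pow_mul]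
    have h2 : x ^ ((2 ^ (n - 1) - 1) * j.val) = x ^ (mu n * j).val := by
      refine pow_eq_pow_iff_modEq.2 ?_
      rw [hx, ← ZMod.natCast_eq_natCast_iff, Nat.cast_mul, hr, ZMod.natCast_rightInverse, ZMod.natCast_rightInverse]
    rw [← h2, ← h1, inv_mul_cancel_right]
  let f : Q n →* S := MonoidHom.mk' (fun u => bif u.e then x ^ u.i.val * y else x ^ u.i.val) (by
    rintro ⟨a, _ | _⟩ ⟨b, _ | _⟩ <;> simp only [mk_false_mul, mk_true_mul, cond_true, cond_false, Bool.not_true, Bool.not_false, hp]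
    · rw [mul_assoc]
    · rw [mul_assoc (x ^ a.val), mul_assoc (x ^ a.val) y, hym]
    · rw [mul_assoc (x ^ a.val) y, ← mul_assoc y (x ^ b.val) y, hym, mul_assoc (x ^ (mu n * b).val) y y, hyy, mul_one])
  have hinj : Function.Injective f := (injective_iff_map_eq_one f).2 (by
    rintro ⟨a, _ | _⟩ h
    · change x ^ a.val = 1 at h
      have ha : a.val = 0 := Nat.eq_zero_of_dvd_of_lt ((dvd_of_eq hx.symm).trans (orderOf_dvd_of_pow_eq_one h)) a.val_lt
      exact Q.ext ((ZMod.val_eq_zero a).1 ha) rfl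
    · exfalso
      change x ^ a.val * y = 1 at h
      have hc : Commute y x := by
        rw [eq_inv_of_mul_eq_one_right h]
        exact ((Commute.refl x).pow_left _).inv_left
      have h1 : x ^ (2 ^ (n - 1) - 1) = x ^ 1 := by rw [pow_one, ← hyx, hc.eq, mul_inv_cancel_right]
      have h2 := pow_eq_pow_iff_modEq.1 h1
      rw [hx] at h2
      have hle : 2 ^ (n - 1) < 2 ^ n := Nat.pow_lt_pow_right (by norm_num) (by omega)
      have h4 : 4 ≤ 2 ^ (n - 1) := le_trans (by norm_num) (Nat.pow_le_pow_right (by norm_num) (show 2 ≤ n - 1 by omega))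
      rw [Nat.ModEq, Nat.mod_eq_of_lt (by omega), Nat.mod_eq_of_lt (by omega)] at h2
      omega)
  exact ⟨MulEquiv.ofBijective f ((Nat.bijective_iff_injective_and_card f).2 ⟨hinj, by rw [card_eq, hcard]⟩)⟩

end Cfsg.Agent.Fusion.QuasiDihedral
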