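import Mathlib
import Cfsg.Agent.Lib.Fusion.QuasiDihedral

/-!
Elements and subgroups of the quasi-dihedral model.
-/

set_option autoImplicit false

namespace Cfsg.Agent.Fusion.QuasiDihedral

open Q

variable {n : ℕ}

/-- Half of the modulus. -/
def half (n : ℕ) : ZMod (2 ^ n) := ((2 ^ (n - 1) : ℕ) : ZMod (2 ^ n))

/-- A quarter of the modulus. -/
def quarter (n : ℕ) : ZMod (2 ^ n) := ((2 ^ (n - 2) : ℕ) : ZMod (2 ^ n))

theorem half_add_half (hn : 3 ≤ n) : half n + half n = 0 := natCast_half_two (by omega)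

theorem neg_half (hn : 3 ≤ n) : -half n = half n := neg_eq_of_add_eq_zero_left (half_add_half hn)

theorem quarter_add_quarter (hn : 3 ≤ n) : quarter n + quarter n = half n := by
  rw [quarter, ← Nat.cast_add, half, ← two_mul, ← pow_succ', show n - 2 + 1 = n - 1 by omega]

theorem half_ne_zero (hn : 3 ≤ n) : half n ≠ 0 := by
  rw [half, Ne, ZMod.natCast_eq_zero_iff]
  intro h
  have := Nat.le_of_dvd (by positivity) h
  have := Nat.pow_lt_pow_right (show 1 < 2 by norm_num) (show n - 1 < n by omega)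
  omega

theorem mu_eq (hn : 3 ≤ n) : mu n = half n - 1 := if_pos hn

/-- The parity of a residue. -/
def par (hn : 3 ≤ n) : ZMod (2 ^ n) →+* ZMod 2 := ZMod.castHom (dvd_pow_self 2 (by omega)) _

theorem even_or_odd (hn : 3 ≤ n) (i : ZMod (2 ^ n)) : (∃ d, i = d + d) ∨ ∃ d, i = d + d + 1 := by
  rcases Nat.even_or_odd i.val with ⟨k, hk⟩ | ⟨k, hk⟩
  · exact Or.inl ⟨(k : ZMod (2 ^ n)), by rw [← Nat.cast_add, ← hk, ZMod.natCast_rightInverse]⟩
  · exact Or.inr ⟨(k : ZMod (2 ^ n)), by rw [← ZMod.natCast_rightInverse i, hk]; push_cast; ring⟩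

theorem par_even (hn : 3 ≤ n) (d : ZMod (2 ^ n)) : par hn (d + d) = 0 := by
  rw [map_add]; exact CharTwo.add_self_eq_zero _

theorem par_odd (hn : 3 ≤ n) (d : ZMod (2 ^ n)) : par hn (d + d + 1) = 1 := by
  rw [map_add, par_even hn, map_one, zero_add]

theorem half_mul_even (hn : 3 ≤ n) (d : ZMod (2 ^ n)) : half n * (d + d) = 0 := by
  linear_combination d * half_add_half hn

theorem half_mul_odd (hn : 3 ≤ n) (d : ZMod (2 ^ n)) : half n * (d + d + 1) = half n := by
  linear_combination d * half_add_half hn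

theorem par_half (hn : 3 ≤ n) : par hn (half n) = 0 := by
  rw [← quarter_add_quarter hn, par_even]

/-- The shifts by conjugation are exactly the even residues. -/
theorem exists_shift (hn : 3 ≤ n) (d : ZMod (2 ^ n)) : ∃ k, (1 - mu n) * k = d + d := by
  have hu : IsUnit (1 - quarter n) := IsNilpotent.isUnit_one_sub ⟨n, by
    rw [quarter, ← Nat.cast_pow, ← pow_mul, ZMod.natCast_eq_zero_iff]
    exact pow_dvd_pow 2 (Nat.le_mul_of_pos_left n (by omega))⟩
  obtain ⟨u, hu⟩ := hu
  refine ⟨(↑u⁻¹ : ZMod (2 ^ n)) * d, ?_⟩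
  have h1 : (1 - quarter n) * ((↑u⁻¹ : ZMod (2 ^ n)) * d) = d := by rw [← hu, Units.mul_inv_cancel_left]
  rw [mu_eq hn, ← quarter_add_quarter hn]
  linear_combination 2 * h1

theorem shift_eq (hn : 3 ≤ n) (k : ZMod (2 ^ n)) : (1 - mu n) * k = ((1 - quarter n) * k) + ((1 - quarter n) * k) := by
  rw [mu_eq hn, ← quarter_add_quarter hn]; ring

theorem two_mul_eq_zero_iff (hn : 3 ≤ n) (x : ZMod (2 ^ n)) : x + x = 0 ↔ x = 0 ∨ x = half n := by
  constructor
  · intro h
    obtain ⟨c, hc⟩ : 2 ^ n ∣ x.val + x.val := by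
      rw [← ZMod.natCast_eq_zero_iff, Nat.cast_add, ZMod.natCast_rightInverse x, h]
    have hlt := x.val_lt
    have h2 : 2 ^ n = 2 ^ (n - 1) + 2 ^ (n - 1) := by rw [← two_mul, ← pow_succ', Nat.sub_add_cancel (by omega : 1 ≤ n)]
    rcases c with _ | _ | c
    · exact Or.inl ((ZMod.val_eq_zero x).1 (by omega))
    · right; rw [half, ← ZMod.natCast_rightInverse x]; congr 1; omega
    · exfalso; rw [Nat.mul_add, Nat.mul_add] at hc; omega
  · rintro (rfl | rfl)
    · simp
    · exact half_add_half hn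

theorem four_mul_eq_zero_iff (hn : 3 ≤ n) (x : ZMod (2 ^ n)) : (x + x) + (x + x) = 0 ↔
    x = 0 ∨ x = half n ∨ x = quarter n ∨ x = -quarter n := by
  have hq := quarter_add_quarter hn
  constructor
  · intro h
    rcases (two_mul_eq_zero_iff hn _).1 h with h1 | h1
    · rcases (two_mul_eq_zero_iff hn _).1 h1 with h2 | h2
      · exact Or.inl h2
      · exact Or.inr (Or.inl h2)
    · rcases (two_mul_eq_zero_iff hn (x - quarter n)).1 (by linear_combination h1 - hq) with h2 | h2
      · exact Or.inr (Or.inr (Or.inl (sub_eq_zero.1 h2)))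
      · exact Or.inr (Or.inr (Or.inr (by linear_combination h2 + hq + half_add_half hn)))
  · rintro (rfl | rfl | rfl | rfl)
    · simp
    · linear_combination 2 * half_add_half hn
    · linear_combination 2 * hq + half_add_half hn
    · linear_combination -2 * hq - half_add_half hn

theorem mu_mul_quarter (hn : 3 ≤ n) : mu n * quarter n = -quarter n := by
  have hd : ∃ d, quarter n = d + d := ⟨((2 ^ (n - 3) : ℕ) : ZMod (2 ^ n)), by
    rw [quarter, ← Nat.cast_add, ← two_mul, ← pow_succ', show n - 3 + 1 = n - 2 by omega]⟩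
  obtain ⟨d, hd⟩ := hd
  rw [mu_eq hn, hd]
  linear_combination half_mul_even hn d

theorem pow_two_of_base (i : ZMod (2 ^ n)) : (⟨i, false⟩ : Q n) ^ 2 = ⟨i + i, false⟩ := by
  rw [sq (⟨i, false⟩ : Q n)]; rfl

theorem ref_sq_even (hn : 3 ≤ n) (d : ZMod (2 ^ n)) : (⟨d + d, true⟩ : Q n) ^ 2 = 1 := by
  rw [mk_true_sq, one_def, mu_eq hn]
  congr 1
  linear_combination half_mul_even hn d

theorem ref_sq_odd (hn : 3 ≤ n) (d : ZMod (2 ^ n)) : (⟨d + d + 1, true⟩ : Q n) ^ 2 = ⟨half n, false⟩ := by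
  rw [mk_true_sq, mu_eq hn]
  congr 1
  linear_combination half_mul_odd hn d

theorem isConj_ref (hn : 3 ≤ n) (i d : ZMod (2 ^ n)) : IsConj (⟨i, true⟩ : Q n) ⟨i + (d + d), true⟩ := by
  obtain ⟨k, hk⟩ := exists_shift hn d
  exact isConj_iff.2 ⟨⟨k, false⟩, by rw [conj_rot]; simp [hk]⟩

theorem e_conj (g u : Q n) : (g * u * g⁻¹).e = u.e := by
  obtain ⟨a, _ | _⟩ := g <;> obtain ⟨i, _ | _⟩ := u <;> simp

theorem mem_center (hn : 3 ≤ n) {u : Q n} : u ∈ Subgroup.center (Q n) ↔ u.e = false ∧ (u.i = 0 ∨ u.i = half n) := by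
  rw [Subgroup.mem_center_iff]
  obtain ⟨i, e⟩ := u
  constructor
  · intro h
    cases e
    · refine ⟨rfl, ?_⟩
      have h1 := congrArg Q.i (h ⟨0, true⟩)
      simp only [mk_true_mul, mk_false_mul, zero_add, add_zero] at h1
      rw [← two_mul_eq_zero_iff hn]
      rcases even_or_odd hn i with ⟨d, rfl⟩ | ⟨d, rfl⟩
      · rw [mu_eq hn] at h1
        linear_combination half_mul_even hn d - h1
      · exfalso
        rw [mu_eq hn] at h1
        have h2 : (d + d + 1) + (d + d + 1) = half n := by linear_combination half_mul_odd hn d - h1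
        have h3 := congrArg (par hn) (show d + d + 1 - quarter n + (d + d + 1 - quarter n) = 0 by
          linear_combination h2 - quarter_add_quarter hn)
        rcases (two_mul_eq_zero_iff hn (d + d + 1 - quarter n)).1 (by linear_combination h2 - quarter_add_quarter hn) with h4 | h4
        · have h5 := congrArg (par hn) h4
          rw [map_sub, par_odd, map_zero] at h5
          have : par hn (quarter n) = 0 := by
            rw [show quarter n = ((2 ^ (n - 3) : ℕ) : ZMod (2 ^ n)) + (2 ^ (n - 3) : ℕ) by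
              rw [quarter, ← Nat.cast_add, ← two_mul, ← pow_succ', show n - 3 + 1 = n - 2 by omega], par_even]
          rw [this, sub_zero] at h5
          exact one_ne_zero h5
        · have h5 := congrArg (par hn) h4
          rw [map_sub, par_odd, par_half] at h5
          have : par hn (quarter n) = 0 := by
            rw [show quarter n = ((2 ^ (n - 3) : ℕ) : ZMod (2 ^ n)) + (2 ^ (n - 3) : ℕ) by
              rw [quarter, ← Nat.cast_add, ← two_mul, ← pow_succ', show n - 3 + 1 = n - 2 by omega], par_even]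
          rw [this, sub_zero] at h5
          exact one_ne_zero h5
    · exfalso
      have h1 := congrArg Q.i (h ⟨1, false⟩)
      simp only [mk_true_mul, mk_false_mul, mul_one] at h1
      have h2 : (1 : ZMod (2 ^ n)) + 1 = half n := by rw [mu_eq hn] at h1; linear_combination h1
      have h3 : ((2 : ℕ) : ZMod (2 ^ n)) = ((2 ^ (n - 1) : ℕ) : ZMod (2 ^ n)) := by rw [Nat.cast_ofNat]; exact one_add_one_eq_two.symm.trans h2
      rw [ZMod.natCast_eq_natCast_iff', Nat.mod_eq_of_lt (Nat.lt_of_lt_of_le (by norm_num : 2 < 4) (Nat.pow_le_pow_right (by norm_num : 0 < 2) (by omega : 2 ≤ n))),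
        Nat.mod_eq_of_lt (Nat.pow_lt_pow_right (by norm_num) (by omega : n - 1 < n))] at h3
      have := Nat.pow_le_pow_right (show 0 < 2 by norm_num) (show 2 ≤ n - 1 by omega)
      omega
  · rintro ⟨he, hi⟩ v
    obtain rfl : e = false := he
    obtain ⟨j, _ | _⟩ := v
    · simp [add_comm]
    · rcases hi with rfl | rfl
      · simp
      · simp only [mk_true_mul, mk_false_mul, Bool.not_false, Q.mk.injEq, and_true]
        rw [mu_eq hn]
        have hs : half n * half n = 0 := natCast_half_sq (n := n) (by omega)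
        linear_combination hs - half_add_half hn

/-- A subgroup with reflections in a coset of a subgroup of residues. -/
def sub (K : AddSubgroup (ZMod (2 ^ n))) (a : ZMod (2 ^ n)) (ha : a + mu n * a ∈ K) : Subgroup (Q n) :=
  have hK : ∀ c x : ZMod (2 ^ n), x ∈ K → c * x ∈ K := fun c x hx => by
    rw [← ZMod.natCast_rightInverse c, ← nsmul_eq_mul]; exact K.nsmul_mem hx _
  { carrier := {u | u.i - (bif u.e then a else 0) ∈ K}
    one_mem' := by show (0 : ZMod (2 ^ n)) - 0 ∈ K; simp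
    mul_mem' := by
      rintro ⟨x, _ | _⟩ ⟨y, _ | _⟩ h1 h2 <;> simp only [Set.mem_setOf_eq, cond_true, cond_false, sub_zero, mk_false_mul,
        mk_true_mul, Bool.not_false, Bool.not_true] at h1 h2 ⊢
      · exact K.add_mem h1 h2
      · rw [add_sub_assoc]; exact K.add_mem h1 h2
      · rw [add_sub_right_comm]; exact K.add_mem h1 (hK _ _ h2)
      · have := K.add_mem (K.add_mem h1 (hK (mu n) _ h2)) ha
        rwa [show x - a + mu n * (y - a) + (a + mu n * a) = x + mu n * y by ring] at this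
    inv_mem' := by
      rintro ⟨x, _ | _⟩ h <;> simp only [Set.mem_setOf_eq, cond_true, cond_false, sub_zero, inv_mk_false, inv_mk_true] at h ⊢
      · exact K.neg_mem h
      · have := K.neg_mem (K.add_mem (hK (mu n) _ h) ha)
        rwa [show -(mu n * (x - a) + (a + mu n * a)) = -(mu n * x) - a by ring] at this }

theorem mem_sub {K : AddSubgroup (ZMod (2 ^ n))} {a : ZMod (2 ^ n)} {ha : a + mu n * a ∈ K} {u : Q n} :
    u ∈ sub K a ha ↔ u.i - (bif u.e then a else 0) ∈ K := Iff.rfl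

theorem card_sub (K : AddSubgroup (ZMod (2 ^ n))) (a : ZMod (2 ^ n)) (ha : a + mu n * a ∈ K) :
    Nat.card (sub K a ha) = Nat.card K * 2 := by
  have e : sub K a ha ≃ K × Bool :=
    { toFun := fun u => (⟨_, u.2⟩, u.1.e)
      invFun := fun p => ⟨⟨p.1.1 + (bif p.2 then a else 0), p.2⟩, by rw [mem_sub]; simpa using p.1.2⟩
      left_inv := fun u => Subtype.ext (Q.ext (sub_add_cancel _ _) rfl)
      right_inv := fun p => by ext <;> simp }
  rw [Nat.card_congr e, Nat.card_prod, Nat.card_eq_fintype_card (α := Bool), Fintype.card_bool]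

/-- The residues killed by a power of two. -/
def torsion (n j : ℕ) : AddSubgroup (ZMod (2 ^ n)) := AddSubgroup.zmultiples ((2 ^ (n - j) : ℕ) : ZMod (2 ^ n))

theorem card_torsion {j : ℕ} (hj : j ≤ n) : Nat.card (torsion n j) = 2 ^ j := by
  rw [torsion, Nat.card_zmultiples, ZMod.addOrderOf_coe _ (by positivity : 2 ^ n ≠ 0),
    Nat.gcd_eq_right (pow_dvd_pow 2 (Nat.sub_le n j)), Nat.pow_div (Nat.sub_le n j) (by norm_num)]
  congr 1; omega

theorem mem_torsion {j : ℕ} (hj : j ≤ n) {x : ZMod (2 ^ n)} : x ∈ torsion n j ↔ ((2 ^ j : ℕ) : ZMod (2 ^ n)) * x = 0 := by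
  constructor
  · intro hx
    obtain ⟨m, rfl⟩ := AddSubgroup.mem_zmultiples_iff.1 hx
    rw [mul_smul_comm, ← Nat.cast_mul, ← pow_add, show j + (n - j) = n by omega, ZMod.natCast_self, smul_zero]
  · intro h
    rw [← ZMod.natCast_rightInverse x, ← Nat.cast_mul, ZMod.natCast_eq_zero_iff] at h
    obtain ⟨c, hc⟩ := Nat.dvd_of_mul_dvd_mul_left (by positivity : 0 < 2 ^ j)
      ((dvd_of_eq (show 2 ^ j * 2 ^ (n - j) = 2 ^ n by rw [← pow_add]; congr 1; omega)).trans h)
    refine AddSubgroup.mem_zmultiples_iff.2 ⟨c, ?_⟩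
    rw [← ZMod.natCast_rightInverse x, hc]
    push_cast
    rw [zsmul_eq_mul]; push_cast; ring

theorem mem_torsion_one (hn : 3 ≤ n) {x : ZMod (2 ^ n)} : x ∈ torsion n 1 ↔ x + x = 0 := by
  rw [mem_torsion (by omega : 1 ≤ n), pow_one, Nat.cast_ofNat, two_mul]

theorem mem_torsion_two (hn : 3 ≤ n) {x : ZMod (2 ^ n)} : x ∈ torsion n 2 ↔ (x + x) + (x + x) = 0 := by
  rw [mem_torsion (by omega : 2 ≤ n), show (2 : ℕ) ^ 2 = 4 from rfl, Nat.cast_ofNat, show (4 : ZMod (2 ^ n)) * x = x + x + (x + x) by ring]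

theorem mem_torsion_evens (hn : 3 ≤ n) {x : ZMod (2 ^ n)} : x ∈ torsion n (n - 1) ↔ ∃ d, x = d + d := by
  rw [torsion, show n - (n - 1) = 1 by omega, pow_one, AddSubgroup.mem_zmultiples_iff]
  constructor
  · rintro ⟨m, rfl⟩; exact ⟨(m : ZMod (2 ^ n)), by rw [zsmul_eq_mul, Nat.cast_ofNat]; ring⟩
  · rintro ⟨d, rfl⟩; exact ⟨(d.val : ℤ), by rw [natCast_zsmul, nsmul_eq_mul, ZMod.natCast_rightInverse, Nat.cast_ofNat]; ring⟩

/-- The Klein four-subgroup through the first reflection. -/
def four (hn : 3 ≤ n) : Subgroup (Q n) := sub (torsion n 1) 0 (by rw [mem_torsion_one hn]; simp)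

/-- The quaternion subgroup through the odd reflection. -/
def quat8 (hn : 3 ≤ n) : Subgroup (Q n) := sub (torsion n 2) 1 (by
  rw [mem_torsion_two hn, mu_eq hn]; linear_combination 2 * half_add_half hn)

/-- The dihedral maximal subgroup. -/
def dihMax (hn : 3 ≤ n) : Subgroup (Q n) := sub (torsion n (n - 1)) 0 (by
  rw [mem_torsion_evens hn]; exact ⟨0, by simp⟩)

/-- The quaternion maximal subgroup. -/
def quatMax (hn : 3 ≤ n) : Subgroup (Q n) := sub (torsion n (n - 1)) 1 (by
  rw [mem_torsion_evens hn]; exact ⟨quarter n, by rw [mu_eq hn, quarter_add_quarter hn]; ring⟩)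

/-- The even rotations. -/
def evens (n : ℕ) : Subgroup (Q n) := ((rot n).comp (powMonoidHom 2)).range

theorem mem_evens {u : Q n} : u ∈ evens n ↔ u.e = false ∧ ∃ d, u.i = d + d := by
  constructor
  · rintro ⟨k, rfl⟩; exact ⟨rfl, k.toAdd, by show (k ^ 2).toAdd = _; rw [sq]; rfl⟩
  · rintro ⟨he, d, hd⟩; exact ⟨Multiplicative.ofAdd d, Q.ext (by rw [hd]; show (Multiplicative.ofAdd d ^ 2).toAdd = _; rw [sq]; rfl) he.symm⟩

open scoped commutatorElement in
theorem commutator_eq (hn : 3 ≤ n) : commutator (Q n) = evens n := by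
  refine le_antisymm ?_ ?_
  · let f : Q n →* Multiplicative (ZMod 2 × ZMod 2) := MonoidHom.mk'
      (fun u => Multiplicative.ofAdd (par hn u.i, bif u.e then 1 else 0)) (by
      have hm : ∀ x, par hn (mu n * x) = par hn x := fun x => by
        rw [map_mul, mu_eq hn, map_sub, par_half, map_one, zero_sub, CharTwo.neg_eq, one_mul]
      rintro ⟨a, _ | _⟩ ⟨b, _ | _⟩ <;> simp only [mk_false_mul, mk_true_mul, ← ofAdd_add] <;> congr 1 <;>
        simp [map_add, hm] <;> decide)
    intro u hu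
    have h : f u = 1 := Abelianization.commutator_subset_ker f hu
    obtain ⟨i, e⟩ := u
    have h1 : par hn i = 0 := congrArg Prod.fst (Multiplicative.ofAdd.injective h)
    have h2 : (bif e then (1 : ZMod 2) else 0) = 0 := congrArg Prod.snd (Multiplicative.ofAdd.injective h)
    cases e
    · refine mem_evens.2 ⟨rfl, ?_⟩
      rcases even_or_odd hn i with ⟨d, rfl⟩ | ⟨d, rfl⟩
      · exact ⟨d, rfl⟩
      · rw [par_odd] at h1; exact absurd h1 one_ne_zero
    · exact absurd h2 one_ne_zero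
  · intro u hu
    obtain ⟨he, d, hd⟩ := mem_evens.1 hu
    obtain ⟨k, hk⟩ := exists_shift hn d
    have : u = ⁅(⟨k, false⟩ : Q n), ⟨0, true⟩⁆ := by
      rw [commutatorElement_def, conj_rot]
      simp only [cond_true, zero_add, inv_mk_true, mul_zero, neg_zero, mk_true_mul, Bool.not_true]
      exact Q.ext (by rw [hd, hk]; simp) he
    rw [this]
    exact Subgroup.commutator_mem_commutator (Subgroup.mem_top _) (Subgroup.mem_top _)

/-- Conjugation moves the reflection coset. -/
theorem map_conj_sub (K : AddSubgroup (ZMod (2 ^ n))) (a k : ZMod (2 ^ n)) (ha : a + mu n * a ∈ K)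
    (ha' : (a + (1 - mu n) * k) + mu n * (a + (1 - mu n) * k) ∈ K) :
    (sub K a ha).map (MulAut.conj (⟨k, false⟩ : Q n)).toMonoidHom = sub K (a + (1 - mu n) * k) ha' := by
  ext u
  rw [Subgroup.mem_map_equiv, MulAut.conj_symm_apply, show (⟨k, false⟩ : Q n)⁻¹ = ⟨-k, false⟩ from rfl,
    show (⟨k, false⟩ : Q n) = (⟨-k, false⟩ : Q n)⁻¹ by simp]
  obtain ⟨i, _ | _⟩ := u <;> rw [conj_rot, mem_sub, mem_sub] <;> simp only [cond_true, cond_false]
  rw [show i + (1 - mu n) * -k - a = i - (a + (1 - mu n) * k) by ring]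

/-- The normalizer of a subgroup with reflections. -/
theorem mem_normalizer_sub (K : AddSubgroup (ZMod (2 ^ n))) (a : ZMod (2 ^ n)) (ha : a + mu n * a ∈ K) (u : Q n) :
    u ∈ Subgroup.normalizer (sub K a ha : Set (Q n)) ↔ (1 - mu n) * (u.i - (bif u.e then a else 0)) ∈ K := by
  have hK : ∀ c x : ZMod (2 ^ n), x ∈ K → c * x ∈ K := fun c x hx => by
    rw [← ZMod.natCast_rightInverse c, ← nsmul_eq_mul]; exact K.nsmul_mem hx _
  have hrot : ∀ k : ZMod (2 ^ n), (⟨k, false⟩ : Q n) ∈ Subgroup.normalizer (sub K a ha : Set (Q n)) ↔ (1 - mu n) * k ∈ K := by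
    intro k
    constructor
    · intro h
      have h1 := (Subgroup.mem_normalizer_iff.1 h (⟨a, true⟩ : Q n)).1 (by rw [mem_sub]; simp)
      rw [conj_rot, mem_sub] at h1
      simpa using h1
    · intro h
      refine Subgroup.mem_normalizer_fintype fun x hx => ?_
      obtain ⟨i, _ | _⟩ := x <;> rw [SetLike.mem_coe, mem_sub] at hx ⊢ <;> rw [conj_rot] <;>
        simp only [cond_true, cond_false] at hx ⊢
      · exact hx
      · rw [add_sub_right_comm]; exact K.add_mem hx h
  obtain ⟨i, _ | _⟩ := u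
  · rw [hrot]; simp
  · have hmem : (⟨a, true⟩ : Q n) ∈ Subgroup.normalizer (sub K a ha : Set (Q n)) :=
      Subgroup.le_normalizer (by rw [mem_sub]; simp)
    rw [show (⟨i, true⟩ : Q n) = ⟨i - a, false⟩ * ⟨a, true⟩ by simp, Subgroup.mul_mem_cancel_right _ hmem, hrot]
    simp

theorem ref_mem_four (hn : 3 ≤ n) : (⟨0, true⟩ : Q n) ∈ four hn ∧ (⟨half n, false⟩ : Q n) ∈ four hn := by
  constructor <;> rw [four, mem_sub, mem_torsion_one hn] <;> simp [half_add_half hn]

/-- The four-subgroups. -/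
theorem exists_conj_four (hn : 3 ≤ n) (T : Subgroup (Q n)) (hT : IsKleinFour T) :
    ∃ g : Q n, (four hn).map (MulAut.conj g).toMonoidHom = T := by
  have hsq : ∀ u ∈ T, u * u = 1 := fun u hu => by
    simpa [hT.exponent_two, sq] using congrArg Subtype.val (Monoid.pow_exponent_eq_one (⟨u, hu⟩ : T))
  have hcm : ∀ u ∈ T, ∀ v ∈ T, u * v = v * u := fun u hu v hv =>
    congrArg Subtype.val (mul_comm_of_exponent_two hT.exponent_two (⟨u, hu⟩ : T) ⟨v, hv⟩)
  obtain ⟨t, ht, hte⟩ : ∃ t ∈ T, t.e = true := by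
    by_contra h
    push_neg at h
    let f : T → {x : ZMod (2 ^ n) // x + x = 0} := fun u => ⟨u.1.i, by
      have h1 := hsq u u.2
      have he : u.1.e = false := Bool.eq_false_iff.2 (h u u.2)
      obtain ⟨⟨i, e⟩, hu⟩ := u
      obtain rfl : e = false := he
      simp [one_def] at h1
      exact h1⟩
    have hf : Function.Injective f := fun u v huv => Subtype.ext (Q.ext (congrArg Subtype.val huv)
      ((Bool.eq_false_iff.2 (h u u.2)).trans (Bool.eq_false_iff.2 (h v v.2)).symm))
    have h1 := Nat.card_le_card_of_injective f hf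
    rw [hT.card_four, show {x : ZMod (2 ^ n) // x + x = 0} = ↥({x : ZMod (2 ^ n) | x + x = 0} : Set _) from rfl, Nat.card_coe_set_eq,
      show {x : ZMod (2 ^ n) | x + x = 0} = {0, half n} from Set.ext (two_mul_eq_zero_iff hn),
      Set.ncard_pair (half_ne_zero hn).symm] at h1
    omega
  obtain ⟨i, e⟩ := t
  obtain rfl : e = true := hte
  rcases even_or_odd hn i with ⟨d, rfl⟩ | ⟨d, rfl⟩
  swap
  · exfalso
    have h1 := hsq _ ht
    rw [← sq (⟨d + d + 1, true⟩ : Q n), ref_sq_odd hn, one_def] at h1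
    exact half_ne_zero hn (congrArg Q.i h1)
  obtain ⟨k, hk⟩ := exists_shift hn d
  refine ⟨⟨k, false⟩, ?_⟩
  have ha' : (0 + (1 - mu n) * k) + mu n * (0 + (1 - mu n) * k) ∈ torsion n 1 := by
    rw [mem_torsion_one hn, hk, mu_eq hn]
    linear_combination 2 * half_mul_even hn d
  rw [four, map_conj_sub _ _ _ _ ha']
  refine (Subgroup.eq_of_le_of_card_ge (fun u hu => ?_) (by rw [card_sub, card_torsion (by omega : 1 ≤ n), hT.card_four]; norm_num)).symm
  rw [mem_sub, mem_torsion_one hn]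
  have hrot : ∀ c : ZMod (2 ^ n), (⟨c, false⟩ : Q n) ∈ T → c + c = 0 := fun c hc => by
    have := hsq _ hc; simp [one_def] at this; exact this
  obtain ⟨x, _ | _⟩ := u <;> simp only [cond_true, cond_false, sub_zero]
  · exact hrot x hu
  · have h1 := hrot _ (show (⟨x - (d + d), false⟩ : Q n) ∈ T from by
      have h2 := mul_mem hu (inv_mem ht)
      rwa [inv_mk_true, mk_true_mul, Bool.not_true, show x + mu n * -(mu n * (d + d)) = x - (d + d) by
        linear_combination -(d + d) * mu_mul_mu n] at h2)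
    rw [hk]
    linear_combination h1

/-- The quaternion subgroups of order eight. -/
theorem exists_conj_quat8 (hn : 3 ≤ n) (θ : QuaternionGroup 2 →* Q n) (hθ : Function.Injective θ) :
    ∃ g : Q n, (quat8 hn).map (MulAut.conj g).toMonoidHom = θ.range := by
  have hbase : ∀ x : QuaternionGroup 2, (θ x).e = false → ((θ x).i + (θ x).i) + ((θ x).i + (θ x).i) = 0 := by
    intro x hx
    obtain ⟨i, hi⟩ : ∃ i, θ x = ⟨i, false⟩ := ⟨_, Q.ext rfl hx⟩
    have h4 : ∀ y : QuaternionGroup 2, y ^ 4 = 1 := by decide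
    have := congrArg θ (h4 x)
    rw [map_pow, map_one, hi, pow_mk_false, one_def] at this
    rw [hi]
    have h5 := congrArg Q.i this
    simp only [Nat.cast_ofNat] at h5
    linear_combination h5
  obtain ⟨x, hx⟩ : ∃ x : QuaternionGroup 2, (θ x).e = true := by
    by_contra h
    push_neg at h
    have hc : ∀ x y, θ x * θ y = θ y * θ x := fun x y => by
      obtain ⟨i, hi⟩ : ∃ i, θ x = ⟨i, false⟩ := ⟨_, Q.ext rfl (Bool.eq_false_iff.2 (h x))⟩
      obtain ⟨j, hj⟩ : ∃ j, θ y = ⟨j, false⟩ := ⟨_, Q.ext rfl (Bool.eq_false_iff.2 (h y))⟩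
      rw [hi, hj]; simp [add_comm]
    have := hθ (show θ (.a 1 * .xa 0) = θ (.xa 0 * .a 1) by rw [map_mul, map_mul, hc])
    exact absurd this (by decide)
  obtain ⟨i, hi⟩ : ∃ i, θ x = ⟨i, true⟩ := ⟨_, Q.ext rfl hx⟩
  rcases even_or_odd hn i with ⟨d, rfl⟩ | ⟨d, rfl⟩
  · exfalso
    have h1 : ∀ y : QuaternionGroup 2, y ^ 2 = 1 → ∀ z, y * z = z * y := by decide
    have hx2 : x ^ 2 = 1 := hθ (by rw [map_pow, hi, ref_sq_even hn, map_one])
    have hx0 : x = 1 ∨ x = .a 2 := by
      exact (show ∀ z : QuaternionGroup 2, z ^ 2 = 1 → z = 1 ∨ z = .a 2 by decide) x hx2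
    rcases hx0 with rfl | rfl
    · rw [map_one] at hi; exact Bool.noConfusion (congrArg Q.e hi)
    · have h2 : (θ (.a 2)).e = false := by
        rw [show (QuaternionGroup.a 2 : QuaternionGroup 2) = .a 1 * .a 1 by decide, map_mul, e_mul, Bool.xor_self]
      rw [hi] at h2; exact Bool.noConfusion h2
  obtain ⟨k, hk⟩ := exists_shift hn d
  refine ⟨⟨k, false⟩, ?_⟩
  have ha' : (1 + (1 - mu n) * k) + mu n * (1 + (1 - mu n) * k) ∈ torsion n 2 := by
    rw [mem_torsion_two hn, hk, mu_eq hn]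
    linear_combination 4 * half_mul_even hn d + 2 * half_add_half hn
  rw [quat8, map_conj_sub _ _ _ _ ha']
  refine (Subgroup.eq_of_le_of_card_ge (fun u hu => ?_) ?_).symm
  · rw [mem_sub, mem_torsion_two hn]
    obtain ⟨y, rfl⟩ := hu
    cases hy : (θ y).e
    · simp only [cond_false, sub_zero]; exact hbase y hy
    · simp only [cond_true]
      have h1 := hbase (y * x⁻¹) (by rw [map_mul, map_inv, e_mul, hi, inv_mk_true, hy]; rfl)
      obtain ⟨j, hj⟩ : ∃ j, θ y = ⟨j, true⟩ := ⟨_, Q.ext rfl hy⟩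
      rw [map_mul, map_inv, hi, hj, inv_mk_true, mk_true_mul] at h1
      simp only at h1
      rw [hj, hk]
      simp only
      linear_combination h1 + 4 * (d + d + 1) * mu_mul_mu n
  · rw [card_sub, card_torsion (by omega : 2 ≤ n), ← Nat.card_congr (MonoidHom.ofInjective hθ).toEquiv,
      Nat.card_eq_fintype_card, QuaternionGroup.card]
    norm_num

end Cfsg.Agent.Fusion.QuasiDihedral
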