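import Mathlib
import Cfsg.Agent.Lib.Fusion.QuasiDihedralFacts

/-!
Classes and maximal subgroups of the quasi-dihedral model.
-/

set_option autoImplicit false

namespace Cfsg.Agent.Fusion.QuasiDihedral

open Q

variable {n : ℕ}

theorem orderOf_eq_four_iff {G : Type*} [Group G] (u : G) : orderOf u = 4 ↔ (u ^ 2) ^ 2 = 1 ∧ u ^ 2 ≠ 1 := by
  have : Fact (Nat.Prime 2) := ⟨Nat.prime_two⟩
  constructor
  · intro h
    refine ⟨by rw [← pow_mul]; exact orderOf_dvd_iff_pow_eq_one.1 (dvd_of_eq h), fun h2 => ?_⟩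
    have := Nat.le_of_dvd (by norm_num) (orderOf_dvd_of_pow_eq_one h2)
    omega
  · rintro ⟨h4, h2⟩
    exact orderOf_eq_prime_pow (p := 2) (n := 1) (by rwa [pow_one]) (by rw [show (2 : ℕ) ^ (1 + 1) = 2 * 2 from rfl, pow_mul, h4])

/-- The classes of involutions and of elements of order four. -/
theorem classes (hn : 3 ≤ n) :
    (∀ u : Q n, orderOf u = 2 → IsConj u ⟨half n, false⟩ ∨ IsConj u ⟨0, true⟩) ∧
    (∀ u : Q n, orderOf u = 4 → IsConj u ⟨quarter n, false⟩ ∨ IsConj u ⟨1, true⟩) ∧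
    orderOf (⟨half n, false⟩ : Q n) = 2 ∧ orderOf (⟨0, true⟩ : Q n) = 2 ∧
    orderOf (⟨quarter n, false⟩ : Q n) = 4 ∧ orderOf (⟨1, true⟩ : Q n) = 4 := by
  have : Fact (Nat.Prime 2) := ⟨Nat.prime_two⟩
  have hh := half_add_half hn
  have hne := half_ne_zero hn
  refine ⟨fun u hu => ?_, fun u hu => ?_, ?_, ?_, ?_, ?_⟩
  · obtain ⟨h1, h2⟩ := orderOf_eq_prime_iff.1 hu
    obtain ⟨i, _ | _⟩ := u
    · rw [pow_two_of_base, one_def] at h1
      rcases (two_mul_eq_zero_iff hn i).1 (congrArg Q.i h1) with rfl | rfl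
      · exact absurd rfl h2
      · exact Or.inl (IsConj.refl _)
    · rcases even_or_odd hn i with ⟨d, rfl⟩ | ⟨d, rfl⟩
      · exact Or.inr (by simpa using (isConj_ref hn 0 d).symm)
      · rw [ref_sq_odd hn, one_def] at h1; exact absurd (congrArg Q.i h1) hne
  · obtain ⟨h1, h2⟩ := (orderOf_eq_four_iff u).1 hu
    obtain ⟨i, _ | _⟩ := u
    · rw [pow_two_of_base, pow_two_of_base, one_def] at h1
      rw [pow_two_of_base, one_def] at h2
      rcases (four_mul_eq_zero_iff hn i).1 (congrArg Q.i h1) with rfl | rfl | rfl | rfl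
      · exact absurd (by simp) h2
      · exact absurd (by rw [hh]) h2
      · exact Or.inl (IsConj.refl _)
      · exact Or.inl (isConj_iff.2 ⟨⟨0, true⟩, by rw [conj_ref, mul_neg, mu_mul_quarter hn, neg_neg]⟩)
    · rcases even_or_odd hn i with ⟨d, rfl⟩ | ⟨d, rfl⟩
      · exact absurd (ref_sq_even hn d) h2
      · refine Or.inr (IsConj.symm ?_)
        have := isConj_ref hn 1 d
        rwa [add_comm 1 (d + d)] at this
  · exact orderOf_eq_prime_iff.2 ⟨by rw [pow_two_of_base, hh]; rfl, fun h => hne (congrArg Q.i h)⟩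
  · exact orderOf_eq_prime_iff.2 ⟨by simpa using ref_sq_even hn 0, fun h => Bool.noConfusion (congrArg Q.e h)⟩
  · rw [orderOf_eq_four_iff, pow_two_of_base, pow_two_of_base, quarter_add_quarter hn, hh]
    exact ⟨rfl, fun h => hne (congrArg Q.i h)⟩
  · have h1 : (⟨1, true⟩ : Q n) ^ 2 = ⟨half n, false⟩ := by simpa using ref_sq_odd hn 0
    rw [orderOf_eq_four_iff, h1, pow_two_of_base, hh]
    exact ⟨rfl, fun h => hne (congrArg Q.i h)⟩

theorem not_isConj_of_e {u v : Q n} (h : u.e ≠ v.e) : ¬ IsConj u v := fun hc => by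
  obtain ⟨g, hg⟩ := isConj_iff.1 hc
  exact h (by rw [← hg, e_conj])

theorem mem_dihMax (hn : 3 ≤ n) {u : Q n} : u ∈ dihMax hn ↔ ∃ d, u.i = d + d := by
  rw [dihMax, mem_sub, mem_torsion_evens hn]
  cases u.e <;> simp

theorem mem_quatMax (hn : 3 ≤ n) {u : Q n} : u ∈ quatMax hn ↔ ∃ d, u.i = d + d + (bif u.e then 1 else 0) := by
  rw [quatMax, mem_sub, mem_torsion_evens hn]
  exact exists_congr fun d => sub_eq_iff_eq_add

theorem not_one_even (hn : 3 ≤ n) : ¬ ∃ d : ZMod (2 ^ n), (1 : ZMod (2 ^ n)) = d + d := fun ⟨d, hd⟩ => by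
  have := congrArg (par hn) hd
  rw [map_one, par_even] at this
  exact one_ne_zero this

theorem index_two_of_card (H : Subgroup (Q n)) (hn : 3 ≤ n) (h : Nat.card H = 2 ^ n) : H.index = 2 := by
  have h1 := H.card_mul_index
  rw [h, card_eq, pow_succ] at h1
  exact Nat.eq_of_mul_eq_mul_left (by positivity) h1

theorem card_dihMax (hn : 3 ≤ n) : Nat.card (dihMax hn) = 2 ^ n := by
  rw [dihMax, card_sub, card_torsion (Nat.sub_le n 1), ← pow_succ]; congr 1; omega

theorem card_quatMax (hn : 3 ≤ n) : Nat.card (quatMax hn) = 2 ^ n := by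
  rw [quatMax, card_sub, card_torsion (Nat.sub_le n 1), ← pow_succ]; congr 1; omega

theorem rot_injective (n : ℕ) : Function.Injective (rot n) := fun _ _ h => Multiplicative.toAdd.injective (congrArg Q.i h)

theorem card_rot (n : ℕ) : Nat.card (rot n).range = 2 ^ n := by
  rw [← Nat.card_congr (MonoidHom.ofInjective (rot_injective n)).toEquiv, Nat.card_congr Multiplicative.toAdd, Nat.card_zmod]

theorem mem_rot {u : Q n} : u ∈ (rot n).range ↔ u.e = false :=
  ⟨by rintro ⟨k, rfl⟩; rfl, fun h => ⟨Multiplicative.ofAdd u.i, Q.ext rfl h.symm⟩⟩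

/-- The maximal subgroups. -/
theorem coatoms (hn : 3 ≤ n) :
    IsCoatom (rot n).range ∧ IsCoatom (dihMax hn) ∧ IsCoatom (quatMax hn) ∧
    (rot n).range ≠ quatMax hn ∧ (rot n).range ≠ dihMax hn ∧ quatMax hn ≠ dihMax hn ∧
    ∀ M : Subgroup (Q n), IsCoatom M → M = (rot n).range ∨ M = quatMax hn ∨ M = dihMax hn := by
  have : Fact (Nat.Prime 2) := ⟨Nat.prime_two⟩
  have hco : ∀ H : Subgroup (Q n), Nat.card H = 2 ^ n → IsCoatom H := fun H h => by
    have h2 := index_two_of_card H hn h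
    refine ⟨fun ht => by rw [ht, Subgroup.index_top] at h2; omega, fun K hK => ?_⟩
    have h3 := Subgroup.relIndex_mul_index hK.le
    rw [h2] at h3
    rcases (Nat.dvd_prime Nat.prime_two).1 (Dvd.intro_left _ h3) with h4 | h4
    · exact Subgroup.index_eq_one.1 h4
    · rw [h4] at h3
      exact absurd (Subgroup.relIndex_eq_one.1 (by omega : H.relIndex K = 1)) (not_le_of_gt hK)
  have hne := not_one_even hn
  refine ⟨hco _ (card_rot n), hco _ (card_dihMax hn), hco _ (card_quatMax hn), ?_, ?_, ?_, fun M hM => ?_⟩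
  · intro h
    have h1 : (⟨1, false⟩ : Q n) ∈ quatMax hn := h ▸ mem_rot.2 rfl
    exact hne (by simpa [mem_quatMax hn] using h1)
  · intro h
    have h1 : (⟨1, false⟩ : Q n) ∈ dihMax hn := h ▸ mem_rot.2 rfl
    exact hne ((mem_dihMax hn).1 h1)
  · intro h
    have h1 : (⟨0, true⟩ : Q n) ∈ quatMax hn := h ▸ (mem_dihMax hn).2 ⟨0, by simp⟩
    obtain ⟨d, hd⟩ := (mem_quatMax hn).1 h1
    exact hne ⟨-d, by simp at hd; linear_combination -hd⟩
  · have hp : IsPGroup 2 (Q n) := IsPGroup.of_card (n := n + 1) card_eq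
    have hnil := hp.isNilpotent
    have : M.Normal := Subgroup.NormalizerCondition.normal_of_coatom M Group.normalizerCondition_of_isNilpotent hM
    have hidx : M.index = 2 := by
      obtain ⟨k, hk⟩ := hp.index M
      rcases Nat.eq_zero_or_pos k with rfl | hk0
      · exact absurd (Subgroup.index_eq_one.1 (hk.trans (pow_zero 2))) hM.1
      rcases Nat.lt_or_ge k 2 with h | h
      · rw [hk, show k = 1 by omega, pow_one]
      · exfalso
        have hpq : IsPGroup 2 (Q n ⧸ M) := hp.to_quotient M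
        obtain ⟨K, hK⟩ := Sylow.exists_subgroup_card_pow_prime 2 (G := Q n ⧸ M) (n := 1)
          (by rw [show Nat.card (Q n ⧸ M) = 2 ^ k from hk]; exact pow_dvd_pow 2 (by omega))
        have hlt : M < K.comap (QuotientGroup.mk' M) := by
          refine lt_of_le_of_ne (fun x hx => ?_) fun h' => ?_
          · show (x : Q n ⧸ M) ∈ K
            rw [(QuotientGroup.eq_one_iff x).2 hx]; exact one_mem K
          · have h5 := congrArg (Subgroup.map (QuotientGroup.mk' M)) h'
            rw [Subgroup.map_comap_eq_self_of_surjective (QuotientGroup.mk'_surjective M), QuotientGroup.map_mk'_self] at h5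
            rw [← h5, Subgroup.card_bot] at hK
            norm_num at hK
        have h5 := congrArg (Subgroup.map (QuotientGroup.mk' M)) (hM.2 _ hlt)
        rw [Subgroup.map_comap_eq_self_of_surjective (QuotientGroup.mk'_surjective M),
          Subgroup.map_top_of_surjective _ (QuotientGroup.mk'_surjective M)] at h5
        rw [h5, Subgroup.card_top, show Nat.card (Q n ⧸ M) = 2 ^ k from hk] at hK
        have := Nat.pow_right_injective (le_refl 2) hK
        omega
    have hcard : Nat.card M = 2 ^ n := by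
      have h1 := M.card_mul_index
      rw [hidx, card_eq, pow_succ] at h1
      omega
    have hev : ∀ d : ZMod (2 ^ n), (⟨d + d, false⟩ : Q n) ∈ M := fun d => by
      have := Subgroup.sq_mem_of_index_two hidx (⟨d, false⟩ : Q n)
      rwa [pow_two_of_base] at this
    by_cases h1 : (⟨1, false⟩ : Q n) ∈ M
    · left
      refine (Subgroup.eq_of_le_of_card_ge (fun u hu => ?_) (by rw [hcard, card_rot])).symm
      rw [show u = (⟨1, false⟩ : Q n) ^ u.i.val from by rw [pow_mk_false]; exact Q.ext (by simp) (mem_rot.1 hu)]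
      exact pow_mem h1 _
    right
    have hb : ∀ i : ZMod (2 ^ n), (⟨i, false⟩ : Q n) ∈ M ↔ ∃ d, i = d + d := fun i => by
      refine ⟨fun hi => ?_, fun ⟨d, hd⟩ => hd ▸ hev d⟩
      rcases even_or_odd hn i with ⟨d, rfl⟩ | ⟨d, rfl⟩
      · exact ⟨d, rfl⟩
      · exact absurd (by simpa [← add_assoc] using mul_mem (inv_mem (hev d)) hi) h1
    obtain ⟨t, ht, hte⟩ : ∃ t ∈ M, t.e = true := by
      by_contra h
      push_neg at h
      exact h1 ((Subgroup.eq_of_le_of_card_ge (K := (rot n).range) (fun u hu => mem_rot.2 (Bool.eq_false_iff.2 (h u hu))) (by rw [hcard, card_rot])) ▸ mem_rot.2 rfl)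
    obtain ⟨a, e⟩ := t
    obtain rfl : e = true := hte
    rcases even_or_odd hn a with ⟨d₀, hd₀⟩ | ⟨d₀, hd₀⟩
    · right
      refine (Subgroup.eq_of_le_of_card_ge (fun u hu => ?_) (by rw [hcard, card_dihMax hn])).symm
      obtain ⟨d, hd⟩ := (mem_dihMax hn).1 hu
      obtain ⟨x, _ | _⟩ := u
      · exact (hb x).2 ⟨d, hd⟩
      · have := mul_mem ((hb (x - a)).2 ⟨d - d₀, by simp only at hd; linear_combination hd - hd₀⟩) ht
        simpa using this
    · left
      refine (Subgroup.eq_of_le_of_card_ge (fun u hu => ?_) (by rw [hcard, card_quatMax hn])).symm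
      obtain ⟨d, hd⟩ := (mem_quatMax hn).1 hu
      obtain ⟨x, _ | _⟩ := u
      · exact (hb x).2 ⟨d, by simpa using hd⟩
      · have := mul_mem ((hb (x - a)).2 ⟨d - d₀, by simp at hd; linear_combination hd - hd₀⟩) ht
        simpa using this

/-- The doubling map on residues of half the modulus. -/
theorem exists_double (hn : 3 ≤ n) {m : ℕ} (hm : m * 2 = 2 ^ n) :
    ∃ l : ZMod m →+ ZMod (2 ^ n), Function.Injective l ∧ ∀ k : ℤ, l k = k + k := by
  have hk : (zmultiplesHom (ZMod (2 ^ n))) 2 ((m : ℕ) : ℤ) = 0 := by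
    rw [zmultiplesHom_apply, natCast_zsmul, nsmul_eq_mul, show (2 : ZMod (2 ^ n)) = ((2 : ℕ) : ZMod (2 ^ n)) from Nat.cast_ofNat.symm, ← Nat.cast_mul, hm, ZMod.natCast_self]
  refine ⟨ZMod.lift m ⟨zmultiplesHom _ 2, hk⟩, (ZMod.lift_injective _).2 fun k hk' => ?_, fun k => ?_⟩
  · rw [zmultiplesHom_apply, zsmul_eq_mul, ← Int.cast_ofNat, ← Int.cast_mul, ZMod.intCast_zmod_eq_zero_iff_dvd] at hk'
    rw [ZMod.intCast_zmod_eq_zero_iff_dvd]
    exact Int.dvd_of_mul_dvd_mul_right (by norm_num : (2 : ℤ) ≠ 0) ((dvd_of_eq (by exact_mod_cast hm)).trans hk')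
  · rw [ZMod.lift_coe, zmultiplesHom_apply, zsmul_eq_mul]; ring

theorem dihMax_equiv (hn : 3 ≤ n) : Nonempty (dihMax hn ≃* DihedralGroup (2 ^ (n - 1))) := by
  obtain ⟨l, hl, hlc⟩ := exists_double (m := 2 ^ (n - 1)) hn (by rw [← pow_succ]; congr 1; omega)
  have hev : ∀ i, ∃ d, l i = d + d := fun i => ⟨((i.val : ℤ) : ZMod (2 ^ n)), by rw [← hlc, Int.cast_natCast, ZMod.natCast_rightInverse]⟩
  have hmu : ∀ i, mu n * l i = -l i := fun i => by
    obtain ⟨d, hd⟩ := hev i
    rw [hd, mu_eq hn]; linear_combination half_mul_even hn d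
  let θ : DihedralGroup (2 ^ (n - 1)) →* dihMax hn := MonoidHom.mk' (fun x => match x with
    | .r i => ⟨⟨l i, false⟩, (mem_dihMax hn).2 (hev i)⟩
    | .sr i => ⟨⟨-l i, true⟩, (mem_dihMax hn).2 (by obtain ⟨d, hd⟩ := hev i; exact ⟨-d, by rw [hd]; ring⟩)⟩) (by
    rintro (i | i) (j | j) <;> refine Subtype.ext ?_
    · rw [DihedralGroup.r_mul_r]; simp [map_add]
    · rw [DihedralGroup.r_mul_sr]; simp [map_sub]; ring
    · rw [DihedralGroup.sr_mul_r]; simp [map_add, hmu]; ring
    · rw [DihedralGroup.sr_mul_sr]; simp [map_sub, hmu]; ring)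
  have hθ : Function.Injective θ := by
    rintro (i | i) (j | j) h <;> have h' := congrArg Subtype.val h
    · exact congrArg _ (hl (congrArg Q.i h'))
    · exact Bool.noConfusion (congrArg Q.e h')
    · exact Bool.noConfusion (congrArg Q.e h')
    · exact congrArg _ (hl (neg_injective (congrArg Q.i h')))
  have hbij : Function.Bijective θ := (Nat.bijective_iff_injective_and_card θ).2 ⟨hθ, by
    rw [card_dihMax hn, DihedralGroup.nat_card, ← pow_succ']; congr 1; omega⟩
  exact ⟨(MulEquiv.ofBijective θ hbij).symm⟩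

theorem quatMax_equiv (hn : 3 ≤ n) : Nonempty (quatMax hn ≃* QuaternionGroup (2 ^ (n - 2))) := by
  have hN : 2 * 2 ^ (n - 2) = 2 ^ (n - 1) := by rw [← pow_succ']; congr 1; omega
  obtain ⟨l, hl, hlc⟩ := exists_double (m := 2 * 2 ^ (n - 2)) hn (by rw [hN, ← pow_succ]; congr 1; omega)
  have hev : ∀ i, ∃ d, l i = d + d := fun i => ⟨((i.val : ℤ) : ZMod (2 ^ n)), by rw [← hlc, Int.cast_natCast, ZMod.natCast_rightInverse]⟩
  have hmu : ∀ i, mu n * l i = -l i := fun i => by
    obtain ⟨d, hd⟩ := hev i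
    rw [hd, mu_eq hn]; linear_combination half_mul_even hn d
  have hk : l ((2 ^ (n - 2) : ℕ) : ZMod (2 * 2 ^ (n - 2))) = half n := by
    have := hlc ((2 ^ (n - 2) : ℕ) : ℤ)
    rw [Int.cast_natCast, Int.cast_natCast] at this
    exact this.trans (quarter_add_quarter hn)
  let θ : QuaternionGroup (2 ^ (n - 2)) →* quatMax hn := MonoidHom.mk' (fun x => match x with
    | .a i => ⟨⟨l i, false⟩, (mem_quatMax hn).2 (by simpa using hev i)⟩
    | .xa i => ⟨⟨1 - l i, true⟩, (mem_quatMax hn).2 (by obtain ⟨d, hd⟩ := hev i; exact ⟨-d, by simp [hd]; ring⟩)⟩) (by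
    rintro (i | i) (j | j) <;> refine Subtype.ext ?_
    · rw [QuaternionGroup.a_mul_a]; simp [map_add]
    · rw [QuaternionGroup.a_mul_xa]; simp [map_sub]; ring
    · rw [QuaternionGroup.xa_mul_a]; simp [map_add, hmu]; ring
    · rw [QuaternionGroup.xa_mul_xa]
      show (⟨_, false⟩ : Q n) = ⟨1 - l i, true⟩ * ⟨1 - l j, true⟩
      simp only [mk_true_mul, Bool.not_true, map_add, map_sub, hk, mul_sub, hmu, mul_one]
      ext
      · show _ = _
        rw [mu_eq hn]; ring
      · rfl)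
  have hθ : Function.Injective θ := by
    rintro (i | i) (j | j) h <;> have h' := congrArg Subtype.val h
    · exact congrArg _ (hl (congrArg Q.i h'))
    · exact Bool.noConfusion (congrArg Q.e h')
    · exact Bool.noConfusion (congrArg Q.e h')
    · exact congrArg _ (hl (sub_right_injective (congrArg Q.i h')))
  have : NeZero (2 ^ (n - 2)) := ⟨by positivity⟩
  have hbij : Function.Bijective θ := (Nat.bijective_iff_injective_and_card θ).2 ⟨hθ, by
    rw [card_quatMax hn, Nat.card_eq_fintype_card, QuaternionGroup.card, show (4 : ℕ) = 2 ^ 2 from rfl, ← pow_add]; congr 1; omega⟩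
  exact ⟨(MulEquiv.ofBijective θ hbij).symm⟩

theorem closure_involutions (hn : 3 ≤ n) : Subgroup.closure {u : Q n | orderOf u = 2} = dihMax hn := by
  obtain ⟨hall, -, h1, h2, -⟩ := classes hn
  have : Fact (Nat.Prime 2) := ⟨Nat.prime_two⟩
  refine le_antisymm ((Subgroup.closure_le _).2 fun u hu => ?_) fun u hu => ?_
  · obtain ⟨hsq, hne⟩ := orderOf_eq_prime_iff.1 hu
    rw [SetLike.mem_coe, mem_dihMax hn]
    obtain ⟨i, _ | _⟩ := u
    · rw [pow_two_of_base, one_def] at hsq
      rcases (two_mul_eq_zero_iff hn i).1 (congrArg Q.i hsq) with rfl | rfl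
      · exact ⟨0, by simp⟩
      · exact ⟨quarter n, (quarter_add_quarter hn).symm⟩
    · rcases even_or_odd hn i with ⟨d, rfl⟩ | ⟨d, rfl⟩
      · exact ⟨d, rfl⟩
      · rw [ref_sq_odd hn, one_def] at hsq; exact absurd (congrArg Q.i hsq) (half_ne_zero hn)
  · obtain ⟨d, hd⟩ := (mem_dihMax hn).1 hu
    have ht : ∀ d : ZMod (2 ^ n), (⟨d + d, true⟩ : Q n) ∈ Subgroup.closure {u : Q n | orderOf u = 2} := fun d =>
      Subgroup.subset_closure (orderOf_eq_prime_iff.2 ⟨ref_sq_even hn d, fun h => Bool.noConfusion (congrArg Q.e h)⟩)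
    obtain ⟨i, _ | _⟩ := u <;> obtain rfl : i = d + d := hd
    · have := mul_mem (ht d) (ht 0)
      simpa using this
    · exact ht d

end Cfsg.Agent.Fusion.QuasiDihedral
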