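import Mathlib
import Cfsg.Agent.Lib.Fusion.QuasiDihedralClasses

/-!
Centralizers, normalizers and normal subgroups of the quasi-dihedral model.
-/

set_option autoImplicit false

namespace Cfsg.Agent.Fusion.QuasiDihedral

open Q

variable {n : ℕ}

theorem shift_mem_torsion (hn : 3 ≤ n) {j : ℕ} (hj : j + 1 ≤ n) {x : ZMod (2 ^ n)} :
    (1 - mu n) * x ∈ torsion n j ↔ x ∈ torsion n (j + 1) := by
  have hu : IsUnit (1 - quarter n) := IsNilpotent.isUnit_one_sub ⟨n, by
    rw [quarter, ← Nat.cast_pow, ← pow_mul, ZMod.natCast_eq_zero_iff]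
    exact pow_dvd_pow 2 (Nat.le_mul_of_pos_left n (by omega))⟩
  rw [mem_torsion (by omega), mem_torsion hj, shift_eq hn,
    show ((2 ^ j : ℕ) : ZMod (2 ^ n)) * ((1 - quarter n) * x + (1 - quarter n) * x) =
      (1 - quarter n) * (((2 ^ (j + 1) : ℕ) : ZMod (2 ^ n)) * x) by push_cast; ring]
  exact hu.mul_right_eq_zero

theorem torsion_mono {i j : ℕ} (h : i ≤ j) (hj : j ≤ n) : torsion n i ≤ torsion n j := fun x hx => by
  rw [mem_torsion (h.trans hj)] at hx
  obtain ⟨d, rfl⟩ := Nat.exists_eq_add_of_le h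
  rw [mem_torsion hj, pow_add, Nat.cast_mul, mul_right_comm, hx, zero_mul]

theorem normalizer_sub (hn : 3 ≤ n) {j : ℕ} (hj : j + 1 ≤ n) (a : ZMod (2 ^ n)) (ha : a + mu n * a ∈ torsion n j) :
    Subgroup.normalizer (sub (torsion n j) a ha : Set (Q n)) =
      sub (torsion n (j + 1)) a (torsion_mono (Nat.le_succ j) hj ha) := by
  ext u
  rw [mem_normalizer_sub, shift_mem_torsion hn hj, mem_sub]

theorem relIndex_normalizer_sub (hn : 3 ≤ n) {j : ℕ} (hj : j + 1 ≤ n) (a : ZMod (2 ^ n)) (ha : a + mu n * a ∈ torsion n j) :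
    (sub (torsion n j) a ha).relIndex (Subgroup.normalizer (sub (torsion n j) a ha : Set (Q n))) = 2 := by
  have h := Subgroup.relIndex_mul_relIndex ⊥ (sub (torsion n j) a ha) _ bot_le (Subgroup.le_normalizer)
  rw [Subgroup.relIndex_bot_left, Subgroup.relIndex_bot_left, normalizer_sub hn hj, card_sub, card_sub,
    card_torsion hj, card_torsion (by omega), pow_succ] at h
  rw [normalizer_sub hn hj]
  exact Nat.eq_of_mul_eq_mul_left (by positivity : 0 < 2 ^ j * 2) h

theorem centralizer_four (hn : 3 ≤ n) : Subgroup.centralizer (four hn : Set (Q n)) ≤ four hn := by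
  intro u hu
  have h := Subgroup.mem_centralizer_iff.1 hu ⟨0, true⟩ (ref_mem_four hn).1
  obtain ⟨x, e⟩ := u
  have hx : (1 - mu n) * x ∈ torsion n 0 := by
    have h1 := congrArg Q.i h
    rw [mem_torsion (Nat.zero_le n), pow_zero, Nat.cast_one, one_mul]
    cases e <;> simp only [mk_true_mul, mk_false_mul, zero_add, mul_zero, add_zero] at h1 <;> linear_combination -h1
  rw [shift_mem_torsion hn (by omega)] at hx
  rw [four, mem_sub]
  cases e <;> simpa using hx

theorem centralizer_quat8 (hn : 3 ≤ n) : Subgroup.centralizer (quat8 hn : Set (Q n)) ≤ quat8 hn := by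
  intro u hu
  have hq : (⟨quarter n, false⟩ : Q n) ∈ quat8 hn := by
    rw [quat8, mem_sub, mem_torsion_two hn]
    simp only [cond_false, sub_zero]
    rw [quarter_add_quarter hn, half_add_half hn]
  have h1 : (⟨1, true⟩ : Q n) ∈ quat8 hn := by rw [quat8, mem_sub]; simp
  have ha := congrArg Q.i (Subgroup.mem_centralizer_iff.1 hu _ hq)
  have hb := congrArg Q.i (Subgroup.mem_centralizer_iff.1 hu _ h1)
  obtain ⟨x, _ | _⟩ := u
  · rw [quat8, mem_sub]
    simp only [cond_false, sub_zero]
    refine torsion_mono (by omega : 1 ≤ 2) (by omega) ((shift_mem_torsion hn (j := 0) (by omega)).1 ?_)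
    rw [mem_torsion (Nat.zero_le n), pow_zero, Nat.cast_one, one_mul]
    simp only [mk_true_mul, mk_false_mul] at hb
    linear_combination -hb
  · exfalso
    simp only [mk_true_mul, mk_false_mul, mu_mul_quarter hn] at ha
    exact half_ne_zero hn (by linear_combination ha - quarter_add_quarter hn)

theorem isCoatom_of_card (hn : 3 ≤ n) {H : Subgroup (Q n)} (h : Nat.card H = 2 ^ n) : IsCoatom H := by
  have h2 := index_two_of_card H hn h
  refine ⟨fun ht => by rw [ht, Subgroup.index_top] at h2; omega, fun K hK => ?_⟩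
  have h3 := Subgroup.relIndex_mul_index hK.le
  rw [h2] at h3
  rcases (Nat.dvd_prime Nat.prime_two).1 (Dvd.intro_left _ h3) with h4 | h4
  · exact Subgroup.index_eq_one.1 h4
  · rw [h4] at h3
    exact absurd (Subgroup.relIndex_eq_one.1 (by omega : H.relIndex K = 1)) (not_le_of_gt hK)

theorem isCyclic_rot (n : ℕ) : IsCyclic (rot n).range :=
  isCyclic_of_surjective (rot n).rangeRestrict (rot n).rangeRestrict_surjective

theorem evens_le_rot (n : ℕ) : evens n ≤ (rot n).range := fun _ hu => mem_rot.2 (mem_evens.1 hu).1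

theorem isCyclic_evens (n : ℕ) : IsCyclic (evens n) :=
  isCyclic_of_surjective ((rot n).comp (powMonoidHom 2)).rangeRestrict ((rot n).comp (powMonoidHom 2)).rangeRestrict_surjective

theorem card_evens (hn : 3 ≤ n) : Nat.card (evens n) = 2 ^ (n - 1) := by
  rw [← card_torsion (Nat.sub_le n 1)]
  exact Nat.card_congr
    { toFun := fun u => ⟨u.1.i, (mem_torsion_evens hn).2 (mem_evens.1 u.2).2⟩
      invFun := fun x => ⟨⟨x.1, false⟩, mem_evens.2 ⟨rfl, (mem_torsion_evens hn).1 x.2⟩⟩
      left_inv := fun u => Subtype.ext (Q.ext rfl (mem_evens.1 u.2).1.symm)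
      right_inv := fun _ => rfl }

theorem card_center (hn : 3 ≤ n) : Nat.card (Subgroup.center (Q n)) = 2 := by
  rw [← SetLike.coe_sort_coe, Nat.card_coe_set_eq,
    show (Subgroup.center (Q n) : Set (Q n)) = {⟨0, false⟩, ⟨half n, false⟩} from ?_,
    Set.ncard_pair fun h => half_ne_zero hn (congrArg Q.i h).symm]
  ext u
  obtain ⟨x, e⟩ := u
  simp [mem_center hn, Q.mk.injEq]
  tauto

theorem normal_cases (hn : 3 ≤ n) (N : Subgroup (Q n)) [hN : N.Normal] (hne : N ≠ ⊤) :
    IsCoatom N ∨ (IsCyclic N ∧ N ≤ evens n) := by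
  by_cases h : ∃ t ∈ N, t.e = true
  · left
    obtain ⟨⟨x, e⟩, ht, hte⟩ := h
    obtain rfl : e = true := hte
    have hle : evens n ≤ N := fun u hu => by
      obtain ⟨he, d, hd⟩ := mem_evens.1 hu
      obtain ⟨k, hk⟩ := exists_shift hn d
      have h2 := mul_mem (hN.conj_mem _ ht ⟨k, false⟩) (inv_mem ht)
      rw [conj_rot] at h2
      simp only [cond_true, inv_mk_true, mk_true_mul, Bool.not_true] at h2
      convert h2 using 1
      refine Q.ext ?_ he
      rw [hd]
      linear_combination -hk + x * mu_mul_mu n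
    obtain ⟨k, -, hk⟩ := (Nat.dvd_prime_pow Nat.prime_two).1 (show Nat.card N ∣ 2 ^ (n + 1) from card_eq ▸ N.card_subgroup_dvd_card)
    have hlt : Nat.card (evens n) < Nat.card N := by
      refine lt_of_le_of_ne (Subgroup.card_le_of_le hle) fun hc => ?_
      have := (mem_evens.1 ((Subgroup.eq_of_le_of_card_ge hle hc.ge).symm ▸ ht)).1
      exact Bool.noConfusion this
    have hlt2 : Nat.card N < 2 ^ (n + 1) := by
      rw [← card_eq (n := n)]
      exact lt_of_le_of_ne (Subgroup.card_le_card_group N) fun hc => hne (Subgroup.eq_top_of_card_eq N hc)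
    rw [card_evens hn, hk, Nat.pow_lt_pow_iff_right (by norm_num)] at hlt
    rw [hk, Nat.pow_lt_pow_iff_right (by norm_num)] at hlt2
    exact isCoatom_of_card hn (by rw [hk, show k = n by omega])
  push_neg at h
  have hle : N ≤ (rot n).range := fun u hu => mem_rot.2 (Bool.eq_false_iff.2 (h u hu))
  by_cases h' : N ≤ evens n
  · have := isCyclic_evens n
    exact Or.inr ⟨isCyclic_of_injective (Subgroup.inclusion h') (Subgroup.inclusion_injective h'), h'⟩
  left
  obtain ⟨⟨x, e⟩, hu, hue⟩ := SetLike.not_le_iff_exists.1 h'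
  obtain rfl : e = false := mem_rot.1 (hle hu)
  rcases even_or_odd hn x with ⟨d, rfl⟩ | ⟨d, rfl⟩
  · exact absurd (mem_evens.2 ⟨rfl, d, rfl⟩) hue
  have hunit : IsUnit (d + d + 1) := by
    rw [← ZMod.natCast_rightInverse (d + d + 1), ZMod.isUnit_iff_coprime]
    refine (Nat.Prime.coprime_iff_not_dvd Nat.prime_two).2 (fun h2 => ?_) |>.symm.pow_right n
    have h3 := congrArg (par hn) (ZMod.natCast_rightInverse (d + d + 1))
    rw [map_natCast, par_odd, (ZMod.natCast_eq_zero_iff _ _).2 h2] at h3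
    exact zero_ne_one h3
  obtain ⟨v, hv⟩ := hunit
  refine isCoatom_of_card hn ?_
  rw [le_antisymm hle fun w hw => ?_, card_rot]
  obtain ⟨w, e⟩ := w
  obtain rfl : e = false := mem_rot.1 hw
  have := pow_mem hu (w * (↑v⁻¹ : ZMod (2 ^ n))).val
  rwa [pow_mk_false, ZMod.natCast_rightInverse, ← hv, mul_assoc, Units.inv_mul, mul_one] at this

theorem map_conj_map {A B : Type*} [Group A] [Group B] (f : A ≃* B) (g : A) (H : Subgroup A) :
    (H.map (MulAut.conj g).toMonoidHom).map f.toMonoidHom = (H.map f.toMonoidHom).map (MulAut.conj (f g)).toMonoidHom := by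
  rw [Subgroup.map_map, Subgroup.map_map]
  congr 1
  ext x
  simp

theorem conj_pair {A : Type*} [Group A] (H : Subgroup A) {g₁ g₂ : A} {T₁ T₂ : Subgroup A}
    (h₁ : H.map (MulAut.conj g₁).toMonoidHom = T₁) (h₂ : H.map (MulAut.conj g₂).toMonoidHom = T₂) :
    T₁.map (MulAut.conj (g₂ * g₁⁻¹)).toMonoidHom = T₂ := by
  rw [← h₁, ← h₂, Subgroup.map_map]
  congr 1
  ext x
  simp [mul_assoc]

theorem map_centralizer {A B : Type*} [Group A] [Group B] (f : A ≃* B) (H : Subgroup A) :
    (Subgroup.centralizer (H : Set A)).map f.toMonoidHom = Subgroup.centralizer (H.map f.toMonoidHom : Set B) := by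
  ext x
  rw [Subgroup.mem_map_equiv, Subgroup.mem_centralizer_iff, Subgroup.mem_centralizer_iff]
  constructor
  · rintro h y ⟨z, hz, rfl⟩
    simpa using congrArg f (h z hz)
  · intro h z hz
    simpa using congrArg f.symm (h (f z) ⟨z, hz, rfl⟩)

/-- Self-centralizing and normalizer index two pass to conjugates and images. -/
theorem transport {A B : Type*} [Group A] [Group B] (f : A ≃* B) (H : Subgroup A) (g : A)
    (hc : Subgroup.centralizer (H : Set A) ≤ H) (hr : H.relIndex (Subgroup.normalizer (H : Set A)) = 2) :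
    let T := (H.map (MulAut.conj g).toMonoidHom).map f.toMonoidHom
    Subgroup.centralizer (T : Set B) ≤ T ∧ T.relIndex (Subgroup.normalizer (T : Set B)) = 2 := by
  intro T
  have hT : T = H.map ((MulAut.conj g).trans f).toMonoidHom := by
    show Subgroup.map _ _ = _
    rw [Subgroup.map_map]; rfl
  rw [hT, ← map_centralizer, ← Subgroup.map_equiv_normalizer_eq, Subgroup.relIndex_map_map_of_injective _ _ (MulEquiv.injective _)]
  exact ⟨Subgroup.map_mono hc, hr⟩

end Cfsg.Agent.Fusion.QuasiDihedral
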