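import Mathlib
import Cfsg.Prelude.Def_CaseTheorems

/-!
An explicit model of the wreathed 2-groups.
-/

set_option autoImplicit false

namespace Cfsg.Agent.Fusion.Wreathed

/-- Pairs of residues with a swapping bit. -/
@[ext] structure W (N : ℕ) where
  a : ZMod N
  b : ZMod N
  e : Bool
deriving DecidableEq

namespace W

variable {N : ℕ}

def equivProd (N : ℕ) : W N ≃ ZMod N × ZMod N × Bool where
  toFun u := (u.a, u.b, u.e)
  invFun u := ⟨u.1, u.2.1, u.2.2⟩
  left_inv _ := rfl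
  right_inv _ := rfl

instance [NeZero N] : Fintype (W N) := Fintype.ofEquiv _ (equivProd N).symm

theorem card_eq [NeZero N] : Nat.card (W N) = N * N * 2 := by
  rw [Nat.card_congr (equivProd N), Nat.card_prod, Nat.card_prod, Nat.card_zmod, Nat.card_eq_fintype_card,
    Fintype.card_bool, mul_assoc]

instance : Mul (W N) := ⟨fun u v => bif u.e then ⟨u.a + v.b, u.b + v.a, !v.e⟩ else ⟨u.a + v.a, u.b + v.b, v.e⟩⟩
instance : One (W N) := ⟨⟨0, 0, false⟩⟩
instance : Inv (W N) := ⟨fun u => bif u.e then ⟨-u.b, -u.a, true⟩ else ⟨-u.a, -u.b, false⟩⟩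

theorem one_def : (1 : W N) = ⟨0, 0, false⟩ := rfl

@[simp] theorem mk_false_mul (a b : ZMod N) (v : W N) : (⟨a, b, false⟩ : W N) * v = ⟨a + v.a, b + v.b, v.e⟩ := rfl
@[simp] theorem mk_true_mul (a b : ZMod N) (v : W N) : (⟨a, b, true⟩ : W N) * v = ⟨a + v.b, b + v.a, !v.e⟩ := rfl
@[simp] theorem inv_mk_false (a b : ZMod N) : (⟨a, b, false⟩ : W N)⁻¹ = ⟨-a, -b, false⟩ := rfl
@[simp] theorem inv_mk_true (a b : ZMod N) : (⟨a, b, true⟩ : W N)⁻¹ = ⟨-b, -a, true⟩ := rfl

instance : Group (W N) :=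
  Group.ofLeftAxioms
    (by rintro ⟨a, b, _ | _⟩ ⟨c, d, _ | _⟩ ⟨e, f, g⟩ <;> simp [add_assoc])
    (by rintro ⟨a, b, e⟩; show (⟨0, 0, false⟩ : W N) * _ = _; simp)
    (by rintro ⟨a, b, _ | _⟩ <;> simp [one_def])

theorem mk_mul_mk (a b : ZMod N) (v : W N) (e : Bool) :
    (⟨a, b, e⟩ : W N) * v = bif e then ⟨a + v.b, b + v.a, !v.e⟩ else ⟨a + v.a, b + v.b, v.e⟩ := by
  cases e <;> rfl

theorem e_mul (u v : W N) : (u * v).e = xor u.e v.e := by
  obtain ⟨a, b, _ | _⟩ := u <;> simp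

theorem conj_mk_false (k l a b : ZMod N) (e : Bool) :
    (⟨k, l, false⟩ : W N) * ⟨a, b, e⟩ * (⟨k, l, false⟩ : W N)⁻¹ =
      bif e then ⟨a + (k - l), b - (k - l), true⟩ else ⟨a, b, false⟩ := by
  cases e <;> ext <;> simp <;> ring

theorem conj_mk_true (k l a b : ZMod N) (e : Bool) :
    (⟨k, l, true⟩ : W N) * ⟨a, b, e⟩ * (⟨k, l, true⟩ : W N)⁻¹ =
      bif e then ⟨b + (k - l), a - (k - l), true⟩ else ⟨b, a, false⟩ := by
  cases e <;> ext <;> simp <;> ring

/-- Two elements with swapping bit have a prescribed difference. -/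
theorem commute_iff (u v : W N) : u * v = v * u ↔
    (bif u.e then u.a + v.b else u.a + v.a) = (bif v.e then v.a + u.b else v.a + u.a) ∧
    (bif u.e then u.b + v.a else u.b + v.b) = (bif v.e then v.b + u.a else v.b + u.b) := by
  obtain ⟨a, b, _ | _⟩ := u <;> obtain ⟨c, d, _ | _⟩ := v <;> simp

/-- The sum of the coordinates, as a homomorphism. -/
def sumHom (N : ℕ) : W N →* Multiplicative (ZMod N) where
  toFun u := Multiplicative.ofAdd (u.a + u.b)
  map_one' := by simp [one_def]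
  map_mul' := by
    rintro ⟨a, b, _ | _⟩ ⟨c, d, f⟩ <;> simp only [mk_false_mul, mk_true_mul, ← ofAdd_add] <;> congr 1 <;> ring

/-- The base subgroup. -/
def base (N : ℕ) : Subgroup (W N) where
  carrier := {u | u.e = false}
  one_mem' := rfl
  mul_mem' {u v} hu hv := by simp only [Set.mem_setOf_eq, e_mul] at hu hv ⊢; simp [hu, hv]
  inv_mem' {u} hu := by obtain ⟨a, b, _ | _⟩ := u <;> simp_all

theorem mem_base {u : W N} : u ∈ base N ↔ u.e = false := Iff.rfl

instance : (base N).Normal := ⟨fun u hu g => by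
  rw [mem_base] at hu ⊢
  rw [e_mul, e_mul, hu]
  obtain ⟨a, b, _ | _⟩ := g <;> simp⟩

theorem base_comm {u v : W N} (hu : u ∈ base N) (hv : v ∈ base N) : u * v = v * u := by
  rw [commute_iff, mem_base.1 hu, mem_base.1 hv]
  constructor <;> simp [add_comm]

theorem pow_mk_false (a b : ZMod N) (k : ℕ) : (⟨a, b, false⟩ : W N) ^ k = ⟨k * a, k * b, false⟩ := by
  induction k with
  | zero => simp [one_def]
  | succ k ih => rw [pow_succ, ih]; simp [add_mul]

theorem mk_true_sq (a b : ZMod N) : (⟨a, b, true⟩ : W N) ^ 2 = ⟨a + b, a + b, false⟩ := by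
  rw [sq]; simp [add_comm]

theorem mem_center [Fact (1 < N)] {u : W N} : u ∈ Subgroup.center (W N) ↔ u.e = false ∧ u.a = u.b := by
  rw [Subgroup.mem_center_iff]
  constructor
  · intro h
    have h1 := (commute_iff _ _).1 (h ⟨1, 0, false⟩)
    have h2 := (commute_iff _ _).1 (h ⟨0, 0, true⟩)
    obtain ⟨a, b, _ | _⟩ := u
    · exact ⟨rfl, by simpa using h2.2⟩
    · exfalso
      have h11 := h1.1
      simp at h11
  · rintro ⟨he, hab⟩ v
    rw [commute_iff, he, hab]
    obtain ⟨c, d, _ | _⟩ := v <;> simp [add_comm]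

end W

open W

/-- The half modulus, the only element of order two. -/
theorem two_mul_eq_zero_iff {n : ℕ} (hn : 1 ≤ n) (x : ZMod (2 ^ n)) :
    x + x = 0 ↔ x = 0 ∨ x = (2 ^ (n - 1) : ℕ) := by
  have h2 : 2 ^ n = 2 ^ (n - 1) + 2 ^ (n - 1) := by rw [← two_mul, ← pow_succ', Nat.sub_add_cancel hn]
  constructor
  · intro h
    obtain ⟨c, hc⟩ : 2 ^ n ∣ x.val + x.val := by
      rw [← ZMod.natCast_eq_zero_iff, Nat.cast_add, ZMod.natCast_rightInverse x, h]
    have hlt := x.val_lt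
    rcases c with _ | _ | c
    · exact Or.inl ((ZMod.val_eq_zero x).1 (by omega))
    · right; rw [← ZMod.natCast_rightInverse x]; congr 1; omega
    · exfalso; rw [Nat.mul_add, Nat.mul_add] at hc; omega
  · rintro (rfl | rfl)
    · simp
    · rw [← Nat.cast_add, ← h2, ZMod.natCast_self]

/-- A wreathed group is isomorphic to the model. -/
theorem exists_equiv {S : Type*} [Group S] [Finite S] (hS : Cfsg.IsWreathed S) :
    ∃ n : ℕ, 2 ≤ n ∧ Nat.card S = 2 ^ (2 * n + 1) ∧ Nonempty (W (2 ^ n) ≃* S) := by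
  obtain ⟨n, hn, hcard, x, y, z, hx, hxy, hbot, hz, hzx⟩ := hS
  refine ⟨n, hn, hcard, ?_⟩
  set N := 2 ^ n with hN
  have : NeZero N := ⟨by positivity⟩
  have hzz : z * z = 1 := by rw [← sq, ← hz, pow_orderOf_eq_one]
  have hzy : z * y * z⁻¹ = x := by
    rw [← hzx, inv_eq_of_mul_eq_one_right hzz]
    simp [mul_assoc, hzz]
    rw [← mul_assoc z z, hzz, one_mul]
  have hy : orderOf y = N := by
    rw [← hzx, show z * x * z⁻¹ = MulAut.conj z x from rfl, MulEquiv.orderOf_eq, hx]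
  have hp : ∀ (w : S), w ^ N = 1 → ∀ i j : ZMod N, w ^ (i + j).val = w ^ i.val * w ^ j.val := fun w hw i j => by
    rw [← pow_add, ZMod.val_add]
    exact pow_eq_pow_mod _ hw |>.symm.trans (by rfl) |>.trans (by rfl)
  have hxN : x ^ N = 1 := by rw [← hx, pow_orderOf_eq_one]
  have hyN : y ^ N = 1 := by rw [← hy, pow_orderOf_eq_one]
  have hconj : ∀ i j : ℕ, z * (x ^ i * y ^ j) = (x ^ j * y ^ i) * z := fun i j => by
    have h1 : z * (x ^ i * y ^ j) * z⁻¹ = x ^ j * y ^ i := by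
      rw [show z * (x ^ i * y ^ j) * z⁻¹ = MulAut.conj z (x ^ i * y ^ j) from rfl, map_mul, map_pow, map_pow,
        MulAut.conj_apply, MulAut.conj_apply, hzx, hzy, ((Commute.pow_pow (show Commute x y from hxy) j i)).eq]
    exact (mul_inv_eq_iff_eq_mul.1 h1)
  have hc : ∀ i j k l : ℕ, x ^ i * y ^ j * (x ^ k * y ^ l) = x ^ i * x ^ k * (y ^ j * y ^ l) := fun i j k l => by
    rw [mul_assoc (x ^ i), ← mul_assoc (y ^ j), ((Commute.pow_pow (show Commute x y from hxy) k j)).eq.symm, mul_assoc (x ^ i) (x ^ k),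
      mul_assoc (x ^ k)]
  let f : W N →* S := MonoidHom.mk' (fun u => bif u.e then x ^ u.a.val * y ^ u.b.val * z else x ^ u.a.val * y ^ u.b.val) (by
    rintro ⟨a, b, _ | _⟩ ⟨c, d, _ | _⟩ <;>
      simp only [mk_false_mul, mk_true_mul, cond_true, cond_false, Bool.not_true, Bool.not_false, hp x hxN, hp y hyN]
    · rw [hc]
    · rw [← mul_assoc (x ^ a.val * y ^ b.val), hc]
    · rw [mul_assoc (x ^ a.val * y ^ b.val), hconj, ← mul_assoc (x ^ a.val * y ^ b.val), hc]
    · rw [mul_assoc (x ^ a.val * y ^ b.val) z, ← mul_assoc z, hconj, mul_assoc _ z z, hzz, mul_one, hc])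
  have hinj : Function.Injective f := (injective_iff_map_eq_one f).2 (by
    rintro ⟨a, b, _ | _⟩ h
    · change x ^ a.val * y ^ b.val = 1 at h
      have h1 : x ^ a.val = 1 := Subgroup.mem_bot.1 (hbot ▸ Subgroup.mem_inf.2
        ⟨Subgroup.npow_mem_zpowers x _, (eq_inv_of_mul_eq_one_left h) ▸ inv_mem (Subgroup.npow_mem_zpowers y _)⟩)
      rw [h1, one_mul] at h
      have ha : a.val = 0 := Nat.eq_zero_of_dvd_of_lt ((dvd_of_eq hx.symm).trans (orderOf_dvd_of_pow_eq_one h1)) a.val_lt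
      have hb : b.val = 0 := Nat.eq_zero_of_dvd_of_lt ((dvd_of_eq hy.symm).trans (orderOf_dvd_of_pow_eq_one h)) b.val_lt
      ext
      · exact (ZMod.val_eq_zero a).1 ha
      · exact (ZMod.val_eq_zero b).1 hb
      · rfl
    · exfalso
      change x ^ a.val * y ^ b.val * z = 1 at h
      have hcx : Commute (x ^ a.val * y ^ b.val) x :=
        (Commute.refl x |>.pow_left _).mul_left ((show Commute y x from hxy.symm).pow_left _)
      have hzc : Commute z x := by
        rw [eq_inv_of_mul_eq_one_right h]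
        exact hcx.inv_left
      have hyx : y = x := by rw [← hzx, hzc.eq, mul_inv_cancel_right]
      have hx1 : x = 1 := Subgroup.mem_bot.1 (hbot ▸ Subgroup.mem_inf.2
        ⟨Subgroup.mem_zpowers x, hyx ▸ Subgroup.mem_zpowers y⟩)
      rw [hx1, orderOf_one] at hx
      exact absurd hx (ne_of_lt (Nat.one_lt_two_pow (by omega))))
  exact ⟨MulEquiv.ofBijective f ((Nat.bijective_iff_injective_and_card f).2
    ⟨hinj, by rw [card_eq, hcard, hN, pow_succ, two_mul, pow_add]⟩)⟩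

end Cfsg.Agent.Fusion.Wreathed
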