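import Mathlib
import Cfsg.Agent.Lib.Fusion.Wreathed

/-!
Elementary facts about the wreathed 2-groups, read in the model.
-/

set_option autoImplicit false

namespace Cfsg.Agent.Fusion.Wreathed

open W

variable {n : ℕ} (hn : 2 ≤ n)

local notation "N" => 2 ^ n

/-- Half of the modulus. -/
def half (n : ℕ) : ZMod (2 ^ n) := ((2 ^ (n - 1) : ℕ) : ZMod (2 ^ n))

/-- A quarter of the modulus. -/
def quarter (n : ℕ) : ZMod (2 ^ n) := ((2 ^ (n - 2) : ℕ) : ZMod (2 ^ n))

include hn

theorem half_add_half : half n + half n = 0 := (two_mul_eq_zero_iff (by omega) _).2 (Or.inr rfl)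

theorem quarter_add_quarter : quarter n + quarter n = half n := by
  rw [quarter, ← Nat.cast_add, half, ← two_mul, ← pow_succ', show n - 2 + 1 = n - 1 by omega]

theorem half_ne_zero : half n ≠ 0 := by
  rw [half, Ne, ZMod.natCast_eq_zero_iff]
  intro h
  have := Nat.le_of_dvd (by positivity) h
  have := Nat.pow_lt_pow_right (show 1 < 2 by norm_num) (show n - 1 < n by omega)
  omega

theorem one_lt_N : 1 < N := Nat.one_lt_two_pow (by omega)

theorem neg_half : -half n = half n := neg_eq_of_add_eq_zero_left (half_add_half hn)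

omit hn

theorem sq_eq_one_iff (hn : 2 ≤ n) (u : W N) : u ^ 2 = 1 ↔
    bif u.e then u.b = -u.a else (u.a = 0 ∨ u.a = half n) ∧ (u.b = 0 ∨ u.b = half n) := by
  obtain ⟨a, b, _ | _⟩ := u
  · rw [sq]; simp only [mk_false_mul, one_def, W.mk.injEq, and_true, two_mul_eq_zero_iff (by omega : 1 ≤ n), cond_false]
    rfl
  · rw [mk_true_sq]; simp [one_def, add_eq_zero_iff_neg_eq, eq_comm]

theorem orderOf_two_iff (hn : 2 ≤ n) (u : W N) : orderOf u = 2 ↔
    (bif u.e then u.b = -u.a else (u.a = 0 ∨ u.a = half n) ∧ (u.b = 0 ∨ u.b = half n)) ∧ u ≠ 1 := by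
  have : Fact (Nat.Prime 2) := ⟨Nat.prime_two⟩
  rw [orderOf_eq_prime_iff, sq_eq_one_iff hn]

theorem e_conj (g u : W N) : (g * u * g⁻¹).e = u.e := by
  obtain ⟨a, b, e⟩ := u; obtain ⟨k, l, _ | _⟩ := g
  · rw [conj_mk_false]; cases e <;> rfl
  · rw [conj_mk_true]; cases e <;> rfl

theorem not_isConj_central {u v : W N} (hu : u ∈ Subgroup.center (W N)) (h : IsConj u v) : u = v := by
  obtain ⟨g, hg⟩ := isConj_iff.1 h
  rw [← hg, (Subgroup.mem_center_iff.1 hu g), mul_inv_cancel_right]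

/-- The classes of involutions. -/
theorem involution_classes (hn : 2 ≤ n) :
    (∀ u : W N, orderOf u = 2 →
      IsConj u ⟨half n, half n, false⟩ ∨ IsConj u ⟨half n, 0, false⟩ ∨ IsConj u ⟨0, 0, true⟩) ∧
    orderOf (⟨half n, half n, false⟩ : W N) = 2 ∧ orderOf (⟨half n, 0, false⟩ : W N) = 2 ∧
    orderOf (⟨0, 0, true⟩ : W N) = 2 ∧
    ¬ IsConj (⟨half n, half n, false⟩ : W N) ⟨half n, 0, false⟩ ∧
    ¬ IsConj (⟨half n, half n, false⟩ : W N) ⟨0, 0, true⟩ ∧
    ¬ IsConj (⟨half n, 0, false⟩ : W N) ⟨0, 0, true⟩ := by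
  have : Fact (1 < N) := ⟨one_lt_N hn⟩
  have hh := half_ne_zero hn
  refine ⟨fun u hu => ?_, ?_, ?_, ?_, ?_, ?_, ?_⟩
  · obtain ⟨a, b, _ | _⟩ := u <;> obtain ⟨h1, h2⟩ := (orderOf_two_iff hn _).1 hu
    · obtain ⟨rfl | rfl, rfl | rfl⟩ := h1
      · exact absurd rfl h2
      · exact Or.inr (Or.inl (isConj_iff.2 ⟨⟨0, 0, true⟩, by rw [conj_mk_true]; rfl⟩))
      · exact Or.inr (Or.inl (IsConj.refl _))
      · exact Or.inl (IsConj.refl _)
    · obtain rfl : b = -a := h1
      exact Or.inr (Or.inr (isConj_iff.2 ⟨⟨-a, 0, false⟩, by rw [conj_mk_false]; simp⟩))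
  · rw [orderOf_two_iff hn]; exact ⟨⟨Or.inr rfl, Or.inr rfl⟩, fun h => hh (congrArg W.a h)⟩
  · rw [orderOf_two_iff hn]; exact ⟨⟨Or.inr rfl, Or.inl rfl⟩, fun h => hh (congrArg W.a h)⟩
  · rw [orderOf_two_iff hn]; exact ⟨neg_zero.symm, fun h => Bool.noConfusion (congrArg W.e h)⟩
  · exact fun h => hh (congrArg W.b (not_isConj_central (mem_center.2 ⟨rfl, rfl⟩) h))
  · exact fun h => Bool.noConfusion (congrArg W.e (not_isConj_central (mem_center.2 ⟨rfl, rfl⟩) h))
  · intro h
    obtain ⟨g, hg⟩ := isConj_iff.1 h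
    have := congrArg W.e hg
    rw [e_conj] at this
    exact Bool.noConfusion this

theorem card_base (n : ℕ) : Nat.card (base (2 ^ n)) = 2 ^ (2 * n) := by
  have e : base (2 ^ n) ≃ ZMod (2 ^ n) × ZMod (2 ^ n) :=
    { toFun := fun u => (u.1.a, u.1.b)
      invFun := fun p => ⟨⟨p.1, p.2, false⟩, rfl⟩
      left_inv := fun u => Subtype.ext (W.ext rfl rfl (mem_base.1 u.2).symm)
      right_inv := fun _ => rfl }
  rw [Nat.card_congr e, Nat.card_prod, Nat.card_zmod, two_mul, pow_add]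

/-- The base as a product of cyclic groups. -/
def baseEquiv (n : ℕ) : base (2 ^ n) ≃* Multiplicative (ZMod (2 ^ n) × ZMod (2 ^ n)) where
  toFun u := Multiplicative.ofAdd (u.1.a, u.1.b)
  invFun p := ⟨⟨p.toAdd.1, p.toAdd.2, false⟩, rfl⟩
  left_inv u := Subtype.ext (W.ext rfl rfl (mem_base.1 u.2).symm)
  right_inv _ := rfl
  map_mul' u v := by
    obtain ⟨⟨a, b, e⟩, he⟩ := u
    obtain rfl : e = false := he
    rfl

theorem abelian_unique (hn : 2 ≤ n) (U : Subgroup (W N)) (hU : IsMulCommutative U) (hcard : Nat.card U = 2 ^ (2 * n)) :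
    U = base N := by
  have : Fact (1 < N) := ⟨one_lt_N hn⟩
  have : NeZero N := ⟨by positivity⟩
  suffices hle : U ≤ base N from Subgroup.eq_of_le_of_card_ge hle (by rw [card_base, hcard])
  intro u hu
  by_contra hue
  obtain ⟨a, b, _ | _⟩ := u
  · exact hue rfl
  have hc : ∀ v ∈ U, v.a - v.b = bif v.e then a - b else 0 := fun v hv => by
    have h1 := (commute_iff _ _).1 (congrArg Subtype.val (hU.is_comm.comm (⟨_, hu⟩ : U) ⟨v, hv⟩))
    obtain ⟨c, d, _ | _⟩ := v
    · simp only [cond_true, cond_false] at h1 ⊢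
      linear_combination -h1.1
    · simp only [cond_true] at h1 ⊢
      linear_combination -h1.1
  let f : U → ZMod N × Bool := fun v => (v.1.b, v.1.e)
  have hf : Function.Injective f := fun v w h => by
    have hb : v.1.b = w.1.b := congrArg Prod.fst h
    have he : v.1.e = w.1.e := congrArg Prod.snd h
    refine Subtype.ext (W.ext ?_ hb he)
    have h1 := hc _ v.2; have h2 := hc _ w.2
    rw [he] at h1
    linear_combination h1 - h2 + hb
  have h := Nat.card_le_card_of_injective f hf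
  rw [Nat.card_prod, Nat.card_zmod, hcard, Nat.card_eq_fintype_card, Fintype.card_bool] at h
  have h4 : 4 ≤ 2 ^ n := le_trans (by norm_num) (Nat.pow_le_pow_right (by norm_num) hn)
  rw [two_mul, pow_add] at h
  nlinarith

/-- The diagonal. -/
def diagHom (n : ℕ) : Multiplicative (ZMod (2 ^ n)) →* W (2 ^ n) where
  toFun k := ⟨k.toAdd, k.toAdd, false⟩
  map_one' := rfl
  map_mul' _ _ := rfl

/-- The antidiagonal. -/
def antiHom (n : ℕ) : Multiplicative (ZMod (2 ^ n)) →* W (2 ^ n) where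
  toFun k := ⟨k.toAdd, -k.toAdd, false⟩
  map_one' := by simp [one_def]
  map_mul' k l := by simp [add_comm]

theorem center_eq (hn : 2 ≤ n) : Subgroup.center (W N) = (diagHom n).range := by
  have : Fact (1 < N) := ⟨one_lt_N hn⟩
  ext u
  rw [mem_center]
  exact ⟨fun h => ⟨Multiplicative.ofAdd u.a, W.ext rfl h.2 h.1.symm⟩, by rintro ⟨k, rfl⟩; exact ⟨rfl, rfl⟩⟩

open scoped commutatorElement in
theorem commutator_eq (n : ℕ) : commutator (W (2 ^ n)) = (antiHom n).range := by
  refine le_antisymm ?_ ?_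
  · have h1 : commutator (W (2 ^ n)) ≤ base (2 ^ n) ⊓ (sumHom (2 ^ n)).ker := le_inf
      (Subgroup.commutator_le.2 fun u _ v _ => by
        rw [mem_base, commutatorElement_def, e_mul, e_mul, e_mul]
        obtain ⟨a, b, _ | _⟩ := u <;> obtain ⟨c, d, _ | _⟩ := v <;> simp)
      (Abelianization.commutator_subset_ker _)
    intro u hu
    obtain ⟨he, hs⟩ := h1 hu
    exact ⟨Multiplicative.ofAdd u.a, W.ext rfl
      (neg_eq_of_add_eq_zero_right (Multiplicative.ofAdd.injective hs)) (mem_base.1 he).symm⟩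
  · rintro _ ⟨k, rfl⟩
    have h : (antiHom n k : W _) = ⁅(⟨k.toAdd, 0, false⟩ : W (2 ^ n)), ⟨0, 0, true⟩⁆ := by
      rw [commutatorElement_def]; simp [antiHom]
    rw [h]
    exact Subgroup.commutator_mem_commutator (Subgroup.mem_top _) (Subgroup.mem_top _)

/-- The map to the dihedral group. -/
def dihedralHom (n : ℕ) : W (2 ^ n) →* DihedralGroup (2 ^ n) where
  toFun u := bif u.e then DihedralGroup.sr (-(u.a - u.b)) else DihedralGroup.r (u.a - u.b)
  map_one' := by show DihedralGroup.r _ = _; simp [one_def]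
  map_mul' := by
    rintro ⟨a, b, _ | _⟩ ⟨c, d, _ | _⟩ <;> simp <;> ring

theorem dihedralHom_surjective (n : ℕ) : Function.Surjective (dihedralHom n) := by
  rintro (i | i)
  · exact ⟨⟨i, 0, false⟩, by simp [dihedralHom]⟩
  · exact ⟨⟨-i, 0, true⟩, by simp [dihedralHom]⟩

theorem dihedralHom_ker (hn : 2 ≤ n) : (dihedralHom n).ker = Subgroup.center (W N) := by
  have : Fact (1 < N) := ⟨one_lt_N hn⟩
  ext ⟨a, b, _ | _⟩
  · rw [mem_center, MonoidHom.mem_ker]
    show DihedralGroup.r (a - b) = DihedralGroup.r 0 ↔ _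
    rw [DihedralGroup.r.injEq, sub_eq_zero]; simp
  · rw [mem_center, MonoidHom.mem_ker]
    show DihedralGroup.sr _ = DihedralGroup.r 0 ↔ _
    exact iff_of_false (fun h => DihedralGroup.noConfusion rfl (heq_of_eq h)) (fun h => Bool.noConfusion h.1)

/-- The subgroup generated by the involutions. -/
def omega (n : ℕ) : Subgroup (W (2 ^ n)) := ((powMonoidHom 2).comp (sumHom (2 ^ n))).ker

theorem mem_omega {u : W N} : u ∈ omega n ↔ (u.a + u.b) + (u.a + u.b) = 0 := by
  show (Multiplicative.ofAdd (u.a + u.b)) ^ 2 = 1 ↔ _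
  rw [sq, ← ofAdd_add, ofAdd_eq_one]

theorem closure_involutions (hn : 2 ≤ n) : Subgroup.closure {u : W N | orderOf u = 2} = omega n := by
  refine le_antisymm ((Subgroup.closure_le _).2 fun u hu => ?_) fun u hu => ?_
  · rw [SetLike.mem_coe, mem_omega]
    obtain ⟨a, b, _ | _⟩ := u <;> obtain ⟨h1, -⟩ := (orderOf_two_iff hn _).1 hu
    · obtain ⟨rfl | rfl, rfl | rfl⟩ := h1 <;> simp [half_add_half hn]
    · obtain rfl : b = -a := h1
      simp
  · set H := Subgroup.closure {u : W N | orderOf u = 2}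
    have ht : ∀ k : ZMod N, (⟨k, -k, true⟩ : W N) ∈ H := fun k => Subgroup.subset_closure
      ((orderOf_two_iff hn _).2 ⟨rfl, fun h => Bool.noConfusion (congrArg W.e h)⟩)
    have hk : ∀ k : ZMod N, (⟨k, -k, false⟩ : W N) ∈ H := fun k => by
      have := mul_mem (ht k) (ht 0)
      simpa using this
    have hh : (⟨half n, 0, false⟩ : W N) ∈ H :=
      Subgroup.subset_closure ((orderOf_two_iff hn _).2 ⟨⟨Or.inr rfl, Or.inl rfl⟩, fun h => half_ne_zero hn (congrArg W.a h)⟩)
    have hb : ∀ a b : ZMod N, (a + b) + (a + b) = 0 → (⟨a, b, false⟩ : W N) ∈ H := fun a b h => by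
      rcases (two_mul_eq_zero_iff (by omega : 1 ≤ n) _).1 h with h' | h'
      · rw [← neg_eq_of_add_eq_zero_right h']; exact hk a
      · have := mul_mem hh (hk (-b))
        simp only [mk_false_mul, neg_neg, zero_add] at this
        rwa [show half n + -b = a by rw [half]; linear_combination -h'] at this
    obtain ⟨a, b, _ | _⟩ := u
    · exact hb a b (mem_omega.1 hu)
    · have := mul_mem (hb a b (mem_omega.1 hu)) (ht 0)
      simpa using this

theorem card_omega (hn : 2 ≤ n) : Nat.card (omega n) = 2 ^ (n + 2) := by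
  have : NeZero N := ⟨by positivity⟩
  have e : omega n ≃ ZMod N × {s : ZMod N // s + s = 0} × Bool :=
    { toFun := fun u => (u.1.a, ⟨u.1.a + u.1.b, mem_omega.1 u.2⟩, u.1.e)
      invFun := fun p => ⟨⟨p.1, p.2.1.1 - p.1, p.2.2⟩, mem_omega.2 (by
        show p.1 + (p.2.1.1 - p.1) + (p.1 + (p.2.1.1 - p.1)) = 0
        simpa using p.2.1.2)⟩
      left_inv := fun u => by ext <;> simp
      right_inv := fun p => by ext <;> simp }
  have h2 : Nat.card {s : ZMod N // s + s = 0} = 2 := by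
    rw [show {s : ZMod N // s + s = 0} = ({s : ZMod N | s + s = 0} : Set _) from rfl, Nat.card_coe_set_eq,
      show {s : ZMod N | s + s = 0} = {0, half n} from Set.ext fun s => two_mul_eq_zero_iff (by omega) s,
      Set.ncard_pair (half_ne_zero hn).symm]
  rw [Nat.card_congr e, Nat.card_prod, Nat.card_prod, Nat.card_zmod, h2, Nat.card_eq_fintype_card, Fintype.card_bool,
    pow_add]
  norm_num

theorem omega_sup (n : ℕ) : omega n ⊔ Subgroup.zpowers (⟨1, 0, false⟩ : W (2 ^ n)) = ⊤ := by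
  refine eq_top_iff.2 fun u _ => ?_
  obtain ⟨a, b, e⟩ := u
  have h2 : (⟨a, b, e⟩ : W (2 ^ n)) = (⟨1, 0, false⟩ : W (2 ^ n)) ^ (a + b).val * ⟨-b, b, e⟩ := by
    have : NeZero (2 ^ n) := ⟨by positivity⟩
    rw [pow_mk_false]; simp
  rw [h2]
  exact mul_mem (Subgroup.mem_sup_right (Subgroup.npow_mem_zpowers _ _)) (Subgroup.mem_sup_left (mem_omega.2 (by simp)))

/-- The quaternion subgroup. -/
def quat (n : ℕ) : Subgroup (W (2 ^ n)) :=
  ((sumHom (2 ^ n)) * MonoidHom.mk' (fun u : W (2 ^ n) => Multiplicative.ofAdd (bif u.e then half n else 0)) (by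
    intro u v
    rw [e_mul, ← ofAdd_add]
    congr 1
    rcases Nat.eq_zero_or_pos n with rfl | h
    · exact Subsingleton.elim (α := ZMod 1) _ _
    · have := (two_mul_eq_zero_iff h (half n)).2 (Or.inr rfl)
      cases u.e <;> cases v.e <;> simp [this])).ker

theorem mem_quat (hn : 2 ≤ n) {u : W N} : u ∈ quat n ↔ u.a + u.b = bif u.e then half n else 0 := by
  show Multiplicative.ofAdd (u.a + u.b) * Multiplicative.ofAdd (bif u.e then half n else 0) = 1 ↔ _
  rw [← ofAdd_add, ofAdd_eq_one, add_eq_zero_iff_eq_neg]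
  cases u.e <;> simp [neg_half hn]

theorem card_quat (hn : 2 ≤ n) : Nat.card (quat n) = 2 ^ (n + 1) := by
  have e : quat n ≃ ZMod N × Bool :=
    { toFun := fun u => (u.1.a, u.1.e)
      invFun := fun p => ⟨⟨p.1, (bif p.2 then half n else 0) - p.1, p.2⟩, (mem_quat hn).2 (by simp)⟩
      left_inv := fun u => Subtype.ext (W.ext rfl (by have := (mem_quat hn).1 u.2; simp [← this]) rfl)
      right_inv := fun _ => rfl }
  rw [Nat.card_congr e, Nat.card_prod, Nat.card_zmod, Nat.card_eq_fintype_card, Fintype.card_bool, pow_succ]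

end Cfsg.Agent.Fusion.Wreathed
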