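import Mathlib
import Cfsg.Agent.Lib.Fusion.WreathedFacts

/-!
Four-subgroups, quaternion subgroups and centralizers in the wreathed model.
-/

set_option autoImplicit false

namespace Cfsg.Agent.Fusion.Wreathed

open W

variable {n : ℕ}

local notation "N" => 2 ^ n

/-- The centralizer of a noncentral element is commutative. -/
theorem commute_of_centralize (hn : 2 ≤ n) {u v w : W N} (hu : u ∉ Subgroup.center (W N))
    (hv : u * v = v * u) (hw : u * w = w * u) : v * w = w * v := by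
  have : Fact (1 < N) := ⟨one_lt_N hn⟩
  obtain ⟨a, b, _ | _⟩ := u
  · have hab : a ≠ b := fun h => hu (mem_center.2 ⟨rfl, h⟩)
    have hbase : ∀ x : W N, (⟨a, b, false⟩ : W N) * x = x * ⟨a, b, false⟩ → x ∈ base N := fun x hx => by
      obtain ⟨c, d, _ | _⟩ := x
      · rfl
      · refine absurd ?_ hab
        have h1 := ((commute_iff _ _).1 hx).1
        simp only [cond_true, cond_false] at h1
        linear_combination h1
    exact base_comm (hbase v hv) (hbase w hw)
  · have hd : ∀ x : W N, (⟨a, b, true⟩ : W N) * x = x * ⟨a, b, true⟩ →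
        x.a - x.b = bif x.e then a - b else 0 := fun x hx => by
      have h1 := ((commute_iff _ _).1 hx).1
      obtain ⟨c, d, _ | _⟩ := x <;> simp only [cond_true, cond_false] at h1 ⊢ <;> linear_combination -h1
    have h1 := hd v hv
    have h2 := hd w hw
    rw [commute_iff]
    obtain ⟨c, d, _ | _⟩ := v <;> obtain ⟨c', d', _ | _⟩ := w <;> simp only [cond_true, cond_false] at h1 h2 ⊢ <;>
      constructor
    all_goals first
      | linear_combination (0 : ZMod N) * h1
      | linear_combination h1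
      | linear_combination -h1
      | linear_combination h2
      | linear_combination -h2
      | linear_combination h1 - h2
      | linear_combination h2 - h1

/-- The normal four-subgroup. -/
def four (n : ℕ) : Subgroup (W (2 ^ n)) where
  carrier := {u | u.e = false ∧ u.a + u.a = 0 ∧ u.b + u.b = 0}
  one_mem' := ⟨rfl, add_zero _, add_zero _⟩
  mul_mem' := by
    rintro ⟨a, b, e⟩ ⟨c, d, f⟩ ⟨rfl, ha, hb⟩ ⟨rfl, hc, hd⟩
    exact ⟨rfl, by show a + c + (a + c) = 0; linear_combination ha + hc, by show b + d + (b + d) = 0; linear_combination hb + hd⟩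
  inv_mem' := by
    rintro ⟨a, b, e⟩ ⟨rfl, ha, hb⟩
    exact ⟨rfl, by show -a + -a = 0; linear_combination -ha, by show -b + -b = 0; linear_combination -hb⟩

/-- A four-subgroup outside the base. -/
def fourOut (n : ℕ) : Subgroup (W (2 ^ n)) where
  carrier := {u | u.a = u.b ∧ u.a + u.a = 0}
  one_mem' := ⟨rfl, add_zero _⟩
  mul_mem' := by
    rintro ⟨a, b, _ | _⟩ ⟨c, d, f⟩ ⟨hab, ha⟩ ⟨hcd, hc⟩ <;> obtain rfl : a = b := hab <;> obtain rfl : c = d := hcd <;>
      exact ⟨rfl, by show a + c + (a + c) = 0; linear_combination (norm := ring_nf) ha + hc⟩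
  inv_mem' := by
    rintro ⟨a, b, _ | _⟩ ⟨hab, ha⟩ <;> obtain rfl : a = b := hab <;>
      exact ⟨rfl, by show -a + -a = 0; linear_combination (norm := ring_nf) -ha⟩

theorem isKleinFour_of {G : Type*} [Group G] {H : Subgroup G} (hc : Nat.card H = 4) (h2 : ∀ u ∈ H, u ^ 2 = 1) :
    IsKleinFour H where
  card_four := hc
  exponent_two := by
    have hd : Monoid.exponent H ∣ 2 := Monoid.exponent_dvd_of_forall_pow_eq_one fun u => Subtype.ext (h2 u u.2)
    rcases (Nat.dvd_prime Nat.prime_two).1 hd with h | h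
    · have := Monoid.exp_eq_one_iff.1 h
      rw [Nat.card_of_subsingleton (1 : H)] at hc
      norm_num at hc
    · exact h

theorem card_half_pair (hn : 2 ≤ n) : Nat.card {s : ZMod N // s + s = 0} = 2 := by
  rw [show {s : ZMod N // s + s = 0} = ({s : ZMod N | s + s = 0} : Set _) from rfl, Nat.card_coe_set_eq,
    show {s : ZMod N | s + s = 0} = {0, half n} from Set.ext fun s => two_mul_eq_zero_iff (by omega) s,
    Set.ncard_pair (half_ne_zero hn).symm]

theorem isKleinFour_four (hn : 2 ≤ n) : IsKleinFour (four n) := by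
  refine isKleinFour_of ?_ ?_
  · have e : four n ≃ {s : ZMod N // s + s = 0} × {s : ZMod N // s + s = 0} :=
      { toFun := fun u => (⟨u.1.a, u.2.2.1⟩, ⟨u.1.b, u.2.2.2⟩)
        invFun := fun p => ⟨⟨p.1.1, p.2.1, false⟩, rfl, p.1.2, p.2.2⟩
        left_inv := fun u => Subtype.ext (W.ext rfl rfl u.2.1.symm)
        right_inv := fun _ => rfl }
    rw [Nat.card_congr e, Nat.card_prod, card_half_pair hn]
  · rintro ⟨a, b, e⟩ ⟨rfl, ha, hb⟩
    rw [sq]; simp [one_def, ha, hb]

theorem isKleinFour_fourOut (hn : 2 ≤ n) : IsKleinFour (fourOut n) := by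
  refine isKleinFour_of ?_ ?_
  · have e : fourOut n ≃ {s : ZMod N // s + s = 0} × Bool :=
      { toFun := fun u => (⟨u.1.a, u.2.2⟩, u.1.e)
        invFun := fun p => ⟨⟨p.1.1, p.1.1, p.2⟩, rfl, p.1.2⟩
        left_inv := fun u => Subtype.ext (W.ext rfl u.2.1 rfl)
        right_inv := fun _ => rfl }
    rw [Nat.card_congr e, Nat.card_prod, card_half_pair hn, Nat.card_eq_fintype_card, Fintype.card_bool]
  · rintro ⟨a, b, _ | _⟩ ⟨hab, ha⟩ <;> obtain rfl : a = b := hab <;> rw [sq] <;> simp [one_def, ha]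

theorem four_normal (n : ℕ) : (four n).Normal := ⟨fun u hu g => by
  obtain ⟨a, b, e⟩ := u
  obtain ⟨rfl, ha, hb⟩ := hu
  obtain ⟨k, l, _ | _⟩ := g
  · rw [conj_mk_false]; exact ⟨rfl, ha, hb⟩
  · rw [conj_mk_true]; exact ⟨rfl, hb, ha⟩⟩

/-- The other four-subgroups are conjugate. -/
theorem exists_conj_fourOut (hn : 2 ≤ n) (T : Subgroup (W N)) (hT : IsKleinFour T) (hne : T ≠ four n) :
    ∃ g : W N, (fourOut n).map (MulAut.conj g).toMonoidHom = T := by
  have : NeZero N := ⟨by positivity⟩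
  have hsq : ∀ u ∈ T, u ^ 2 = 1 := fun u hu => by
    simpa [hT.exponent_two] using congrArg Subtype.val (Monoid.pow_exponent_eq_one (⟨u, hu⟩ : T))
  obtain ⟨t, ht, ht'⟩ : ∃ t ∈ T, t ∉ four n := Set.not_subset.1 fun h => hne (Subgroup.eq_of_le_of_card_ge h (by
    rw [hT.card_four, (isKleinFour_four hn).card_four]))
  obtain ⟨a, b, _ | _⟩ := t
  · exfalso; apply ht'
    have := hsq _ ht
    rw [sq] at this
    simpa [one_def, four] using this
  have hab : b = -a := (sq_eq_one_iff hn _).1 (hsq _ ht)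
  subst hab
  refine ⟨⟨a, 0, false⟩, ?_⟩
  set g : W N := ⟨a, 0, false⟩
  have hle : T ≤ (fourOut n).map (MulAut.conj g).toMonoidHom := by
    intro v hv
    refine Subgroup.mem_map_equiv.2 ?_
    have hgt : (MulAut.conj g).symm (⟨a, -a, true⟩ : W N) = ⟨0, 0, true⟩ := by
      rw [MulEquiv.symm_apply_eq, MulAut.conj_apply, conj_mk_false]; simp
    set v' := (MulAut.conj g).symm v
    have hc : (⟨0, 0, true⟩ : W N) * v' = v' * ⟨0, 0, true⟩ := by
      rw [← hgt, ← map_mul, ← map_mul]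
      exact congrArg _ (congrArg Subtype.val (mul_comm_of_exponent_two hT.exponent_two ⟨_, ht⟩ ⟨v, hv⟩))
    have hs : v' ^ 2 = 1 := by rw [← map_pow, hsq v hv, map_one]
    obtain ⟨c, d, _ | _⟩ := v'
    · have h1 := ((commute_iff _ _).1 hc).2
      simp at h1
      rw [sq] at hs; simp [one_def] at hs
      exact ⟨h1, hs.1⟩
    · have h1 := ((commute_iff _ _).1 hc).2
      simp at h1
      have h2 : d = -c := (sq_eq_one_iff hn _).1 hs
      exact ⟨h1, show c + c = 0 by rw [h2] at h1; linear_combination h1⟩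
  exact (Subgroup.eq_of_le_of_card_ge hle (by
    rw [Subgroup.card_map_of_injective (MulAut.conj g).injective, hT.card_four, (isKleinFour_fourOut hn).card_four])).symm

/-- A pair of quaternion generators lies in the quaternion subgroup. -/
theorem mem_quat_of_relations (hn : 2 ≤ n) {v w : W N} (hw : orderOf w = N) (hv : v ^ 2 = w ^ 2 ^ (n - 1))
    (hrel : w * v = v * w⁻¹) : v ∈ quat n ∧ w ∈ quat n := by
  have : Fact (1 < N) := ⟨one_lt_N hn⟩
  have hN : 2 ^ (n - 1) * 2 = 2 ^ n := by rw [← pow_succ, Nat.sub_add_cancel (by omega : 1 ≤ n)]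
  have hv4 : (v ^ 2) ^ 2 = 1 := by
    rw [hv, ← pow_mul, hN]; exact orderOf_dvd_iff_pow_eq_one.1 (dvd_of_eq hw)
  have hv2 : v ^ 2 ≠ 1 := fun h => by
    rw [hv] at h
    have := Nat.le_of_dvd (by positivity) (hw ▸ orderOf_dvd_of_pow_eq_one h : 2 ^ n ∣ 2 ^ (n - 1))
    have : 0 < 2 ^ (n - 1) := by positivity
    omega
  have hw2 : w ^ 2 ≠ 1 := fun h => by
    have := Nat.le_of_dvd (by norm_num) (hw ▸ orderOf_dvd_of_pow_eq_one h : 2 ^ n ∣ 2)
    have := Nat.pow_le_pow_right (show 0 < 2 by norm_num) hn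
    omega
  have hsum : ∀ a b : ZMod N, ((⟨a, b, true⟩ : W N) ^ 2) ^ 2 = 1 → (⟨a, b, true⟩ : W N) ^ 2 ≠ 1 → a + b = half n := by
    intro a b h4 h2
    rw [mk_true_sq] at h4 h2
    rw [sq] at h4; simp only [mk_false_mul, one_def, W.mk.injEq, and_true] at h4
    rcases (two_mul_eq_zero_iff (by omega : 1 ≤ n) _).1 h4.1 with h | h
    · exact absurd (by rw [h, one_def]) h2
    · exact h
  obtain ⟨p, q, _ | _⟩ := w
  · obtain ⟨a, b, _ | _⟩ := v
    · refine absurd ?_ hw2
      rw [base_comm (u := (⟨p, q, false⟩ : W N)) rfl (show (⟨a, b, false⟩ : W N) ∈ base N from rfl)] at hrel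
      rw [sq]; exact mul_eq_one_iff_eq_inv.2 (mul_left_cancel hrel)
    · refine ⟨(mem_quat hn).2 (hsum a b hv4 hv2), (mem_quat hn).2 ?_⟩
      simp at hrel
      show p + q = 0
      linear_combination hrel.1
  · -- here the order is four
    have hcen : v * (⟨p, q, true⟩ : W N) ^ 2 = (⟨p, q, true⟩ : W N) ^ 2 * v :=
      Subgroup.mem_center_iff.1 (mem_center.2 (by rw [mk_true_sq]; exact ⟨rfl, rfl⟩)) v
    have hsw : SemiconjBy v ((⟨p, q, true⟩ : W N)⁻¹) ⟨p, q, true⟩ := hrel.symm
    have hw4 : ((⟨p, q, true⟩ : W N) ^ 2) ^ 2 = 1 := by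
      have h := (hsw.pow_right 2).eq
      rw [← hcen, inv_pow] at h
      rw [sq]; exact mul_eq_one_iff_eq_inv.2 (mul_left_cancel h).symm
    have hn2 : n = 2 := by
      have := Nat.le_of_dvd (by norm_num) (hw ▸ orderOf_dvd_of_pow_eq_one (n := 4) (by rw [show (4 : ℕ) = 2 * 2 from rfl, pow_mul, hw4]) : 2 ^ n ∣ 4)
      by_contra hne
      have := Nat.pow_le_pow_right (show 0 < 2 by norm_num) (show 3 ≤ n by omega)
      omega
    subst hn2
    have hs := hsum p q hw4 hw2
    refine ⟨(mem_quat hn).2 ?_, (mem_quat hn).2 hs⟩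
    obtain ⟨a, b, _ | _⟩ := v
    · show a + b = 0
      replace hv : (⟨a, b, false⟩ : W (2 ^ 2)) ^ 2 = (⟨p, q, true⟩ : W (2 ^ 2)) ^ 2 := hv
      rw [mk_true_sq, hs, sq (⟨a, b, false⟩ : W (2 ^ 2))] at hv
      simp only [mk_false_mul, W.mk.injEq, and_true] at hv
      simp at hrel
      linear_combination hrel.1 + hv.1 - hs
    · exact hsum a b hv4 hv2

end Cfsg.Agent.Fusion.Wreathed
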