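import Mathlib
import Cfsg.Agent.Lib.Fusion.WreathedSubgroups

/-!
The self-centralizing subgroups of a wreathed group with an automorphism of odd order.
-/

set_option autoImplicit false

namespace Cfsg.Agent.Fusion.Wreathed

open W

section Chain

variable {X : Type*} [Group X] [Finite X]

/-- An automorphism trivial on a subgroup and modulo it has a power trivial on the larger one. -/
theorem pow_fix {M : ℕ} (hM : Nat.card X = 2 ^ M) (γ : MulAut X) (K : Subgroup X) (hK : ∀ k ∈ K, γ k = k)
    {x : X} (hx : x⁻¹ * γ x ∈ K) : (γ ^ 2 ^ M) x = x := by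
  have h : ∀ i : ℕ, (γ ^ i) x = x * (x⁻¹ * γ x) ^ i := by
    intro i
    induction i with
    | zero => simp
    | succ i ih =>
      rw [pow_succ' γ, MulAut.mul_apply, ih, map_mul, hK _ (pow_mem hx i), pow_succ', ← mul_assoc x (x⁻¹ * γ x), mul_inv_cancel_left]
  rw [h, ← hM, pow_card_eq_one', mul_one]

/-- A characteristic chain with cyclic bottom and cyclic middle makes the automorphism group a 2-group. -/
theorem isPGroup_mulAut {M : ℕ} (hM : Nat.card X = 2 ^ M) (Z C : Subgroup X) (z w : X)
    (hz : Z = Subgroup.zpowers z) (hC : C = Subgroup.zpowers z ⊔ Subgroup.zpowers w) (hzw : Commute z w)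
    (hZc : ∀ α : MulAut X, α z ∈ Z) (hCc : ∀ α : MulAut X, ∀ x ∈ C, α x ∈ C) (hC2 : C.index ≤ 2) :
    IsPGroup 2 (MulAut X) := by
  classical
  intro α
  have hodd : ∀ j : ℕ, j % 2 = 1 → ∀ x : X, x ^ j ^ 2 ^ M = x := fun j hj x => by
    rcases Nat.eq_zero_or_pos M with rfl | hM0
    · have : Subsingleton X := (Nat.card_eq_one_iff_unique.1 (hM.trans (pow_zero 2))).1
      exact Subsingleton.elim _ _
    have hd : orderOf x ∣ 2 ^ M := hM ▸ orderOf_dvd_natCard x
    have h1 : j ^ 2 ^ M ≡ 1 [MOD 2 ^ M] := by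
      have ht := Nat.ModEq.pow_totient (Nat.Coprime.pow_right M (Nat.coprime_two_right.2 (Nat.odd_iff.2 hj) : Nat.Coprime j 2))
      rw [Nat.totient_prime_pow Nat.prime_two hM0, show 2 - 1 = 1 from rfl, mul_one] at ht
      have := ht.pow 2
      rw [← pow_mul, ← pow_succ, one_pow, Nat.sub_add_cancel hM0] at this
      exact this
    conv_rhs => rw [← pow_one x]
    exact pow_eq_pow_iff_modEq.2 (h1.of_dvd hd)
  -- on the bottom
  have hzall : ∀ x ∈ Z, ∃ i : ℕ, z ^ i = x := fun x hx => by
    rw [hz, mem_zpowers_iff_mem_range_orderOf] at hx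
    obtain ⟨i, -, hi⟩ := Finset.mem_image.1 hx
    exact ⟨i, hi⟩
  obtain ⟨j, hj⟩ := hzall _ (hZc α)
  have hzb : (α ^ 2 ^ M) z = z := by
    have hjj : ∀ i : ℕ, (α ^ i) z = z ^ j ^ i := fun i => by
      induction i with
      | zero => simp
      | succ i ih => rw [pow_succ' α, MulAut.mul_apply, ih, map_pow, ← hj, ← pow_mul, ← pow_succ']
    rw [hjj]
    rcases Nat.mod_two_eq_zero_or_one j with h | h
    · have h2 : orderOf (α z) = orderOf z := MulEquiv.orderOf_eq α z
      rw [← hj, orderOf_pow, Nat.div_eq_self] at h2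
      rcases h2 with h2 | h2
      · exact absurd h2 (orderOf_pos z).ne'
      · obtain ⟨k, -, hk⟩ := (Nat.dvd_prime_pow Nat.prime_two).1 (hM ▸ orderOf_dvd_natCard z)
        rcases Nat.eq_zero_or_pos k with rfl | hk0
        · rw [pow_zero, orderOf_eq_one_iff] at hk; simp [hk]
        · have := Nat.dvd_gcd (dvd_pow_self 2 hk0.ne' |>.trans hk.symm.dvd) (Nat.dvd_of_mod_eq_zero h)
          rw [h2] at this; omega
    · exact hodd j h z
  set β := α ^ 2 ^ M with hβ
  have hZfix : ∀ x ∈ Z, ∀ γ : MulAut X, γ z = z → γ x = x := fun x hx γ hγ => by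
    obtain ⟨i, rfl⟩ := hzall x hx
    rw [map_pow, hγ]
  -- on the middle
  have hCall : ∀ x ∈ C, ∃ z' ∈ Z, ∃ i : ℕ, z' * w ^ i = x := fun x hx => by
    have hle : C ≤ (Subgroup.closure {z, w}) := by
      rw [hC]; exact sup_le ((Subgroup.zpowers_le).2 (Subgroup.subset_closure (by simp))) ((Subgroup.zpowers_le).2 (Subgroup.subset_closure (by simp)))
    have hx' := hle hx
    rw [← Subgroup.mem_toSubmonoid, Subgroup.closure_toSubmonoid_of_finite] at hx'
    induction hx' using Submonoid.closure_induction with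
    | mem y hy =>
      rcases hy with rfl | rfl
      · exact ⟨_, hz ▸ Subgroup.mem_zpowers _, 0, by simp⟩
      · exact ⟨1, one_mem _, 1, by simp⟩
    | one => exact ⟨1, one_mem _, 0, by simp⟩
    | mul a b ha hb iha ihb =>
      have hm : ∀ y, y ∈ Submonoid.closure ({z, w} : Set X) → y ∈ C := fun y hy => by
        rw [← Subgroup.closure_toSubmonoid_of_finite] at hy
        exact ((Subgroup.closure_le _).2 (by rw [hC]; rintro _ (rfl | rfl) <;> [exact Subgroup.mem_sup_left (Subgroup.mem_zpowers _); exact Subgroup.mem_sup_right (Subgroup.mem_zpowers _)])) hy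
      obtain ⟨z₁, hz₁, i₁, rfl⟩ := iha (hm _ ha)
      obtain ⟨z₂, hz₂, i₂, rfl⟩ := ihb (hm _ hb)
      refine ⟨z₁ * z₂, mul_mem hz₁ hz₂, i₁ + i₂, ?_⟩
      obtain ⟨k, rfl⟩ := hzall z₂ hz₂
      rw [pow_add, mul_assoc z₁, mul_assoc z₁, ← mul_assoc (z ^ k), ((hzw.pow_pow k i₁)).eq, mul_assoc (w ^ i₁)]
  have hwC : w ∈ C := hC ▸ Subgroup.mem_sup_right (Subgroup.mem_zpowers w)
  obtain ⟨z₀, hz₀, i, hi⟩ := hCall _ (hCc β w hwC)
  have hwb : ∃ e : ℕ, w⁻¹ * ((β ^ 2 ^ e) w) ∈ Z := by
    by_cases hwZ : w ∈ Z
    · exact ⟨0, by rw [hZfix w hwZ _ (by simpa using hzb), inv_mul_cancel]; exact one_mem _⟩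
    have hit : ∀ k : ℕ, ∃ z' ∈ Z, (β ^ k) w = z' * w ^ i ^ k := fun k => by
      induction k with
      | zero => exact ⟨1, one_mem _, by simp⟩
      | succ k ih =>
        obtain ⟨z', hz', he⟩ := ih
        obtain ⟨a, rfl⟩ := hzall z' hz'
        obtain ⟨b, rfl⟩ := hzall z₀ hz₀
        refine ⟨z ^ a * (z ^ b) ^ i ^ k, mul_mem hz' (pow_mem hz₀ _), ?_⟩
        rw [pow_succ' β, MulAut.mul_apply, he, map_mul, map_pow, map_pow, hzb, ← hi, (hzw.pow_pow b i).mul_pow,
          ← pow_mul w, ← pow_succ', mul_assoc]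
    refine ⟨M, ?_⟩
    obtain ⟨z', hz', he⟩ := hit (2 ^ M)
    rcases Nat.mod_two_eq_zero_or_one i with h | h
    · refine absurd ?_ hwZ
      -- an even exponent makes the image of the middle too small
      have hit' : ∀ x ∈ C, ∃ z' ∈ Z, ∃ k : ℕ, β x = z' * (w ^ 2) ^ k := fun x hx => by
        obtain ⟨z₁, hz₁, k, rfl⟩ := hCall x hx
        obtain ⟨b, rfl⟩ := hzall z₀ hz₀
        refine ⟨z₁ * (z ^ b) ^ k, mul_mem hz₁ (pow_mem hz₀ _), i / 2 * k, ?_⟩
        rw [map_mul, hZfix z₁ hz₁ _ hzb, map_pow, ← hi, (hzw.pow_pow b i).mul_pow, ← pow_mul w i k, ← pow_mul w 2, mul_assoc,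
          show 2 * (i / 2 * k) = i * k by rw [← mul_assoc, Nat.mul_div_cancel' (Nat.dvd_of_mod_eq_zero h)]]
      obtain ⟨z₂, hz₂, k, hk⟩ := hit' (β⁻¹ w) (hCc β⁻¹ w hwC)
      rw [MulAut.apply_inv_self] at hk
      -- w raised to an odd power lies in the bottom
      have hwk : w ^ (2 * k) * w⁻¹ ∈ Z := by
        rw [pow_mul, show (w ^ 2) ^ k = z₂⁻¹ * w from eq_inv_mul_of_mul_eq hk.symm, mul_inv_cancel_right]
        exact inv_mem hz₂
      have hco : Nat.Coprime (2 * k + 1) (2 ^ M) := Nat.Coprime.pow_right _ (Nat.coprime_two_right.2 ⟨k, rfl⟩)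
      by_cases hk0 : k = 0
      · rw [hk0, Nat.mul_zero, pow_zero, one_mul, inv_mem_iff] at hwk; exact hwk
      have hco' : Nat.Coprime (2 * k - 1) (2 ^ M) := Nat.Coprime.pow_right _ (Nat.coprime_two_right.2 ⟨k - 1, by omega⟩)
      have hwk' : w ^ (2 * k - 1) ∈ Z := by
        have e1 : w ^ (2 * k - 1) * w = w ^ (2 * k) := by rw [← pow_succ, Nat.sub_add_cancel (by omega)]
        rwa [← e1, mul_inv_cancel_right] at hwk
      obtain ⟨y, hy⟩ : ∃ y : ℕ, (w ^ (2 * k - 1)) ^ y = w := by
        rcases Nat.eq_zero_or_pos M with rfl | hM0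
        · have : Subsingleton X := (Nat.card_eq_one_iff_unique.1 (hM.trans (pow_zero 2))).1
          exact ⟨0, Subsingleton.elim _ _⟩
        obtain ⟨y, hy⟩ := Nat.exists_mul_mod_eq_one_of_coprime hco' (Nat.one_lt_two_pow (by omega))
        refine ⟨y, ?_⟩
        rw [← pow_mul, ← pow_mod_natCard, hM, hy.2, pow_one]
      exact hy ▸ pow_mem hwk' y
    · rw [he, hodd i h w]
      obtain ⟨a, rfl⟩ := hzall z' hz'
      rwa [((hzw.pow_left a)).eq, inv_mul_cancel_left]
  obtain ⟨e, he⟩ := hwb
  set γ := β ^ 2 ^ e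
  have hγz : ∀ k : ℕ, (β ^ k) z = z := fun k => by
    induction k with
    | zero => simp
    | succ k ih => rw [pow_succ' β, MulAut.mul_apply, ih, hzb]
  have hmod : ∀ x ∈ C, x⁻¹ * γ x ∈ Z := fun x hx => by
    obtain ⟨z₁, hz₁, k, rfl⟩ := hCall x hx
    obtain ⟨a, ha⟩ := hzall _ he
    have hγw : γ w = w * z ^ a := by rw [ha, mul_inv_cancel_left]
    rw [map_mul, map_pow, hZfix z₁ hz₁ _ (hγz _), hγw, (hzw.symm.pow_right a).mul_pow, mul_inv_rev, mul_assoc, inv_mul_cancel_left, inv_mul_cancel_left]
    exact pow_mem (ha ▸ he) k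
  have hCfix : ∀ x ∈ C, (γ ^ 2 ^ M) x = x := fun x hx => pow_fix hM γ Z (fun k hk => hZfix k hk _ (hγz _)) (hmod x hx)
  refine ⟨M + e + M + M, MulEquiv.ext fun x => ?_⟩
  rw [show α ^ 2 ^ (M + e + M + M) = ((γ ^ 2 ^ M) ^ 2 ^ M) by simp only [γ, hβ, ← pow_mul, pow_add]]
  refine (pow_fix hM _ C hCfix ?_).trans rfl
  have hmem : ∀ y, (γ ^ 2 ^ M) y ∈ C ↔ y ∈ C := fun y => ⟨fun h => by
    have := hCc (γ ^ 2 ^ M)⁻¹ _ h
    rwa [MulAut.inv_apply_self] at this, hCc _ y⟩
  rcases (show C.index = 1 ∨ C.index = 2 by have := C.index_ne_zero_of_finite; omega) with h | h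
  · rw [Subgroup.index_eq_one.1 h]; trivial
  · rw [Subgroup.mul_mem_iff_of_index_two h, inv_mem_iff, hmem]

end Chain

variable {n : ℕ}

local notation "N" => 2 ^ n

/-- The standard non-commutative exception. -/
def thin (n : ℕ) : Subgroup (W (2 ^ n)) where
  carrier := {u | (u.a - u.b) + (u.a - u.b) = 0}
  one_mem' := by simp [one_def]
  mul_mem' := by
    rintro ⟨a, b, _ | _⟩ ⟨c, d, f⟩ h1 h2
    · show a + c - (b + d) + (a + c - (b + d)) = 0
      have h1' : a - b + (a - b) = 0 := h1
      have h2' : c - d + (c - d) = 0 := h2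
      linear_combination h1' + h2'
    · show a + d - (b + c) + (a + d - (b + c)) = 0
      have h1' : a - b + (a - b) = 0 := h1
      have h2' : c - d + (c - d) = 0 := h2
      linear_combination h1' - h2'
  inv_mem' := by
    rintro ⟨a, b, _ | _⟩ h
    · show -a - -b + (-a - -b) = 0
      have h' : a - b + (a - b) = 0 := h
      linear_combination -h'
    · show -b - -a + (-b - -a) = 0
      have h' : a - b + (a - b) = 0 := h
      linear_combination h'

theorem mem_thin {u : W N} : u ∈ thin n ↔ (u.a - u.b) + (u.a - u.b) = 0 := Iff.rfl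

theorem card_thin (hn : 2 ≤ n) : Nat.card (thin n) = 4 * N := by
  have : NeZero N := ⟨by positivity⟩
  have e : thin n ≃ ZMod N × {s : ZMod N // s + s = 0} × Bool :=
    { toFun := fun u => (u.1.b, ⟨_, u.2⟩, u.1.e)
      invFun := fun p => ⟨⟨p.1 + p.2.1.1, p.1, p.2.2⟩, by rw [mem_thin]; simpa using p.2.1.2⟩
      left_inv := fun u => Subtype.ext (W.ext (by simp) rfl rfl)
      right_inv := fun p => by ext <;> simp }
  rw [Nat.card_congr e, Nat.card_prod, Nat.card_prod, Nat.card_zmod, card_half_pair hn, Nat.card_eq_fintype_card, Fintype.card_bool]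
  ring

theorem card_thin_quarter (hn : 2 ≤ n) : Nat.card {s : ZMod N // (s + s) + (s + s) = 0} = 4 := by
  have hq := quarter_add_quarter hn
  have hh := half_add_half hn
  have hne := half_ne_zero hn
  have hset : {s : ZMod N | (s + s) + (s + s) = 0} = {0, half n, quarter n, quarter n + half n} := by
    ext s
    simp only [Set.mem_setOf_eq, Set.mem_insert_iff, Set.mem_singleton_iff]
    constructor
    · intro h
      rcases (two_mul_eq_zero_iff (by omega : 1 ≤ n) (s + s)).1 h with h1 | h1
      · rcases (two_mul_eq_zero_iff (by omega : 1 ≤ n) s).1 h1 with h2 | h2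
        · exact Or.inl h2
        · exact Or.inr (Or.inl h2)
      · have h1' : s + s = half n := h1
        have h3 : (s - quarter n) + (s - quarter n) = 0 := by linear_combination h1' - hq
        rcases (two_mul_eq_zero_iff (by omega : 1 ≤ n) _).1 h3 with h2 | h2
        · exact Or.inr (Or.inr (Or.inl (sub_eq_zero.1 h2)))
        · exact Or.inr (Or.inr (Or.inr ((sub_eq_iff_eq_add.1 h2).trans (add_comm _ _))))
    · rintro (rfl | rfl | rfl | rfl)
      · simp
      · rw [hh, add_zero]
      · rw [hq, hh]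
      · linear_combination (2 : ZMod N) * hq + 3 * hh
  have hq0 : quarter n ≠ 0 := fun h => hne (by rw [← hq, h, add_zero])
  rw [show {s : ZMod N // (s + s) + (s + s) = 0} = ({s : ZMod N | (s + s) + (s + s) = 0} : Set _) from rfl, Nat.card_coe_set_eq, hset,
    Set.ncard_insert_of_notMem, Set.ncard_insert_of_notMem, Set.ncard_pair]
  · intro h; exact hne (by linear_combination -h)
  · rintro (h | h)
    · exact hne (by rw [← hq, ← h, hh])
    · exact hq0 (by rw [Set.mem_singleton_iff] at h; linear_combination -h)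
  · rintro (h | h | h)
    · exact hne h.symm
    · exact hq0 h.symm
    · rw [Set.mem_singleton_iff] at h
      exact hne (by linear_combination (-2 : ZMod N) * h - hq - hh)

/-- The normalizer of the exception. -/
theorem relIndex_thin (hn : 2 ≤ n) : (thin n).relIndex (Subgroup.normalizer (thin n : Set (W N))) = 2 := by
  have : NeZero N := ⟨by positivity⟩
  have hiff : ∀ u : W N, u ∈ Subgroup.normalizer (thin n : Set (W N)) ↔
      (u.a - u.b + (u.a - u.b)) + (u.a - u.b + (u.a - u.b)) = 0 := by
    rintro ⟨k, l, f⟩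
    constructor
    · intro h
      have h0 : (⟨0, 0, true⟩ : W N) ∈ thin n := by simp [mem_thin]
      have h1 := (Subgroup.mem_normalizer_iff.1 h _).1 h0
      cases f
      · rw [conj_mk_false, mem_thin] at h1
        simp only [cond_true] at h1
        linear_combination h1
      · rw [conj_mk_true, mem_thin] at h1
        simp only [cond_true] at h1
        linear_combination h1
    · intro h
      refine Subgroup.mem_normalizer_fintype fun u hu => ?_
      obtain ⟨a, b, e⟩ := u
      rw [SetLike.mem_coe, mem_thin] at hu ⊢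
      cases f
      · rw [conj_mk_false]
        cases e <;> simp only [cond_true, cond_false]
        · exact hu
        · linear_combination hu + h
      · rw [conj_mk_true]
        cases e <;> simp only [cond_true, cond_false]
        · linear_combination -hu
        · linear_combination h - hu
  have e : Subgroup.normalizer (thin n : Set (W N)) ≃ ZMod N × {s : ZMod N // (s + s) + (s + s) = 0} × Bool :=
    { toFun := fun u => (u.1.b, ⟨_, (hiff u.1).1 u.2⟩, u.1.e)
      invFun := fun p => ⟨⟨p.1 + p.2.1.1, p.1, p.2.2⟩, (hiff _).2 (by simpa using p.2.1.2)⟩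
      left_inv := fun u => Subtype.ext (W.ext (by simp) rfl rfl)
      right_inv := fun p => by ext <;> simp }
  have hc := Subgroup.card_mul_index ((thin n).subgroupOf (Subgroup.normalizer (thin n : Set (W N))))
  rw [Nat.card_congr (Subgroup.subgroupOfEquivOfLe Subgroup.le_normalizer).toEquiv, card_thin hn, Nat.card_congr e,
    Nat.card_prod, Nat.card_prod, Nat.card_zmod, card_thin_quarter hn, Nat.card_eq_fintype_card, Fintype.card_bool] at hc
  have : 0 < 4 * N := by positivity
  exact Nat.eq_of_mul_eq_mul_left this (hc.trans (by ring))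

/-- The exception contains a quaternion group and is its product with the centre. -/
theorem exists_quaternion_thin (hn : 2 ≤ n) :
    ∃ θ : QuaternionGroup 2 →* W N, Function.Injective θ ∧ thin n = θ.range ⊔ Subgroup.center (W N) ∧
      ∃ x ∈ thin n, ∃ y ∈ thin n, x * y ≠ y * x := by
  have : Fact (1 < N) := ⟨one_lt_N hn⟩
  have hq := quarter_add_quarter hn
  have hh := half_add_half hn
  let l : ZMod (2 * 2) →+ ZMod N := ZMod.lift (2 * 2) ⟨zmultiplesHom _ (quarter n), by
    simp only [zmultiplesHom_apply, natCast_zsmul]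
    rw [nsmul_eq_mul]; push_cast; linear_combination (2 : ZMod N) * hq + hh⟩
  have hl : ∀ k : ℤ, l (k : ZMod (2 * 2)) = k • quarter n := fun k => ZMod.lift_coe _ _ k
  have hl2 : l 2 = half n := by
    have := hl 2; push_cast at this; rw [this, two_zsmul, hq]
  let θ : QuaternionGroup 2 →* W N :=
    MonoidHom.mk' (fun x => match x with
      | .a i => ⟨l i, -l i, false⟩
      | .xa i => ⟨-l i, half n + l i, true⟩) (by
      rintro (i | i) (j | j)
      · rw [QuaternionGroup.a_mul_a]; simp only [map_add, mk_false_mul]; ext <;> simp <;> ring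
      · rw [QuaternionGroup.a_mul_xa]; simp only [map_sub, mk_false_mul]; ext <;> simp <;> ring
      · rw [QuaternionGroup.xa_mul_a]; simp only [map_add, mk_true_mul]; ext <;> simp <;> ring
      · rw [QuaternionGroup.xa_mul_xa]
        simp only [map_add, map_sub, mk_true_mul, show (((2 : ℕ)) : ZMod (2 * 2)) = 2 from rfl, hl2]
        ext <;> simp
        · ring
        · linear_combination -hh)
  have hq0 : quarter n ≠ 0 := fun h => half_ne_zero hn (by rw [← hq, h, add_zero])
  have hl0 : ∀ i : ZMod (2 * 2), l i = 0 → i = 0 := by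
    intro i hi
    have hc : i = 0 ∨ i = ((1 : ℤ) : ZMod (2 * 2)) ∨ i = ((2 : ℤ) : ZMod (2 * 2)) ∨ i = ((-1 : ℤ) : ZMod (2 * 2)) := by
      clear hi; revert i; decide
    rcases hc with rfl | rfl | rfl | rfl
    · rfl
    · rw [hl, one_zsmul] at hi; exact absurd hi hq0
    · rw [hl, two_zsmul, hq] at hi; exact absurd hi (half_ne_zero hn)
    · rw [hl, neg_one_zsmul, neg_eq_zero] at hi; exact absurd hi hq0
  have hinj : Function.Injective θ := by
    rintro (i | i) (j | j) h
    · exact congrArg _ (sub_eq_zero.1 (hl0 _ (by rw [map_sub, sub_eq_zero]; exact congrArg W.a h)))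
    · exact Bool.noConfusion (congrArg W.e h)
    · exact Bool.noConfusion (congrArg W.e h)
    · exact congrArg _ (sub_eq_zero.1 (hl0 _ (by rw [map_sub, sub_eq_zero]; exact neg_injective (congrArg W.a h))))
  have hl4 : ∀ i, (l i + l i) + (l i + l i) = 0 := fun i => by
    rw [← map_add, ← map_add, show (i + i) + (i + i) = 0 by revert i; decide, map_zero]
  have hθ : θ.range ≤ thin n := by
    rintro _ ⟨i | i, rfl⟩ <;> rw [mem_thin]
    · show l i - -l i + (l i - -l i) = 0
      linear_combination hl4 i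
    · show -l i - (half n + l i) + (-l i - (half n + l i)) = 0
      linear_combination -hl4 i - hh
  have hy : (⟨0, half n, true⟩ : W N) ∈ θ.range := ⟨.xa 0, by show (⟨-l 0, half n + l 0, true⟩ : W N) = _; simp⟩
  have hhalf : (⟨half n, 0, false⟩ : W N) ∈ θ.range ⊔ Subgroup.center (W N) := by
    have h1 : (⟨quarter n, -quarter n, false⟩ : W N) ∈ θ.range := ⟨.a ((1 : ℤ) : ZMod (2 * 2)), by
      show (⟨l _, -l _, false⟩ : W N) = _; rw [hl, one_zsmul]⟩
    have := mul_mem (Subgroup.mem_sup_left (T := Subgroup.center (W N)) h1)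
      (Subgroup.mem_sup_right (S := θ.range) (mem_center.2 ⟨rfl, rfl⟩ : (⟨quarter n, quarter n, false⟩ : W N) ∈ Subgroup.center (W N)))
    simpa [hq] using this
  refine ⟨θ, hinj, le_antisymm ?_ (sup_le hθ fun u hu => by rw [mem_thin, (mem_center.1 hu).2]; simp), ?_⟩
  · have hbase : ∀ v ∈ thin n, v.e = false → v ∈ θ.range ⊔ Subgroup.center (W N) := by
      rintro ⟨a, b, e⟩ hv rfl
      have hb : (⟨b, b, false⟩ : W N) ∈ θ.range ⊔ Subgroup.center (W N) := Subgroup.mem_sup_right (mem_center.2 ⟨rfl, rfl⟩)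
      rcases (two_mul_eq_zero_iff (by omega : 1 ≤ n) _).1 hv with h | h
      · rwa [show a = b from sub_eq_zero.1 h]
      · have := mul_mem hhalf hb
        simp only [mk_false_mul, zero_add] at this
        rwa [show half n + b = a from (sub_eq_iff_eq_add.1 h).symm] at this
    intro u hu
    cases he : u.e
    · exact hbase u hu he
    · have := mul_mem (hbase (u * (⟨0, half n, true⟩ : W N)⁻¹) (mul_mem hu (inv_mem (hθ hy))) (by rw [e_mul, inv_mk_true, he]; rfl))
        (Subgroup.mem_sup_left (T := Subgroup.center (W N)) hy)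
      rwa [inv_mul_cancel_right] at this
  · refine ⟨⟨half n, 0, false⟩, by rw [mem_thin]; simpa using hh, ⟨0, 0, true⟩, by rw [mem_thin]; simp, fun h => ?_⟩
    rw [mk_false_mul, mk_true_mul] at h
    exact half_ne_zero hn (by simpa using congrArg W.a h)

/-- The classification of the exceptions. -/
theorem self_centralizing_cases (hn : 2 ≤ n) (X : Subgroup (W N)) (hX : Subgroup.centralizer (X : Set (W N)) ≤ X)
    (hA : ¬ IsPGroup 2 (MulAut X)) :
    X = base N ∨ ∃ g : W N, (thin n).map (MulAut.conj g).toMonoidHom = X := by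
  have hF : Fact (1 < N) := ⟨one_lt_N hn⟩
  have : NeZero N := ⟨by positivity⟩
  have hZX : Subgroup.center (W N) ≤ X := (Subgroup.center_le_centralizer _).trans hX
  by_cases hbase : X ≤ base N
  · exact Or.inl (le_antisymm hbase fun u hu => hX (fun v hv => base_comm (hbase hv) hu))
  obtain ⟨t, ht, hte⟩ := Set.not_subset.1 hbase
  obtain ⟨a, b, _ | _⟩ := t
  · exact absurd rfl hte
  obtain ⟨M, hM⟩ : ∃ M, Nat.card X = 2 ^ M := by
    have hp : IsPGroup 2 (W N) := IsPGroup.of_card (n := n + n + 1) (by rw [card_eq, pow_succ, pow_add])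
    exact IsPGroup.iff_card.1 (hp.to_subgroup X)
  have hdiag : ∀ c : ZMod N, (⟨c, c, false⟩ : W N) ∈ X := fun c => hZX (mem_center.2 ⟨rfl, rfl⟩)
  let z : X := ⟨⟨1, 1, false⟩, hdiag 1⟩
  let t' : X := ⟨⟨a, b, true⟩, ht⟩
  -- differences of the base part
  let D : AddSubgroup (ZMod N) :=
    { carrier := {δ | (⟨δ, 0, false⟩ : W N) ∈ X}
      zero_mem' := X.one_mem
      add_mem' := fun {u v} hu hv => by simpa using mul_mem (show (⟨u, 0, false⟩ : W N) ∈ X from hu) (show (⟨v, 0, false⟩ : W N) ∈ X from hv)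
      neg_mem' := fun {u} hu => by simpa using inv_mem (show (⟨u, 0, false⟩ : W N) ∈ X from hu) }
  have hD : ∀ c d : ZMod N, (⟨c, d, false⟩ : W N) ∈ X ↔ c - d ∈ D := fun c d => by
    constructor
    · intro h
      show (⟨c - d, 0, false⟩ : W N) ∈ X
      have := mul_mem h (hdiag (-d))
      simpa [sub_eq_add_neg] using this
    · intro h
      have := mul_mem (show (⟨c - d, 0, false⟩ : W N) ∈ X from h) (hdiag d)
      simpa using this
  have hDe : ∀ x ∈ X, x.e = true → (x.a - x.b) - (a - b) ∈ D := by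
    rintro ⟨c, d, e⟩ hx rfl
    have := (hD _ _).1 (show (⟨c + -a, d + -b, false⟩ : W N) ∈ X by simpa using mul_mem hx (inv_mem ht))
    show c - d - (a - b) ∈ D
    rwa [show c - d - (a - b) = c + -a - (d + -b) by ring]
  have : IsAddCyclic D := inferInstance
  obtain ⟨⟨δ, hδ⟩, hgen⟩ := IsAddCyclic.exists_generator (α := D)
  let w : X := ⟨⟨δ, 0, false⟩, hδ⟩
  set C : Subgroup X := (base N).subgroupOf X
  have hC2 : C.index ≤ 2 := by
    have h1 : C.index ∣ (base N).index := Subgroup.relIndex_dvd_index_of_normal _ _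
    have h2 := (base N).card_mul_index
    rw [card_base, card_eq, two_mul, pow_add] at h2
    have h3 : (base N).index = 2 := Nat.eq_of_mul_eq_mul_left (by positivity) h2
    rw [h3] at h1
    exact Nat.le_of_dvd (by norm_num) h1
  have hCeq : C = Subgroup.zpowers z ⊔ Subgroup.zpowers w := by
    refine le_antisymm (fun x hx => ?_) (sup_le ((Subgroup.zpowers_le).2 rfl) ((Subgroup.zpowers_le).2 rfl))
    obtain ⟨⟨c, d, e⟩, hxX⟩ := x
    obtain rfl : e = false := hx
    obtain ⟨k, hk⟩ := AddSubgroup.mem_zmultiples_iff.1 (hgen ⟨c - d, (hD c d).1 hxX⟩)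
    have hk' : k • δ = c - d := congrArg Subtype.val hk
    have hkn : (((k : ZMod N).val : ℕ) : ZMod N) * δ = c - d := by rw [ZMod.natCast_rightInverse, ← hk', zsmul_eq_mul]
    have : (⟨⟨c, d, false⟩, hxX⟩ : X) = z ^ d.val * w ^ (k : ZMod N).val := Subtype.ext (by
      simp only [Subgroup.coe_mul, SubmonoidClass.coe_pow, z, w, pow_mk_false, mk_false_mul, hkn]
      ext <;> simp)
    rw [this]
    exact mul_mem (Subgroup.mem_sup_left (Subgroup.npow_mem_zpowers _ _)) (Subgroup.mem_sup_right (Subgroup.npow_mem_zpowers _ _))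
  have hzw : Commute z w := Subtype.ext (base_comm rfl rfl)
  have hzpow : ∀ c : ZMod N, (⟨⟨c, c, false⟩, hdiag c⟩ : X) = z ^ c.val := fun c => Subtype.ext (by simp [z, pow_mk_false])
  by_cases hab : IsMulCommutative X
  · -- the commutative case
    exfalso
    letI : CommGroup X := { (inferInstance : Group X) with mul_comm := fun u v => hab.is_comm.comm u v }
    have hsmall : ∀ x : X, x ∈ C → x.1.a = x.1.b := fun x hx => by
      have h1 := ((commute_iff _ _).1 (congrArg Subtype.val (hab.is_comm.comm t' x))).1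
      have he : (x : W N).e = false := hx
      simp only [t', cond_true, he, cond_false] at h1
      linear_combination -h1
    have hsq : ∀ x : X, ∃ c, ((x ^ 2 : X) : W N) = ⟨c, c, false⟩ := fun x => by
      obtain ⟨⟨c, d, _ | _⟩, hx⟩ := x
      · obtain rfl : c = d := hsmall ⟨⟨c, d, false⟩, hx⟩ rfl
        exact ⟨c + c, by simp [sq]⟩
      · exact ⟨c + d, by simp [mk_true_sq]⟩
    refine hA ?_
    rcases (Nat.even_or_odd (a + b).val) with ⟨k, hk⟩ | ⟨k, hk⟩
    · -- split
      have hz2 : ∀ c : ZMod N, (⟨⟨c + c, c + c, false⟩, hdiag _⟩ : X) ∈ Subgroup.zpowers (z ^ 2) := fun c => by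
        rw [show (⟨⟨c + c, c + c, false⟩, hdiag _⟩ : X) = (z ^ 2) ^ c.val by
          refine Subtype.ext ?_; simp [z, ← pow_mul, pow_mk_false]; ring]
        exact Subgroup.npow_mem_zpowers _ _
      have hs : a + b = (k : ZMod N) + k := by rw [← ZMod.natCast_rightInverse (a + b), hk]; push_cast; ring
      let u : X := ⟨⟨a - k, b - k, true⟩, by
        have := mul_mem (hdiag (-(k : ZMod N))) ht
        simpa [sub_eq_add_neg, add_comm] using this⟩
      have hu2 : u ^ 2 = 1 := Subtype.ext (by simp [u, mk_true_sq, one_def]; linear_combination hs)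
      have hkey : ∀ x : X, x ^ 2 ^ (n - 1) = 1 ↔ x ∈ Subgroup.zpowers (z ^ 2) ⊔ Subgroup.zpowers u := by
        have hpow2 : ∀ x ∈ Subgroup.zpowers (z ^ 2) ⊔ Subgroup.zpowers u, x ^ 2 ^ (n - 1) = 1 := fun x hx => by
          have hzn : (z ^ 2) ^ 2 ^ (n - 1) = 1 := by
            have hzN : z ^ N = 1 := Subtype.ext (by simp [z, pow_mk_false, one_def])
            rw [← pow_mul, ← pow_succ', show n - 1 + 1 = n by omega, hzN]
          have hun : u ^ 2 ^ (n - 1) = 1 := by
            rw [show 2 ^ (n - 1) = 2 * 2 ^ (n - 2) by rw [← pow_succ']; congr 1; omega, pow_mul, hu2, one_pow]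
          obtain ⟨p, hp, q, hq, rfl⟩ := (Subgroup.mem_sup (x := x)).1 hx
          obtain ⟨i, rfl⟩ := Subgroup.mem_zpowers_iff.1 hp
          obtain ⟨j, rfl⟩ := Subgroup.mem_zpowers_iff.1 hq
          rw [(show Commute ((z ^ 2) ^ i) (u ^ j) from hab.is_comm.comm _ _).mul_pow, ← zpow_natCast, ← zpow_natCast (u ^ j),
            zpow_comm, zpow_natCast, hzn, one_zpow, zpow_comm, zpow_natCast, hun, one_zpow, one_mul]
        refine fun x => ⟨fun hx => ?_, hpow2 x⟩
        have heven : ∀ c : ZMod N, (⟨⟨c, c, false⟩, hdiag c⟩ : X) ^ 2 ^ (n - 1) = 1 → ∃ c', c = c' + c' := fun c hc => by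
          have h := congrArg (fun x : X => x.1.a) hc
          simp only [SubmonoidClass.coe_pow, pow_mk_false, Subgroup.coe_one, one_def] at h
          rw [← ZMod.natCast_rightInverse c, ← Nat.cast_mul, ZMod.natCast_eq_zero_iff] at h
          have hd : 2 ∣ c.val := by
            exact Nat.dvd_of_mul_dvd_mul_left (by positivity : 0 < 2 ^ (n - 1)) ((dvd_of_eq (by rw [← pow_succ]; congr 1; omega)).trans h)
          obtain ⟨m, hm⟩ := hd
          exact ⟨m, by rw [← ZMod.natCast_rightInverse c, hm]; push_cast; ring⟩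
        obtain ⟨⟨c, d, _ | _⟩, hxX⟩ := x
        · obtain rfl : c = d := hsmall ⟨⟨c, d, false⟩, hxX⟩ rfl
          obtain ⟨c', rfl⟩ := heven c hx
          exact Subgroup.mem_sup_left (hz2 c')
        · have hm : (⟨⟨c, d, true⟩, hxX⟩ : X) * u⁻¹ ∈ C := by
            show W.e _ = false
            simp [u]
          set y := (⟨⟨c, d, true⟩, hxX⟩ : X) * u⁻¹
          have hy : y ^ 2 ^ (n - 1) = 1 := by
            rw [(show Commute _ _ from hab.is_comm.comm _ _).mul_pow, hx, one_mul, inv_pow,
              hpow2 u (Subgroup.mem_sup_right (Subgroup.mem_zpowers u)), inv_one]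
          have hye : y = ⟨⟨y.1.a, y.1.a, false⟩, hdiag _⟩ := Subtype.ext (W.ext rfl (hsmall y hm).symm (mem_base.1 hm))
          obtain ⟨c', hc'⟩ := heven y.1.a (hye ▸ hy)
          have : y ∈ Subgroup.zpowers (z ^ 2) := by rw [hye]; simp only [hc']; exact hz2 c'
          have := mul_mem (Subgroup.mem_sup_left (T := Subgroup.zpowers u) this) (Subgroup.mem_sup_right (Subgroup.mem_zpowers u))
          rwa [inv_mul_cancel_right] at this
      refine isPGroup_mulAut hM (Subgroup.zpowers (z ^ 2)) (Subgroup.zpowers (z ^ 2) ⊔ Subgroup.zpowers u) (z ^ 2) u rfl rfl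
        (hab.is_comm.comm _ _) (fun α => ?_) (fun α x hx => (hkey _).1 (by rw [← map_pow, (hkey x).2 hx, map_one])) ?_
      · rw [map_pow]
        obtain ⟨⟨c, d, _ | _⟩, hcX⟩ := α z
        · obtain rfl : c = d := hsmall ⟨⟨c, d, false⟩, hcX⟩ rfl
          convert hz2 c using 1
          exact Subtype.ext (by simp [sq])
        · have h1 : c + d = a + b + ((d - b) + (d - b)) := by
            have h2 := hsmall ⟨⟨c + -a, d + -b, false⟩, by simpa using mul_mem hcX (inv_mem ht)⟩ rfl
            simp only at h2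
            linear_combination h2
          convert hz2 ((k : ZMod N) + (d - b)) using 1
          refine Subtype.ext ?_
          simp [mk_true_sq]; rw [h1, hs]; ring
      · have hle : Subgroup.zpowers z ⊔ Subgroup.zpowers u = ⊤ := by
          refine eq_top_iff.2 fun x _ => ?_
          obtain ⟨⟨c, d, _ | _⟩, hxX⟩ := x
          · obtain rfl : c = d := hsmall ⟨⟨c, d, false⟩, hxX⟩ rfl
            exact Subgroup.mem_sup_left (by rw [hzpow]; exact Subgroup.npow_mem_zpowers _ _)
          · have hm : (⟨⟨c, d, true⟩, hxX⟩ : X) * u⁻¹ ∈ C := by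
              show W.e _ = false
              simp [u]
            set y := (⟨⟨c, d, true⟩, hxX⟩ : X) * u⁻¹
            have hye : y = ⟨⟨y.1.a, y.1.a, false⟩, hdiag _⟩ := Subtype.ext (W.ext rfl (hsmall y hm).symm (mem_base.1 hm))
            have : y ∈ Subgroup.zpowers z := by rw [hye, hzpow]; exact Subgroup.npow_mem_zpowers _ _
            have := mul_mem (Subgroup.mem_sup_left (T := Subgroup.zpowers u) this) (Subgroup.mem_sup_right (Subgroup.mem_zpowers u))
            rwa [inv_mul_cancel_right] at this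
        set H := Subgroup.zpowers (z ^ 2) ⊔ Subgroup.zpowers u
        have hcl : ∀ x : X, x ∈ H ∨ z⁻¹ * x ∈ H := by
          intro x
          obtain ⟨p, hp, q, hq, rfl⟩ := (Subgroup.mem_sup (x := x)).1 (hle ▸ Subgroup.mem_top x)
          obtain ⟨i, rfl⟩ := Subgroup.mem_zpowers_iff.1 hp
          rcases Int.even_or_odd i with ⟨j, rfl⟩ | ⟨j, rfl⟩
          · left
            exact mul_mem (Subgroup.mem_sup_left (Subgroup.mem_zpowers_iff.2 ⟨j, by group⟩)) (Subgroup.mem_sup_right hq)
          · right
            rw [← mul_assoc]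
            exact mul_mem (Subgroup.mem_sup_left (Subgroup.mem_zpowers_iff.2 ⟨j, by group⟩)) (Subgroup.mem_sup_right hq)
        have : Nat.card (X ⧸ H) ≤ Nat.card Bool := Nat.card_le_card_of_surjective
          (fun c : Bool => ((if c then z else 1 : X) : X ⧸ H)) fun x => by
            induction x using QuotientGroup.induction_on with
            | H x =>
              rcases hcl x with h | h
              · exact ⟨false, QuotientGroup.eq.2 (by simpa using h)⟩
              · exact ⟨true, QuotientGroup.eq.2 (by simpa using h)⟩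
        rwa [Nat.card_eq_fintype_card (α := Bool), Fintype.card_bool] at this
    · -- cyclic
      have hs : a + b = (k : ZMod N) + k + 1 := by rw [← ZMod.natCast_rightInverse (a + b), hk]; push_cast; ring
      have hzsq : ∃ y : X, y ^ 2 = z := by
        let y : X := ⟨⟨a - k, b - k, true⟩, by
          have := mul_mem (hdiag (-(k : ZMod N))) ht
          simpa [sub_eq_add_neg, add_comm] using this⟩
        exact ⟨y, Subtype.ext (by simp [y, z, mk_true_sq]; linear_combination hs)⟩
      obtain ⟨y, hy⟩ := hzsq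
      refine isPGroup_mulAut hM (Subgroup.zpowers z) (Subgroup.zpowers z) z 1 rfl (by simp) (Commute.one_right _)
        (fun α => ?_) (fun α x hx => ?_) ?_
      · obtain ⟨c, hc⟩ := hsq (α y)
        rw [← hy, map_pow, hy, show α y ^ 2 = (⟨⟨c, c, false⟩, hdiag c⟩ : X) from Subtype.ext hc, hzpow]
        exact Subgroup.npow_mem_zpowers _ _
      · obtain ⟨i, rfl⟩ := Subgroup.mem_zpowers_iff.1 hx
        obtain ⟨c, hc⟩ := hsq (α y)
        rw [map_zpow]
        refine zpow_mem ?_ i
        rw [← hy, map_pow, hy, show α y ^ 2 = (⟨⟨c, c, false⟩, hdiag c⟩ : X) from Subtype.ext hc, hzpow]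
        exact Subgroup.npow_mem_zpowers _ _
      · refine le_trans (Nat.le_of_dvd (Nat.pos_of_ne_zero C.index_ne_zero_of_finite) (dvd_of_eq ?_)) hC2
        congr 1
        refine le_antisymm ((Subgroup.zpowers_le).2 rfl) fun x hx => ?_
        obtain ⟨⟨c, d, e⟩, hxX⟩ := x
        obtain rfl : e = false := hx
        obtain rfl : c = d := hsmall ⟨⟨c, d, false⟩, hxX⟩ rfl
        rw [hzpow]; exact Subgroup.npow_mem_zpowers _ _
  · -- the noncommutative case
    have hzc : ∀ x : X, z * x = x * z := fun x =>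
      Subtype.ext (Subgroup.mem_center_iff.1 (mem_center.2 ⟨rfl, rfl⟩ : (z : W N) ∈ Subgroup.center (W N)) x).symm
    have hZ : ∀ x : X, (∀ y, x * y = y * x) → x ∈ Subgroup.zpowers z := by
      intro x hx
      have hxc : (x : W N) ∈ Subgroup.center (W N) := by
        by_contra h
        exact hab ⟨⟨fun v v' => Subtype.ext (commute_of_centralize hn h (congrArg Subtype.val (hx v)) (congrArg Subtype.val (hx v')))⟩⟩
      obtain ⟨⟨c, d, e⟩, hxX⟩ := x
      obtain ⟨he, hcd⟩ := mem_center.1 hxc
      obtain rfl : e = false := he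
      obtain rfl : c = d := hcd
      rw [hzpow]; exact Subgroup.npow_mem_zpowers _ _
    have hZc : ∀ α : MulAut X, α z ∈ Subgroup.zpowers z := fun α => hZ _ fun y => by
      rw [← α.apply_symm_apply y, ← map_mul, ← map_mul, hzc]
    by_cases hDbig : ∃ d ∈ D, d + d ≠ 0
    · exfalso
      obtain ⟨d, hd, hd2⟩ := hDbig
      refine hA (isPGroup_mulAut hM _ C z w rfl hCeq hzw hZc (fun α x hx => ?_) hC2)
      by_contra hout
      let d' : X := ⟨⟨d, 0, false⟩, hd⟩
      let dd : X := ⟨⟨d + d, 0, false⟩, D.add_mem hd hd⟩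
      have hd'C : d' ∈ C := rfl
      have hcomm : ∀ y ∈ C, α y * α x = α x * α y := fun y hy => by
        rw [← map_mul, ← map_mul]; exact congrArg α (Subtype.ext (base_comm hy hx))
      have hsq : ((α.symm d') ^ 2) ∈ C := by
        show W.e _ = false
        obtain ⟨⟨p, q, _ | _⟩, hpq⟩ := α.symm d'
        · simp [sq]
        · simp [mk_true_sq]
      have h3 := hcomm _ hsq
      rw [map_pow, MulEquiv.apply_symm_apply] at h3
      have h4 : (⟨d + d, 0, false⟩ : W N) * (α x : W N) = (α x : W N) * ⟨d + d, 0, false⟩ := by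
        have h5 := congrArg Subtype.val h3
        simpa [d', sq] using h5
      revert hout h4
      generalize α x = y
      obtain ⟨⟨c, e', f⟩, hcX⟩ := y
      intro hout h4
      cases f
      · exact hout rfl
      · have h6 := ((commute_iff _ _).1 h4).1
        simp only [cond_false, cond_true] at h6
        exact hd2 (by linear_combination h6)
    · push_neg at hDbig
      rcases Nat.even_or_odd (a - b).val with ⟨k, hk⟩ | ⟨k, hk⟩
      · right
        refine ⟨⟨k, 0, false⟩, (le_antisymm ?_ ?_).symm⟩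
        · intro x hx
          refine Subgroup.mem_map_equiv.2 ?_
          rw [MulAut.conj_symm_apply, show (⟨(k : ZMod N), 0, false⟩ : W N)⁻¹ = ⟨-k, 0, false⟩ by simp,
            show (⟨(k : ZMod N), 0, false⟩ : W N) = (⟨-(k : ZMod N), 0, false⟩ : W N)⁻¹ by simp]
          obtain ⟨c, d, e⟩ := x
          rw [conj_mk_false, mem_thin]
          cases e
          · exact hDbig _ ((hD c d).1 hx)
          · have h1 := hDbig _ (hDe _ hx rfl)
            have hs : a - b = (k : ZMod N) + k := by rw [← ZMod.natCast_rightInverse (a - b), hk]; push_cast; ring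
            show (c + (-(k : ZMod N) - 0) - (d - (-(k : ZMod N) - 0))) + (c + (-(k : ZMod N) - 0) - (d - (-(k : ZMod N) - 0))) = 0
            simp only at h1
            linear_combination h1 + 2 * hs
        · rintro _ ⟨x, hx, rfl⟩
          obtain ⟨u, hu, huv⟩ : ∃ u ∈ D, u ≠ 0 := by
            by_contra h0
            push_neg at h0
            refine hab ⟨⟨fun v v' => ?_⟩⟩
            have hin : ∀ v : X, v ∈ C → (v : W N) ∈ Subgroup.center (W N) := fun v hv => by
              obtain ⟨⟨c, d, e⟩, hvX⟩ := v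
              obtain rfl : e = false := hv
              exact mem_center.2 ⟨rfl, sub_eq_zero.1 (h0 _ ((hD c d).1 hvX))⟩
            by_cases hv : v ∈ C
            · exact Subtype.ext (Subgroup.mem_center_iff.1 (hin v hv) v').symm
            by_cases hv' : v' ∈ C
            · exact Subtype.ext (Subgroup.mem_center_iff.1 (hin v' hv') v)
            have hi : C.index = 2 := le_antisymm hC2 (by
              by_contra h2
              have := C.index_ne_zero_of_finite
              exact hv (by rw [Subgroup.index_eq_one.1 (by omega : C.index = 1)]; trivial))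
            have hm : v' * v⁻¹ ∈ C := by rw [Subgroup.mul_mem_iff_of_index_two hi, inv_mem_iff]; exact iff_of_false hv' hv
            have hc : (v : W N) * ((v' * v⁻¹ : X) : W N) = ((v' * v⁻¹ : X) : W N) * v := Subgroup.mem_center_iff.1 (hin _ hm) v
            refine Subtype.ext ?_
            simp only [Subgroup.coe_mul, Subgroup.coe_inv] at hc ⊢
            rw [inv_mul_cancel_right, ← mul_assoc] at hc
            conv_rhs => rw [← hc, inv_mul_cancel_right]
          obtain rfl : u = half n := ((two_mul_eq_zero_iff (by omega : 1 ≤ n) u).1 (hDbig u hu)).resolve_left huv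
          have hDall : ∀ s : ZMod N, s + s = 0 → s ∈ D := fun s hs => by
            rcases (two_mul_eq_zero_iff (by omega : 1 ≤ n) s).1 hs with rfl | rfl
            · exact D.zero_mem
            · exact hu
          have hs : a - b = (k : ZMod N) + k := by rw [← ZMod.natCast_rightInverse (a - b), hk]; push_cast; ring
          obtain ⟨c, d, e⟩ := x
          rw [SetLike.mem_coe, mem_thin] at hx
          show MulAut.conj _ _ ∈ X
          rw [MulAut.conj_apply, conj_mk_false]
          cases e
          · exact (hD c d).2 (hDall _ hx)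
          · simp only [cond_true]
            have h1 : (⟨c + ((k : ZMod N) - 0) + -a, d - ((k : ZMod N) - 0) + -b, false⟩ : W N) ∈ X :=
              (hD _ _).2 (hDall _ (by simp only at hx; linear_combination hx - 2 * hs))
            have := mul_mem h1 ht
            simpa using this
      · exfalso
        refine hA (isPGroup_mulAut hM _ C z w rfl hCeq hzw hZc (fun α x hx => ?_) hC2)
        have hpow : ∀ y : X, y ^ N = 1 ↔ y ∈ C := by
          intro y
          obtain ⟨⟨c, d, e⟩, hyX⟩ := y
          cases e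
          · exact iff_of_true (Subtype.ext (by simp [pow_mk_false, one_def])) rfl
          · refine iff_of_false (fun h => ?_) (fun h => Bool.noConfusion h)
            have h1 := hDbig _ (hDe _ hyX rfl)
            simp only at h1
            have hNN : 2 * 2 ^ (n - 1) = N := by rw [← pow_succ']; congr 1; omega
            replace h := (pow_mul (⟨⟨c, d, true⟩, hyX⟩ : X) 2 (2 ^ (n - 1))).symm.trans ((congrArg (_ ^ ·) hNN).trans h)
            have h2 := congrArg (fun y : X => y.1.a) h
            simp only [SubmonoidClass.coe_pow, Subgroup.coe_one, one_def] at h2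
            rw [mk_true_sq, pow_mk_false] at h2
            simp only at h2
            have hh : ((2 ^ (n - 1) : ℕ) : ZMod N) + (2 ^ (n - 1) : ℕ) = 0 := half_add_half hn
            have hne : ((2 ^ (n - 1) : ℕ) : ZMod N) ≠ 0 := half_ne_zero hn
            have hs : a - b = (k : ZMod N) + k + 1 := by rw [← ZMod.natCast_rightInverse (a - b), hk]; push_cast; ring
            have hh2 : ((2 ^ (n - 1) : ℕ) : ZMod N) = ((2 ^ (n - 2) : ℕ) : ZMod N) + (2 ^ (n - 2) : ℕ) :=
              (quarter_add_quarter hn).symm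
            have hsum : c + d = (a - b) + (c - d - (a - b)) + (d + d) := by ring
            have hz1 : ((2 ^ (n - 1) : ℕ) : ZMod N) * (c - d - (a - b)) = 0 := by
              rw [hh2]; linear_combination ((2 ^ (n - 2) : ℕ) : ZMod N) * h1
            refine hne ?_
            rw [hsum, hs] at h2
            linear_combination h2 - hz1 - ((k : ZMod N) + d) * hh - ((2 ^ (n - 1) : ℕ) : ZMod N) * hs
        exact (hpow _).1 (by rw [← map_pow, (hpow x).2 hx, map_one])

end Cfsg.Agent.Fusion.Wreathed
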