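import Mathlib
import Cfsg.Agent.Lib.Fusion.QuasiDihedralSubgroups
import Cfsg.Agent.Lib.Fusion.WreathedAut

/-!
The self-centralizing subgroups of a quasi-dihedral group with an automorphism of odd order.
-/

set_option autoImplicit false

namespace Cfsg.Agent.Fusion.QuasiDihedral

open Q

variable {n : ℕ}

/-- A finite cyclic 2-group or a 2-group with a characteristic cyclic subgroup of index two. -/
theorem isPGroup_mulAut_of_cyclic_part {X : Type*} [Group X] [Finite X] {M : ℕ} (hM : Nat.card X = 2 ^ M) (z : X)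
    (hidx : (Subgroup.zpowers z).index ≤ 2) (hz : ∀ α : MulAut X, α z ∈ Subgroup.zpowers z) :
    IsPGroup 2 (MulAut X) := by
  refine Wreathed.isPGroup_mulAut hM (Subgroup.zpowers z) (Subgroup.zpowers z) z 1 rfl (by simp) (Commute.one_right z) hz
    (fun α x hx => ?_) hidx
  obtain ⟨i, rfl⟩ := hx
  show α (z ^ i) ∈ _
  rw [map_zpow]
  exact zpow_mem (hz α) i

theorem orderOf_gen {j : ℕ} (hj : j ≤ n) : orderOf (⟨((2 ^ (n - j) : ℕ) : ZMod (2 ^ n)), false⟩ : Q n) = 2 ^ j := by
  have h := card_torsion hj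
  rw [torsion, Nat.card_zmultiples, ← orderOf_ofAdd_eq_addOrderOf, ← orderOf_injective (rot n) (rot_injective n)] at h
  exact h

theorem mem_zpowers_gen {j : ℕ} {x : ZMod (2 ^ n)} :
    (⟨x, false⟩ : Q n) ∈ Subgroup.zpowers (⟨((2 ^ (n - j) : ℕ) : ZMod (2 ^ n)), false⟩ : Q n) ↔ x ∈ torsion n j := by
  rw [torsion, AddSubgroup.mem_zmultiples_iff, Subgroup.mem_zpowers_iff]
  have h : ∀ m : ℤ, (⟨((2 ^ (n - j) : ℕ) : ZMod (2 ^ n)), false⟩ : Q n) ^ m =
      ⟨m • ((2 ^ (n - j) : ℕ) : ZMod (2 ^ n)), false⟩ := fun m =>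
    (map_zpow (rot n) (Multiplicative.ofAdd ((2 ^ (n - j) : ℕ) : ZMod (2 ^ n))) m).symm
  simp only [h, Q.mk.injEq, and_true]

theorem torsion_even (hn : 3 ≤ n) {j : ℕ} (hj : j < n) {x : ZMod (2 ^ n)} (hx : x ∈ torsion n j) : ∃ d, x = d + d :=
  (mem_torsion_evens hn).1 (torsion_mono (by omega : j ≤ n - 1) (Nat.sub_le n 1) hx)

/-- The subgroups containing their centralizer with an automorphism of odd order. -/
theorem self_centralizing_cases (hn : 3 ≤ n) (X : Subgroup (Q n)) (hX : Subgroup.centralizer (X : Set (Q n)) ≤ X)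
    (hA : ¬ IsPGroup 2 (MulAut X)) :
    (∃ g : Q n, (four hn).map (MulAut.conj g).toMonoidHom = X) ∨ ∃ g : Q n, (quat8 hn).map (MulAut.conj g).toMonoidHom = X := by
  obtain ⟨M, hM⟩ : ∃ M, Nat.card X = 2 ^ M :=
    IsPGroup.iff_card.1 ((IsPGroup.of_card (n := n + 1) card_eq : IsPGroup 2 (Q n)).to_subgroup X)
  let K : AddSubgroup (ZMod (2 ^ n)) :=
    { carrier := {i | (⟨i, false⟩ : Q n) ∈ X}
      zero_mem' := X.one_mem
      add_mem' := fun {u v} hu hv => by simpa using mul_mem (show (⟨u, false⟩ : Q n) ∈ X from hu) (show (⟨v, false⟩ : Q n) ∈ X from hv)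
      neg_mem' := fun {u} hu => by simpa using inv_mem (show (⟨u, false⟩ : Q n) ∈ X from hu) }
  obtain ⟨j, hjn, hj⟩ := (Nat.dvd_prime_pow Nat.prime_two).1
    (show Nat.card K ∣ 2 ^ n from (AddSubgroup.card_addSubgroup_dvd_card K).trans (dvd_of_eq (Nat.card_zmod _)))
  have hK : K = torsion n j := by
    refine AddSubgroup.eq_of_le_of_card_ge (fun x hx => ?_) (by rw [card_torsion hjn, hj])
    rw [mem_torsion hjn, ← nsmul_eq_mul, ← hj]
    exact congrArg Subtype.val (card_nsmul_eq_zero' (x := (⟨x, hx⟩ : K)))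
  have hmemK : ∀ x : ZMod (2 ^ n), (⟨x, false⟩ : Q n) ∈ X ↔ x ∈ torsion n j := fun x => by rw [← hK]; rfl
  set z₀ : Q n := ⟨((2 ^ (n - j) : ℕ) : ZMod (2 ^ n)), false⟩
  have hz₀ : z₀ ∈ X := (hmemK _).2 (AddSubgroup.mem_zmultiples _)
  let z : X := ⟨z₀, hz₀⟩
  have hzmem : ∀ u : X, u ∈ Subgroup.zpowers z ↔ u.1.e = false := by
    rintro ⟨⟨i, e⟩, hu⟩
    constructor
    · rintro ⟨m, hm⟩
      have h1 : z₀ ^ m = ⟨i, e⟩ := congrArg Subtype.val hm
      obtain ⟨k, hk⟩ : z₀ ^ m ∈ (rot n).range := zpow_mem (mem_rot.2 rfl) m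
      exact (congrArg Q.e (h1.symm.trans hk.symm) : e = false)
    · intro he
      obtain rfl : e = false := he
      obtain ⟨m, hm⟩ := (mem_zpowers_gen (j := j)).2 ((hmemK i).1 hu)
      exact ⟨m, Subtype.ext hm⟩
  by_cases hrot : ∀ u ∈ X, u.e = false
  · refine absurd (isPGroup_mulAut_of_cyclic_part hM z ?_ fun α => (hzmem _).2 (hrot _ (α z).2)) hA
    rw [show Subgroup.zpowers z = ⊤ from eq_top_iff.2 fun u _ => (hzmem u).2 (hrot _ u.2), Subgroup.index_top]
    norm_num
  push_neg at hrot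
  obtain ⟨⟨a, e⟩, ha, he⟩ := hrot
  obtain rfl : e = true := Bool.not_eq_false _ ▸ he
  have hidx : (Subgroup.zpowers z).index ≤ 2 := by
    have h1 : (Subgroup.zpowers z).index = 2 := by
      refine Subgroup.index_eq_two_iff.2 ⟨⟨⟨a, true⟩, ha⟩, fun b => ?_⟩
      rw [hzmem, hzmem, Subgroup.coe_mul, e_mul]
      cases b.1.e <;> simp
    omega
  have hcoset : ∀ i : ZMod (2 ^ n), (⟨i, true⟩ : Q n) ∈ X → i - a ∈ torsion n j := fun i hi => by
    have := mul_mem hi (inv_mem ha)
    rw [inv_mk_true, mk_true_mul, Bool.not_true, hmemK] at this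
    rwa [show i + mu n * -(mu n * a) = i - a by linear_combination -a * mu_mul_mu n] at this
  have hj1 : 1 ≤ j := by
    have hc : (⟨half n, false⟩ : Q n) ∈ X := hX (Subgroup.center_le_centralizer _ ((mem_center hn).2 ⟨rfl, Or.inr rfl⟩))
    by_contra h
    have h1 := (hmemK _).1 hc
    rw [mem_torsion hjn, show j = 0 by omega, pow_zero, Nat.cast_one, one_mul] at h1
    exact half_ne_zero hn h1
  have hsub : ∀ (ha' : a + mu n * a ∈ torsion n j), sub (torsion n j) a ha' = X := fun ha' => by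
    ext u
    obtain ⟨i, _ | _⟩ := u <;> rw [mem_sub] <;> simp only [cond_true, cond_false, sub_zero]
    · exact (hmemK i).symm
    · refine ⟨fun h => ?_, hcoset i⟩
      have := mul_mem ((hmemK _).2 h) ha
      simpa using this
  have ha' : a + mu n * a ∈ torsion n j := by
    have := mul_mem ha ha
    rwa [mk_true_mul, Bool.not_true, hmemK] at this
  by_cases hjn' : j = n ∨ 3 ≤ j
  · refine absurd (isPGroup_mulAut_of_cyclic_part hM z hidx fun α => (hzmem _).2 ?_) hA
    by_contra hne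
    obtain ⟨i, hi⟩ : ∃ i, ((α z : X) : Q n) = ⟨i, true⟩ := ⟨_, Q.ext rfl (Bool.not_eq_false _ ▸ hne)⟩
    have ho : orderOf ((α z : X) : Q n) = 2 ^ j := by
      rw [Subgroup.orderOf_coe, MulEquiv.orderOf_eq, ← Subgroup.orderOf_coe]
      exact orderOf_gen hjn
    have h4 : orderOf ((α z : X) : Q n) ∣ 4 := by
      rw [hi]
      refine orderOf_dvd_of_pow_eq_one ?_
      rw [show (4 : ℕ) = 2 * 2 from rfl, pow_mul]
      rcases even_or_odd hn i with ⟨d, rfl⟩ | ⟨d, rfl⟩
      · rw [ref_sq_even hn, one_pow]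
      · rw [ref_sq_odd hn, pow_two_of_base, half_add_half hn]; rfl
    rw [ho, show (4 : ℕ) = 2 ^ 2 from rfl, Nat.pow_dvd_pow_iff_le_right (by norm_num)] at h4
    omega
  rw [not_or, not_le] at hjn'
  have heven : ∀ x ∈ torsion n j, ∃ d, x = d + d := fun x hx => torsion_even hn (by omega) hx
  have hne_order : ∀ m : ℕ, (∀ i, (⟨i, true⟩ : Q n) ∈ X → orderOf (⟨i, true⟩ : Q n) = m) → 2 ^ j ≠ m → False := fun m hm hne => by
    refine hA (isPGroup_mulAut_of_cyclic_part hM z hidx fun α => (hzmem _).2 ?_)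
    by_contra hf
    obtain ⟨i, hi⟩ : ∃ i, ((α z : X) : Q n) = ⟨i, true⟩ := ⟨_, Q.ext rfl (Bool.not_eq_false _ ▸ hf)⟩
    refine hne ((orderOf_gen hjn).symm.trans ?_)
    rw [← hm i (hi ▸ (α z).2), ← hi, Subgroup.orderOf_coe, MulEquiv.orderOf_eq, ← Subgroup.orderOf_coe]
  have : Fact (Nat.Prime 2) := ⟨Nat.prime_two⟩
  rcases even_or_odd hn a with ⟨d₀, rfl⟩ | ⟨d₀, rfl⟩
  · have horder : ∀ i, (⟨i, true⟩ : Q n) ∈ X → orderOf (⟨i, true⟩ : Q n) = 2 := fun i hi => by
      obtain ⟨d, hd⟩ := heven _ (hcoset i hi)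
      refine orderOf_eq_prime_iff.2 ⟨?_, fun h => Bool.noConfusion (congrArg Q.e h)⟩
      rw [show i = (d + d₀) + (d + d₀) by linear_combination hd, ref_sq_even hn]
    by_cases hj2 : j = 1
    · subst hj2
      obtain ⟨k, hk⟩ := exists_shift hn d₀
      refine Or.inl ⟨⟨k, false⟩, ?_⟩
      rw [four, map_conj_sub _ _ _ _ (by rwa [zero_add, hk]), ← hsub ha']
      congr 1
      rw [zero_add, hk]
    · exact (hne_order 2 horder fun h => hj2 (Nat.pow_right_injective (le_refl 2) (h.trans (pow_one 2).symm))).elim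
  · have horder : ∀ i, (⟨i, true⟩ : Q n) ∈ X → orderOf (⟨i, true⟩ : Q n) = 4 := fun i hi => by
      obtain ⟨d, hd⟩ := heven _ (hcoset i hi)
      rw [orderOf_eq_four_iff, show i = (d + d₀) + (d + d₀) + 1 by linear_combination hd, ref_sq_odd hn,
        pow_two_of_base, half_add_half hn]
      exact ⟨rfl, fun h => half_ne_zero hn (congrArg Q.i h)⟩
    by_cases hj2 : j = 2
    · subst hj2
      obtain ⟨k, hk⟩ := exists_shift hn d₀
      refine Or.inr ⟨⟨k, false⟩, ?_⟩
      rw [quat8, map_conj_sub _ _ _ _ (by rwa [hk, add_comm 1 (d₀ + d₀)]), ← hsub ha']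
      congr 1
      rw [hk, add_comm]
    · exact (hne_order 4 horder fun h => hj2 (Nat.pow_right_injective (le_refl 2) h)).elim

theorem isPGroup_mulAut_self (hn : 3 ≤ n) : IsPGroup 2 (MulAut (Q n)) := by
  by_contra h
  have h' : ¬ IsPGroup 2 (MulAut (⊤ : Subgroup (Q n))) := fun hh => h (hh.of_equiv (MulAut.congr Subgroup.topEquiv))
  have h16 : 16 ≤ 2 ^ (n + 1) := le_trans (by norm_num) (Nat.pow_le_pow_right (by norm_num) (show 4 ≤ n + 1 by omega))
  rcases self_centralizing_cases hn ⊤ le_top h' with ⟨g, h1⟩ | ⟨g, h1⟩ <;>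
    have h2 := congrArg (fun X : Subgroup (Q n) => Nat.card X) h1 <;>
    simp only [Subgroup.card_top, card_eq, Subgroup.card_map_of_injective (f := (MulAut.conj g).toMonoidHom) (MulAut.conj g).injective] at h2 <;>
    [rw [four, card_sub, card_torsion (by omega)] at h2; rw [quat8, card_sub, card_torsion (by omega)] at h2] <;>
    omega

theorem isKleinFour_four (hn : 3 ≤ n) : IsKleinFour (four hn) := by
  refine { card_four := by rw [four, card_sub, card_torsion (by omega : 1 ≤ n)]; norm_num, exponent_two := ?_ }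
  have hsq : ∀ u : four hn, u ^ 2 = 1 := by
    rintro ⟨⟨i, e⟩, hu⟩
    refine Subtype.ext ?_
    rw [SubmonoidClass.coe_pow, Subgroup.coe_one]
    rw [four, mem_sub, mem_torsion_one hn] at hu
    cases e <;> simp only [cond_true, cond_false, sub_zero] at hu
    · rw [pow_two_of_base, hu]; rfl
    · rcases (two_mul_eq_zero_iff hn i).1 hu with rfl | rfl
      · simpa using ref_sq_even hn 0
      · show (⟨half n, true⟩ : Q n) ^ 2 = 1
        rw [← quarter_add_quarter hn]; exact ref_sq_even hn _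
  have : Fact (Nat.Prime 2) := ⟨Nat.prime_two⟩
  refine (Nat.dvd_prime Nat.prime_two).1 (Monoid.exponent_dvd_of_forall_pow_eq_one hsq) |>.resolve_left fun h => ?_
  have := Monoid.exp_eq_one_iff.1 h
  have h1 : (⟨_, (ref_mem_four hn).1⟩ : four hn) = ⟨_, (ref_mem_four hn).2⟩ := Subsingleton.elim _ _
  exact Bool.noConfusion (congrArg (fun u : four hn => u.1.e) h1)

theorem quat8_equiv (hn : 3 ≤ n) : Nonempty (quat8 hn ≃* QuaternionGroup 2) := by
  have hq : quarter n + quarter n + (quarter n + quarter n) = 0 := by rw [quarter_add_quarter hn, half_add_half hn]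
  have hh := half_add_half hn
  let c : ZMod 4 →+ ZMod (2 ^ n) := ZMod.lift 4 ⟨zmultiplesHom _ (quarter n), by
    rw [zmultiplesHom_apply, natCast_zsmul]; linear_combination (norm := (simp [nsmul_eq_mul]; ring)) hq⟩
  have hc : ∀ k : ℤ, c k = k • quarter n := fun k => ZMod.lift_coe _ _ _
  have hmu : ∀ i, mu n * c i = -c i := fun i => by
    rw [← ZMod.intCast_zmod_cast i, hc, mul_smul_comm, mu_mul_quarter hn, smul_neg]
  have hct : ∀ i, c i ∈ torsion n 2 := fun i => by
    rw [← ZMod.intCast_zmod_cast i, hc]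
    exact AddSubgroup.zsmul_mem _ (by rw [quarter, torsion]; exact AddSubgroup.mem_zmultiples _) _
  have hc2 : c 2 = half n := by
    have := hc 2
    rw [Int.cast_ofNat] at this
    rw [this, two_zsmul, quarter_add_quarter hn]
  let θ : QuaternionGroup 2 →* quat8 hn := MonoidHom.mk' (fun x => match x with
    | .a i => ⟨⟨c i, false⟩, by rw [quat8, mem_sub]; simpa using hct i⟩
    | .xa i => ⟨⟨1 - c i, true⟩, by rw [quat8, mem_sub]; simpa using hct i⟩) (by
    rintro (i | i) (j | j) <;> refine Subtype.ext ?_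
    · rw [QuaternionGroup.a_mul_a]; simp [map_add]
    · rw [QuaternionGroup.a_mul_xa]; simp [map_sub]; ring
    · rw [QuaternionGroup.xa_mul_a]; simp [map_add, hmu]; ring
    · rw [QuaternionGroup.xa_mul_xa]
      show (⟨_, false⟩ : Q n) = ⟨1 - c i, true⟩ * ⟨1 - c j, true⟩
      simp only [mk_true_mul, Bool.not_true, map_add, map_sub, mul_sub, hmu, mul_one]
      ext
      · show c ((2 : ℕ) : ZMod 4) + c j - c i = _
        rw [Nat.cast_ofNat, hc2, mu_eq hn]; ring
      · rfl)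
  have hcinj : Function.Injective c := (ZMod.lift_injective _).2 fun k hk => by
    rw [zmultiplesHom_apply, ← addOrderOf_dvd_iff_zsmul_eq_zero] at hk
    have h4 : addOrderOf (quarter n) = 4 := (Nat.card_zmultiples _).symm.trans (card_torsion (by omega : 2 ≤ n))
    rw [h4] at hk
    exact (ZMod.intCast_zmod_eq_zero_iff_dvd _ _).2 hk
  have hθ : Function.Injective θ := by
    rintro (i | i) (j | j) h <;> have h' := congrArg Subtype.val h
    · exact congrArg _ (hcinj (congrArg Q.i h'))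
    · exact Bool.noConfusion (congrArg Q.e h')
    · exact Bool.noConfusion (congrArg Q.e h')
    · exact congrArg _ (hcinj (sub_right_injective (congrArg Q.i h')))
  have hbij : Function.Bijective θ := (Nat.bijective_iff_injective_and_card θ).2 ⟨hθ, by
    rw [Nat.card_eq_fintype_card, QuaternionGroup.card, quat8, card_sub, card_torsion (by omega : 2 ≤ n)]; norm_num⟩
  exact ⟨(MulEquiv.ofBijective θ hbij).symm⟩

theorem quatMax_le (hn : 3 ≤ n) {M : Subgroup (Q n)} (h : ∀ d : ZMod (2 ^ n), (⟨d + d + 1, true⟩ : Q n) ∈ M) : quatMax hn ≤ M := by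
  rintro ⟨i, _ | _⟩ hu <;> obtain ⟨d, hd⟩ := (mem_quatMax hn).1 hu <;> simp only [cond_true, cond_false, add_zero] at hd <;> subst hd
  · have := mul_mem (h d) (inv_mem (h 0))
    rwa [inv_mk_true, mk_true_mul, Bool.not_true, show d + d + 1 + mu n * -(mu n * (0 + 0 + 1)) = d + d by
      linear_combination -1 * mu_mul_mu n] at this
  · exact h d

theorem dihMax_le (hn : 3 ≤ n) {M : Subgroup (Q n)} (h : ∀ d : ZMod (2 ^ n), (⟨d + d, true⟩ : Q n) ∈ M) : dihMax hn ≤ M := by
  rintro ⟨i, _ | _⟩ hu <;> obtain ⟨d, hd⟩ := (mem_dihMax hn).1 hu <;> simp only at hd <;> subst hd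
  · have := mul_mem (h d) (inv_mem (h 0))
    simpa using this
  · exact h d

theorem quat8_le_quatMax (hn : 3 ≤ n) : quat8 hn ≤ quatMax hn := fun u hu => by
  rw [quat8, mem_sub] at hu
  rw [quatMax, mem_sub]
  exact torsion_mono (by omega : 2 ≤ n - 1) (Nat.sub_le n 1) hu

theorem four_le_dihMax (hn : 3 ≤ n) : four hn ≤ dihMax hn := fun u hu => by
  rw [four, mem_sub] at hu
  rw [dihMax, mem_sub]
  exact torsion_mono (by omega : 1 ≤ n - 1) (Nat.sub_le n 1) hu

theorem evens_le_quatMax (hn : 3 ≤ n) : evens n ≤ quatMax hn := fun u hu => by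
  obtain ⟨he, d, hd⟩ := mem_evens.1 hu
  exact (mem_quatMax hn).2 ⟨d, by simp [he, hd]⟩

theorem evens_le_dihMax (hn : 3 ≤ n) : evens n ≤ dihMax hn := fun u hu =>
  (mem_dihMax hn).2 (mem_evens.1 hu).2

/-- A subgroup containing the even rotations is normal. -/
theorem normal_of_evens_le (hn : 3 ≤ n) {H : Subgroup (Q n)} (h : evens n ≤ H) : H.Normal := ⟨fun u hu g => by
  have h1 : g * u * g⁻¹ * u⁻¹ ∈ H := h (commutator_eq hn ▸ Subgroup.commutator_mem_commutator (Subgroup.mem_top g) (Subgroup.mem_top u))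
  simpa [mul_assoc] using mul_mem h1 hu⟩

end Cfsg.Agent.Fusion.QuasiDihedral
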