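import Mathlib
import Cfsg.Agent.Lib.Fusion.QuasiDihedralAut

/-!
The dihedral 2-groups: parity subgroups, four-subgroups and self-centralizing subgroups.
-/

set_option autoImplicit false

namespace Cfsg.Agent.Fusion.DihedralModel

open DihedralGroup

variable {k : ℕ}

/-- Half of the modulus. -/
def half (k : ℕ) : ZMod (2 ^ k) := ((2 ^ (k - 1) : ℕ) : ZMod (2 ^ k))

theorem half_add_half (hk : 1 ≤ k) : half k + half k = 0 := by
  rw [half, ← Nat.cast_add, ← two_mul, ← pow_succ', Nat.sub_add_cancel hk, ZMod.natCast_self]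

theorem half_ne_zero (hk : 1 ≤ k) : half k ≠ 0 := by
  rw [half, Ne, ZMod.natCast_eq_zero_iff]
  intro h
  have := Nat.le_of_dvd (by positivity) h
  have := Nat.pow_lt_pow_right (show 1 < 2 by norm_num) (show k - 1 < k by omega)
  omega

theorem two_mul_eq_zero_iff (hk : 1 ≤ k) (x : ZMod (2 ^ k)) : x + x = 0 ↔ x = 0 ∨ x = half k := by
  constructor
  · intro h
    obtain ⟨c, hc⟩ : 2 ^ k ∣ x.val + x.val := by
      rw [← ZMod.natCast_eq_zero_iff, Nat.cast_add, ZMod.natCast_rightInverse x, h]
    have hlt := x.val_lt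
    have h2 : 2 ^ k = 2 ^ (k - 1) + 2 ^ (k - 1) := by rw [← two_mul, ← pow_succ', Nat.sub_add_cancel hk]
    rcases c with _ | _ | c
    · exact Or.inl ((ZMod.val_eq_zero x).1 (by omega))
    · right; rw [half, ← ZMod.natCast_rightInverse x]; congr 1; omega
    · exfalso; rw [Nat.mul_add, Nat.mul_add] at hc; omega
  · rintro (rfl | rfl)
    · simp
    · exact half_add_half hk

/-- The parity of a residue. -/
def par (hk : 1 ≤ k) : ZMod (2 ^ k) →+* ZMod 2 := ZMod.castHom (dvd_pow_self 2 (by omega)) _

theorem par_half (hk : 2 ≤ k) : par (k := k) (by omega) (half k) = 0 := by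
  rw [half, map_natCast, ZMod.natCast_eq_zero_iff]
  exact dvd_pow_self 2 (by omega)

theorem exists_half_of_par (hk : 1 ≤ k) {x : ZMod (2 ^ k)} (h : par hk x = 0) : ∃ d, x = d + d := by
  rw [← ZMod.natCast_rightInverse x, map_natCast, ZMod.natCast_eq_zero_iff] at h
  obtain ⟨c, hc⟩ := h
  exact ⟨(c : ZMod (2 ^ k)), by rw [← Nat.cast_add, ← two_mul, ← hc, ZMod.natCast_rightInverse]⟩

/-- The homomorphism whose kernel is one of the two dihedral maximal subgroups. -/
def parHom (hk : 1 ≤ k) (ε : ZMod 2) : DihedralGroup (2 ^ k) →* Multiplicative (ZMod 2) :=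
  MonoidHom.mk' (fun x => Multiplicative.ofAdd (match x with
    | .r i => par hk i
    | .sr i => par hk i + ε)) (by
    have h2 : ε + ε = 0 := CharTwo.add_self_eq_zero ε
    rintro (i | i) (j | j) <;> apply Multiplicative.toAdd.injective
    · rw [r_mul_r]; show par hk (i + j) = par hk i + par hk j
      exact map_add _ _ _
    · rw [r_mul_sr]; show par hk (j - i) + ε = par hk i + (par hk j + ε)
      rw [map_sub, CharTwo.sub_eq_add]; ring
    · rw [sr_mul_r]; show par hk (i + j) + ε = par hk i + ε + par hk j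
      rw [map_add]; ring
    · rw [sr_mul_sr]; show par hk (j - i) = par hk i + ε + (par hk j + ε)
      rw [map_sub, CharTwo.sub_eq_add]; linear_combination -h2)

theorem mem_ker_r (hk : 1 ≤ k) (ε : ZMod 2) (i : ZMod (2 ^ k)) : (r i : DihedralGroup (2 ^ k)) ∈ (parHom hk ε).ker ↔ par hk i = 0 := by
  rw [MonoidHom.mem_ker]
  exact Multiplicative.ofAdd.injective.eq_iff' rfl

theorem mem_ker_sr (hk : 1 ≤ k) (ε : ZMod 2) (i : ZMod (2 ^ k)) : (sr i : DihedralGroup (2 ^ k)) ∈ (parHom hk ε).ker ↔ par hk i = ε := by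
  rw [MonoidHom.mem_ker]
  refine (Multiplicative.ofAdd.injective.eq_iff' rfl).trans ?_
  show par hk i + ε = 0 ↔ _
  rw [CharTwo.add_eq_zero]

theorem parHom_surjective (hk : 1 ≤ k) (ε : ZMod 2) : Function.Surjective (parHom hk ε) := fun y => by
  refine ⟨r ((Multiplicative.toAdd y).val : ZMod (2 ^ k)), ?_⟩
  show Multiplicative.ofAdd (par hk _) = y
  rw [map_natCast, ZMod.natCast_rightInverse]
  rfl

/-- The four-subgroup of a given parity. -/
def four (hk : 2 ≤ k) (a : ZMod (2 ^ k)) : Subgroup (DihedralGroup (2 ^ k)) where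
  carrier := {r 0, r (half k), sr a, sr (a + half k)}
  one_mem' := by left; rfl
  mul_mem' := by
    have hh := half_add_half (k := k) (by omega)
    have hn : -half k = half k := neg_eq_of_add_eq_zero_left hh
    rintro x y (rfl | rfl | rfl | rfl) (rfl | rfl | rfl | rfl) <;>
      simp [sub_eq_add_neg, hh, hn, add_assoc]
  inv_mem' := by
    have hn : -half k = half k := neg_eq_of_add_eq_zero_left (half_add_half (k := k) (by omega))
    rintro x (rfl | rfl | rfl | rfl) <;> simp [hn]

theorem mem_four (hk : 2 ≤ k) (a : ZMod (2 ^ k)) {x : DihedralGroup (2 ^ k)} :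
    x ∈ four hk a ↔ x = r 0 ∨ x = r (half k) ∨ x = sr a ∨ x = sr (a + half k) := Iff.rfl

theorem card_four (hk : 2 ≤ k) (a : ZMod (2 ^ k)) : Nat.card (four hk a) = 4 := by
  have h0 := half_ne_zero (k := k) (by omega)
  rw [← SetLike.coe_sort_coe, Nat.card_coe_set_eq]
  show ({r 0, r (half k), sr a, sr (a + half k)} : Set (DihedralGroup (2 ^ k))).ncard = 4
  rw [Set.ncard_insert_of_notMem (by rintro (h | h | (h : _ = _)) <;> first | exact h0 (DihedralGroup.r.inj h).symm | cases h), Set.ncard_insert_of_notMem (by simp), Set.ncard_pair]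
  simpa using h0

theorem isKleinFour_four (hk : 2 ≤ k) (a : ZMod (2 ^ k)) : IsKleinFour (four hk a) := by
  refine { card_four := card_four hk a, exponent_two := ?_ }
  have hh := half_add_half (k := k) (by omega)
  have hsq : ∀ u : four hk a, u ^ 2 = 1 := by
    rintro ⟨u, hu⟩
    refine Subtype.ext ?_
    rw [SubmonoidClass.coe_pow, Subgroup.coe_one, sq u]
    rcases (mem_four hk a).1 hu with rfl | rfl | rfl | rfl <;> simp [hh] <;> rfl
  have : Fact (Nat.Prime 2) := ⟨Nat.prime_two⟩
  refine (Nat.dvd_prime Nat.prime_two).1 (Monoid.exponent_dvd_of_forall_pow_eq_one hsq) |>.resolve_left fun h => ?_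
  have := Monoid.exp_eq_one_iff.1 h
  have h1 := Nat.card_eq_one_iff_unique.2 ⟨inferInstance, ⟨(1 : four hk a)⟩⟩
  rw [card_four] at h1
  omega

/-- The four-subgroups are those containing the central involution. -/
theorem klein_eq_four (hk : 2 ≤ k) (U : Subgroup (DihedralGroup (2 ^ k))) (hU : IsKleinFour U) :
    ∃ a, U = four hk a := by
  have : NeZero (2 ^ k) := ⟨by positivity⟩
  have hsq : ∀ u ∈ U, u * u = 1 := fun u hu => by
    simpa [hU.exponent_two, sq] using congrArg Subtype.val (Monoid.pow_exponent_eq_one (⟨u, hu⟩ : U))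
  have hr : ∀ i, r i ∈ U → i = 0 ∨ i = half k := fun i hi => by
    have h := hsq _ hi
    rw [r_mul_r, one_def] at h
    injection h with h
    exact (two_mul_eq_zero_iff (by omega) i).1 h
  obtain ⟨a, ha⟩ : ∃ a, sr a ∈ U := by
    by_contra h
    push_neg at h
    have hsub : (U : Set (DihedralGroup (2 ^ k))) ⊆ {r 0, r (half k)} := fun u hu => by
      cases u with
      | r i => rcases hr i hu with rfl | rfl <;> simp
      | sr i => exact absurd hu (h i)
    have h1 := Set.ncard_le_ncard hsub (Set.toFinite _)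
    rw [← Nat.card_coe_set_eq, SetLike.coe_sort_coe, hU.card_four] at h1
    have := Set.ncard_insert_le (r (0 : ZMod (2 ^ k))) {r (half k)}
    rw [Set.ncard_singleton] at this
    omega
  refine ⟨a, Subgroup.eq_of_le_of_card_ge (fun u hu => ?_) (by rw [card_four, hU.card_four])⟩
  rw [mem_four]
  cases u with
  | r i => rcases hr i hu with rfl | rfl <;> simp
  | sr i =>
    have h := hr _ (show r (i - a) ∈ U by simpa using mul_mem ha hu)
    rcases h with h | h
    · right; right; left; rw [sub_eq_zero.1 h]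
    · right; right; right; rw [← h]; simp

theorem four_le_ker_iff (hk : 2 ≤ k) (a : ZMod (2 ^ k)) (ε : ZMod 2) :
    four hk a ≤ (parHom (k := k) (by omega) ε).ker ↔ par (k := k) (by omega) a = ε := by
  refine ⟨fun h => (mem_ker_sr _ ε a).1 (h (by rw [mem_four]; tauto)), fun h x hx => ?_⟩
  rcases (mem_four hk a).1 hx with rfl | rfl | rfl | rfl
  · rw [mem_ker_r, map_zero]
  · rw [mem_ker_r, par_half hk]
  · rwa [mem_ker_sr]
  · rw [mem_ker_sr, map_add, par_half hk, add_zero, h]

theorem exists_conj_four (hk : 2 ≤ k) {a b : ZMod (2 ^ k)} (h : par (k := k) (by omega) a = par (k := k) (by omega) b) :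
    ∃ g, (four hk a).map (MulAut.conj g).toMonoidHom = four hk b := by
  obtain ⟨d, hd⟩ := exists_half_of_par (k := k) (by omega) (x := a - b) (by rw [map_sub, h, sub_self])
  refine ⟨r d, Subgroup.eq_of_le_of_card_ge ?_ (by
    rw [Subgroup.card_map_of_injective (MulAut.conj (r d)).injective, card_four, card_four])⟩
  have hh : ∀ c, c = a ∨ c = a + half k → c - d - d = b ∨ c - d - d = b + half k := by
    rintro c (rfl | rfl)
    · left; linear_combination hd
    · right; linear_combination hd
  rintro _ ⟨x, hx, rfl⟩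
  rw [mem_four]
  rcases (mem_four hk a).1 hx with rfl | rfl | rfl | rfl
  · simp
  · simp
  · right; right
    rcases hh a (Or.inl rfl) with h | h
    · left; simp [← h]; ring
    · right; simp [← h]; ring
  · right; right
    rcases hh (a + half k) (Or.inr rfl) with h | h
    · left; simp [← h]; ring
    · right; simp [← h]; ring

/-- The involutions. -/
theorem involution_cases (hk : 1 ≤ k) {x : DihedralGroup (2 ^ k)} (hx : orderOf x = 2) :
    x = r (half k) ∨ ∃ i, x = sr i := by
  have : Fact (Nat.Prime 2) := ⟨Nat.prime_two⟩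
  obtain ⟨h1, h2⟩ := orderOf_eq_prime_iff.1 hx
  cases x with
  | r i =>
    rw [sq, r_mul_r, one_def] at h1
    injection h1 with h1
    rcases (two_mul_eq_zero_iff hk i).1 h1 with rfl | rfl
    · exact absurd rfl h2
    · exact Or.inl rfl
  | sr i => exact Or.inr ⟨i, rfl⟩

theorem half_mem_center (hk : 1 ≤ k) : (r (half k) : DihedralGroup (2 ^ k)) ∈ Subgroup.center _ := by
  have hn : -half k = half k := neg_eq_of_add_eq_zero_left (half_add_half hk)
  rw [Subgroup.mem_center_iff]
  intro g
  cases g with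
  | r i => simp [add_comm]
  | sr i => simp [sub_eq_add_neg, hn, add_comm]

/-- The subgroups containing their centralizer with an automorphism of odd order. -/
theorem self_centralizing_cases (hk : 2 ≤ k) (X : Subgroup (DihedralGroup (2 ^ k)))
    (hX : Subgroup.centralizer (X : Set (DihedralGroup (2 ^ k))) ≤ X) (hA : ¬ IsPGroup 2 (MulAut X)) : IsKleinFour X := by
  have : NeZero (2 ^ k) := ⟨by positivity⟩
  have hp : IsPGroup 2 (DihedralGroup (2 ^ k)) := IsPGroup.of_card (n := k + 1) (by rw [DihedralGroup.nat_card, pow_succ'])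
  obtain ⟨M, hM⟩ : ∃ M, Nat.card X = 2 ^ M := IsPGroup.iff_card.1 (hp.to_subgroup X)
  let rot : Multiplicative (ZMod (2 ^ k)) →* DihedralGroup (2 ^ k) :=
    { toFun := fun i => r i.toAdd, map_one' := rfl, map_mul' := fun _ _ => rfl }
  let C : Subgroup X := rot.range.subgroupOf X
  have hmemC : ∀ u : X, u ∈ C ↔ ∃ i, (u : DihedralGroup (2 ^ k)) = r i := fun u => by
    rw [Subgroup.mem_subgroupOf]
    exact ⟨fun ⟨i, hi⟩ => ⟨i.toAdd, hi.symm⟩, fun ⟨i, hi⟩ => ⟨Multiplicative.ofAdd i, hi.symm⟩⟩
  have hcyc : IsCyclic C := by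
    have : IsCyclic rot.range := isCyclic_of_surjective rot.rangeRestrict rot.rangeRestrict_surjective
    let f : C →* rot.range := (X.subtype.comp C.subtype).codRestrict _ fun u => u.2
    exact isCyclic_of_injective f fun a b h => Subtype.ext (Subtype.ext (by
      have h' : ((f a : rot.range) : DihedralGroup (2 ^ k)) = f b := congrArg Subtype.val h
      exact h'))
  obtain ⟨z, hz⟩ := IsCyclic.exists_generator (α := C)
  have hzC : Subgroup.zpowers (z : X) = C := by
    refine le_antisymm ((Subgroup.zpowers_le).2 z.2) fun u hu => ?_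
    obtain ⟨m, hm⟩ := hz ⟨u, hu⟩
    exact ⟨m, congrArg Subtype.val hm⟩
  have hidx : C.index ≤ 2 := by
    by_cases hall : ∀ u : X, u ∈ C
    · rw [show C = ⊤ from eq_top_iff.2 fun u _ => hall u, Subgroup.index_top]; norm_num
    push_neg at hall
    obtain ⟨u, hu⟩ := hall
    refine (Subgroup.index_eq_two_iff.2 ⟨u, fun b => ?_⟩).le
    rw [hmemC] at hu
    rw [hmemC, hmemC, Subgroup.coe_mul]
    generalize (u : DihedralGroup (2 ^ k)) = u' at hu
    generalize (b : DihedralGroup (2 ^ k)) = b'
    cases u' with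
    | r i => exact absurd ⟨i, rfl⟩ hu
    | sr i => cases b' <;> simp [Xor]
  have hc : r (half k) ∈ X := hX (Subgroup.center_le_centralizer _ (half_mem_center (by omega)))
  by_cases hz2 : (z : X) ^ 2 = 1
  · have hcardC : Nat.card C ≤ 2 := by
      rw [← hzC, Nat.card_zpowers]
      exact Nat.le_of_dvd (by norm_num) (orderOf_dvd_of_pow_eq_one hz2)
    have hcard : Nat.card X ≤ 4 := by
      rw [← C.card_mul_index]
      exact Nat.mul_le_mul hcardC hidx
    obtain ⟨a, ha⟩ : ∃ a, sr a ∈ X := by
      by_contra h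
      push_neg at h
      refine hA (QuasiDihedral.isPGroup_mulAut_of_cyclic_part hM (z : X) (hzC.symm ▸ hidx) fun α => ?_)
      rw [hzC, hmemC]
      have hαm : ((α z : X) : DihedralGroup (2 ^ k)) ∈ X := (α z).2
      revert hαm
      cases ((α z : X) : DihedralGroup (2 ^ k)) with
      | r i => exact fun _ => ⟨i, rfl⟩
      | sr i => exact fun hh => absurd hh (h i)
    have hle : four hk a ≤ X := fun x hx => by
      rcases (mem_four hk a).1 hx with rfl | rfl | rfl | rfl
      · exact one_mem X
      · exact hc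
      · exact ha
      · simpa using mul_mem ha hc
    rw [← Subgroup.eq_of_le_of_card_ge hle (by rw [card_four]; exact hcard)]
    exact isKleinFour_four hk a
  · refine absurd (QuasiDihedral.isPGroup_mulAut_of_cyclic_part hM (z : X) (hzC.symm ▸ hidx) fun α => ?_) hA
    rw [hzC, hmemC]
    by_contra h
    have h2 : ((α z : X) : DihedralGroup (2 ^ k)) ^ 2 = 1 := by
      revert h
      cases ((α z : X) : DihedralGroup (2 ^ k)) with
      | r i => exact fun h => absurd ⟨i, rfl⟩ h
      | sr i => exact fun _ => by rw [sq, sr_mul_self]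
    refine hz2 (α.injective ?_)
    rw [map_pow, map_one]
    exact Subtype.ext h2

theorem isPGroup_mulAut_self (hk : 2 ≤ k) : IsPGroup 2 (MulAut (DihedralGroup (2 ^ k))) := by
  by_contra h
  have h' : ¬ IsPGroup 2 (MulAut (⊤ : Subgroup (DihedralGroup (2 ^ k)))) := fun hh => h (hh.of_equiv (MulAut.congr Subgroup.topEquiv))
  have h2 := (self_centralizing_cases hk ⊤ le_top h').card_four
  rw [Subgroup.card_top, DihedralGroup.nat_card] at h2
  have := Nat.pow_le_pow_right (show 0 < 2 by norm_num) hk
  omega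

end Cfsg.Agent.Fusion.DihedralModel
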