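import Mathlib

/-!
The transfer on an element whose powers are controlled, and some consequences.
-/

set_option autoImplicit false

namespace Cfsg.Agent.Fusion.TransferControl

variable {G : Type*} [Group G] [Finite G] {H : Subgroup G} {A : Type*} [CommGroup A]

open Subgroup MonoidHom in
/-- The transfer of an element with controlled powers is the power by the index. -/
theorem transfer_eq_pow_index (φ : H →* A) (g : H)
    (h : ∀ (k : ℕ) (a : G) (ha : a⁻¹ * (g : G) ^ k * a ∈ H), φ ⟨_, ha⟩ = φ g ^ k) :
    φ.transfer (g : G) = φ g ^ H.index := by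
  classical
  have : Fintype (Quotient (MulAction.orbitRel (zpowers (g : G)) (G ⧸ H))) := Fintype.ofFinite _
  rw [index_eq_sum_minimalPeriod H (g : G), ← Finset.prod_pow_eq_pow_sum,
    MonoidHom.transfer_eq_prod_quotient_orbitRel_zpowers_quot]
  exact Finset.prod_congr rfl fun q _ => h _ _ _

/-- In a quotient of coprime order, a power by the index is injective. -/
theorem eq_one_of_pow_eq_one {M : Type*} [Monoid M] {x : M} {m n : ℕ} (h : Nat.Coprime m n)
    (hm : x ^ m = 1) (hn : x ^ n = 1) : x = 1 := by
  have := Nat.dvd_gcd (orderOf_dvd_of_pow_eq_one hm) (orderOf_dvd_of_pow_eq_one hn)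
  rw [h] at this
  exact orderOf_eq_one_iff.1 (Nat.dvd_one.1 this)

end Cfsg.Agent.Fusion.TransferControl
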