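import Mathlib
import Cfsg.Agent.Lib.Fusion.Alperin

/-!
The inner fusion system of a finite `p`-group.
-/

set_option autoImplicit false

namespace Cfsg.Agent.Fusion

open Cfsg Cfsg.FusionSystem

variable {Ω : Type*} [Group Ω] {S P : Subgroup Ω} {f : Ω → Ω} {p : ℕ}

theorem isMor_inner :
    IsMor (innerFusionSystem S) P f ↔ P ≤ S ∧ ∃ a ∈ S, ∀ x ∈ P, f x = a * x * a⁻¹ := by
  constructor
  · rintro ⟨φ, ⟨hP, a, ha, hx⟩, he⟩
    exact ⟨hP, a, ha, fun x hxP => (he ⟨x, hxP⟩).symm.trans (hx _)⟩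
  · rintro ⟨hP, a, ha, hx⟩
    exact (isMor_conj (F := innerFusionSystem S) hP ha).congr hx

theorem inner_saturated [Finite S] [Fact p.Prime] (hS : IsPGroup p S) :
    (innerFusionSystem S).IsSaturated p := by
  intro P hP
  refine ⟨P, isConj_refl hP, ⟨hP, ?_⟩, isReceptive_intro hP fun P' A f hf hPA hA => ?_⟩
  · have := finite_autGroup (F := innerFusionSystem S) hP
    have htop : (autInducedBy S P).subgroupOf ((innerFusionSystem S).autGroup P) = ⊤ := by
      refine eq_top_iff.2 fun α _ => Subgroup.mem_subgroupOf.2 ?_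
      obtain ⟨-, a, ha, hax⟩ := isMor_inner.1 (isMor_of_mem_autGroup hP α.2)
      refine mem_autInducedBy.2 ⟨a, ha, mem_normalizer_of_conj_mem hP fun x hx => ?_, fun x => ?_⟩
      · rw [← hax x hx]; exact autFun_mem _ hx
      · exact (autFun_coe _ x).symm.trans (hax x x.2)
    refine exists_sylow_eq_iff ?_ |>.2 ?_
    · exact (isPGroup_autInducedBy hS P).of_equiv
        (Subgroup.subgroupOfEquivOfLe (autInducedBy_le_autGroup hP)).symm
    · rw [htop, Subgroup.index_top]
      exact (Fact.out : p.Prime).not_dvd_one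
  · obtain ⟨-, a, ha, hax⟩ := isMor_inner.1 hf.1
    exact ⟨_, isMor_conj (fun x hx => (hA x hx).1) ha, fun x hx => (hax x hx).symm⟩

end Cfsg.Agent.Fusion
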