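import Cfsg.Agent.Lib.Fusion.Alperin
import Cfsg.Agent.Lib.Fusion.GroupSystem
import Cfsg.Agent.Lib.Fusion.Inner

/-!
Consequences of Alperin's theorem for systems whose automizers are mostly p-groups.
-/

set_option autoImplicit false

universe v

namespace Cfsg.Agent.Fusion.EssentialControl

open Cfsg Cfsg.FusionSystem

variable {Ω : Type v} [Group Ω] {S : Subgroup Ω} {F : FusionSystem S} {P : Subgroup Ω}

/-- The maps moving elements only inside a subgroup containing the derived subgroup of `S`. -/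
def congrSystem (F : FusionSystem S) (K : Subgroup Ω) (hK : ⁅S, S⁆ ≤ K) : FusionSystem S where
  Hom P := {φ | φ ∈ F.Hom P ∧ ∀ x : P, (x : Ω)⁻¹ * φ x ∈ K}
  le_of_mem h := F.le_of_mem h.1
  injective_of_mem h := F.injective_of_mem h.1
  conj_mem := fun {P g} hP hg => ⟨F.conj_mem hP hg, fun x => by
    have := hK (Subgroup.commutator_mem_commutator (S.inv_mem (hP x.2)) hg)
    simpa [commutatorElement_def, conjHom, mul_assoc] using this⟩
  comp_mem := fun {P Q φ ψ} hφ hψ h => ⟨F.comp_mem hφ.1 hψ.1 h, fun x => by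
    have := K.mul_mem (hφ.2 x) (hψ.2 ⟨φ x, h x⟩)
    simpa [mul_assoc] using this⟩
  inv_mem := fun {P φ} hφ => by
    obtain ⟨ψ, hψ, hx⟩ := F.inv_mem hφ.1
    refine ⟨ψ, ⟨hψ, fun y => ?_⟩, hx⟩
    obtain ⟨_, x, rfl⟩ := y
    rw [hx x]
    simpa using K.inv_mem (hφ.2 x)

variable {p : ℕ} [Fact p.Prime] [Finite S] (hS : IsPGroup p S) (hF : F.IsSaturated p)
include hS hF

/-- A congruence satisfied by the automizers of `S` and of the essential subgroups holds for every map. -/
theorem congr_of_essential (K : Subgroup Ω) (hK : ⁅S, S⁆ ≤ K)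
    (h : ∀ P : Subgroup Ω, (P = S ∨ F.IsEssential p P) → ∀ α ∈ F.autGroup P, ∀ x : P, (x : Ω)⁻¹ * (α x : P) ∈ K)
    {f : Ω → Ω} (hf : IsMor F P f) {x : Ω} (hx : x ∈ P) : x⁻¹ * f x ∈ K := by
  have hle : F ≤ congrSystem F K hK := le_of_essential hS hF fun R hR α hα => by
    refine Subgroup.subset_closure ⟨?_, fun y => h R hR α hα y⟩
    have hRS : R ≤ S := hR.elim le_of_eq fun h => h.1.1
    exact (mem_autGroup hRS).1 hα
  obtain ⟨φ, hφ, he⟩ := hf
  have := (hle P hφ).2 ⟨x, hx⟩
  rwa [he] at this

/-- The automizer of an essential subgroup is not a `p`-group. -/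
theorem not_isPGroup_autGroup (h : F.IsEssential p P) : ¬ IsPGroup p (F.autGroup P) := by
  intro hp
  refine closure_extSet_ne_of_isEssential hS hF h (le_antisymm closure_extSet_le_autGroup ?_)
  obtain ⟨hA, -⟩ := fullyNormalized_receptive hS hF h.2.1
  obtain ⟨R, hR⟩ := hA.2
  have := finite_autGroup (F := F) hA.1
  have htop : (R : Subgroup (F.autGroup P)) = ⊤ := R.3 (hp.to_subgroup ⊤) le_top |>.symm
  rw [hR] at htop
  exact (Subgroup.subgroupOf_eq_top.1 htop).trans (autInducedBy_le_closure_extSet (lt_of_isEssential hS hF h))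

/-- A `p`-group automizer of `S` consists of inner automorphisms. -/
theorem autGroup_self_le (hp : IsPGroup p (F.autGroup S)) : F.autGroup S ≤ autInducedBy S S := by
  have hn : F.IsFullyNormalized S := ⟨le_rfl, fun R _ => by
    have : Finite (normalizerIn S S) := finite_of_le normalizerIn_le
    exact Nat.card_le_card_of_injective
      (Subgroup.inclusion (normalizerIn_le.trans (le_normalizerIn le_rfl)))
      (Subgroup.inclusion_injective _)⟩
  obtain ⟨hA, -⟩ := fullyNormalized_receptive hS hF hn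
  obtain ⟨R, hR⟩ := hA.2
  have := finite_autGroup (F := F) hA.1
  have htop : (R : Subgroup (F.autGroup S)) = ⊤ := R.3 (hp.to_subgroup ⊤) le_top |>.symm
  rw [hR] at htop
  exact Subgroup.subgroupOf_eq_top.1 htop

/-- Without essential subgroups and with a `p`-group automizer at the top every map is inner. -/
theorem le_inner (hp : IsPGroup p (F.autGroup S)) (hno : ∀ P, ¬ F.IsEssential p P) : F ≤ innerFusionSystem S :=
  le_of_essential hS hF fun R hR α hα => by
    obtain rfl : R = S := hR.resolve_right (hno R)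
    obtain ⟨a, ha, -, hx⟩ := mem_autInducedBy.1 (autGroup_self_le hS hF hp hα)
    exact mem_autGroup_of_isMor (isMor_inner.2 ⟨le_rfl, a, ha, fun _ _ => rfl⟩) hx

end Cfsg.Agent.Fusion.EssentialControl
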