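import Mathlib
import Cfsg.Agent.Lib.Fusion.WreathedAut
import Cfsg.Agent.Lib.Fusion.GroupSystem
import Cfsg.Agent.Lib.Fusion.EssentialControl

/-!
Local subgroups of a group with a wreathed Sylow 2-subgroup.
-/

set_option autoImplicit false

namespace Cfsg.Agent.Fusion.Wreathed

open W
open Cfsg Cfsg.FusionSystem

section Abstract

/-- An automorphism of an abelian 2-group fixing the involutions has 2-power order. -/
theorem pow_fix_of_fix_involutions {X : Type*} [Group X] (hX : IsMulCommutative X) {M : ℕ} (hM : ∀ x : X, x ^ 2 ^ M = 1)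
    (α : MulAut X) (h2 : ∀ x : X, x ^ 2 = 1 → α x = x) : α ^ 2 ^ M = 1 := by
  have key : ∀ i : ℕ, ∀ x : X, x ^ 2 ^ i = 1 → (α ^ 2 ^ i) x = x := by
    intro i
    induction i with
    | zero => intro x hx; rw [pow_zero, pow_one] at hx; subst hx; exact map_one _
    | succ i ih =>
      intro x hx
      set β := α ^ 2 ^ i
      have hfix : ∀ y : X, y ^ 2 = 1 → β y = y := fun y hy => by
        have : ∀ k : ℕ, (α ^ k) y = y := fun k => by
          induction k with
          | zero => simp
          | succ k ihk => rw [pow_succ' α, MulAut.mul_apply, ihk, h2 y hy]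
        exact this _
      set d := x⁻¹ * β x
      have hd : d ^ 2 = 1 := by
        have h1 : β (x ^ 2) = x ^ 2 := ih _ (by rw [← pow_mul, ← pow_succ', hx])
        rw [map_pow] at h1
        rw [(show Commute x⁻¹ (β x) from hX.is_comm.comm _ _).mul_pow, h1, inv_pow, inv_mul_cancel]
      have hbx : β x = x * d := (mul_inv_cancel_left _ _).symm
      rw [pow_succ, pow_mul]
      show (β ^ 2) x = x
      rw [sq, MulAut.mul_apply, hbx, map_mul, hfix d hd, hbx, mul_assoc, ← sq, hd, mul_one]
  exact MulEquiv.ext fun x => key M x (hM x)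

/-- The range of a homomorphism on a subgroup in which a p-subgroup has index prime to p. -/
theorem exists_card_range {G H : Type*} [Group G] [Finite G] [Group H] {p a : ℕ} [hp : Fact p.Prime] (Nn : Subgroup G)
    (f : Nn →* H) (R : Subgroup Nn) (hR : ¬ p ∣ R.index) (ha : Nat.card (R.map f) = p ^ a) :
    ∃ d, ¬ p ∣ d ∧ Nat.card f.range = p ^ a * d := by
  refine ⟨(R.map f.rangeRestrict).index, fun h => hR (h.trans (R.index_map_dvd f.rangeRestrict_surjective)), ?_⟩
  rw [← ha, ← (R.map f.rangeRestrict).card_mul_index]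
  congr 1
  rw [Nat.card_congr (Subgroup.equivMapOfInjective (R.map f.rangeRestrict) f.range.subtype f.range.subtype_injective).toEquiv,
    Subgroup.map_map, MonoidHom.subtype_comp_rangeRestrict]

/-- A subgroup of automorphisms acting on four points with a 2-group kernel. -/
theorem dvd_three {A : Type*} [Group A] [Finite A] {Y : Type*} [Finite Y] (hY : Nat.card Y = 4)
    (ψ : A →* Equiv.Perm Y) (hker : IsPGroup 2 ψ.ker) (R : Subgroup A) {a d : ℕ} (hd : ¬ 2 ∣ d)
    (hR : Nat.card R = 2 ^ a * d) : d ∣ 3 := by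
  obtain ⟨k, hk⟩ := IsPGroup.iff_card.1 hker
  have h1 : Nat.card A = Nat.card ψ.range * 2 ^ k := by
    rw [← hk, ← ψ.ker.card_mul_index, Subgroup.index_ker, mul_comm]
  have h2 : Nat.card ψ.range ∣ 24 := by
    refine ψ.range.card_subgroup_dvd_card.trans ?_
    rw [Nat.card_perm, hY]; rfl
  have h3 : d ∣ 2 ^ (k + 3) * 3 := by
    refine (dvd_mul_left d (2 ^ a)).trans (hR ▸ R.card_subgroup_dvd_card.trans ?_)
    rw [h1, show 2 ^ (k + 3) * 3 = 24 * 2 ^ k by ring]
    exact Nat.mul_dvd_mul_right h2 _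
  exact (Nat.Coprime.pow_right _ (Nat.prime_two.coprime_iff_not_dvd.2 hd).symm).dvd_of_dvd_mul_left h3

/-- The index of a centralizer is the order of the automizer. -/
theorem card_range_normalizerMonoidHom {G : Type*} [Group G] (H : Subgroup G) :
    Nat.card H.normalizerMonoidHom.range =
      (Subgroup.centralizer (H : Set G)).relIndex (Subgroup.normalizer (H : Set G)) := by
  rw [← Subgroup.index_ker, Subgroup.normalizerMonoidHom_ker]
  rfl

/-- The index of `H C(H)` in the normalizer, from the automizer. -/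
theorem relIndex_mul_centralizer {G : Type*} [Group G] [Finite G] (H : Subgroup G) :
    Nat.card H.normalizerMonoidHom.range =
      Nat.card ((H.subgroupOf (Subgroup.normalizer (H : Set G))).map H.normalizerMonoidHom) *
        (H ⊔ Subgroup.centralizer (H : Set G)).relIndex (Subgroup.normalizer (H : Set G)) := by
  set f := H.normalizerMonoidHom
  set K := H.subgroupOf (Subgroup.normalizer (H : Set G))
  have h1 : (H ⊔ Subgroup.centralizer (H : Set G)).subgroupOf (Subgroup.normalizer (H : Set G)) = K ⊔ f.ker := by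
    rw [Subgroup.normalizerMonoidHom_ker, Subgroup.subgroupOf_sup Subgroup.le_normalizer (centralizer_le_normalizer' H)]
  rw [Subgroup.relIndex, h1]
  have h2 := (K.map f.rangeRestrict).card_mul_index
  rw [← h2, Subgroup.index_map, MonoidHom.range_eq_top.2 f.rangeRestrict_surjective, Subgroup.index_top, mul_one]
  · congr 1
    · rw [Nat.card_congr (Subgroup.equivMapOfInjective (K.map f.rangeRestrict) f.range.subtype f.range.subtype_injective).toEquiv,
        Subgroup.map_map, MonoidHom.subtype_comp_rangeRestrict]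
    · rw [MonoidHom.ker_rangeRestrict]

/-- Invariance of both indices under conjugation. -/
theorem relIndex_conj {G : Type*} [Group G] (H : Subgroup G) (g : G) :
    (Subgroup.centralizer ((H.map (MulAut.conj g).toMonoidHom : Subgroup G) : Set G)).relIndex
        (Subgroup.normalizer ((H.map (MulAut.conj g).toMonoidHom : Subgroup G) : Set G)) =
      (Subgroup.centralizer (H : Set G)).relIndex (Subgroup.normalizer (H : Set G)) ∧
    (H.map (MulAut.conj g).toMonoidHom ⊔ Subgroup.centralizer ((H.map (MulAut.conj g).toMonoidHom : Subgroup G) : Set G)).relIndex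
        (Subgroup.normalizer ((H.map (MulAut.conj g).toMonoidHom : Subgroup G) : Set G)) =
      (H ⊔ Subgroup.centralizer (H : Set G)).relIndex (Subgroup.normalizer (H : Set G)) := by
  have hC : Subgroup.centralizer ((H.map (MulAut.conj g).toMonoidHom : Subgroup G) : Set G) =
      (Subgroup.centralizer (H : Set G)).map (MulAut.conj g).toMonoidHom := by
    refine le_antisymm (fun c hc => ?_) ?_
    · refine ⟨(MulAut.conj g).symm c, fun h hh => ?_, (MulAut.conj g).apply_symm_apply c⟩
      apply (MulAut.conj g).injective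
      rw [map_mul, map_mul, MulEquiv.apply_symm_apply]
      exact hc _ ⟨h, hh, rfl⟩
    · rintro _ ⟨c, hc, rfl⟩ _ ⟨h, hh, rfl⟩
      show (MulAut.conj g).toMonoidHom h * _ = _
      rw [← map_mul, hc h hh, map_mul]
  rw [hC, ← Subgroup.map_equiv_normalizer_eq H (MulAut.conj g), ← Subgroup.map_sup,
    Subgroup.relIndex_map_map_of_injective _ _ (MulAut.conj g).injective,
    Subgroup.relIndex_map_map_of_injective _ _ (MulAut.conj g).injective]
  exact ⟨rfl, rfl⟩

end Abstract

variable {n : ℕ}

local notation "N" => 2 ^ n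

theorem isKleinFour_sq {H : Subgroup (W N)} (h : IsKleinFour H) {u : W N} (hu : u ∈ H) : u ^ 2 = 1 := by
  simpa [h.exponent_two] using congrArg Subtype.val (Monoid.pow_exponent_eq_one (⟨u, hu⟩ : H))

theorem centralizer_base (hn : 2 ≤ n) : Subgroup.centralizer (base N : Set (W N)) ≤ base N := fun v hv => by
  have : Fact (1 < N) := ⟨one_lt_N hn⟩
  obtain ⟨a, b, _ | _⟩ := v
  · rfl
  · exfalso
    have h1 := ((commute_iff _ _).1 (hv (⟨1, 0, false⟩ : W N) rfl)).1
    simp at h1

theorem centralizer_thin (hn : 2 ≤ n) : Subgroup.centralizer (thin n : Set (W N)) ≤ Subgroup.center (W N) := fun v hv => by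
  have : Fact (1 < N) := ⟨one_lt_N hn⟩
  have h1 := hv (⟨half n, 0, false⟩ : W N) (by rw [SetLike.mem_coe, mem_thin]; simpa using half_add_half hn)
  have h2 := hv (⟨0, 0, true⟩ : W N) (by rw [SetLike.mem_coe, mem_thin]; simp)
  obtain ⟨a, b, _ | _⟩ := v
  · exact mem_center.2 ⟨rfl, by simpa using (((commute_iff _ _).1 h2).1).symm⟩
  · exfalso
    exact half_ne_zero hn (by simpa using ((commute_iff _ _).1 h1).1)

/-- Quaternion generators lie in a conjugate of the exception. -/
theorem conj_thin_of_relations (hn : 2 ≤ n) {v w : W N} (hw : w ^ 4 = 1) (hw2 : w ^ 2 ≠ 1) (hv : v ^ 2 = w ^ 2)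
    (hrel : w * v = v * w⁻¹) (he : w.e = false) :
    ∃ s : W N, w ∈ (thin n).map (MulAut.conj s).toMonoidHom ∧ v ∈ (thin n).map (MulAut.conj s).toMonoidHom := by
  obtain ⟨p, q, e⟩ := w
  obtain rfl : e = false := he
  obtain ⟨a, b, _ | _⟩ := v
  · refine absurd ?_ hw2
    rw [base_comm (u := (⟨p, q, false⟩ : W N)) rfl (show (⟨a, b, false⟩ : W N) ∈ base N from rfl)] at hrel
    rw [sq (⟨p, q, false⟩ : W N)]; exact mul_eq_one_iff_eq_inv.2 (mul_left_cancel hrel)
  simp at hrel
  have hpq : q = -p := by linear_combination hrel.1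
  subst hpq
  rw [show (4 : ℕ) = 2 * 2 from rfl, pow_mul, sq (⟨p, -p, false⟩ : W N), sq] at hw
  simp only [mk_false_mul, one_def, W.mk.injEq, and_true] at hw
  rw [sq (⟨p, -p, false⟩ : W N)] at hw2
  have hp2 : p + p = half n := by
    rcases (two_mul_eq_zero_iff (by omega : 1 ≤ n) _).1 hw.1 with h | h
    · exact absurd (by simp [one_def, h]; linear_combination -h) hw2
    · exact h
  rw [mk_true_sq, sq (⟨p, -p, false⟩ : W N)] at hv
  simp only [mk_false_mul, W.mk.injEq, and_true] at hv
  have hh := half_add_half hn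
  refine ⟨⟨quarter n - b, 0, false⟩, ?_, ?_⟩ <;>
    rw [Subgroup.mem_map_equiv, MulAut.conj_symm_apply,
      show (⟨quarter n - b, 0, false⟩ : W N)⁻¹ = ⟨b - quarter n, 0, false⟩ by simp,
      show (⟨quarter n - b, 0, false⟩ : W N) = (⟨b - quarter n, 0, false⟩ : W N)⁻¹ by simp, conj_mk_false, mem_thin] <;>
    simp only [cond_true, cond_false]
  · linear_combination 2 * hp2 + hh
  · linear_combination 2 * hv.1 + 2 * hp2 - 2 * quarter_add_quarter hn

/-- A quaternion subgroup of order eight lies in a conjugate of the exception. -/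
theorem exists_conj_thin (hn : 2 ≤ n) (θ : QuaternionGroup 2 →* W N) (hθ : Function.Injective θ) :
    ∃ s : W N, θ.range ⊔ Subgroup.center (W N) = (thin n).map (MulAut.conj s).toMonoidHom := by
  have : NeZero N := ⟨by positivity⟩
  have key : ∀ x y : QuaternionGroup 2, x ^ 4 = 1 → x ^ 2 ≠ 1 → y ^ 2 = x ^ 2 → x * y = y * x⁻¹ →
      Subgroup.closure {x, y} = ⊤ → (θ x).e = false →
      ∃ s : W N, θ.range ⊔ Subgroup.center (W N) ≤ (thin n).map (MulAut.conj s).toMonoidHom := by
    intro x y h1 h2 h3 h4 h5 h6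
    obtain ⟨s, hs1, hs2⟩ := conj_thin_of_relations hn (v := θ y) (w := θ x) (by rw [← map_pow, h1, map_one])
      (fun h => h2 (hθ (by rwa [map_pow, map_one]))) (by rw [← map_pow, h3, map_pow])
      (by rw [← map_mul, h4, map_mul, map_inv]) h6
    refine ⟨s, sup_le ?_ fun u hu => ?_⟩
    · rw [MonoidHom.range_eq_map, ← h5, MonoidHom.map_closure, Subgroup.closure_le]
      rintro _ ⟨z, rfl | rfl, rfl⟩
      · exact hs1
      · exact hs2
    · have : Fact (1 < N) := ⟨one_lt_N hn⟩
      refine ⟨u, by rw [SetLike.mem_coe, mem_thin, (mem_center.1 hu).2]; simp, ?_⟩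
      show s * u * s⁻¹ = u
      rw [Subgroup.mem_center_iff.1 hu s, mul_inv_cancel_right]
  have hgen : ∀ x y : QuaternionGroup 2, ∀ z, z ∈ Submonoid.closure ({x, y} : Set (QuaternionGroup 2)) →
      z ∈ Subgroup.closure ({x, y} : Set (QuaternionGroup 2)) :=
    fun x y z hz => (Submonoid.closure_le (S := (Subgroup.closure _).toSubmonoid)).2 Subgroup.subset_closure hz
  have htop : ∀ x y : QuaternionGroup 2, (∀ z, ∃ i j : Fin 4, x ^ (i : ℕ) * y ^ (j : ℕ) = z) → Subgroup.closure {x, y} = ⊤ :=
    fun x y h => eq_top_iff.2 fun z _ => by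
      obtain ⟨i, j, rfl⟩ := h z
      exact mul_mem (pow_mem (Subgroup.subset_closure (by simp)) _) (pow_mem (Subgroup.subset_closure (by simp)) _)
  obtain ⟨s, hs⟩ : ∃ s : W N, θ.range ⊔ Subgroup.center (W N) ≤ (thin n).map (MulAut.conj s).toMonoidHom := by
    rcases h : (θ (.a 1)).e with _ | _
    · exact key (.a 1) (.xa 0) (by decide) (by decide) (by decide) (by decide) (htop _ _ (by decide)) h
    rcases h' : (θ (.xa 0)).e with _ | _
    · exact key (.xa 0) (.a 1) (by decide) (by decide) (by decide) (by decide) (htop _ _ (by decide)) h'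
    refine key (.xa 1) (.a 1) (by decide) (by decide) (by decide) (by decide) (htop _ _ (by decide)) ?_
    rw [show (QuaternionGroup.xa 1 : QuaternionGroup 2) = .xa 0 * .a 1 from by decide, map_mul, e_mul, h, h']
    rfl
  refine ⟨s, Subgroup.eq_of_le_of_card_ge hs ?_⟩
  rw [Subgroup.card_map_of_injective (MulAut.conj s).injective, card_thin hn]
  have hF : Fact (1 < N) := ⟨one_lt_N hn⟩
  have hc : Nat.card (Subgroup.center (W N)) = N := by
    rw [center_eq hn, ← Nat.card_congr (MonoidHom.ofInjective (f := diagHom n)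
      (fun u v h => Multiplicative.toAdd.injective (congrArg W.a h))).toEquiv, Nat.card_congr Multiplicative.toAdd, Nat.card_zmod]
  have hq : Nat.card θ.range = 8 := by
    rw [← Nat.card_congr (MonoidHom.ofInjective hθ).toEquiv, Nat.card_eq_fintype_card, QuaternionGroup.card]
  have hint : Nat.card (θ.range ⊓ Subgroup.center (W N) : Subgroup (W N)) ≤ 2 := by
    have hle : θ.range ⊓ Subgroup.center (W N) ≤ (Subgroup.center (QuaternionGroup 2)).map θ := by
      rintro _ ⟨⟨x, rfl⟩, hx⟩
      exact ⟨x, Subgroup.mem_center_iff.2 fun y => hθ (by rw [map_mul, map_mul]; exact Subgroup.mem_center_iff.1 hx _), rfl⟩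
    refine (Nat.le_of_dvd Nat.card_pos (Subgroup.card_dvd_of_le hle)).trans ?_
    rw [Subgroup.card_map_of_injective hθ]
    have hz : ∀ x : QuaternionGroup 2, (∀ y, y * x = x * y) → x = 1 ∨ x = .a 2 := by decide
    refine le_trans (Nat.card_le_card_of_surjective (fun b : Bool => (if b then ⟨.a 2, ?_⟩ else 1 : Subgroup.center (QuaternionGroup 2))) ?_) (by simp)
    · exact Subgroup.mem_center_iff.2 (by decide)
    · rintro ⟨x, hx⟩
      rcases hz x (Subgroup.mem_center_iff.1 hx) with rfl | rfl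
      · exact ⟨false, rfl⟩
      · exact ⟨true, rfl⟩
  have h := Subgroup.relIndex_sup_right θ.range (Subgroup.center (W N))
  have h1 := Subgroup.card_mul_index ((Subgroup.center (W N)).subgroupOf (θ.range ⊔ Subgroup.center (W N)))
  rw [Nat.card_congr (Subgroup.subgroupOfEquivOfLe le_sup_right).toEquiv, hc] at h1
  rw [Subgroup.relIndex] at h
  rw [h] at h1
  have h2 := Subgroup.card_mul_index ((Subgroup.center (W N)).subgroupOf θ.range)
  rw [hq] at h2
  have h3 : Nat.card ((Subgroup.center (W N)).subgroupOf θ.range) ≤ 2 := by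
    rw [show (Subgroup.center (W N)).subgroupOf θ.range = (θ.range ⊓ Subgroup.center (W N)).subgroupOf θ.range by
      ext x; simp [Subgroup.mem_subgroupOf], Nat.card_congr (Subgroup.subgroupOfEquivOfLe inf_le_left).toEquiv]
    exact hint
  rw [← h1]
  change _ ≤ N * ((Subgroup.center (W N)).subgroupOf θ.range).index
  have h4 : 4 ≤ ((Subgroup.center (W N)).subgroupOf θ.range).index := by
    by_contra h4
    have := Nat.mul_le_mul h3 (Nat.le_of_lt_succ (not_le.1 h4) : ((Subgroup.center (W N)).subgroupOf θ.range).index ≤ 3)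
    omega
  calc 4 * N = N * 4 := mul_comm _ _
    _ ≤ _ := Nat.mul_le_mul_left _ h4

/-- The data of a group with wreathed Sylow 2-subgroup. -/
structure Setup (G : Type*) [Group G] (n : ℕ) where
  S : Sylow 2 G
  hn : 2 ≤ n
  φ : W (2 ^ n) ≃* (S : Subgroup G)

namespace Setup

variable {G : Type*} [Group G] (D : Setup G n)

/-- The embedding of the model. -/
def ι : W N →* G := (D.S : Subgroup G).subtype.comp D.φ.toMonoidHom

theorem ι_injective : Function.Injective D.ι := (D.S : Subgroup G).subtype_injective.comp D.φ.injective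

theorem ι_mem (u : W N) : D.ι u ∈ (D.S : Subgroup G) := (D.φ u).2

theorem exists_ι {x : G} (hx : x ∈ (D.S : Subgroup G)) : ∃ u, D.ι u = x :=
  ⟨D.φ.symm ⟨x, hx⟩, congrArg Subtype.val (D.φ.apply_symm_apply _)⟩

theorem range_ι : D.ι.range = (D.S : Subgroup G) :=
  le_antisymm (by rintro _ ⟨u, rfl⟩; exact D.ι_mem u) fun _ hx => D.exists_ι hx

theorem map_comap {X : Subgroup G} (hX : X ≤ (D.S : Subgroup G)) : (X.comap D.ι).map D.ι = X := by
  rw [Subgroup.map_comap_eq, D.range_ι, inf_eq_right.2 hX]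

theorem map_conj (X : Subgroup (W N)) (s : W N) :
    (X.map (MulAut.conj s).toMonoidHom).map D.ι = (X.map D.ι).map (MulAut.conj (D.ι s)).toMonoidHom := by
  rw [Subgroup.map_map, Subgroup.map_map]
  congr 1; ext x; simp

/-- The base. -/
def B : Subgroup G := (base N).map D.ι

/-- The exception. -/
def T : Subgroup G := (thin n).map D.ι

/-- The centre of the Sylow subgroup. -/
def Z : Subgroup G := (Subgroup.center (W N)).map D.ι

theorem center_S : (Subgroup.center (D.S : Subgroup G)).map (D.S : Subgroup G).subtype = D.Z := by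
  refine le_antisymm ?_ ?_
  · rintro _ ⟨x, hx, rfl⟩
    exact ⟨D.φ.symm x, Subgroup.mem_center_iff.2 fun w => D.φ.injective (by
      rw [map_mul, map_mul, MulEquiv.apply_symm_apply]; exact Subgroup.mem_center_iff.1 hx _),
      congrArg Subtype.val (D.φ.apply_symm_apply _)⟩
  · rintro _ ⟨u, hu, rfl⟩
    refine ⟨D.φ u, Subgroup.mem_center_iff.2 fun w => ?_, rfl⟩
    rw [← D.φ.apply_symm_apply w, ← map_mul, ← map_mul, Subgroup.mem_center_iff.1 hu]

theorem eq_B {U : Subgroup G} (hU : U ≤ (D.S : Subgroup G)) (hab : IsMulCommutative U) (hc : Nat.card U = 2 ^ (2 * n)) :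
    U = D.B := by
  conv_lhs => rw [← D.map_comap hU]
  rw [abelian_unique D.hn (U.comap D.ι) ⟨⟨fun u v => Subtype.ext (D.ι_injective (by
    rw [Subgroup.coe_mul, Subgroup.coe_mul, map_mul, map_mul]
    exact congrArg Subtype.val (hab.is_comm.comm (⟨_, u.2⟩ : U) ⟨_, v.2⟩)))⟩⟩ (by
      rw [← hc]; conv_rhs => rw [← D.map_comap hU]
      rw [Subgroup.card_map_of_injective D.ι_injective])]
  rfl

theorem exists_conj_T {Q : Subgroup G} (hQ : Q ≤ (D.S : Subgroup G)) (e : Q ≃* QuaternionGroup 2) :
    ∃ g ∈ (D.S : Subgroup G), Q ⊔ D.Z = D.T.map (MulAut.conj g).toMonoidHom := by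
  let θ : QuaternionGroup 2 →* W N :=
    D.φ.symm.toMonoidHom.comp ((Subgroup.inclusion hQ).comp e.symm.toMonoidHom)
  have hθ : Function.Injective θ := D.φ.symm.injective.comp ((Subgroup.inclusion_injective hQ).comp e.symm.injective)
  obtain ⟨s, hs⟩ := exists_conj_thin D.hn θ hθ
  refine ⟨D.ι s, D.ι_mem s, ?_⟩
  rw [T, ← D.map_conj, ← hs, Subgroup.map_sup]
  congr 1
  rw [← MonoidHom.range_comp]
  refine le_antisymm (fun q hq => ⟨e ⟨q, hq⟩, by simp [θ, ι]⟩) ?_
  rintro _ ⟨x, rfl⟩
  simp [θ, ι]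

/-- A conjugate of the exception inside the Sylow subgroup is a conjugate by an element of it. -/
theorem conj_T_in_S [Finite G] {g : G} (h : D.T.map (MulAut.conj g).toMonoidHom ≤ (D.S : Subgroup G)) :
    ∃ a ∈ (D.S : Subgroup G), D.T.map (MulAut.conj g).toMonoidHom = D.T.map (MulAut.conj a).toMonoidHom := by
  obtain ⟨θ, hθ, heq, x, hx, y, hy, hxy⟩ := exists_quaternion_thin (n := n) D.hn
  let f : QuaternionGroup 2 →* G := (MulAut.conj g).toMonoidHom.comp (D.ι.comp θ)
  have hf : Function.Injective f := (MulAut.conj g).injective.comp (D.ι_injective.comp hθ)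
  have himg : D.T.map (MulAut.conj g).toMonoidHom = f.range ⊔ D.Z.map (MulAut.conj g).toMonoidHom := by
    rw [T, heq, Subgroup.map_sup, Subgroup.map_sup, ← MonoidHom.range_comp, ← MonoidHom.range_comp]
    rfl
  have hZ : D.Z.map (MulAut.conj g).toMonoidHom = D.Z := by
    refine Subgroup.eq_of_le_of_card_ge ?_ (by rw [Subgroup.card_map_of_injective (MulAut.conj g).injective])
    rintro _ ⟨_, ⟨z, hz, rfl⟩, rfl⟩
    obtain ⟨u, hu⟩ := D.exists_ι (h (himg ▸ Subgroup.mem_sup_right ⟨_, ⟨z, hz, rfl⟩, rfl⟩ :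
      (MulAut.conj g).toMonoidHom (D.ι z) ∈ D.T.map (MulAut.conj g).toMonoidHom))
    refine ⟨u, ?_, hu⟩
    by_contra huc
    obtain ⟨x', hx'⟩ := D.exists_ι (h ⟨_, ⟨x, hx, rfl⟩, rfl⟩)
    obtain ⟨y', hy'⟩ := D.exists_ι (h ⟨_, ⟨y, hy, rfl⟩, rfl⟩)
    refine hxy (D.ι_injective ((MulAut.conj g).injective ?_))
    rw [map_mul, map_mul, map_mul, map_mul]
    show (MulAut.conj g).toMonoidHom (D.ι x) * (MulAut.conj g).toMonoidHom (D.ι y) = (MulAut.conj g).toMonoidHom (D.ι y) * (MulAut.conj g).toMonoidHom (D.ι x)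
    rw [← hx', ← hy', ← map_mul, ← map_mul]
    refine congrArg _ (commute_of_centralize D.hn huc (D.ι_injective ?_) (D.ι_injective ?_))
    · rw [map_mul, map_mul, hu, hx', ← map_mul, ← map_mul, ← map_mul, ← map_mul, Subgroup.mem_center_iff.1 hz x]
    · rw [map_mul, map_mul, hu, hy', ← map_mul, ← map_mul, ← map_mul, ← map_mul, Subgroup.mem_center_iff.1 hz y]
  rw [himg, hZ] at h ⊢
  exact D.exists_conj_T (le_sup_left.trans h) (MonoidHom.ofInjective hf).symm

variable [Finite G]

theorem normalizer_S_B : (D.S : Subgroup G) ≤ Subgroup.normalizer (D.B : Set G) := fun x hx => by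
  obtain ⟨s, rfl⟩ := D.exists_ι hx
  refine Subgroup.mem_normalizer_fintype fun y hy => ?_
  obtain ⟨u, hu, rfl⟩ := hy
  exact ⟨s * u * s⁻¹, Subgroup.Normal.conj_mem inferInstance u hu s, by simp⟩

/-- The action on the involutions of the base. -/
theorem exists_action_base (hn : 2 ≤ n) : ∃ ψ : MulAut (base N) →* Equiv.Perm {x : base N // x ^ 2 = 1},
    IsPGroup 2 ψ.ker ∧ Nat.card {x : base N // x ^ 2 = 1} = 4 := by
  letI : MulAction (MulAut (base N)) {x : base N // x ^ 2 = 1} :=
    { smul := fun α x => ⟨α x.1, by rw [← map_pow, x.2, map_one]⟩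
      one_smul := fun _ => rfl
      mul_smul := fun _ _ _ => rfl }
  refine ⟨MulAction.toPermHom _ _, fun α => ?_, ?_⟩
  · obtain ⟨M, hM⟩ : ∃ M, Nat.card (base N) = 2 ^ M := ⟨_, card_base n⟩
    refine ⟨M, Subtype.ext (pow_fix_of_fix_involutions ⟨⟨fun u v => Subtype.ext (base_comm u.2 v.2)⟩⟩
      (fun x => hM ▸ pow_card_eq_one') α fun x hx => congrArg Subtype.val (Equiv.Perm.ext_iff.1 (MonoidHom.mem_ker.1 α.2) ⟨x, hx⟩))⟩
  · have e : {x : base N // x ^ 2 = 1} ≃ four n :=
      { toFun := fun x => ⟨x.1.1, by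
          obtain ⟨⟨⟨a, b, e⟩, he⟩, hx⟩ := x
          obtain rfl : e = false := he
          have h := congrArg Subtype.val hx
          simp only [SubmonoidClass.coe_pow, pow_mk_false, Subgroup.coe_one, one_def, W.mk.injEq, and_true] at h
          push_cast at h
          exact ⟨rfl, by linear_combination h.1, by linear_combination h.2⟩⟩
        invFun := fun u => ⟨⟨u.1, u.2.1⟩, Subtype.ext (isKleinFour_sq (isKleinFour_four hn) u.2)⟩
        left_inv := fun _ => rfl
        right_inv := fun _ => rfl }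
    rw [Nat.card_congr e, (isKleinFour_four hn).card_four]

theorem card_center (hn : 2 ≤ n) : Nat.card (Subgroup.center (W N)) = N := by
  rw [center_eq hn, ← Nat.card_congr (MonoidHom.ofInjective (f := diagHom n)
    (fun u v h => Multiplicative.toAdd.injective (congrArg W.a h))).toEquiv, Nat.card_congr Multiplicative.toAdd, Nat.card_zmod]

/-- The action on the cosets of the centre of the exception. -/
theorem exists_action_thin (hn : 2 ≤ n) : ∃ ψ : MulAut (thin n) →* Equiv.Perm (thin n ⧸ Subgroup.center (thin n)),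
    IsPGroup 2 ψ.ker ∧ Nat.card (thin n ⧸ Subgroup.center (thin n)) = 4 := by
  have hF : Fact (1 < N) := ⟨one_lt_N hn⟩
  have : NeZero N := ⟨by positivity⟩
  set Z := Subgroup.center (thin n) with hZdef
  have hcz : Z = (Subgroup.center (W N)).subgroupOf (thin n) := by
    ext u
    refine ⟨fun hu => centralizer_thin hn fun v hv => congrArg Subtype.val (Subgroup.mem_center_iff.1 hu ⟨v, hv⟩), fun hu => ?_⟩
    exact Subgroup.mem_center_iff.2 fun v => Subtype.ext (Subgroup.mem_center_iff.1 (Subgroup.mem_subgroupOf.1 hu) _)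
  have hle : Subgroup.center (W N) ≤ thin n := fun u hu => by rw [mem_thin, (mem_center.1 hu).2]; simp
  have hmap : ∀ α : MulAut (thin n), Z ≤ Z.comap α.toMonoidHom := fun α x hx => Subgroup.mem_center_iff.2 fun y => by
    rw [← α.apply_symm_apply y]
    show α _ * α x = α x * α _
    rw [← map_mul, ← map_mul, Subgroup.mem_center_iff.1 hx]
  letI : MulAction (MulAut (thin n)) (thin n ⧸ Z) :=
    { smul := fun α q => QuotientGroup.map Z Z α.toMonoidHom (hmap α) q
      one_smul := fun q => QuotientGroup.induction_on q fun _ => rfl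
      mul_smul := fun _ _ q => QuotientGroup.induction_on q fun _ => rfl }
  refine ⟨MulAction.toPermHom _ _, fun α => ?_, ?_⟩
  · obtain ⟨M, hM⟩ : ∃ M, Nat.card (thin n) = 2 ^ M := ⟨2 + n, by rw [card_thin hn, pow_add]; norm_num⟩
    have hmem : ∀ x, x⁻¹ * α.1 x ∈ Z := fun x =>
      QuotientGroup.eq.1 (Equiv.Perm.ext_iff.1 (MonoidHom.mem_ker.1 α.2) (x : thin n ⧸ Z)).symm
    let z : thin n := ⟨⟨1, 1, false⟩, hle (mem_center.2 ⟨rfl, rfl⟩)⟩
    have hz : Z = Subgroup.zpowers z := by
      refine le_antisymm (fun x hx => ?_) ((Subgroup.zpowers_le).2 (by rw [hcz]; exact mem_center.2 ⟨rfl, rfl⟩))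
      rw [hcz, Subgroup.mem_subgroupOf, mem_center] at hx
      obtain ⟨⟨c, d, e⟩, hxT⟩ := x
      obtain ⟨rfl, rfl⟩ : e = false ∧ c = d := hx
      rw [show (⟨⟨c, c, false⟩, hxT⟩ : thin n) = z ^ c.val from Subtype.ext (by simp [z, pow_mk_false])]
      exact Subgroup.npow_mem_zpowers _ _
    -- restrict to the centre, whose automorphism group is a 2-group
    have : IsCyclic Z := hz ▸ inferInstance
    have hZc : Nat.card Z = N := by
      rw [hcz, Nat.card_congr (Subgroup.subgroupOfEquivOfLe hle).toEquiv, card_center hn]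
    have hAutZ : IsPGroup 2 (MulAut Z) := IsPGroup.of_card (n := n - 1) (by
      rw [IsCyclic.card_mulAut, hZc, Nat.totient_prime_pow Nat.prime_two (by omega)]; simp)
    let ρ : MulAut (thin n) →* MulAut Z :=
      { toFun := fun β => MulEquiv.mk' { toFun := fun x => ⟨β x, hmap β x.2⟩
                                         invFun := fun x => ⟨β.symm x, hmap β.symm x.2⟩
                                         left_inv := fun x => Subtype.ext (β.symm_apply_apply _)
                                         right_inv := fun x => Subtype.ext (β.apply_symm_apply _) }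
          fun x y => Subtype.ext (map_mul β _ _)
        map_one' := rfl
        map_mul' := fun _ _ => rfl }
    obtain ⟨k, hk⟩ := hAutZ (ρ α.1)
    rw [← map_pow] at hk
    refine ⟨k + M, Subtype.ext (MulEquiv.ext fun x => ?_)⟩
    rw [SubmonoidClass.coe_pow, pow_add, pow_mul]
    refine (pow_fix hM (α.1 ^ 2 ^ k) Z (fun c hc => congrArg Subtype.val (MulEquiv.ext_iff.1 hk ⟨c, hc⟩)) ?_).trans rfl
    have : ∀ i : ℕ, x⁻¹ * (α.1 ^ i) x ∈ Z := fun i => by
      induction i with
      | zero => simp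
      | succ i ih =>
        rw [pow_succ' α.1, MulAut.mul_apply, show x⁻¹ * α.1 ((α.1 ^ i) x) = (x⁻¹ * (α.1 ^ i) x) * (((α.1 ^ i) x)⁻¹ * α.1 ((α.1 ^ i) x)) by group]
        exact mul_mem ih (hmem _)
    exact this _
  · have h := Subgroup.card_mul_index Z
    rw [card_thin hn, hcz, Nat.card_congr (Subgroup.subgroupOfEquivOfLe hle).toEquiv, card_center hn] at h
    show Z.index = 4
    rw [hcz]
    exact Nat.eq_of_mul_eq_mul_left (by positivity) (h.trans (mul_comm _ _))

theorem map_subgroupOf_range {H X : Subgroup G} (hX : X ≤ Subgroup.normalizer (H : Set G)) :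
    Nat.card ((X.subgroupOf (Subgroup.normalizer (H : Set G))).map H.normalizerMonoidHom) =
      (Subgroup.centralizer (H : Set G)).relIndex X := by
  set g := H.normalizerMonoidHom.comp (Subgroup.inclusion hX)
  have h1 : (X.subgroupOf (Subgroup.normalizer (H : Set G))).map H.normalizerMonoidHom = g.range := by
    ext α
    exact ⟨fun ⟨⟨x, hN⟩, hx, e⟩ => ⟨⟨x, hx⟩, e⟩, fun ⟨⟨x, hx⟩, e⟩ => ⟨⟨x, hX hx⟩, hx, e⟩⟩
  rw [h1, ← Subgroup.index_ker, ← MonoidHom.comap_ker, Subgroup.normalizerMonoidHom_ker]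
  rfl

theorem B_le : D.B ≤ (D.S : Subgroup G) := by rintro _ ⟨u, -, rfl⟩; exact D.ι_mem u

theorem T_le : D.T ≤ (D.S : Subgroup G) := by rintro _ ⟨u, -, rfl⟩; exact D.ι_mem u

omit [Finite G] in
theorem inf_centralizer (X : Subgroup (W N)) :
    (D.S : Subgroup G) ⊓ Subgroup.centralizer ((X.map D.ι : Subgroup G) : Set G) =
      (Subgroup.centralizer (X : Set (W N))).map D.ι := by
  refine le_antisymm ?_ ?_
  · rintro c ⟨hcS, hc⟩
    obtain ⟨u, rfl⟩ := D.exists_ι hcS
    exact ⟨u, fun x hx => D.ι_injective (by rw [map_mul, map_mul]; exact hc _ ⟨x, hx, rfl⟩), rfl⟩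
  · rintro _ ⟨u, hu, rfl⟩
    refine ⟨D.ι_mem u, ?_⟩
    rintro _ ⟨x, hx, rfl⟩
    rw [← map_mul, ← map_mul, hu x hx]

theorem inf_centralizer_B : (D.S : Subgroup G) ⊓ Subgroup.centralizer (D.B : Set G) = D.B := by
  rw [B, D.inf_centralizer]
  congr 1
  exact le_antisymm (centralizer_base D.hn) fun u hu x hx => base_comm hx hu

theorem inf_centralizer_T : (D.S : Subgroup G) ⊓ Subgroup.centralizer (D.T : Set G) = D.Z := by
  rw [T, D.inf_centralizer]
  congr 1
  exact le_antisymm (centralizer_thin D.hn) (Subgroup.center_le_centralizer _)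

theorem inf_normalizer_T : (D.S : Subgroup G) ⊓ Subgroup.normalizer (D.T : Set G) =
    (Subgroup.normalizer (thin n : Set (W N))).map D.ι := by
  refine le_antisymm ?_ ?_
  · rintro c ⟨hcS, hc⟩
    obtain ⟨u, rfl⟩ := D.exists_ι hcS
    refine ⟨u, Subgroup.mem_normalizer_iff.2 fun x => ?_, rfl⟩
    rw [← Subgroup.mem_map_iff_mem D.ι_injective, ← Subgroup.mem_map_iff_mem D.ι_injective (x := u * x * u⁻¹),
      map_mul, map_mul, map_inv]
    exact Subgroup.mem_normalizer_iff.1 hc _
  · rintro _ ⟨u, hu, rfl⟩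
    refine ⟨D.ι_mem u, Subgroup.mem_normalizer_fintype ?_⟩
    rintro _ ⟨x, hx, rfl⟩
    exact ⟨u * x * u⁻¹, (Subgroup.mem_normalizer_iff.1 hu x).1 hx, by simp⟩

/-- The normalizer in the Sylow subgroup is a Sylow subgroup of the normalizer of the exception. -/
theorem isMaxP_normalizer_T :
    IsMaxP 2 (normalizerIn (D.S : Subgroup G) D.T) (Subgroup.normalizer (D.T : Set G)) := by
  refine (fullyNormalized_group_iff D.S D.T_le).1 ⟨D.T_le, fun R hR => ?_⟩
  obtain ⟨-, hRS, g, rfl⟩ := isConj_groupFusionSystem.1 hR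
  obtain ⟨a, ha, he⟩ := D.conj_T_in_S hRS
  rw [he, ← card_map_conj a⁻¹]
  refine Nat.card_le_card_of_injective (Subgroup.inclusion ?_) (Subgroup.inclusion_injective _)
  rintro _ ⟨y, ⟨hyS, hyN⟩, rfl⟩
  refine ⟨?_, ?_⟩
  · show a⁻¹ * y * a⁻¹⁻¹ ∈ (D.S : Subgroup G)
    exact mul_mem (mul_mem (inv_mem ha) hyS) (inv_mem (inv_mem ha))
  · have := map_conj_normalizer_le a⁻¹ (D.T.map (MulAut.conj a).toMonoidHom) ⟨y, hyN, rfl⟩
    rwa [map_conj_mul, inv_mul_cancel, map_one, show (D.T.map (1 : MulAut G).toMonoidHom) = D.T from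
      Subgroup.ext fun x => by simp] at this

theorem card_Z : Nat.card D.Z = N := by rw [Z, Subgroup.card_map_of_injective D.ι_injective, card_center D.hn]

/-- The automizer of the base. -/
theorem automizer_B : ∃ d, (d = 1 ∨ d = 3) ∧
    (Subgroup.centralizer (D.B : Set G)).relIndex (Subgroup.normalizer (D.B : Set G)) = 2 * d ∧
    Nat.card D.B.normalizerMonoidHom.range = 2 * d := by
  set R := (D.S : Subgroup G).subgroupOf (Subgroup.normalizer (D.B : Set G)) with hRdef
  have hR : ¬ 2 ∣ R.index := fun h => D.S.not_dvd_index (h.trans (Subgroup.relIndex_dvd_index_of_le D.normalizer_S_B))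
  have hc : Nat.card (R.map D.B.normalizerMonoidHom) = 2 ^ 1 := by
    rw [hRdef, map_subgroupOf_range D.normalizer_S_B, ← Subgroup.inf_relIndex_left, D.inf_centralizer_B, B, ← D.range_ι,
      MonoidHom.range_eq_map, Subgroup.relIndex_map_map_of_injective _ _ D.ι_injective, Subgroup.relIndex_top_right]
    have h := (base N).card_mul_index
    have : NeZero N := ⟨by positivity⟩
    rw [card_base, card_eq, two_mul, pow_add] at h
    exact Nat.eq_of_mul_eq_mul_left (by positivity) h
  obtain ⟨d, hd, hcard⟩ := exists_card_range _ D.B.normalizerMonoidHom R hR hc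
  obtain ⟨ψ₀, hker₀, hY⟩ := exists_action_base D.hn
  let e : MulAut D.B ≃* MulAut (base N) := MulAut.congr ((base N).equivMapOfInjective D.ι D.ι_injective).symm
  have hd3 := dvd_three hY (ψ₀.comp e.toMonoidHom)
    (fun α => by
      obtain ⟨k, hk⟩ := hker₀ ⟨e α.1, α.2⟩
      exact ⟨k, Subtype.ext (e.injective (by rw [SubmonoidClass.coe_pow, map_pow, Subgroup.coe_one, map_one]; exact congrArg Subtype.val hk))⟩)
    D.B.normalizerMonoidHom.range hd hcard
  refine ⟨d, (Nat.dvd_prime Nat.prime_three).1 hd3, ?_, by rw [hcard, pow_one]⟩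
  rw [← card_range_normalizerMonoidHom, hcard, pow_one]

/-- The automizer of the exception. -/
theorem automizer_T : ∃ d, (d = 1 ∨ d = 3) ∧
    (D.T ⊔ Subgroup.centralizer (D.T : Set G)).relIndex (Subgroup.normalizer (D.T : Set G)) = 2 * d ∧
    Nat.card D.T.normalizerMonoidHom.range = 8 * d := by
  have hN : normalizerIn (D.S : Subgroup G) D.T ≤ Subgroup.normalizer (D.T : Set G) := inf_le_right
  set R := (normalizerIn (D.S : Subgroup G) D.T).subgroupOf (Subgroup.normalizer (D.T : Set G)) with hRdef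
  have hR : ¬ 2 ∣ R.index := by
    obtain ⟨P, hP⟩ := (exists_sylow_subgroupOf_iff hN (isPGroup_inf_left D.S _)).2 D.isMaxP_normalizer_T
    rw [hRdef, ← hP]
    exact P.not_dvd_index
  have hCZ : ∀ X : Subgroup G, X ≤ (D.S : Subgroup G) → D.Z ≤ X →
      (Subgroup.centralizer (D.T : Set G)).relIndex X * N = Nat.card X := fun X hX hZX => by
    have h1 : X ⊓ Subgroup.centralizer (D.T : Set G) = D.Z := le_antisymm
      ((inf_le_inf_right _ hX).trans_eq D.inf_centralizer_T)
      (le_inf hZX (D.inf_centralizer_T.ge.trans inf_le_right))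
    rw [← Subgroup.inf_relIndex_left, h1, ← D.card_Z, mul_comm]
    have h2 := (D.Z.subgroupOf X).card_mul_index
    rwa [Nat.card_congr (Subgroup.subgroupOfEquivOfLe hZX).toEquiv] at h2
  have hnc : Nat.card (Subgroup.normalizer (thin n : Set (W N))) = 8 * N := by
    have h := ((thin n).subgroupOf (Subgroup.normalizer (thin n : Set (W N)))).card_mul_index
    rw [Nat.card_congr (Subgroup.subgroupOfEquivOfLe Subgroup.le_normalizer).toEquiv, card_thin D.hn] at h
    rw [← h, show ((thin n).subgroupOf (Subgroup.normalizer (thin n : Set (W N)))).index = 2 from relIndex_thin D.hn]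
    ring
  have hc : Nat.card (R.map D.T.normalizerMonoidHom) = 2 ^ 3 := by
    rw [hRdef, map_subgroupOf_range hN]
    refine Nat.eq_of_mul_eq_mul_right (by positivity : 0 < N) ?_
    rw [hCZ (normalizerIn (D.S : Subgroup G) D.T) inf_le_left]
    · show Nat.card ((D.S : Subgroup G) ⊓ Subgroup.normalizer (D.T : Set G) : Subgroup G) = _
      rw [D.inf_normalizer_T, Subgroup.card_map_of_injective D.ι_injective, hnc]
      norm_num
    · show D.Z ≤ (D.S : Subgroup G) ⊓ Subgroup.normalizer (D.T : Set G)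
      rw [D.inf_normalizer_T]
      exact Subgroup.map_mono (fun u hu => Subgroup.mem_normalizer_fintype fun x hx => by rw [Subgroup.mem_center_iff.1 (inv_mem hu) (u * x), ← mul_assoc, inv_mul_cancel, one_mul]; exact hx)
  obtain ⟨d, hd, hcard⟩ := exists_card_range _ D.T.normalizerMonoidHom R hR hc
  obtain ⟨ψ₀, hker₀, hY⟩ := exists_action_thin D.hn
  let e : MulAut D.T ≃* MulAut (thin n) := MulAut.congr ((thin n).equivMapOfInjective D.ι D.ι_injective).symm
  have hd3 := dvd_three hY (ψ₀.comp e.toMonoidHom)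
    (fun α => by
      obtain ⟨k, hk⟩ := hker₀ ⟨e α.1, α.2⟩
      exact ⟨k, Subtype.ext (e.injective (by rw [SubmonoidClass.coe_pow, map_pow, Subgroup.coe_one, map_one]; exact congrArg Subtype.val hk))⟩)
    D.T.normalizerMonoidHom.range hd hcard
  refine ⟨d, (Nat.dvd_prime Nat.prime_three).1 hd3, ?_, by rw [hcard]; norm_num⟩
  have h := relIndex_mul_centralizer D.T
  rw [hcard, map_subgroupOf_range Subgroup.le_normalizer] at h
  have h4 : (Subgroup.centralizer (D.T : Set G)).relIndex D.T = 4 := by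
    refine Nat.eq_of_mul_eq_mul_right (by positivity : 0 < N) ?_
    rw [hCZ _ D.T_le (Subgroup.map_mono fun u hu => by
      have : Fact (1 < N) := ⟨one_lt_N D.hn⟩
      rw [mem_thin, (mem_center.1 hu).2]; simp), T, Subgroup.card_map_of_injective D.ι_injective, card_thin D.hn]
  rw [h4] at h
  omega

end Setup

end Cfsg.Agent.Fusion.Wreathed
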