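import Mathlib
import Cfsg.Agent.Lib.Fusion.WreathedLocal
import Cfsg.Agent.Lib.Fusion.TransferControl
import Cfsg.Agent.Lib.Local.TransferReduction
import Cfsg.Agent.Lib.Solv.NormalPComplement

/-!
Fusion in a group with a wreathed Sylow 2-subgroup.
-/

set_option autoImplicit false

namespace Cfsg.Agent.Fusion.Wreathed

open W
open Cfsg Cfsg.FusionSystem
open scoped commutatorElement

/-- A permutation of four points of order dividing three with two fixed points is trivial. -/
theorem perm_four {Y : Type*} [Finite Y] (hY : Nat.card Y = 4) (p : Equiv.Perm Y) (hp : p ^ 3 = 1) {a b : Y}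
    (hab : a ≠ b) (ha : p a = a) (hb : p b = b) : p = 1 := by
  let e := Finite.equivFinOfCardEq hY
  have key : ∀ q : Equiv.Perm (Fin 4), ∀ i j : Fin 4, q ^ 3 = 1 → i ≠ j → q i = i → q j = j → q = 1 := by decide
  have h : e.permCongrHom p = 1 := key _ (e a) (e b) (by rw [← map_pow, hp, map_one]) (e.injective.ne hab)
    (by simp [ha]) (by simp [hb])
  exact e.permCongrHom.injective (h.trans (map_one _).symm)

/-- An element of a 2-group kernel whose cube is trivial is trivial. -/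
theorem eq_one_of_cube {A : Type*} [Group A] (hA : IsPGroup 2 A) (a : A) (h : a ^ 3 = 1) : a = 1 := by
  obtain ⟨k, hk⟩ := hA a
  have h1 := Nat.dvd_gcd (orderOf_dvd_of_pow_eq_one h) (orderOf_dvd_of_pow_eq_one hk)
  rw [(Nat.Coprime.pow_right k (by norm_num : Nat.Coprime 3 2)).gcd_eq_one, Nat.dvd_one] at h1
  exact orderOf_eq_one_iff.1 h1

/-- An element of odd order inducing an automorphism of order three. -/
theorem exists_odd_element {G : Type*} [Group G] [Finite G] {H : Subgroup G} (h : 3 ∣ Nat.card H.normalizerMonoidHom.range) :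
    ∃ g : Subgroup.normalizer (H : Set G), Odd (orderOf (g : G)) ∧
      H.normalizerMonoidHom g ≠ 1 ∧ H.normalizerMonoidHom g ^ 3 = 1 := by
  have : Fact (Nat.Prime 3) := ⟨Nat.prime_three⟩
  obtain ⟨⟨α, g₀, rfl⟩, hα⟩ := exists_prime_orderOf_dvd_card' (G := H.normalizerMonoidHom.range) 3 h
  rw [← Subgroup.orderOf_coe] at hα
  obtain ⟨k, m, hm, hkm⟩ := Nat.exists_eq_pow_mul_and_not_dvd (orderOf_pos g₀).ne' 2 (by norm_num)
  refine ⟨g₀ ^ 2 ^ k, ?_, fun hc => ?_, ?_⟩
  · rw [Subgroup.orderOf_coe, orderOf_pow, hkm, Nat.gcd_eq_right (dvd_mul_right _ _), Nat.mul_div_cancel_left _ (by positivity)]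
    exact Nat.not_even_iff_odd.1 fun he => hm he.two_dvd
  · rw [map_pow] at hc
    have h2 := orderOf_dvd_of_pow_eq_one hc
    rw [hα] at h2
    exact absurd (Nat.le_of_dvd (by norm_num) (Nat.Prime.dvd_of_dvd_pow Nat.prime_three h2)) (by norm_num)
  · rw [map_pow, ← pow_mul, mul_comm, pow_mul]
    have h3 : H.normalizerMonoidHom g₀ ^ 3 = 1 := orderOf_dvd_iff_pow_eq_one.1 hα.dvd
    rw [h3, one_pow]

/-- Fusion fixing a central subgroup, as a subsystem. -/
def fixSystem {Ω : Type*} [Group Ω] {S : Subgroup Ω} (F : FusionSystem S) (Z : Subgroup Ω)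
    (hZ : ∀ z ∈ Z, ∀ s ∈ S, s * z * s⁻¹ = z) : FusionSystem S where
  Hom P := {φ | φ ∈ F.Hom P ∧ ∀ x : P, (x : Ω) ∈ Z ∨ φ x ∈ Z → φ x = x}
  le_of_mem h := F.le_of_mem h.1
  injective_of_mem h := F.injective_of_mem h.1
  conj_mem := fun {P g} hP hg => ⟨F.conj_mem hP hg, fun x hx => by
    show g * (x : Ω) * g⁻¹ = x
    rcases hx with hx | hx
    · exact hZ _ hx g hg
    · have h := hZ _ hx g⁻¹ (S.inv_mem hg)
      have h' : (x : Ω) = g * x * g⁻¹ := by simpa [conjHom, mul_assoc] using h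
      exact h'.symm⟩
  comp_mem := fun {P Q φ ψ} hφ hψ h => ⟨F.comp_mem hφ.1 hψ.1 h, fun x hx => by
    show ψ ⟨φ x, h x⟩ = x
    rcases hx with hx | hx
    · have h1 := hφ.2 x (Or.inl hx)
      have hm : φ x ∈ Z := by rw [h1]; exact hx
      exact (hψ.2 ⟨φ x, h x⟩ (Or.inl hm)).trans h1
    · have hx' : ψ ⟨φ x, h x⟩ ∈ Z := hx
      have h1 := hψ.2 ⟨φ x, h x⟩ (Or.inr hx)
      rw [h1] at hx' ⊢
      exact hφ.2 x (Or.inr hx')⟩
  inv_mem := fun {P φ} hφ => by
    obtain ⟨ψ, hψ, hx⟩ := F.inv_mem hφ.1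
    refine ⟨ψ, ⟨hψ, fun y hy => ?_⟩, hx⟩
    obtain ⟨_, x, rfl⟩ := y
    rw [hx x] at hy ⊢
    exact (hφ.2 x hy.symm).symm

variable {n : ℕ}

local notation "N" => 2 ^ n

theorem neg_half' (hn : 2 ≤ n) : -half n = half n := neg_half hn

namespace Setup

variable {G : Type*} [Group G] (D : Setup G n) [Finite G]

theorem card_autGroup {P : Subgroup G} (hP : P ≤ (D.S : Subgroup G)) :
    Nat.card ((groupFusionSystem (D.S : Subgroup G)).autGroup P) =
      (Subgroup.centralizer (P : Set G)).relIndex (Subgroup.normalizer (P : Set G)) := by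
  have h : (groupFusionSystem (D.S : Subgroup G)).autGroup P = P.normalizerMonoidHom.range := by
    rw [autGroup_groupFusionSystem hP]
    ext α
    rw [mem_autInducedBy]
    exact ⟨fun ⟨a, _, han, hx⟩ => ⟨⟨a, han⟩, MulEquiv.ext fun x => Subtype.ext (hx x).symm⟩,
      fun ⟨⟨a, han⟩, e⟩ => ⟨a, trivial, han, fun x => by rw [← e]; rfl⟩⟩
  rw [h, card_range_normalizerMonoidHom]

theorem exists_of_autGroup {P : Subgroup G} (hP : P ≤ (D.S : Subgroup G)) {α : MulAut P}
    (h : α ∈ (groupFusionSystem (D.S : Subgroup G)).autGroup P) :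
    ∃ g ∈ Subgroup.normalizer (P : Set G), ∀ x : P, ((α x : P) : G) = g * x * g⁻¹ := by
  rw [autGroup_groupFusionSystem hP, mem_autInducedBy] at h
  obtain ⟨g, -, hg, hx⟩ := h
  exact ⟨g, hg, hx⟩

theorem isPGroup_autGroup_S : IsPGroup 2 ((groupFusionSystem (D.S : Subgroup G)).autGroup (D.S : Subgroup G)) := by
  have hW : IsPGroup 2 (MulAut (W N)) := by
    by_contra h
    have h' : ¬ IsPGroup 2 (MulAut (⊤ : Subgroup (W N))) := fun hh => h (hh.of_equiv (MulAut.congr Subgroup.topEquiv))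
    have : NeZero N := ⟨by positivity⟩
    have h4 : 4 ≤ N := le_trans (by norm_num) (Nat.pow_le_pow_right (by norm_num) D.hn)
    rcases self_centralizing_cases D.hn ⊤ le_top h' with h1 | ⟨g, h1⟩
    · have h2 := congrArg (fun X : Subgroup (W N) => Nat.card X) h1
      simp only [Subgroup.card_top, card_base, card_eq, two_mul, pow_add] at h2
      nlinarith
    · have h2 := congrArg (fun X : Subgroup (W N) => Nat.card X) h1
      simp only [Subgroup.card_top, card_eq] at h2
      rw [Subgroup.card_map_of_injective (MulAut.conj g).injective, card_thin D.hn] at h2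
      nlinarith
  exact (hW.of_equiv (MulAut.congr D.φ)).to_subgroup _

theorem essential_cases {P : Subgroup G} (h : (groupFusionSystem (D.S : Subgroup G)).IsEssential 2 P) :
    (P = D.B ∧ ¬ IsPGroup 2 ((groupFusionSystem (D.S : Subgroup G)).autGroup P)) ∨
      (∃ a ∈ (D.S : Subgroup G), P = D.T.map (MulAut.conj a).toMonoidHom) ∧
        ¬ IsPGroup 2 ((groupFusionSystem (D.S : Subgroup G)).autGroup P) := by
  have hne := EssentialControl.not_isPGroup_autGroup D.S.2 (isSaturated_groupFusionSystem D.S) h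
  have hPS : P ≤ (D.S : Subgroup G) := h.1.1
  have hC := h.1.2 P (isConj_refl hPS)
  set X := P.comap D.ι
  have hXC : Subgroup.centralizer (X : Set (W N)) ≤ X := fun u hu => by
    refine hC ⟨D.ι_mem u, fun p hp => ?_⟩
    obtain ⟨w, rfl⟩ := D.exists_ι (hPS hp)
    rw [← map_mul, ← map_mul, hu w hp]
  have hX := D.map_comap hPS
  have hXA : ¬ IsPGroup 2 (MulAut X) := fun hh => hne (by
    have e : MulAut (X.map D.ι : Subgroup G) ≃* MulAut X := MulAut.congr (X.equivMapOfInjective D.ι D.ι_injective).symm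
    rw [hX] at e
    exact (hh.of_equiv e.symm).to_subgroup _)
  rcases self_centralizing_cases D.hn X hXC hXA with h1 | ⟨s, h1⟩
  · exact Or.inl ⟨hX.symm.trans (congrArg (Subgroup.map D.ι) h1), hne⟩
  · refine Or.inr ⟨⟨D.ι s, D.ι_mem s, ?_⟩, hne⟩
    exact (hX.symm.trans (congrArg (Subgroup.map D.ι) h1.symm)).trans (D.map_conj _ _)

theorem no_essential_B (hB : (Subgroup.centralizer (D.B : Set G)).relIndex (Subgroup.normalizer (D.B : Set G)) = 2) :
    IsPGroup 2 ((groupFusionSystem (D.S : Subgroup G)).autGroup D.B) :=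
  IsPGroup.of_card (n := 1) (by rw [D.card_autGroup D.B_le, hB, pow_one])

theorem no_essential_T (hT : (D.T ⊔ Subgroup.centralizer (D.T : Set G)).relIndex (Subgroup.normalizer (D.T : Set G)) = 2)
    {a : G} (ha : a ∈ (D.S : Subgroup G)) :
    IsPGroup 2 ((groupFusionSystem (D.S : Subgroup G)).autGroup (D.T.map (MulAut.conj a).toMonoidHom)) := by
  obtain ⟨d, -, hd, hc⟩ := D.automizer_T
  refine IsPGroup.of_card (n := 3) ?_
  rw [D.card_autGroup, (relIndex_conj D.T a).1, ← card_range_normalizerMonoidHom, hc]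
  · rw [hT] at hd; omega
  · rintro _ ⟨x, hx, rfl⟩
    exact mul_mem (mul_mem ha (D.T_le hx)) (inv_mem ha)

/-- The order three action on the base: no fixed points, and the central involution is moved. -/
theorem exists_action_B (hB : (Subgroup.centralizer (D.B : Set G)).relIndex (Subgroup.normalizer (D.B : Set G)) = 6) :
    ∃ g ∈ Subgroup.normalizer (D.B : Set G), Odd (orderOf g) ∧ ∀ x ∈ D.B, g * x * g⁻¹ = x → x = 1 := by
  obtain ⟨d, -, hd, hc⟩ := D.automizer_B
  obtain ⟨g, hg, hne, h3⟩ := exists_odd_element (H := D.B) (by rw [hc, ← hd, hB]; norm_num)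
  refine ⟨g, g.2, hg, fun x hx hfix => ?_⟩
  obtain ⟨ψ₀, hker₀, hY⟩ := exists_action_base D.hn
  let e : MulAut D.B ≃* MulAut (base N) := MulAut.congr ((base N).equivMapOfInjective D.ι D.ι_injective).symm
  by_contra hx1
  obtain ⟨i, hi, hi1⟩ : ∃ i : ℕ, (x ^ i) ^ 2 = 1 ∧ x ^ i ≠ 1 := by
    have hp : IsPGroup 2 D.B := D.S.2.to_le D.B_le
    obtain ⟨k, hk⟩ := hp ⟨x, hx⟩
    have hk' : x ^ 2 ^ k = 1 := congrArg Subtype.val hk
    obtain ⟨j, -, hj⟩ := (Nat.dvd_prime_pow Nat.prime_two).1 (orderOf_dvd_of_pow_eq_one hk')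
    rcases Nat.eq_zero_or_pos j with rfl | hj0
    · exact absurd (orderOf_eq_one_iff.1 hj) hx1
    refine ⟨2 ^ (j - 1), ?_, fun h => ?_⟩
    · rw [← pow_mul, ← pow_succ, Nat.sub_add_cancel hj0, ← hj, pow_orderOf_eq_one]
    · have := Nat.le_of_dvd (by positivity) (hj ▸ orderOf_dvd_of_pow_eq_one h)
      have := Nat.pow_lt_pow_right (show 1 < 2 by norm_num) (show j - 1 < j by omega)
      omega
  let y : base N := ((base N).equivMapOfInjective D.ι D.ι_injective).symm ⟨x ^ i, pow_mem hx i⟩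
  set α := D.B.normalizerMonoidHom g
  have hαy : α ⟨x ^ i, pow_mem hx i⟩ = ⟨x ^ i, pow_mem hx i⟩ := Subtype.ext (by
    show (g : G) * x ^ i * (g : G)⁻¹ = x ^ i
    rw [show (g : G) * x ^ i * (g : G)⁻¹ = MulAut.conj (g : G) (x ^ i) from rfl, map_pow, MulAut.conj_apply, hfix])
  have hy2 : y ^ 2 = 1 := by
    refine (map_pow _ _ _).symm.trans ?_
    exact (congrArg _ (Subtype.ext hi : (⟨x ^ i, pow_mem hx i⟩ : D.B) ^ 2 = 1)).trans (map_one _)
  have hy1 : y ≠ 1 := fun h => hi1 (by
    have := congrArg ((base N).equivMapOfInjective D.ι D.ι_injective) h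
    rw [MulEquiv.apply_symm_apply, map_one] at this
    exact congrArg Subtype.val this)
  have hfixy : (e α) y = y := by
    show ((base N).equivMapOfInjective D.ι D.ι_injective).symm (α (((base N).equivMapOfInjective D.ι D.ι_injective) y)) = y
    rw [MulEquiv.apply_symm_apply]
    exact congrArg _ hαy
  have hsmul : ∀ (β : MulAut (base N)) (z : {x : base N // x ^ 2 = 1}), β z.1 = z.1 → ψ₀ β z = z → True := fun _ _ _ _ => trivial
  -- two fixed points make the permutation trivial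
  letI actI : MulAction (MulAut (base N)) {x : base N // x ^ 2 = 1} :=
    { smul := fun β z => ⟨β z.1, by rw [← map_pow, z.2, map_one]⟩
      one_smul := fun _ => rfl
      mul_smul := fun _ _ _ => rfl }
  have hperm : MulAction.toPermHom (MulAut (base N)) {x : base N // x ^ 2 = 1} (e α) = 1 :=
    perm_four hY _ (by rw [← map_pow, ← map_pow, h3, map_one, map_one]) (a := ⟨1, one_pow 2⟩) (b := ⟨y, hy2⟩)
      (fun h => hy1 (congrArg Subtype.val h).symm) (Subtype.ext (map_one _)) (Subtype.ext hfixy)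
  obtain ⟨M, hM⟩ : ∃ M, Nat.card (base N) = 2 ^ M := ⟨_, card_base n⟩
  have hpow := pow_fix_of_fix_involutions (M := M) (⟨⟨fun u v => Subtype.ext (base_comm u.2 v.2)⟩⟩ : IsMulCommutative (base N))
    (fun u => hM ▸ pow_card_eq_one') (e α) fun u hu => congrArg Subtype.val (Equiv.Perm.ext_iff.1 hperm ⟨u, hu⟩)
  apply hne
  refine e.injective (Eq.trans ?_ (map_one e).symm)
  have h1 := orderOf_dvd_of_pow_eq_one (show (e α) ^ 3 = 1 by rw [← map_pow, h3, map_one])
  have h2 := Nat.dvd_gcd h1 (orderOf_dvd_of_pow_eq_one hpow)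
  rw [(Nat.Coprime.pow_right M (by norm_num : Nat.Coprime 3 2)).gcd_eq_one, Nat.dvd_one] at h2
  exact orderOf_eq_one_iff.1 h2

/-- The order three action on the exception: no fixed cosets of the centre. -/
theorem exists_action_T (hT : (D.T ⊔ Subgroup.centralizer (D.T : Set G)).relIndex (Subgroup.normalizer (D.T : Set G)) = 6) :
    ∃ g ∈ Subgroup.normalizer (D.T : Set G), Odd (orderOf g) ∧ ∀ x ∈ D.T, x⁻¹ * (g * x * g⁻¹) ∈ D.Z → x ∈ D.Z := by
  obtain ⟨d, -, hd, hc⟩ := D.automizer_T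
  have hd3 : d = 3 := by rw [hT] at hd; omega
  obtain ⟨g, hg, hne, h3⟩ := exists_odd_element (H := D.T) (by rw [hc, hd3]; norm_num)
  refine ⟨g, g.2, hg, fun x hx hfix => ?_⟩
  obtain ⟨ψ, hker, hY⟩ := exists_action_thin D.hn
  let eT := (thin n).equivMapOfInjective D.ι D.ι_injective
  let e : MulAut D.T ≃* MulAut (thin n) := MulAut.congr eT.symm
  set Z := Subgroup.center (thin n)
  have hcz : Z = (Subgroup.center (W N)).subgroupOf (thin n) := by
    ext u
    refine ⟨fun hu => centralizer_thin D.hn fun v hv => congrArg Subtype.val (Subgroup.mem_center_iff.1 hu ⟨v, hv⟩), fun hu => ?_⟩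
    exact Subgroup.mem_center_iff.2 fun v => Subtype.ext (Subgroup.mem_center_iff.1 (Subgroup.mem_subgroupOf.1 hu) _)
  by_contra hxZ
  obtain ⟨y, hy, rfl⟩ := hx
  let y' : thin n := ⟨y, hy⟩
  set α := D.T.normalizerMonoidHom g
  have hαy : ((e α) y' : W N) = (((e α) y' : thin n) : W N) := rfl
  have hι : ∀ u : thin n, D.ι (((e α) u : thin n) : W N) = (g : G) * D.ι (u : W N) * (g : G)⁻¹ := fun u => by
    have h1 : eT ((e α) u) = α (eT u) := by
      exact eT.apply_symm_apply _
    exact congrArg Subtype.val h1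
  have hmap : ∀ α : MulAut (thin n), Z ≤ Z.comap α.toMonoidHom := fun α x hx => Subgroup.mem_center_iff.2 fun y => by
    rw [← α.apply_symm_apply y]
    show α _ * α x = α x * α _
    rw [← map_mul, ← map_mul, Subgroup.mem_center_iff.1 hx]
  letI actI : MulAction (MulAut (thin n)) (thin n ⧸ Z) :=
    { smul := fun α q => QuotientGroup.map Z Z α.toMonoidHom (hmap α) q
      one_smul := fun q => QuotientGroup.induction_on q fun _ => rfl
      mul_smul := fun _ _ q => QuotientGroup.induction_on q fun _ => rfl }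
  have hyZ : (y' : thin n ⧸ Z) ≠ 1 := fun h => hxZ (by
    have h1 := (QuotientGroup.eq_one_iff _).1 h
    rw [hcz] at h1
    exact ⟨y, h1, rfl⟩)
  have hfixy : ((e α) y' : thin n ⧸ Z) = (y' : thin n ⧸ Z) := by
    refine (QuotientGroup.eq.2 ?_).symm
    rw [hcz, Subgroup.mem_subgroupOf]
    obtain ⟨z, hz, hze⟩ := hfix
    rw [← hι y', ← map_inv, ← map_mul] at hze
    have := D.ι_injective hze
    rw [this] at hz
    exact hz
  have hperm : MulAction.toPermHom (MulAut (thin n)) (thin n ⧸ Z) (e α) = 1 :=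
    perm_four hY _ (by rw [← map_pow, ← map_pow, h3, map_one, map_one]) (a := (1 : thin n ⧸ Z)) (b := (y' : thin n ⧸ Z))
      hyZ.symm (map_one (QuotientGroup.map Z Z (e α).toMonoidHom (hmap _))) hfixy
  -- the kernel is a 2-group
  obtain ⟨M, hM⟩ : ∃ M, Nat.card (thin n) = 2 ^ M := ⟨2 + n, by rw [card_thin D.hn, pow_add]; norm_num⟩
  have hmem : ∀ u, u⁻¹ * (e α) u ∈ Z := fun u => QuotientGroup.eq.1 (Equiv.Perm.ext_iff.1 hperm (u : thin n ⧸ Z)).symm
  have hZfix : ∀ c ∈ Z, (e α) c = c := by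
    have : IsCyclic Z := by
      rw [hcz]
      refine (Subgroup.subgroupOfEquivOfLe (fun u hu => ?_)).isCyclic.2 ?_
      · have : Fact (1 < N) := ⟨one_lt_N D.hn⟩
        rw [mem_thin, (mem_center.1 hu).2]; simp
      · rw [center_eq D.hn]; exact isCyclic_of_surjective _ (diagHom n).rangeRestrict_surjective
    have hZc : IsPGroup 2 (MulAut Z) := by
      obtain ⟨k, -, hk⟩ := (Nat.dvd_prime_pow Nat.prime_two).1 (hM ▸ Z.card_subgroup_dvd_card)
      rcases Nat.eq_zero_or_pos k with rfl | hk0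
      · exact IsPGroup.of_card (n := 0) (by rw [IsCyclic.card_mulAut, hk]; simp)
      · exact IsPGroup.of_card (n := k - 1) (by rw [IsCyclic.card_mulAut, hk, Nat.totient_prime_pow Nat.prime_two hk0]; simp)
    let ρ : MulAut (thin n) →* MulAut Z :=
      { toFun := fun β => MulEquiv.mk' { toFun := fun x => ⟨β x, hmap β x.2⟩
                                         invFun := fun x => ⟨β.symm x, hmap β.symm x.2⟩
                                         left_inv := fun x => Subtype.ext (β.symm_apply_apply _)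
                                         right_inv := fun x => Subtype.ext (β.apply_symm_apply _) }
          fun x y => Subtype.ext (map_mul β _ _)
        map_one' := rfl
        map_mul' := fun _ _ => rfl }
    have h1 := eq_one_of_cube hZc (ρ (e α)) (by rw [← map_pow, ← map_pow, h3, map_one, map_one])
    exact fun c hc => congrArg Subtype.val (MulEquiv.ext_iff.1 h1 ⟨c, hc⟩)
  have hpow : (e α) ^ 2 ^ M = 1 := MulEquiv.ext fun u => pow_fix hM (e α) Z hZfix (hmem u)
  apply hne
  refine e.injective (Eq.trans ?_ (map_one e).symm)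
  have h1 := orderOf_dvd_of_pow_eq_one (show (e α) ^ 3 = 1 by rw [← map_pow, h3, map_one])
  have h2 := Nat.dvd_gcd h1 (orderOf_dvd_of_pow_eq_one hpow)
  rw [(Nat.Coprime.pow_right M (by norm_num : Nat.Coprime 3 2)).gcd_eq_one, Nat.dvd_one] at h2
  exact orderOf_eq_one_iff.1 h2

/-- The representatives of the involutions. -/
def cI : G := D.ι ⟨half n, half n, false⟩

/-- A noncentral involution of the base. -/
def uI : G := D.ι ⟨half n, 0, false⟩

/-- An involution outside the base. -/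
def tI : G := D.ι ⟨0, 0, true⟩

theorem involution_cases (x : G) (hx : orderOf x = 2) : IsConj x D.cI ∨ IsConj x D.uI ∨ IsConj x D.tI := by
  have hp : IsPGroup 2 (Subgroup.zpowers x) := IsPGroup.of_card (n := 1) (by rw [Nat.card_zpowers, hx, pow_one])
  obtain ⟨g, hg⟩ := exists_conj_le_sylow D.S hp
  obtain ⟨u, hu⟩ := D.exists_ι (hg ⟨x, Subgroup.mem_zpowers x, rfl⟩ : (MulAut.conj g).toMonoidHom x ∈ (D.S : Subgroup G))
  have hxu : IsConj x (D.ι u) := isConj_iff.2 ⟨g, hu.symm⟩
  have ho : orderOf u = 2 := by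
    rw [← orderOf_injective D.ι D.ι_injective, hu, orderOf_injective _ (MulAut.conj g).injective, hx]
  rcases (involution_classes D.hn).1 u ho with h | h | h
  · exact Or.inl (hxu.trans (D.ι.map_isConj h))
  · exact Or.inr (Or.inl (hxu.trans (D.ι.map_isConj h)))
  · exact Or.inr (Or.inr (hxu.trans (D.ι.map_isConj h)))

theorem orderOf_reps : orderOf D.cI = 2 ∧ orderOf D.uI = 2 ∧ orderOf D.tI = 2 := by
  obtain ⟨-, h1, h2, h3, -⟩ := involution_classes D.hn
  exact ⟨by rw [cI, orderOf_injective D.ι D.ι_injective, h1], by rw [uI, orderOf_injective D.ι D.ι_injective, h2],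
    by rw [tI, orderOf_injective D.ι D.ι_injective, h3]⟩

theorem classes_eq :
    {C : ConjClasses G | ∃ t : G, orderOf t = 2 ∧ ConjClasses.mk t = C} =
      {ConjClasses.mk D.cI, ConjClasses.mk D.uI, ConjClasses.mk D.tI} := by
  obtain ⟨h1, h2, h3⟩ := D.orderOf_reps
  ext C
  constructor
  · rintro ⟨t, ht, rfl⟩
    rcases D.involution_cases t ht with h | h | h
    exacts [Or.inl (ConjClasses.mk_eq_mk_iff_isConj.2 h), Or.inr (Or.inl (ConjClasses.mk_eq_mk_iff_isConj.2 h)),
      Or.inr (Or.inr (ConjClasses.mk_eq_mk_iff_isConj.2 h))]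
  · rintro (rfl | rfl | rfl)
    exacts [⟨_, h1, rfl⟩, ⟨_, h2, rfl⟩, ⟨_, h3, rfl⟩]

theorem isConj_c_u (hB : (Subgroup.centralizer (D.B : Set G)).relIndex (Subgroup.normalizer (D.B : Set G)) = 6) :
    IsConj D.cI D.uI := by
  obtain ⟨g, hgN, -, hfree⟩ := D.exists_action_B hB
  obtain ⟨h1, h2, -⟩ := D.orderOf_reps
  have hcB : D.cI ∈ D.B := ⟨_, rfl, rfl⟩
  obtain ⟨w, hw, hwe⟩ := (Subgroup.mem_normalizer_iff.1 hgN _).1 hcB
  have hc : IsConj D.cI (D.ι w) := isConj_iff.2 ⟨g, hwe.symm⟩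
  have how : orderOf w = 2 := by
    rw [← orderOf_injective D.ι D.ι_injective, hwe, show g * D.cI * g⁻¹ = MulAut.conj g D.cI from rfl, MulEquiv.orderOf_eq, h1]
  rcases (involution_classes D.hn).1 w how with h | h | h
  · exfalso
    obtain ⟨s, hs⟩ := isConj_iff.1 h.symm
    have hwc : w = ⟨half n, half n, false⟩ := by
      have hF : Fact (1 < N) := ⟨one_lt_N D.hn⟩
      exact (not_isConj_central (mem_center.2 ⟨rfl, rfl⟩) (isConj_iff.2 ⟨s, hs⟩)).symm
    have := hfree _ hcB (hwe.symm.trans (congrArg D.ι hwc))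
    rw [this, orderOf_one] at h1
    norm_num at h1
  · exact hc.trans (D.ι.map_isConj h)
  · exfalso
    obtain ⟨s, hs⟩ := isConj_iff.1 h
    have := congrArg W.e hs
    rw [e_conj, mem_base.1 hw] at this
    exact Bool.noConfusion this

theorem isConj_u_t (hT : (D.T ⊔ Subgroup.centralizer (D.T : Set G)).relIndex (Subgroup.normalizer (D.T : Set G)) = 6) :
    IsConj D.uI D.tI := by
  obtain ⟨g, hgN, -, hfree⟩ := D.exists_action_T hT
  obtain ⟨-, h2, -⟩ := D.orderOf_reps
  have hF : Fact (1 < N) := ⟨one_lt_N D.hn⟩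
  have hut : (⟨half n, 0, false⟩ : W N) ∈ thin n := by rw [mem_thin]; simpa using half_add_half D.hn
  have huT : D.uI ∈ D.T := ⟨_, hut, rfl⟩
  have huZ : D.uI ∉ D.Z := fun ⟨z, hz, he⟩ => by
    rw [D.ι_injective he] at hz
    exact half_ne_zero D.hn (mem_center.1 hz).2
  obtain ⟨w, hw, hwe⟩ := (Subgroup.mem_normalizer_iff.1 hgN _).1 huT
  have hc : IsConj D.uI (D.ι w) := isConj_iff.2 ⟨g, hwe.symm⟩
  have how : orderOf w = 2 := by
    rw [← orderOf_injective D.ι D.ι_injective, hwe, show g * D.uI * g⁻¹ = MulAut.conj g D.uI from rfl, MulEquiv.orderOf_eq, h2]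
  have hdiff : (⟨half n, 0, false⟩ : W N)⁻¹ * w ∉ Subgroup.center (W N) := fun hz => huZ (hfree _ huT
    ⟨_, hz, by rw [map_mul, map_inv, hwe]; rfl⟩)
  obtain ⟨a, b, _ | _⟩ := w
  · exfalso
    rcases (two_mul_eq_zero_iff (by have := D.hn; omega : 1 ≤ n) _).1 (show a - b + (a - b) = 0 from hw) with h | h
    · obtain rfl : a = b := sub_eq_zero.1 h
      refine huZ ?_
      have hz : D.ι ⟨a, a, false⟩ ∈ D.Z := ⟨_, mem_center.2 ⟨rfl, rfl⟩, rfl⟩
      obtain ⟨z, hzc, hze⟩ := hz
      obtain ⟨s, hs, hse⟩ : g⁻¹ * D.ι ⟨a, a, false⟩ * g ∈ D.T := by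
        have := (Subgroup.mem_normalizer_iff.1 (inv_mem hgN) _).1 (⟨_, hw, rfl⟩ : D.ι ⟨a, a, false⟩ ∈ D.T)
        simpa using this
      refine ⟨s, Subgroup.mem_center_iff.2 fun v => ?_, ?_⟩
      · by_contra hne
        have hsT : ∀ v ∈ thin n, v * s = s * v := fun v hv => by
          apply D.ι_injective
          rw [map_mul, map_mul, hse]
          obtain ⟨v', hv', hve⟩ := (Subgroup.mem_normalizer_iff.1 hgN _).1 (⟨v, hv, rfl⟩ : D.ι v ∈ D.T)
          have hcomm : g * D.ι v * g⁻¹ * D.ι ⟨a, a, false⟩ = D.ι ⟨a, a, false⟩ * (g * D.ι v * g⁻¹) := by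
            rw [← hve, ← map_mul, ← map_mul, Subgroup.mem_center_iff.1 (mem_center.2 ⟨rfl, rfl⟩) v']
          have := congrArg (fun z => g⁻¹ * z * g) hcomm
          simpa [mul_assoc] using this
        exact hne (Subgroup.mem_center_iff.1 (centralizer_thin D.hn fun v hv => hsT v hv) v)
      · rw [hse, hwe]; simp [mul_assoc]
    · refine hdiff (mem_center.2 ⟨rfl, ?_⟩)
      show -half n + a = -0 + b
      rw [show (-0 : ZMod N) = 0 from neg_zero]
      have h' : a - b = half n := h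
      linear_combination h'
  · rcases (involution_classes D.hn).1 _ how with h | h | h
    · obtain ⟨s, hs⟩ := isConj_iff.1 h
      exact absurd (e_conj s _ ▸ congrArg W.e hs) (by simp)
    · obtain ⟨s, hs⟩ := isConj_iff.1 h
      exact absurd (e_conj s _ ▸ congrArg W.e hs) (by simp)
    · exact hc.trans (D.ι.map_isConj h)

theorem commutator_le_B : ⁅(D.S : Subgroup G), (D.S : Subgroup G)⁆ ≤ D.B := by
  rw [← D.range_ι, MonoidHom.range_eq_map, ← Subgroup.map_commutator]
  refine Subgroup.map_mono (Subgroup.commutator_le.2 fun u _ v _ => ?_)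
  rw [mem_base, commutatorElement_def, e_mul, e_mul, e_mul]
  obtain ⟨a, b, _ | _⟩ := u <;> obtain ⟨c, d, _ | _⟩ := v <;> simp

/-- A congruence holding for inner maps and all essential automizers holds for all fusion. -/
theorem congr_fusion (K : Subgroup G) (hK : ⁅(D.S : Subgroup G), (D.S : Subgroup G)⁆ ≤ K)
    (h : ∀ P, (groupFusionSystem (D.S : Subgroup G)).IsEssential 2 P → ∀ g ∈ Subgroup.normalizer (P : Set G), ∀ x ∈ P,
      x⁻¹ * (g * x * g⁻¹) ∈ K)
    {x a : G} (hx : x ∈ (D.S : Subgroup G)) (hax : a * x * a⁻¹ ∈ (D.S : Subgroup G)) : x⁻¹ * (a * x * a⁻¹) ∈ K := by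
  have hm : IsMor (groupFusionSystem (D.S : Subgroup G))
      ((D.S : Subgroup G) ⊓ (D.S : Subgroup G).comap (MulAut.conj a).toMonoidHom) (fun y => a * y * a⁻¹) :=
    isMor_groupFusionSystem.2 ⟨inf_le_left, fun y hy => hy.2, a, fun _ _ => rfl⟩
  refine EssentialControl.congr_of_essential D.S.2 (isSaturated_groupFusionSystem D.S) K hK (fun P hP α hα y => ?_) hm ⟨hx, hax⟩
  rcases hP with rfl | hP
  · obtain ⟨s, hs, -, hsx⟩ := mem_autInducedBy.1
      (EssentialControl.autGroup_self_le D.S.2 (isSaturated_groupFusionSystem D.S) D.isPGroup_autGroup_S hα)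
    rw [hsx y]
    have := hK (Subgroup.commutator_mem_commutator (inv_mem y.2) hs)
    simpa [commutatorElement_def, mul_assoc] using this
  · obtain ⟨g, hg, hgx⟩ := D.exists_of_autGroup hP.1.1 hα
    rw [hgx y]
    exact h P hP g hg _ y.2

/-- The fusion is inner when both automizers are 2-groups. -/
theorem fusion_inner (hB : (Subgroup.centralizer (D.B : Set G)).relIndex (Subgroup.normalizer (D.B : Set G)) = 2)
    (hT : (D.T ⊔ Subgroup.centralizer (D.T : Set G)).relIndex (Subgroup.normalizer (D.T : Set G)) = 2)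
    {x a : G} (hx : x ∈ (D.S : Subgroup G)) (hax : a * x * a⁻¹ ∈ (D.S : Subgroup G)) :
    ∃ z ∈ (D.S : Subgroup G), z * x * z⁻¹ = a * x * a⁻¹ := by
  have hno : ∀ P, ¬ (groupFusionSystem (D.S : Subgroup G)).IsEssential 2 P := fun P hP => by
    rcases D.essential_cases hP with ⟨rfl, h⟩ | ⟨⟨s, hs, rfl⟩, h⟩
    · exact h (D.no_essential_B hB)
    · exact h (D.no_essential_T hT hs)
  have hle := EssentialControl.le_inner D.S.2 (isSaturated_groupFusionSystem D.S) D.isPGroup_autGroup_S hno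
  have hm : IsMor (groupFusionSystem (D.S : Subgroup G))
      ((D.S : Subgroup G) ⊓ (D.S : Subgroup G).comap (MulAut.conj a).toMonoidHom) (fun y => a * y * a⁻¹) :=
    isMor_groupFusionSystem.2 ⟨inf_le_left, fun y hy => hy.2, a, fun _ _ => rfl⟩
  obtain ⟨-, z, hz, h⟩ := isMor_inner.1 (le_iff_isMor.1 hle _ _ hm)
  exact ⟨z, hz, (h x ⟨hx, hax⟩).symm⟩

end Setup

end Cfsg.Agent.Fusion.Wreathed
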