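import Mathlib
import Cfsg.Agent.Lib.Fusion.QuasiDihedralAut
import Cfsg.Agent.Lib.Fusion.WreathedFusion

/-!
Automizers of the four-subgroup and of the quaternion subgroup in a group with quasi-dihedral Sylow 2-subgroup.
-/

set_option autoImplicit false

namespace Cfsg.Agent.Fusion.QuasiDihedral

open Q
open Cfsg Cfsg.FusionSystem

section Abstract

/-- An automorphism is determined by two generators. -/
theorem card_mulAut_le {X : Type*} [Group X] [Finite X] (P : X → Prop) (hP : ∀ (α : MulAut X) x, P x → P (α x))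
    (a b : X) (ha : P a) (hb : P b) (hgen : ∀ w : X, ∃ i j : Fin 4, a ^ (i : ℕ) * b ^ (j : ℕ) = w) :
    Nat.card (MulAut X) ≤ Nat.card {x // P x} * Nat.card {x // P x} := by
  rw [← Nat.card_prod]
  refine Nat.card_le_card_of_injective (fun α => (⟨α a, hP α a ha⟩, ⟨α b, hP α b hb⟩)) fun α β h => MulEquiv.ext fun w => ?_
  obtain ⟨i, j, rfl⟩ := hgen w
  have h1 : α a = β a := congrArg (fun p => (p.1.1 : X)) h
  have h2 : α b = β b := congrArg (fun p => (p.2.1 : X)) h
  rw [map_mul, map_mul, map_pow, map_pow, map_pow, map_pow, h1, h2]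

theorem card_mulAut_klein {X : Type*} [Group X] [Finite X] (hX : IsKleinFour X) : Nat.card (MulAut X) ≤ 9 := by
  have hV : IsKleinFour (Multiplicative (ZMod 2 × ZMod 2)) := inferInstance
  obtain ⟨e⟩ : Nonempty (X ≃* Multiplicative (ZMod 2 × ZMod 2)) := IsKleinFour.nonempty_mulEquiv
  rw [Nat.card_congr (MulAut.congr e).toEquiv]
  refine (card_mulAut_le (fun x => x ≠ 1) (fun α x hx h => hx (α.injective (h.trans (map_one α).symm)))
    (Multiplicative.ofAdd (1, 0)) (Multiplicative.ofAdd (0, 1)) (by decide) (by decide) (by decide)).trans (le_of_eq ?_)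
  rw [Nat.card_eq_fintype_card, show Fintype.card {x : Multiplicative (ZMod 2 × ZMod 2) // x ≠ 1} = 3 by decide]

theorem card_mulAut_quaternion {X : Type*} [Group X] [Finite X] (e : X ≃* QuaternionGroup 2) : Nat.card (MulAut X) ≤ 36 := by
  rw [Nat.card_congr (MulAut.congr e).toEquiv]
  refine (card_mulAut_le (fun x => x ^ 2 ≠ 1) (fun α x hx h => hx (α.injective (by rw [map_pow, map_one, h])))
    (.a 1) (.xa 0) (by decide) (by decide) (by decide)).trans (le_of_eq ?_)
  rw [Nat.card_eq_fintype_card, show Fintype.card {x : QuaternionGroup 2 // x ^ 2 ≠ 1} = 6 by decide]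

/-- An automorphism of order three of the quaternion group moves each cyclic subgroup of order four. -/
theorem quaternion_free (β : MulAut (QuaternionGroup 2)) (h3 : β ^ 3 = 1) (hne : β ≠ 1) {x : QuaternionGroup 2}
    (hx : x ^ 2 ≠ 1) (i : Fin 4) : β x ≠ x ^ (i : ℕ) := by
  intro hi
  have happ : ∀ u, β (β (β u)) = u := fun u => by
    have := MulEquiv.ext_iff.1 h3 u
    rwa [pow_succ', sq, MulAut.mul_apply, MulAut.mul_apply, MulAut.one_apply] at this
  have hfix : β x = x := by
    have h := happ x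
    rw [hi, map_pow, hi, map_pow, map_pow, hi, ← pow_mul, ← pow_mul] at h
    rw [hi]
    exact (show ∀ u : QuaternionGroup 2, u ^ 2 ≠ 1 → ∀ k : Fin 4, u ^ ((k : ℕ) * ((k : ℕ) * (k : ℕ))) = u → u ^ (k : ℕ) = u
      by decide) x hx i h
  obtain ⟨y, hy⟩ := (show ∀ u : QuaternionGroup 2, u ^ 2 ≠ 1 → ∃ v, ∀ k : Fin 4, v ≠ u ^ (k : ℕ) by decide) x hx
  have hy' : ∀ k : Fin 4, β y ≠ x ^ (k : ℕ) := fun k h => hy k (β.injective (by rw [h, map_pow, hfix]))
  obtain ⟨k, hk⟩ := (show ∀ u v w : QuaternionGroup 2, u ^ 2 ≠ 1 → (∀ k : Fin 4, v ≠ u ^ (k : ℕ)) →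
    (∀ k : Fin 4, w ≠ u ^ (k : ℕ)) → ∃ k : Fin 4, w = v * u ^ (k : ℕ) by decide) x y (β y) hx hy hy'
  have hky : β y = y := by
    have h := happ y
    rw [hk, map_mul, map_pow, hfix, hk, map_mul, map_mul, map_pow, hfix, hk] at h
    rw [hk]
    exact (show ∀ u v : QuaternionGroup 2, ∀ k : Fin 4, v * u ^ (k : ℕ) * u ^ (k : ℕ) * u ^ (k : ℕ) = v →
      v * u ^ (k : ℕ) = v by decide) x y k h
  refine hne (MulEquiv.ext fun w => ?_)
  obtain ⟨a, b, rfl⟩ := (show ∀ u v : QuaternionGroup 2, u ^ 2 ≠ 1 → (∀ k : Fin 4, v ≠ u ^ (k : ℕ)) →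
    ∀ w, ∃ a b : Fin 4, u ^ (a : ℕ) * v ^ (b : ℕ) = w by decide) x y hx hy w
  rw [map_mul, map_pow, map_pow, hfix, hky, MulAut.one_apply]

theorem autGroup_card {G : Type*} [Group G] [Finite G] {S P : Subgroup G} (hP : P ≤ S) :
    Nat.card ((groupFusionSystem S).autGroup P) = (Subgroup.centralizer (P : Set G)).relIndex (Subgroup.normalizer (P : Set G)) := by
  have h : (groupFusionSystem S).autGroup P = P.normalizerMonoidHom.range := by
    rw [autGroup_groupFusionSystem hP]
    ext α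
    rw [mem_autInducedBy]
    exact ⟨fun ⟨a, _, han, hx⟩ => ⟨⟨a, han⟩, MulEquiv.ext fun x => Subtype.ext (hx x).symm⟩,
      fun ⟨⟨a, han⟩, e⟩ => ⟨a, trivial, han, fun x => by rw [← e]; rfl⟩⟩
  rw [h, Wreathed.card_range_normalizerMonoidHom]

end Abstract

variable {n : ℕ}

theorem centralizer_quat8_eq (hn : 3 ≤ n) : Subgroup.centralizer (quat8 hn : Set (Q n)) = Subgroup.center (Q n) := by
  refine le_antisymm (fun u hu => ?_) (Subgroup.center_le_centralizer _)
  have hq : (⟨quarter n, false⟩ : Q n) ∈ quat8 hn := by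
    rw [quat8, mem_sub, mem_torsion_two hn]
    simp only [cond_false, sub_zero]
    rw [quarter_add_quarter hn, half_add_half hn]
  have h1 : (⟨1, true⟩ : Q n) ∈ quat8 hn := by rw [quat8, mem_sub]; simp
  have ha := congrArg Q.i (Subgroup.mem_centralizer_iff.1 hu _ hq)
  have hb := congrArg Q.i (Subgroup.mem_centralizer_iff.1 hu _ h1)
  obtain ⟨x, _ | _⟩ := u
  · rw [mem_center hn]
    refine ⟨rfl, (two_mul_eq_zero_iff hn x).1 ((mem_torsion_one hn).1 ((shift_mem_torsion hn (j := 0) (by omega)).1 ?_))⟩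
    rw [mem_torsion (Nat.zero_le n), pow_zero, Nat.cast_one, one_mul]
    simp only [mk_true_mul, mk_false_mul] at hb
    linear_combination -hb
  · exfalso
    simp only [mk_true_mul, mk_false_mul, mu_mul_quarter hn] at ha
    exact half_ne_zero hn (by linear_combination ha - quarter_add_quarter hn)

theorem centralizer_four_eq (hn : 3 ≤ n) : Subgroup.centralizer (four hn : Set (Q n)) = four hn :=
  le_antisymm (centralizer_four hn) fun u hu => Subgroup.mem_centralizer_iff.2 fun v hv =>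
    congrArg Subtype.val (mul_comm_of_exponent_two (isKleinFour_four hn).exponent_two (⟨v, hv⟩ : four hn) ⟨u, hu⟩)

theorem relIndex_centralizer_four (hn : 3 ≤ n) :
    (Subgroup.centralizer (four hn : Set (Q n))).relIndex (Subgroup.normalizer (four hn : Set (Q n))) = 2 := by
  rw [centralizer_four_eq hn]
  exact relIndex_normalizer_sub hn (j := 1) (by omega) 0 _

theorem relIndex_centralizer_quat8 (hn : 3 ≤ n) :
    (Subgroup.centralizer (quat8 hn : Set (Q n))).relIndex (quat8 hn) = 4 := by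
  have h := Subgroup.relIndex_mul_relIndex ⊥ (Subgroup.centralizer (quat8 hn : Set (Q n))) (quat8 hn) bot_le (centralizer_quat8 hn)
  rw [Subgroup.relIndex_bot_left, Subgroup.relIndex_bot_left, centralizer_quat8_eq hn, card_center hn, quat8, card_sub,
    card_torsion (by omega : 2 ≤ n)] at h
  rw [centralizer_quat8_eq hn, quat8]
  omega

theorem relIndex_centralizer_normalizer_quat8 (hn : 3 ≤ n) :
    (Subgroup.centralizer (quat8 hn : Set (Q n))).relIndex (Subgroup.normalizer (quat8 hn : Set (Q n))) = 8 := by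
  rw [← Subgroup.relIndex_mul_relIndex _ _ _ (centralizer_quat8 hn) Subgroup.le_normalizer, relIndex_centralizer_quat8 hn,
    show (quat8 hn).relIndex (Subgroup.normalizer (quat8 hn : Set (Q n))) = 2 from
      relIndex_normalizer_sub hn (j := 2) (by omega) 1 _]

/-- The data of a group with quasi-dihedral Sylow 2-subgroup. -/
structure Setup (G : Type*) [Group G] (n : ℕ) where
  S : Sylow 2 G
  hn : 3 ≤ n
  φ : Q n ≃* (S : Subgroup G)

namespace Setup

variable {G : Type*} [Group G] (D : Setup G n)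

/-- The embedding of the model. -/
def ι : Q n →* G := (D.S : Subgroup G).subtype.comp D.φ.toMonoidHom

theorem ι_injective : Function.Injective D.ι := (D.S : Subgroup G).subtype_injective.comp D.φ.injective

theorem ι_mem (u : Q n) : D.ι u ∈ (D.S : Subgroup G) := (D.φ u).2

theorem exists_ι {x : G} (hx : x ∈ (D.S : Subgroup G)) : ∃ u, D.ι u = x :=
  ⟨D.φ.symm ⟨x, hx⟩, congrArg Subtype.val (D.φ.apply_symm_apply _)⟩

theorem range_ι : D.ι.range = (D.S : Subgroup G) :=
  le_antisymm (by rintro _ ⟨u, rfl⟩; exact D.ι_mem u) fun _ hx => D.exists_ι hx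

theorem map_le (X : Subgroup (Q n)) : X.map D.ι ≤ (D.S : Subgroup G) := by rintro _ ⟨u, -, rfl⟩; exact D.ι_mem u

theorem map_comap {X : Subgroup G} (hX : X ≤ (D.S : Subgroup G)) : (X.comap D.ι).map D.ι = X := by
  rw [Subgroup.map_comap_eq, D.range_ι, inf_eq_right.2 hX]

theorem map_conj (X : Subgroup (Q n)) (s : Q n) :
    (X.map (MulAut.conj s).toMonoidHom).map D.ι = (X.map D.ι).map (MulAut.conj (D.ι s)).toMonoidHom := by
  rw [Subgroup.map_map, Subgroup.map_map]
  congr 1; ext x; simp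

/-- The four-subgroup. -/
def T : Subgroup G := (four D.hn).map D.ι

/-- The quaternion subgroup. -/
def R : Subgroup G := (quat8 D.hn).map D.ι

theorem T_le : D.T ≤ (D.S : Subgroup G) := D.map_le _

theorem R_le : D.R ≤ (D.S : Subgroup G) := D.map_le _

theorem isKleinFour_T : IsKleinFour D.T := by
  let e := (four D.hn).equivMapOfInjective D.ι D.ι_injective
  exact { card_four := (Nat.card_congr e.toEquiv).symm.trans (isKleinFour_four D.hn).card_four
          exponent_two := (Monoid.exponent_eq_of_mulEquiv e).symm.trans (isKleinFour_four D.hn).exponent_two }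

theorem R_equiv : Nonempty (D.R ≃* QuaternionGroup 2) := by
  obtain ⟨e⟩ := quat8_equiv D.hn
  exact ⟨((quat8 D.hn).equivMapOfInjective D.ι D.ι_injective).symm.trans e⟩

theorem exists_conj_T {X : Subgroup G} (hX : X ≤ (D.S : Subgroup G)) (hK : IsKleinFour X) :
    ∃ a ∈ (D.S : Subgroup G), X = D.T.map (MulAut.conj a).toMonoidHom := by
  have hK' : IsKleinFour (X.comap D.ι) := by
    obtain ⟨e⟩ : Nonempty (X.comap D.ι ≃* X) := ⟨((X.comap D.ι).equivMapOfInjective D.ι D.ι_injective).trans (MulEquiv.subgroupCongr (D.map_comap hX))⟩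
    exact { card_four := (Nat.card_congr e.toEquiv).trans hK.card_four
            exponent_two := (Monoid.exponent_eq_of_mulEquiv e).trans hK.exponent_two }
  obtain ⟨s, hs⟩ := exists_conj_four D.hn _ hK'
  refine ⟨D.ι s, D.ι_mem s, ?_⟩
  rw [T, ← D.map_conj, hs, D.map_comap hX]

theorem exists_conj_R {X : Subgroup G} (hX : X ≤ (D.S : Subgroup G)) (e : X ≃* QuaternionGroup 2) :
    ∃ a ∈ (D.S : Subgroup G), X = D.R.map (MulAut.conj a).toMonoidHom := by
  let θ : QuaternionGroup 2 →* Q n := D.φ.symm.toMonoidHom.comp ((Subgroup.inclusion hX).comp e.symm.toMonoidHom)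
  have hθ : Function.Injective θ := D.φ.symm.injective.comp ((Subgroup.inclusion_injective hX).comp e.symm.injective)
  obtain ⟨s, hs⟩ := exists_conj_quat8 D.hn θ hθ
  refine ⟨D.ι s, D.ι_mem s, ?_⟩
  rw [R, ← D.map_conj, hs, ← MonoidHom.range_comp]
  refine le_antisymm (fun q hq => ⟨e ⟨q, hq⟩, by simp [θ, ι]⟩) ?_
  rintro _ ⟨x, rfl⟩
  simp [θ, ι]

theorem inf_centralizer (X : Subgroup (Q n)) :
    (D.S : Subgroup G) ⊓ Subgroup.centralizer ((X.map D.ι : Subgroup G) : Set G) = (Subgroup.centralizer (X : Set (Q n))).map D.ι := by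
  refine le_antisymm ?_ ?_
  · rintro c ⟨hcS, hc⟩
    obtain ⟨u, rfl⟩ := D.exists_ι hcS
    exact ⟨u, fun x hx => D.ι_injective (by rw [map_mul, map_mul]; exact hc _ ⟨x, hx, rfl⟩), rfl⟩
  · rintro _ ⟨u, hu, rfl⟩
    refine ⟨D.ι_mem u, ?_⟩
    rintro _ ⟨x, hx, rfl⟩
    rw [← map_mul, ← map_mul, hu x hx]

variable [Finite G]

theorem inf_normalizer (X : Subgroup (Q n)) :
    (D.S : Subgroup G) ⊓ Subgroup.normalizer ((X.map D.ι : Subgroup G) : Set G) = (Subgroup.normalizer (X : Set (Q n))).map D.ι := by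
  refine le_antisymm ?_ ?_
  · rintro c ⟨hcS, hc⟩
    obtain ⟨u, rfl⟩ := D.exists_ι hcS
    refine ⟨u, Subgroup.mem_normalizer_iff.2 fun x => ?_, rfl⟩
    rw [← Subgroup.mem_map_iff_mem D.ι_injective, ← Subgroup.mem_map_iff_mem D.ι_injective (x := u * x * u⁻¹), map_mul, map_mul, map_inv]
    exact Subgroup.mem_normalizer_iff.1 hc _
  · rintro _ ⟨u, hu, rfl⟩
    refine ⟨D.ι_mem u, Subgroup.mem_normalizer_fintype ?_⟩
    rintro _ ⟨x, hx, rfl⟩
    exact ⟨u * x * u⁻¹, (Subgroup.mem_normalizer_iff.1 hu x).1 hx, by simp⟩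

/-- A subgroup all whose conjugates in the Sylow subgroup are conjugate there is fully normalized. -/
theorem isMaxP_normalizer {X : Subgroup G} (hX : X ≤ (D.S : Subgroup G))
    (h : ∀ g : G, X.map (MulAut.conj g).toMonoidHom ≤ (D.S : Subgroup G) →
      ∃ a ∈ (D.S : Subgroup G), X.map (MulAut.conj g).toMonoidHom = X.map (MulAut.conj a).toMonoidHom) :
    IsMaxP 2 (normalizerIn (D.S : Subgroup G) X) (Subgroup.normalizer (X : Set G)) := by
  refine (fullyNormalized_group_iff D.S hX).1 ⟨hX, fun R hR => ?_⟩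
  obtain ⟨-, hRS, g, rfl⟩ := isConj_groupFusionSystem.1 hR
  obtain ⟨a, ha, he⟩ := h g hRS
  rw [he, ← card_map_conj a⁻¹]
  refine Nat.card_le_card_of_injective (Subgroup.inclusion ?_) (Subgroup.inclusion_injective _)
  rintro _ ⟨y, ⟨hyS, hyN⟩, rfl⟩
  refine ⟨?_, ?_⟩
  · show a⁻¹ * y * a⁻¹⁻¹ ∈ (D.S : Subgroup G)
    exact mul_mem (mul_mem (inv_mem ha) hyS) (inv_mem (inv_mem ha))
  · have := map_conj_normalizer_le a⁻¹ (X.map (MulAut.conj a).toMonoidHom) ⟨y, hyN, rfl⟩
    rwa [map_conj_mul, inv_mul_cancel, map_one, show (X.map (1 : MulAut G).toMonoidHom) = X from Subgroup.ext fun x => by simp] at this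

/-- The automizer is its Sylow part times an odd number. -/
theorem automizer_aux (X : Subgroup (Q n)) {a : ℕ}
    (hm : IsMaxP 2 (normalizerIn (D.S : Subgroup G) (X.map D.ι)) (Subgroup.normalizer ((X.map D.ι : Subgroup G) : Set G)))
    (ha : (Subgroup.centralizer (X : Set (Q n))).relIndex (Subgroup.normalizer (X : Set (Q n))) = 2 ^ a) :
    ∃ d, ¬ 2 ∣ d ∧ Nat.card (X.map D.ι).normalizerMonoidHom.range = 2 ^ a * d := by
  set Xg := X.map D.ι
  have hN : normalizerIn (D.S : Subgroup G) Xg ≤ Subgroup.normalizer (Xg : Set G) := inf_le_right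
  refine Wreathed.exists_card_range _ Xg.normalizerMonoidHom ((normalizerIn (D.S : Subgroup G) Xg).subgroupOf _) ?_ ?_
  · obtain ⟨P, hP⟩ := (exists_sylow_subgroupOf_iff hN (isPGroup_inf_left D.S _)).2 hm
    rw [← hP]
    exact P.not_dvd_index
  · rw [Wreathed.Setup.map_subgroupOf_range hN, ← ha, ← Subgroup.inf_relIndex_right,
      show Subgroup.centralizer (Xg : Set G) ⊓ normalizerIn (D.S : Subgroup G) Xg = (D.S : Subgroup G) ⊓ Subgroup.centralizer (Xg : Set G) from
        le_antisymm (le_inf (inf_le_right.trans inf_le_left) inf_le_left)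
          (le_inf inf_le_right (le_inf inf_le_left (inf_le_right.trans (centralizer_le_normalizer' Xg)))),
      show normalizerIn (D.S : Subgroup G) Xg = (Subgroup.normalizer (X : Set (Q n))).map D.ι from D.inf_normalizer X,
      D.inf_centralizer, Subgroup.relIndex_map_map_of_injective _ _ D.ι_injective]

/-- The automizer of the four-subgroup. -/
theorem automizer_T : ∃ d, (d = 1 ∨ d = 3) ∧ Nat.card D.T.normalizerMonoidHom.range = 2 * d ∧
    (Subgroup.centralizer (D.T : Set G)).relIndex (Subgroup.normalizer (D.T : Set G)) = 2 * d := by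
  obtain ⟨d, hd, hc⟩ := D.automizer_aux (four D.hn) (a := 1) (D.isMaxP_normalizer D.T_le fun g hg => by
    have := D.isKleinFour_T
    refine D.exists_conj_T hg ?_
    let e := D.T.equivMapOfInjective (MulAut.conj g).toMonoidHom (MulAut.conj g).injective
    exact { card_four := (Nat.card_congr e.toEquiv).symm.trans this.card_four
            exponent_two := (Monoid.exponent_eq_of_mulEquiv e).symm.trans this.exponent_two })
    (by rw [relIndex_centralizer_four D.hn, pow_one])
  rw [pow_one] at hc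
  have hle : 2 * d ≤ 9 := hc ▸ (Subgroup.card_le_card_group _).trans (card_mulAut_klein D.isKleinFour_T)
  refine ⟨d, by omega, hc, ?_⟩
  rw [← Wreathed.card_range_normalizerMonoidHom]
  exact hc

/-- The automizer of the quaternion subgroup. -/
theorem automizer_R : ∃ d, (d = 1 ∨ d = 3) ∧ Nat.card D.R.normalizerMonoidHom.range = 8 * d ∧
    (D.R ⊔ Subgroup.centralizer (D.R : Set G)).relIndex (Subgroup.normalizer (D.R : Set G)) = 2 * d := by
  obtain ⟨d, hd, hc⟩ := D.automizer_aux (quat8 D.hn) (a := 3) (D.isMaxP_normalizer D.R_le fun g hg => by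
    obtain ⟨e⟩ := D.R_equiv
    exact D.exists_conj_R hg ((D.R.equivMapOfInjective (MulAut.conj g).toMonoidHom (MulAut.conj g).injective).symm.trans e))
    (by rw [relIndex_centralizer_normalizer_quat8 D.hn]; norm_num)
  rw [show (2 : ℕ) ^ 3 = 8 from rfl] at hc
  replace hc : Nat.card D.R.normalizerMonoidHom.range = 8 * d := hc
  obtain ⟨e⟩ := D.R_equiv
  have hle : 8 * d ≤ 36 := hc ▸ (Subgroup.card_le_card_group _).trans (card_mulAut_quaternion e)
  refine ⟨d, by omega, hc, ?_⟩
  have h := Wreathed.relIndex_mul_centralizer D.R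
  rw [hc, Wreathed.Setup.map_subgroupOf_range Subgroup.le_normalizer, ← Subgroup.inf_relIndex_right,
    show Subgroup.centralizer (D.R : Set G) ⊓ D.R = (D.S : Subgroup G) ⊓ Subgroup.centralizer (D.R : Set G) from
      le_antisymm (le_inf (inf_le_right.trans D.R_le) inf_le_left)
        (le_inf inf_le_right ((D.inf_centralizer _).trans_le (Subgroup.map_mono (centralizer_quat8 D.hn)))),
    R, D.inf_centralizer, Subgroup.relIndex_map_map_of_injective _ _ D.ι_injective, relIndex_centralizer_quat8 D.hn] at h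
  rw [R]
  omega

/-- The order three action on the four-subgroup. -/
theorem exists_action_T (hT : (Subgroup.centralizer (D.T : Set G)).relIndex (Subgroup.normalizer (D.T : Set G)) = 6) :
    ∃ g ∈ Subgroup.normalizer (D.T : Set G), Odd (orderOf g) ∧ ∀ x ∈ D.T, g * x * g⁻¹ = x → x = 1 := by
  obtain ⟨d, -, hc, hd⟩ := D.automizer_T
  obtain ⟨g, hg, hne, h3⟩ := Wreathed.exists_odd_element (H := D.T) (by rw [hc, ← hd, hT]; norm_num)
  refine ⟨g, g.2, hg, fun x hx hfix => ?_⟩
  by_contra hx1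
  refine hne (MulEquiv.ext fun y => ?_)
  have hcube : (D.T.normalizerMonoidHom g).toEquiv ^ 3 = 1 := by
    have := congrArg (MulAut.toPerm _) h3
    rwa [map_pow, map_one] at this
  exact Equiv.Perm.ext_iff.1 (Wreathed.perm_four D.isKleinFour_T.card_four _ hcube (a := (1 : D.T)) (b := ⟨x, hx⟩)
    (fun h => hx1 (congrArg Subtype.val h).symm) (map_one (D.T.normalizerMonoidHom g)) (Subtype.ext hfix)) y

/-- The order three action on the quaternion subgroup. -/
theorem exists_action_R (hR : (D.R ⊔ Subgroup.centralizer (D.R : Set G)).relIndex (Subgroup.normalizer (D.R : Set G)) = 6) :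
    ∃ g ∈ Subgroup.normalizer (D.R : Set G), Odd (orderOf g) ∧
      ∀ x ∈ D.R, x ^ 2 ≠ 1 → g * x * g⁻¹ ∉ Subgroup.zpowers x := by
  obtain ⟨d, -, hc, hd⟩ := D.automizer_R
  have hd3 : d = 3 := by omega
  obtain ⟨g, hg, hne, h3⟩ := Wreathed.exists_odd_element (H := D.R) (by rw [hc, hd3]; norm_num)
  refine ⟨g, g.2, hg, fun x hx hx2 hmem => ?_⟩
  obtain ⟨e⟩ := D.R_equiv
  set α := D.R.normalizerMonoidHom g
  have hx' : (e ⟨x, hx⟩) ^ 2 ≠ 1 := fun h => hx2 (by
    rw [← map_pow, EmbeddingLike.map_eq_one_iff] at h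
    exact congrArg Subtype.val h)
  obtain ⟨m, hm⟩ := hmem
  have hval : e (α ⟨x, hx⟩) = e ⟨x, hx⟩ ^ m := by
    rw [← map_zpow]
    congr 1
    exact Subtype.ext (by rw [SubgroupClass.coe_zpow]; exact hm.symm)
  obtain ⟨i, hi⟩ : ∃ i : Fin 4, e ⟨x, hx⟩ ^ m = e ⟨x, hx⟩ ^ (i : ℕ) := by
    refine ⟨⟨(m % 4).toNat, by omega⟩, ?_⟩
    have h4 : e ⟨x, hx⟩ ^ (4 : ℤ) = 1 := (show ∀ u : QuaternionGroup 2, u ^ 4 = 1 by decide) _
    conv_lhs => rw [← Int.mul_ediv_add_emod m 4, zpow_add, zpow_mul, h4, one_zpow, one_mul]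
    rw [← zpow_natCast, Int.toNat_of_nonneg (by omega)]
  refine quaternion_free (MulAut.congr e α) (by rw [← map_pow, h3, map_one]) (fun h => hne ((MulAut.congr e).injective (h.trans (map_one _).symm))) hx' i ?_
  show e (α (e.symm (e ⟨x, hx⟩))) = _
  rw [e.symm_apply_apply, hval, hi]

end Setup

end Cfsg.Agent.Fusion.QuasiDihedral
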