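import Mathlib
import Cfsg.Agent.Lib.Fusion.WreathedFusion

/-!
The quaternion case of fusion with a wreathed Sylow 2-subgroup.
-/

set_option autoImplicit false

namespace Cfsg.Agent.Fusion.Wreathed

open W
open Cfsg Cfsg.FusionSystem
open scoped commutatorElement

variable {n : ℕ}

local notation "N" => 2 ^ n

/-- The quaternion subgroup is a generalized quaternion group. -/
theorem quat_equiv (hn : 2 ≤ n) : Nonempty (quat n ≃* QuaternionGroup (2 ^ (n - 1))) := by
  have hN : 2 * 2 ^ (n - 1) = 2 ^ n := by rw [← pow_succ', Nat.sub_add_cancel (by omega : 1 ≤ n)]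
  let θ : QuaternionGroup (2 ^ (n - 1)) →* quat n :=
    MonoidHom.mk' (fun x => match x with
      | .a i => ⟨⟨ZMod.ringEquivCongr hN i, -ZMod.ringEquivCongr hN i, false⟩, (mem_quat hn).2 (add_neg_cancel _)⟩
      | .xa i => ⟨⟨-ZMod.ringEquivCongr hN i, half n + ZMod.ringEquivCongr hN i, true⟩,
          (mem_quat hn).2 (by simp only [cond_true]; ring)⟩) (by
      have hk : ZMod.ringEquivCongr hN ((2 ^ (n - 1) : ℕ) : ZMod (2 * 2 ^ (n - 1))) = half n := map_natCast _ _
      have hh := half_add_half hn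
      rintro (i | i) (j | j) <;> refine Subtype.ext ?_
      · rw [QuaternionGroup.a_mul_a]
        simp only [Subgroup.coe_mul, map_add, W.mk_false_mul]
        ext <;> simp <;> ring
      · rw [QuaternionGroup.a_mul_xa]
        simp only [Subgroup.coe_mul, map_sub, W.mk_false_mul]
        ext <;> simp <;> ring
      · rw [QuaternionGroup.xa_mul_a]
        simp only [Subgroup.coe_mul, map_add, W.mk_true_mul]
        ext <;> simp <;> ring
      · rw [QuaternionGroup.xa_mul_xa]
        simp only [Subgroup.coe_mul, map_add, map_sub, hk, W.mk_true_mul]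
        ext <;> simp
        · ring
        · linear_combination -hh)
  have hθ : Function.Injective θ := by
    rintro (i | i) (j | j) h <;> have h' := congrArg Subtype.val h
    · exact congrArg _ ((ZMod.ringEquivCongr hN).injective (congrArg W.a h'))
    · exact Bool.noConfusion (congrArg W.e h')
    · exact Bool.noConfusion (congrArg W.e h')
    · exact congrArg _ ((ZMod.ringEquivCongr hN).injective (neg_injective (congrArg W.a h')))
  have : NeZero (2 ^ (n - 1)) := ⟨by positivity⟩
  have hbij : Function.Bijective θ := (Nat.bijective_iff_injective_and_card θ).2 ⟨hθ, by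
    rw [card_quat hn, Nat.card_eq_fintype_card, QuaternionGroup.card, pow_succ, ← hN]; ring⟩
  exact ⟨(MulEquiv.ofBijective θ hbij).symm⟩

/-- The small quaternion group. -/
def quatThin (n : ℕ) : Subgroup (W (2 ^ n)) := quat n ⊓ thin n

/-- Noncentral elements of the small quaternion group square to the central involution. -/
theorem sq_of_quatThin (hn : 2 ≤ n) {u : W N} (hu : u ∈ quatThin n) (huc : u ∉ Subgroup.center (W N)) :
    u ^ 2 = ⟨half n, half n, false⟩ := by
  have hF : Fact (1 < N) := ⟨one_lt_N hn⟩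
  obtain ⟨a, b, _ | _⟩ := u
  · have h1 : a + b = 0 := (mem_quat hn).1 hu.1
    have h2 : (a - b) + (a - b) = 0 := hu.2
    rcases (two_mul_eq_zero_iff (by omega : 1 ≤ n) _).1 h2 with h | h
    · exact absurd (mem_center.2 ⟨rfl, sub_eq_zero.1 h⟩) huc
    · have h' : a - b = half n := h
      rw [sq (⟨a, b, false⟩ : W N)]
      simp only [mk_false_mul, W.mk.injEq, and_true]
      exact ⟨by linear_combination h' + h1, by linear_combination h1 - h' - half_add_half hn⟩
  · rw [mk_true_sq, (mem_quat hn).1 hu.1]; rfl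

/-- An element of the exception squaring to the central involution lies in the quaternion group, unless central. -/
theorem quatThin_of_sq (hn : 2 ≤ n) {u : W N} (hu : u ∈ thin n) (huc : u ∉ Subgroup.center (W N))
    (hsq : u ^ 2 = ⟨half n, half n, false⟩) : u ∈ quatThin n := by
  have hF : Fact (1 < N) := ⟨one_lt_N hn⟩
  refine ⟨(mem_quat hn).2 ?_, hu⟩
  obtain ⟨a, b, _ | _⟩ := u
  · rw [sq (⟨a, b, false⟩ : W N)] at hsq
    simp only [mk_false_mul, W.mk.injEq, and_true] at hsq
    rcases (two_mul_eq_zero_iff (by omega : 1 ≤ n) _).1 (show (a - b) + (a - b) = 0 from hu) with h | h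
    · exact absurd (mem_center.2 ⟨rfl, sub_eq_zero.1 h⟩) huc
    · have h' : a - b = half n := h
      show a + b = 0
      linear_combination hsq.2 + h' + half_add_half hn
  · rw [mk_true_sq] at hsq
    exact congrArg W.a hsq

theorem quatThin_generated (hn : 2 ≤ n) :
    quatThin n ≤ Subgroup.closure {u : W N | u ∈ quatThin n ∧ u ∉ Subgroup.center (W N)} := by
  have hF : Fact (1 < N) := ⟨one_lt_N hn⟩
  have hv : (⟨0, half n, true⟩ : W N) ∈ quatThin n ∧ (⟨0, half n, true⟩ : W N) ∉ Subgroup.center (W N) :=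
    ⟨⟨(mem_quat hn).2 (by simp), by show (0 - half n) + (0 - half n) = (0 : ZMod N); linear_combination -half_add_half hn⟩,
      fun h => Bool.noConfusion (mem_center.1 h).1⟩
  intro u hu
  by_cases huc : u ∈ Subgroup.center (W N)
  · have h1 : u * (⟨0, half n, true⟩ : W N) ∈ quatThin n ∧ u * (⟨0, half n, true⟩ : W N) ∉ Subgroup.center (W N) :=
      ⟨mul_mem hu hv.1, fun h => hv.2 (by simpa using mul_mem (inv_mem huc) h)⟩
    have m1 : u * (⟨0, half n, true⟩ : W N) ∈ Subgroup.closure {u : W N | u ∈ quatThin n ∧ u ∉ Subgroup.center (W N)} :=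
      Subgroup.subset_closure h1
    have m2 : (⟨0, half n, true⟩ : W N) ∈ Subgroup.closure {u : W N | u ∈ quatThin n ∧ u ∉ Subgroup.center (W N)} :=
      Subgroup.subset_closure hv
    have := mul_mem m1 (inv_mem m2)
    rwa [mul_inv_cancel_right] at this
  · exact Subgroup.subset_closure ⟨hu, huc⟩

theorem thin_eq_quatThin_sup (hn : 2 ≤ n) : thin n ≤ quatThin n ⊔ Subgroup.center (W N) := by
  have hF : Fact (1 < N) := ⟨one_lt_N hn⟩
  have : NeZero N := ⟨by positivity⟩
  have hq := quarter_add_quarter hn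
  have hh := half_add_half hn
  have hbase : ∀ a b : ZMod N, (⟨a, b, false⟩ : W N) ∈ thin n → (⟨a, b, false⟩ : W N) ∈ quatThin n ⊔ Subgroup.center (W N) := by
    intro a b hu
    rcases (two_mul_eq_zero_iff (by omega : 1 ≤ n) _).1 (show (a - b) + (a - b) = 0 from hu) with h | h
    · exact Subgroup.mem_sup_right (mem_center.2 ⟨rfl, sub_eq_zero.1 h⟩)
    · have h' : a - b = half n := h
      have h1 : (⟨quarter n, -quarter n, false⟩ : W N) ∈ quatThin n :=
        ⟨(mem_quat hn).2 (add_neg_cancel _), by show (quarter n - -quarter n) + (quarter n - -quarter n) = (0 : ZMod N); linear_combination 2 * hq + hh⟩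
      have h2 : (⟨b + quarter n, b + quarter n, false⟩ : W N) ∈ Subgroup.center (W N) := mem_center.2 ⟨rfl, rfl⟩
      have := mul_mem (Subgroup.mem_sup_left (T := Subgroup.center (W N)) h1) (Subgroup.mem_sup_right (S := quatThin n) h2)
      rw [mk_false_mul] at this
      convert this using 2
      · show a = quarter n + (b + quarter n); linear_combination h' - hq
      · show b = -quarter n + (b + quarter n); ring
  rintro ⟨a, b, _ | _⟩ hu
  · exact hbase a b hu
  · have hv : (⟨0, half n, true⟩ : W N) ∈ quatThin n :=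
      ⟨(mem_quat hn).2 (by simp), by show (0 - half n) + (0 - half n) = (0 : ZMod N); linear_combination -half_add_half hn⟩
    have h1 := mul_mem hu (inv_mem hv.2)
    rw [inv_mk_true, mk_true_mul] at h1
    have h2 := mul_mem (hbase _ _ h1) (Subgroup.mem_sup_left (T := Subgroup.center (W N)) hv)
    simpa using h2

namespace Setup

variable {G : Type*} [Group G] (D : Setup G n) [Finite G]

/-- The quaternion subgroup of the Sylow subgroup. -/
def Q0 : Subgroup G := (quat n).map D.ι

theorem Z_le_T : D.Z ≤ D.T := Subgroup.map_mono fun u hu => by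
  have : Fact (1 < N) := ⟨one_lt_N D.hn⟩
  rw [mem_thin, (mem_center.1 hu).2]; simp

/-- The normalizer of the exception centralizes the centre. -/
theorem fix_Z {g : G} (hg : g ∈ Subgroup.normalizer (D.T : Set G)) {z : G} (hz : z ∈ D.Z) : g * z * g⁻¹ = z := by
  set Nt := Subgroup.normalizer (D.T : Set G)
  have hmem : ∀ g : Nt, ∀ z ∈ D.Z, (g : G) * z * (g : G)⁻¹ ∈ D.Z := by
    intro g z hz
    obtain ⟨u, hu, he⟩ := (Subgroup.mem_normalizer_iff.1 g.2 z).1 (D.Z_le_T hz)
    refine ⟨u, centralizer_thin D.hn fun v hv => D.ι_injective ?_, he⟩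
    obtain ⟨w, hw, hwe⟩ := (Subgroup.mem_normalizer_iff''.1 g.2 (D.ι v)).1 ⟨v, hv, rfl⟩
    obtain ⟨z', hz', rfl⟩ := hz
    rw [map_mul, map_mul, he]
    have hcomm : D.ι z' * D.ι w = D.ι w * D.ι z' := by rw [← map_mul, ← map_mul, Subgroup.mem_center_iff.1 hz' w]
    rw [hwe] at hcomm
    have := congrArg (fun x => (g : G) * x * (g : G)⁻¹) hcomm
    simpa [mul_assoc] using this.symm
  letI : MulDistribMulAction Nt D.Z :=
    { smul := fun g z => ⟨(g : G) * z * (g : G)⁻¹, hmem g z z.2⟩
      one_smul := fun z => Subtype.ext (by show (1 : G) * z * (1 : G)⁻¹ = z; simp)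
      mul_smul := fun a b z => Subtype.ext (by show ((a : G) * b) * z * ((a : G) * b)⁻¹ = a * (b * z * (b : G)⁻¹) * (a : G)⁻¹; group)
      smul_mul := fun a x y => Subtype.ext (by show (a : G) * (x * y) * (a : G)⁻¹ = a * x * (a : G)⁻¹ * (a * y * (a : G)⁻¹); group)
      smul_one := fun a => Subtype.ext (by show (a : G) * 1 * (a : G)⁻¹ = 1; group) }
  let f : Nt →* MulAut D.Z := MulDistribMulAction.toMulAut _ _
  have : IsCyclic D.Z := by
    refine ((Subgroup.center (W N)).equivMapOfInjective D.ι D.ι_injective).isCyclic.1 ?_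
    rw [center_eq D.hn]; exact isCyclic_of_surjective _ (diagHom n).rangeRestrict_surjective
  have hp : IsPGroup 2 (MulAut D.Z) := IsPGroup.of_card (n := n - 1) (by
    rw [IsCyclic.card_mulAut, D.card_Z, Nat.totient_prime_pow Nat.prime_two (by have := D.hn; omega)]; simp)
  set R := (normalizerIn (D.S : Subgroup G) D.T).subgroupOf Nt
  have hR : ¬ 2 ∣ R.index := by
    obtain ⟨P, hP⟩ := (exists_sylow_subgroupOf_iff (R := normalizerIn (D.S : Subgroup G) D.T) inf_le_right (isPGroup_inf_left D.S _)).2 D.isMaxP_normalizer_T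
    show ¬ 2 ∣ ((normalizerIn (D.S : Subgroup G) D.T).subgroupOf Nt).index
    rw [← hP]
    exact P.not_dvd_index
  have hRk : R ≤ f.ker := by
    intro r hr
    refine MulEquiv.ext fun z => Subtype.ext ?_
    show (r : G) * z * (r : G)⁻¹ = z
    obtain ⟨_, z', hz', rfl⟩ := z
    obtain ⟨v, hv⟩ := D.exists_ι (Subgroup.mem_subgroupOf.1 hr).1
    rw [mul_inv_eq_iff_eq_mul]
    show (r : G) * D.ι z' = D.ι z' * r
    rw [← hv, ← map_mul, ← map_mul, Subgroup.mem_center_iff.1 hz' v]
  have h1 : f.ker.index ∣ R.index := Subgroup.index_dvd_of_le hRk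
  obtain ⟨k, hk⟩ := IsPGroup.iff_card.1 (hp.to_subgroup f.range)
  rw [Subgroup.index_ker, hk] at h1
  rcases Nat.eq_zero_or_pos k with rfl | hk0
  · have h2 : f ⟨g, hg⟩ = 1 := Subgroup.mem_bot.1 (Subgroup.card_eq_one.1 (hk.trans (pow_zero 2)) ▸ ⟨⟨g, hg⟩, rfl⟩)
    exact congrArg Subtype.val (MulEquiv.ext_iff.1 h2 ⟨z, hz⟩)
  · exact absurd ((dvd_pow_self 2 hk0.ne').trans h1) hR

theorem cI_mem_Z : D.cI ∈ D.Z := by
  have : Fact (1 < N) := ⟨one_lt_N D.hn⟩
  exact ⟨_, mem_center.2 ⟨rfl, rfl⟩, rfl⟩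

/-- The small quaternion group is invariant under the normalizer of the exception. -/
theorem conj_quatThin {g : G} (hg : g ∈ Subgroup.normalizer (D.T : Set G)) {q : W N} (hq : q ∈ quatThin n) :
    ∃ q' ∈ quatThin n, D.ι q' = g * D.ι q * g⁻¹ := by
  have hle : Subgroup.closure {u : W N | u ∈ quatThin n ∧ u ∉ Subgroup.center (W N)} ≤
      (((quatThin n).map D.ι).comap (MulAut.conj g).toMonoidHom).comap D.ι := by
    refine (Subgroup.closure_le _).2 ?_
    rintro u ⟨hu, huc⟩
    obtain ⟨w, hw, hwe⟩ := (Subgroup.mem_normalizer_iff.1 hg _).1 (⟨u, hu.2, rfl⟩ : D.ι u ∈ D.T)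
    refine ⟨w, quatThin_of_sq D.hn hw (fun hwc => huc ?_) (D.ι_injective ?_), hwe⟩
    · obtain ⟨v, hv, hve⟩ : g⁻¹ * D.ι w * (g⁻¹)⁻¹ ∈ D.Z := by rw [D.fix_Z (inv_mem hg) ⟨w, hwc, rfl⟩]; exact ⟨w, hwc, rfl⟩
      rw [hwe, show g⁻¹ * (g * D.ι u * g⁻¹) * (g⁻¹)⁻¹ = D.ι u by group] at hve
      rw [← D.ι_injective hve]; exact hv
    · rw [map_pow, hwe, show g * D.ι u * g⁻¹ = MulAut.conj g (D.ι u) from rfl, ← map_pow, ← map_pow, sq_of_quatThin D.hn hu huc]
      exact D.fix_Z hg D.cI_mem_Z
  obtain ⟨q', hq', he⟩ := hle (quatThin_generated D.hn hq)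
  exact ⟨q', hq', he⟩

theorem congr_T {g : G} (hg : g ∈ Subgroup.normalizer (D.T : Set G)) {x : G} (hx : x ∈ D.T) :
    x⁻¹ * (g * x * g⁻¹) ∈ D.Q0 := by
  obtain ⟨u, hu, rfl⟩ := hx
  have hnormal : ∀ v ∈ quatThin n, ∀ w ∈ thin n, w⁻¹ * v * w ∈ quat n := fun v hv w _ =>
    Subgroup.Normal.conj_mem' (H := quat n) (MonoidHom.normal_ker _) _ hv.1 w
  have hsup := thin_eq_quatThin_sup D.hn hu
  have hcl : ∀ w ∈ quatThin n ⊔ Subgroup.center (W N), w ∈ thin n → (D.ι w)⁻¹ * (g * D.ι w * g⁻¹) ∈ D.Q0 := by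
    intro w hw hwT
    obtain ⟨q, hq, z, hz, rfl⟩ := Subgroup.mem_sup_of_normal_right.1 hw
    obtain ⟨q', hq', he⟩ := D.conj_quatThin hg hq
    refine ⟨z⁻¹ * (q⁻¹ * q') * z, Subgroup.Normal.conj_mem' (H := quat n) (MonoidHom.normal_ker _) _ (mul_mem (inv_mem hq.1) hq'.1) z, ?_⟩
    rw [map_mul D.ι q z, show g * (D.ι q * D.ι z) * g⁻¹ = g * D.ι q * g⁻¹ * (g * D.ι z * g⁻¹) by group,
      D.fix_Z hg ⟨z, hz, rfl⟩, map_mul, map_mul, map_mul, map_inv, map_inv, he, mul_inv_rev]
    simp only [mul_assoc]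
  exact hcl u hsup hu

theorem commutator_le_Q0 : ⁅(D.S : Subgroup G), (D.S : Subgroup G)⁆ ≤ D.Q0 := by
  rw [← D.range_ι, MonoidHom.range_eq_map, ← Subgroup.map_commutator]
  refine Subgroup.map_mono ?_
  rw [← commutator_def, commutator_eq]
  rintro _ ⟨k, rfl⟩
  exact (mem_quat D.hn).2 (add_neg_cancel _)

/-- In the quaternion case fusion preserves the cosets of the quaternion subgroup. -/
theorem congr_quat (hB : (Subgroup.centralizer (D.B : Set G)).relIndex (Subgroup.normalizer (D.B : Set G)) = 2)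
    {x a : G} (hx : x ∈ (D.S : Subgroup G)) (hax : a * x * a⁻¹ ∈ (D.S : Subgroup G)) :
    x⁻¹ * (a * x * a⁻¹) ∈ D.Q0 := by
  refine D.congr_fusion D.Q0 D.commutator_le_Q0 (fun P hP g hg y hy => ?_) hx hax
  rcases D.essential_cases hP with ⟨rfl, h⟩ | ⟨⟨s, hs, rfl⟩, -⟩
  · exact absurd (D.no_essential_B hB) h
  · obtain ⟨y₀, hy₀, rfl⟩ := hy
    have hg₀ : s⁻¹ * g * s ∈ Subgroup.normalizer (D.T : Set G) := Subgroup.mem_normalizer_iff.2 fun v => by
      have := Subgroup.mem_normalizer_iff.1 hg (MulAut.conj s v)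
      simp only [Subgroup.mem_map_equiv, MulAut.conj_symm_apply, MulAut.conj_apply] at this
      simpa [mul_assoc] using this
    obtain ⟨w, hw, hwe⟩ := D.congr_T hg₀ hy₀
    obtain ⟨v, rfl⟩ := D.exists_ι hs
    refine ⟨v * w * v⁻¹, Subgroup.Normal.conj_mem (H := quat n) (MonoidHom.normal_ker _) _ hw v, ?_⟩
    rw [map_mul, map_mul, map_inv, hwe]
    simp [mul_assoc]

/-- In the quaternion case fusion fixes the centre of the Sylow subgroup. -/
theorem fusion_fixes_Z (hB : (Subgroup.centralizer (D.B : Set G)).relIndex (Subgroup.normalizer (D.B : Set G)) = 2)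
    {x a : G} (hx : x ∈ D.Z) (hax : a * x * a⁻¹ ∈ (D.S : Subgroup G)) : a * x * a⁻¹ = x := by
  have hZS : ∀ z ∈ D.Z, ∀ s ∈ (D.S : Subgroup G), s * z * s⁻¹ = z := by
    rintro _ ⟨z, hz, rfl⟩ s hs
    obtain ⟨v, rfl⟩ := D.exists_ι hs
    rw [mul_inv_eq_iff_eq_mul, ← map_mul, ← map_mul, Subgroup.mem_center_iff.1 hz v]
  set F := groupFusionSystem (D.S : Subgroup G)
  have hle : F ≤ fixSystem F D.Z hZS := le_of_essential D.S.2 (isSaturated_groupFusionSystem D.S) fun R hR α hα => by
    have hRS : R ≤ (D.S : Subgroup G) := hR.elim le_of_eq fun h => h.1.1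
    refine Subgroup.subset_closure ⟨(mem_autGroup hRS).1 hα, fun y hy => ?_⟩
    obtain ⟨g, hg, hgx⟩ := D.exists_of_autGroup hRS hα
    have hfix : ∀ z ∈ D.Z, g * z * g⁻¹ = z := by
      rcases hR with rfl | hR
      · obtain ⟨s, hs, -, hsx⟩ := mem_autInducedBy.1
          (EssentialControl.autGroup_self_le D.S.2 (isSaturated_groupFusionSystem D.S) D.isPGroup_autGroup_S hα)
        intro z hz
        have hzS : z ∈ (D.S : Subgroup G) := D.T_le (D.Z_le_T hz)
        exact ((hgx ⟨z, hzS⟩).symm.trans (hsx ⟨z, hzS⟩)).trans (hZS z hz s hs)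
      · rcases D.essential_cases hR with ⟨rfl, h⟩ | ⟨⟨s, hs, rfl⟩, -⟩
        · exact absurd (D.no_essential_B hB) h
        · intro z hz
          have hg₀ : s⁻¹ * g * s ∈ Subgroup.normalizer (D.T : Set G) := Subgroup.mem_normalizer_iff.2 fun v => by
            have := Subgroup.mem_normalizer_iff.1 hg (MulAut.conj s v)
            simp only [Subgroup.mem_map_equiv, MulAut.conj_symm_apply, MulAut.conj_apply] at this
            simpa [mul_assoc] using this
          have h1 := D.fix_Z hg₀ hz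
          have h2 : s * (s⁻¹ * g * s * z * (s⁻¹ * g * s)⁻¹) * s⁻¹ = s * z * s⁻¹ := congrArg (fun v => s * v * s⁻¹) h1
          rw [hZS z hz s hs, show s * (s⁻¹ * g * s * z * (s⁻¹ * g * s)⁻¹) * s⁻¹ = g * (s * z * s⁻¹) * g⁻¹ by group,
            hZS z hz s hs] at h2
          exact h2
    have hval : ((α y : R) : G) = g * y * g⁻¹ := hgx y
    show ((α y : R) : G) = y
    rcases hy with hy | hy
    · rw [hval, hfix _ hy]
    · have hy' : g * (y : G) * g⁻¹ ∈ D.Z := hval ▸ hy
      have h1 := hfix _ hy'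
      rw [hval]
      exact mul_left_cancel (mul_right_cancel h1)
  have hm : IsMor F ((D.S : Subgroup G) ⊓ (D.S : Subgroup G).comap (MulAut.conj a).toMonoidHom) (fun y => a * y * a⁻¹) :=
    isMor_groupFusionSystem.2 ⟨inf_le_left, fun y hy => hy.2, a, fun _ _ => rfl⟩
  obtain ⟨φ, hφ, he⟩ := hm
  have hx' : x ∈ (D.S : Subgroup G) ⊓ (D.S : Subgroup G).comap (MulAut.conj a).toMonoidHom := ⟨D.T_le (D.Z_le_T hx), hax⟩
  have h := (hle _ hφ).2 ⟨x, hx'⟩ (Or.inl hx)
  exact (he ⟨x, hx'⟩).symm.trans h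

/-- A congruence respected by fusion cuts out a normal subgroup. -/
theorem exists_kernel (M : Subgroup G) (hM : M ≤ (D.S : Subgroup G))
    (hc : ⁅(D.S : Subgroup G), (D.S : Subgroup G)⁆ ≤ M)
    (h : ∀ x a : G, x ∈ (D.S : Subgroup G) → a * x * a⁻¹ ∈ (D.S : Subgroup G) → x⁻¹ * (a * x * a⁻¹) ∈ M) :
    ∃ K : Subgroup G, K.Normal ∧ K.index = M.relIndex (D.S : Subgroup G) ∧ K ⊓ (D.S : Subgroup G) = M := by
  classical
  set S := (D.S : Subgroup G)
  let R : Subgroup S := M.subgroupOf S
  have hR : R.Normal := ⟨fun m hm s => by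
    rw [Subgroup.mem_subgroupOf]
    have h1 := hc (Subgroup.commutator_mem_commutator s.2 m.2)
    have := mul_mem h1 (Subgroup.mem_subgroupOf.1 hm)
    simpa [commutatorElement_def, mul_assoc] using this⟩
  letI : CommGroup (S ⧸ R) := { (inferInstance : Group (S ⧸ R)) with
    mul_comm := fun a b => by
      induction a using QuotientGroup.induction_on with
      | H a => induction b using QuotientGroup.induction_on with
        | H b =>
          rw [← QuotientGroup.mk_mul, ← QuotientGroup.mk_mul, QuotientGroup.eq, Subgroup.mem_subgroupOf]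
          simpa [commutatorElement_def, mul_assoc] using hc (Subgroup.commutator_mem_commutator (inv_mem b.2) (inv_mem a.2)) }
  let φ : S →* S ⧸ R := QuotientGroup.mk' R
  have htr : ∀ x : S, φ.transfer (x : G) = φ x ^ S.index := fun x =>
    TransferControl.transfer_eq_pow_index φ x fun k a ha => by
      rw [← map_pow]
      refine (QuotientGroup.eq.2 ?_).symm
      rw [Subgroup.mem_subgroupOf]
      simpa using h ((x : G) ^ k) a⁻¹ (pow_mem x.2 k) (by simpa using ha)
  obtain ⟨k, hk⟩ := IsPGroup.iff_card.1 (D.S.2.to_quotient R)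
  have hcop : (Nat.card (S ⧸ R)).Coprime S.index := by
    rw [hk]
    exact Nat.Coprime.pow_left _ (Nat.prime_two.coprime_iff_not_dvd.2 D.S.not_dvd_index)
  have hsurj : Function.Surjective φ.transfer := fun y => by
    obtain ⟨y', hy'⟩ := (powCoprime hcop).surjective y
    obtain ⟨x, rfl⟩ := QuotientGroup.mk_surjective y'
    exact ⟨x, (htr x).trans hy'⟩
  refine ⟨φ.transfer.ker, inferInstance, ?_, ?_⟩
  · rw [Subgroup.index_ker, MonoidHom.range_eq_top.2 hsurj, Subgroup.card_top]; rfl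
  · refine le_antisymm ?_ fun m hm => ⟨?_, hM hm⟩
    · rintro x ⟨hxK, hxS⟩
      have h1 : φ ⟨x, hxS⟩ = 1 := TransferControl.eq_one_of_pow_eq_one hcop pow_card_eq_one'
        ((htr ⟨x, hxS⟩).symm.trans hxK)
      exact Subgroup.mem_subgroupOf.1 ((QuotientGroup.eq_one_iff _).1 h1)
    · show φ.transfer ((⟨m, hM hm⟩ : S) : G) = 1
      rw [htr, show φ ⟨m, hM hm⟩ = 1 from (QuotientGroup.eq_one_iff _).2 (Subgroup.mem_subgroupOf.2 hm : (⟨m, hM hm⟩ : S) ∈ R), one_pow]

/-- An element of odd order lies in a normal subgroup of 2-power index. -/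
theorem mem_of_odd {K : Subgroup G} [K.Normal] {j : ℕ} (hK : K.index = 2 ^ j) {g : G} (hg : Odd (orderOf g)) : g ∈ K := by
  refine (QuotientGroup.eq_one_iff g).1 (orderOf_eq_one_iff.1 (Nat.dvd_one.1 ?_))
  have h1 := Nat.dvd_gcd (orderOf_map_dvd (QuotientGroup.mk' K) g) (orderOf_dvd_natCard (g : G ⧸ K))
  rwa [← Subgroup.index, hK, (Nat.Coprime.pow_right j (Nat.coprime_two_right.2 hg)).gcd_eq_one] at h1

/-- A subgroup of index two in a normal subgroup of 2-power index contains its elements of odd order. -/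
theorem mem_index_two {K : Subgroup G} {H : Subgroup K} (hH : H.index = 2) {g : K} (hg : Odd (orderOf (g : G))) : g ∈ H := by
  obtain ⟨k, hk⟩ := hg
  have h1 : g ^ (2 * k + 1) = 1 := Subtype.ext (by rw [SubmonoidClass.coe_pow, ← hk, pow_orderOf_eq_one]; rfl)
  have h2 : (g ^ 2) ^ k ∈ H := pow_mem (Subgroup.sq_mem_of_index_two hH g) k
  rw [pow_succ, pow_mul] at h1
  rw [eq_inv_of_mul_eq_one_right h1]
  exact inv_mem h2

/-- The small quaternion group has no proper subgroup containing all displacements of the automorphism of order three. -/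
theorem quatThin_le (g : G) (hg : g ∈ Subgroup.normalizer (D.T : Set G))
    (hfree : ∀ x ∈ D.T, x⁻¹ * (g * x * g⁻¹) ∈ D.Z → x ∈ D.Z) (M : Subgroup (W N))
    (hM : ∀ q ∈ quatThin n, ∀ q' : W N, D.ι q' = g * D.ι q * g⁻¹ → q⁻¹ * q' ∈ M)
    (hsq : ∀ q ∈ quatThin n, q ^ 2 ∈ M) (hidx : ∀ p ∈ quatThin n, ∀ q ∈ quatThin n, p ∉ M → q ∉ M → p⁻¹ * q ∈ M) :
    quatThin n ≤ M := by
  intro u hu
  by_contra huM
  have hF : Fact (1 < N) := ⟨one_lt_N D.hn⟩
  set c : W N := ⟨half n, half n, false⟩
  have hcM : c ∈ M := by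
    by_cases huc : u ∈ Subgroup.center (W N)
    · obtain ⟨w, hw, hwc⟩ : ∃ w ∈ quatThin n, w ∉ Subgroup.center (W N) := ⟨⟨0, half n, true⟩,
        ⟨(mem_quat D.hn).2 (by simp), by show (0 - half n) + (0 - half n) = (0 : ZMod N); linear_combination -half_add_half D.hn⟩,
        fun h => Bool.noConfusion (mem_center.1 h).1⟩
      have := hsq w hw
      rwa [sq_of_quatThin D.hn hw hwc] at this
    · have := hsq u hu
      rwa [sq_of_quatThin D.hn hu huc] at this
  have huc : u ∉ Subgroup.center (W N) := fun h => by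
    have h1 : u.a + u.b = 0 := by
      have := (mem_quat D.hn).1 hu.1
      rwa [(mem_center.1 h).1] at this
    have h2 : u.a + u.a = 0 := by linear_combination h1 + (mem_center.1 h).2
    rcases (two_mul_eq_zero_iff (by have := D.hn; omega : 1 ≤ n) _).1 h2 with h3 | h3
    · exact huM (by rw [show u = 1 from W.ext h3 ((mem_center.1 h).2.symm.trans h3) (mem_center.1 h).1]; exact one_mem M)
    · exact huM (by rw [show u = c from W.ext h3 ((mem_center.1 h).2.symm.trans h3) (mem_center.1 h).1]; exact hcM)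
  obtain ⟨u', hu', hu'e⟩ := D.conj_quatThin hg hu
  set y := u⁻¹ * u' with hy
  have hyQ : y ∈ quatThin n := mul_mem (inv_mem hu) hu'
  have hyM : y ∈ M := hM u hu u' hu'e
  have hnotZ : ∀ q ∈ quatThin n, q ∉ Subgroup.center (W N) → ∀ q', D.ι q' = g * D.ι q * g⁻¹ → q⁻¹ * q' ∉ Subgroup.center (W N) :=
    fun q hq hqc q' he hz => by
      obtain ⟨z, hz', hze⟩ := hfree (D.ι q) ⟨q, hq.2, rfl⟩ ⟨q⁻¹ * q', hz, by rw [map_mul, map_inv, he]⟩
      exact hqc (D.ι_injective hze ▸ hz')
  have hyc : y ∉ Subgroup.center (W N) := hnotZ u hu huc u' hu'e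
  obtain ⟨y', hy', hy'e⟩ := D.conj_quatThin hg hyQ
  have hy'M : y' ∈ M := by
    have := mul_mem hyM (hM y hyQ y' hy'e)
    rwa [mul_inv_cancel_left] at this
  -- the subgroup meets the quaternion group in a cyclic group of order four
  have hzc : ∀ p ∈ quatThin n, p ∈ M → p ∉ Subgroup.center (W N) → y⁻¹ * p ∈ Subgroup.center (W N) := by
    intro p hp hpM hpc
    by_contra hne
    have huy : y⁻¹ * u ∉ M := fun h => huM (by simpa using mul_mem hyM h)
    obtain ⟨a, b, e⟩ := u
    have hall : ∀ s ∈ quatThin n, (s ∈ Subgroup.center (W N) ∨ y⁻¹ * s ∈ Subgroup.center (W N) ∨ p⁻¹ * s ∈ Subgroup.center (W N) ∨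
        (y * p)⁻¹ * s ∈ Subgroup.center (W N)) := by
      intro s hs
      have hcoord : ∀ r : W N, r ∈ thin n → (r.a - r.b = 0 ∨ r.a - r.b = half n) := fun r hr =>
        (two_mul_eq_zero_iff (by have := D.hn; omega : 1 ≤ n) _).1 hr
      have key : ∀ r : W N, r ∈ thin n → (r ∈ Subgroup.center (W N) ↔ r.e = false ∧ r.a - r.b = 0) := fun r _ => by
        rw [mem_center, sub_eq_zero]
      let T : W N → Bool × Bool := fun r => (r.e, decide (r.a - r.b = 0))
      have hT : ∀ r r' : W N, r ∈ thin n → r' ∈ thin n → T r = T r' → r⁻¹ * r' ∈ Subgroup.center (W N) := by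
        intro r r' hr hr' he
        have he1 : r.e = r'.e := congrArg Prod.fst he
        have he2 : (r.a - r.b = 0 ↔ r'.a - r'.b = 0) := by simpa [T] using congrArg Prod.snd he
        have hd : r.a - r.b = r'.a - r'.b := by
          rcases hcoord r hr with h1 | h1 <;> rcases hcoord r' hr' with h2 | h2
          · rw [h1, h2]
          · rw [h1, he2.1 h1]
          · rw [h2, he2.2 h2]
          · rw [h1, h2]
        obtain ⟨c1, d1, _ | _⟩ := r <;> obtain ⟨c2, d2, _ | _⟩ := r' <;> simp at he1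
        · exact mem_center.2 ⟨rfl, by show -c1 + c2 = -d1 + d2; simp only at hd; linear_combination -hd⟩
        · exact mem_center.2 ⟨rfl, by show -d1 + d2 = -c1 + c2; simp only at hd; linear_combination hd⟩
      have hyp : y * p ∈ thin n := mul_mem hyQ.2 hp.2
      by_contra hno
      simp only [not_or] at hno
      obtain ⟨n1, n2, n3, n4⟩ := hno
      have d1 : T y ≠ T 1 := fun h => hyc (by simpa using inv_mem (hT y 1 hyQ.2 (one_mem _) h))
      have d2 : T p ≠ T 1 := fun h => hpc (by simpa using inv_mem (hT p 1 hp.2 (one_mem _) h))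
      have d3 : T y ≠ T p := fun h => hne (hT y p hyQ.2 hp.2 h)
      have hysq : y ^ 2 ∈ Subgroup.center (W N) := sq_of_quatThin D.hn hyQ hyc ▸ mem_center.2 ⟨rfl, rfl⟩
      have hpsq : p ^ 2 ∈ Subgroup.center (W N) := sq_of_quatThin D.hn hp hpc ▸ mem_center.2 ⟨rfl, rfl⟩
      have d4 : T (y * p) ≠ T 1 := fun h => hne (by
        have h' := inv_mem (mul_mem hysq (inv_mem (inv_mem (hT (y * p) 1 hyp (one_mem _) h))))
        have h5 : y⁻¹ * p = (y ^ 2)⁻¹ * (y * p) := by group
        rw [h5]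
        refine mul_mem (inv_mem hysq) ?_
        simpa using inv_mem (hT (y * p) 1 hyp (one_mem _) h))
      have d5 : T (y * p) ≠ T y := fun h => hpc (by simpa using inv_mem (hT (y * p) y hyp hyQ.2 h))
      have d6 : T (y * p) ≠ T p := fun h => hyc (by
        have h6 := hT p (y * p) hp.2 hyp h.symm
        have h7 : p⁻¹ * (y * p) = p⁻¹ * y * p := by group
        rw [h7] at h6
        have := Subgroup.Normal.conj_mem (H := Subgroup.center (W N)) inferInstance _ h6 p
        simpa [mul_assoc] using this)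
      have e1 : T s ≠ T 1 := fun h => n1 (by simpa using inv_mem (hT s 1 hs.2 (one_mem _) h))
      have e2 : T s ≠ T y := fun h => n2 (hT y s hyQ.2 hs.2 h.symm)
      have e3 : T s ≠ T p := fun h => n3 (hT p s hp.2 hs.2 h.symm)
      have e4 : T s ≠ T (y * p) := fun h => n4 (hT (y * p) s hyp hs.2 h.symm)
      revert d1 d2 d3 d4 d5 d6 e1 e2 e3 e4
      generalize T 1 = A; generalize T y = B; generalize T p = C; generalize T (y * p) = E; generalize T s = F
      intros
      have hnd : [A, B, C, E, F].Nodup := by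
        simp only [List.nodup_cons, List.mem_cons, List.not_mem_nil, List.nodup_nil, or_false, not_or, and_true, not_false_eq_true]
        simp only [ne_eq, eq_comm] at *
        tauto
      have := hnd.length_le_card
      simp at this
    have hcent : ∀ z ∈ quatThin n, z ∈ Subgroup.center (W N) → z ∈ M := by
      intro z hz hzc
      obtain ⟨hze, hzab⟩ := mem_center.1 hzc
      have h1 : z.a + z.b = 0 := by
        have := (mem_quat D.hn).1 hz.1
        rwa [hze] at this
      have h2 : z.a + z.a = 0 := by linear_combination h1 + hzab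
      rcases (two_mul_eq_zero_iff (by have := D.hn; omega : 1 ≤ n) _).1 h2 with h3 | h3
      · rw [show z = 1 from W.ext h3 (hzab.symm.trans h3) hze]; exact one_mem M
      · rw [show z = c from W.ext h3 (hzab.symm.trans h3) hze]; exact hcM
    rcases hall _ hu with h | h | h | h
    · exact huM (hcent _ hu h)
    · exact huy (hcent _ (mul_mem (inv_mem hyQ) hu) h)
    · have := mul_mem hpM (hcent _ (mul_mem (inv_mem hp) hu) h)
      exact huM (by simpa using this)
    · have := mul_mem (mul_mem hyM hpM) (hcent _ (mul_mem (inv_mem (mul_mem hyQ hp)) hu) h)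
      exact huM (by rwa [mul_inv_cancel_left] at this)
  by_cases hy'c : y' ∈ Subgroup.center (W N)
  · obtain ⟨v, hv, hve⟩ : g⁻¹ * D.ι y' * (g⁻¹)⁻¹ ∈ D.Z := by
      rw [D.fix_Z (inv_mem hg) ⟨y', hy'c, rfl⟩]; exact ⟨y', hy'c, rfl⟩
    rw [hy'e, show g⁻¹ * (g * D.ι y * g⁻¹) * (g⁻¹)⁻¹ = D.ι y by group] at hve
    exact hyc (D.ι_injective hve ▸ hv)
  · exact hnotZ y hyQ hyc y' hy'e (hzc y' hy' hy'M hy'c)

end Setup

end Cfsg.Agent.Fusion.Wreathed
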