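import Mathlib
import Cfsg.Agent.Lib.Fusion.QuasiDihedralLocal
import Cfsg.Agent.Lib.Fusion.WreathedQuaternion

/-!
Fusion in a group with a quasi-dihedral Sylow 2-subgroup.
-/

set_option autoImplicit false

namespace Cfsg.Agent.Fusion.QuasiDihedral

open Q
open Cfsg Cfsg.FusionSystem
open scoped commutatorElement

/-- A congruence respected by fusion cuts out a normal subgroup. -/
theorem exists_kernel {G : Type*} [Group G] [Finite G] (P : Sylow 2 G) (M : Subgroup G) (hM : M ≤ (P : Subgroup G))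
    (hc : ⁅(P : Subgroup G), (P : Subgroup G)⁆ ≤ M)
    (h : ∀ x a : G, x ∈ (P : Subgroup G) → a * x * a⁻¹ ∈ (P : Subgroup G) → x⁻¹ * (a * x * a⁻¹) ∈ M) :
    ∃ K : Subgroup G, K.Normal ∧ K.index = M.relIndex (P : Subgroup G) ∧ K ⊓ (P : Subgroup G) = M := by
  classical
  set S := (P : Subgroup G)
  let R : Subgroup S := M.subgroupOf S
  have hR : R.Normal := ⟨fun m hm s => by
    rw [Subgroup.mem_subgroupOf]
    have h1 := hc (Subgroup.commutator_mem_commutator s.2 m.2)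
    have := mul_mem h1 (Subgroup.mem_subgroupOf.1 hm)
    simpa [commutatorElement_def, mul_assoc] using this⟩
  letI : CommGroup (S ⧸ R) := { (inferInstance : Group (S ⧸ R)) with
    mul_comm := fun a b => by
      induction a using QuotientGroup.induction_on with
      | H a => induction b using QuotientGroup.induction_on with
        | H b =>
          rw [← QuotientGroup.mk_mul, ← QuotientGroup.mk_mul, QuotientGroup.eq, Subgroup.mem_subgroupOf]
          simpa [commutatorElement_def, mul_assoc] using hc (Subgroup.commutator_mem_commutator (inv_mem b.2) (inv_mem a.2)) }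
  let φ : S →* S ⧸ R := QuotientGroup.mk' R
  have htr : ∀ x : S, φ.transfer (x : G) = φ x ^ S.index := fun x =>
    TransferControl.transfer_eq_pow_index φ x fun k a ha => by
      rw [← map_pow]
      refine (QuotientGroup.eq.2 ?_).symm
      rw [Subgroup.mem_subgroupOf]
      simpa using h ((x : G) ^ k) a⁻¹ (pow_mem x.2 k) (by simpa using ha)
  obtain ⟨k, hk⟩ := IsPGroup.iff_card.1 (P.2.to_quotient R)
  have hcop : (Nat.card (S ⧸ R)).Coprime S.index := by
    rw [hk]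
    exact Nat.Coprime.pow_left _ (Nat.prime_two.coprime_iff_not_dvd.2 P.not_dvd_index)
  have hsurj : Function.Surjective φ.transfer := fun y => by
    obtain ⟨y', hy'⟩ := (powCoprime hcop).surjective y
    obtain ⟨x, rfl⟩ := QuotientGroup.mk_surjective y'
    exact ⟨x, (htr x).trans hy'⟩
  refine ⟨φ.transfer.ker, inferInstance, ?_, ?_⟩
  · rw [Subgroup.index_ker, MonoidHom.range_eq_top.2 hsurj, Subgroup.card_top]; rfl
  · refine le_antisymm ?_ fun m hm => ⟨?_, hM hm⟩
    · rintro x ⟨hxK, hxS⟩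
      have h1 : φ ⟨x, hxS⟩ = 1 := TransferControl.eq_one_of_pow_eq_one hcop pow_card_eq_one'
        ((htr ⟨x, hxS⟩).symm.trans hxK)
      exact Subgroup.mem_subgroupOf.1 ((QuotientGroup.eq_one_iff _).1 h1)
    · show φ.transfer ((⟨m, hM hm⟩ : S) : G) = 1
      rw [htr, show φ ⟨m, hM hm⟩ = 1 from (QuotientGroup.eq_one_iff _).2 (Subgroup.mem_subgroupOf.2 hm : (⟨m, hM hm⟩ : S) ∈ R), one_pow]

namespace Setup

variable {n : ℕ} {G : Type*} [Group G] (D : Setup G n)

/-- The central involution. -/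
def zI : G := D.ι ⟨half n, false⟩

/-- A reflection of order two. -/
def tI : G := D.ι ⟨0, true⟩

/-- An element of order four in the cyclic maximal subgroup. -/
def qI : G := D.ι ⟨quarter n, false⟩

/-- An element of order four outside the cyclic maximal subgroup. -/
def pI : G := D.ι ⟨1, true⟩

/-- The dihedral maximal subgroup. -/
def MD : Subgroup G := (dihMax D.hn).map D.ι

/-- The quaternion maximal subgroup. -/
def MQ : Subgroup G := (quatMax D.hn).map D.ι

theorem orderOf_reps : orderOf D.zI = 2 ∧ orderOf D.tI = 2 ∧ orderOf D.qI = 4 ∧ orderOf D.pI = 4 := by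
  obtain ⟨-, -, h1, h2, h3, h4⟩ := classes D.hn
  exact ⟨by rw [zI, orderOf_injective D.ι D.ι_injective, h1], by rw [tI, orderOf_injective D.ι D.ι_injective, h2],
    by rw [qI, orderOf_injective D.ι D.ι_injective, h3], by rw [pI, orderOf_injective D.ι D.ι_injective, h4]⟩

theorem commutator_le {X : Subgroup (Q n)} (hX : evens n ≤ X) : ⁅(D.S : Subgroup G), (D.S : Subgroup G)⁆ ≤ X.map D.ι := by
  rw [← D.range_ι, MonoidHom.range_eq_map, ← Subgroup.map_commutator, ← commutator_def, commutator_eq D.hn]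
  exact Subgroup.map_mono hX

theorem conj_mem {X : Subgroup (Q n)} [X.Normal] {s x : G} (hs : s ∈ (D.S : Subgroup G)) (hx : x ∈ X.map D.ι) :
    s * x * s⁻¹ ∈ X.map D.ι := by
  obtain ⟨u, hu, rfl⟩ := hx
  obtain ⟨v, rfl⟩ := D.exists_ι hs
  exact ⟨v * u * v⁻¹, Subgroup.Normal.conj_mem inferInstance u hu v, by simp⟩

theorem relIndex_max {X : Subgroup (Q n)} (hX : Nat.card X = 2 ^ n) : (X.map D.ι).relIndex (D.S : Subgroup G) = 2 := by
  rw [← D.range_ι, MonoidHom.range_eq_map, Subgroup.relIndex_map_map_of_injective _ _ D.ι_injective,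
    Subgroup.relIndex_top_right, index_two_of_card X D.hn hX]

variable [Finite G]

theorem cases_of_order {m : ℕ} {k : ℕ} (hk : m = 2 ^ k) (a b : Q n)
    (hall : ∀ u : Q n, orderOf u = m → IsConj u a ∨ IsConj u b) (x : G) (hx : orderOf x = m) :
    IsConj x (D.ι a) ∨ IsConj x (D.ι b) := by
  have hp : IsPGroup 2 (Subgroup.zpowers x) := IsPGroup.of_card (n := k) (by rw [Nat.card_zpowers, hx, hk])
  obtain ⟨g, hg⟩ := exists_conj_le_sylow D.S hp
  obtain ⟨u, hu⟩ := D.exists_ι (hg ⟨x, Subgroup.mem_zpowers x, rfl⟩ : (MulAut.conj g).toMonoidHom x ∈ (D.S : Subgroup G))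
  have hxu : IsConj x (D.ι u) := isConj_iff.2 ⟨g, hu.symm⟩
  have ho : orderOf u = m := by
    rw [← orderOf_injective D.ι D.ι_injective, hu, orderOf_injective _ (MulAut.conj g).injective, hx]
  exact (hall u ho).imp (fun h => hxu.trans (D.ι.map_isConj h)) fun h => hxu.trans (D.ι.map_isConj h)

theorem classes_two : {C : ConjClasses G | ∃ t : G, orderOf t = 2 ∧ ConjClasses.mk t = C} = {ConjClasses.mk D.zI, ConjClasses.mk D.tI} := by
  obtain ⟨h1, h2, -, -⟩ := D.orderOf_reps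
  ext C
  constructor
  · rintro ⟨t, ht, rfl⟩
    exact (D.cases_of_order (k := 1) rfl _ _ (classes D.hn).1 t ht).imp ConjClasses.mk_eq_mk_iff_isConj.2
      fun h => (ConjClasses.mk_eq_mk_iff_isConj.2 h : _)
  · rintro (rfl | rfl)
    exacts [⟨_, h1, rfl⟩, ⟨_, h2, rfl⟩]

theorem classes_four : {C : ConjClasses G | ∃ t : G, orderOf t = 4 ∧ ConjClasses.mk t = C} = {ConjClasses.mk D.qI, ConjClasses.mk D.pI} := by
  obtain ⟨-, -, h1, h2⟩ := D.orderOf_reps
  ext C
  constructor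
  · rintro ⟨t, ht, rfl⟩
    exact (D.cases_of_order (k := 2) rfl _ _ (classes D.hn).2.1 t ht).imp ConjClasses.mk_eq_mk_iff_isConj.2
      fun h => (ConjClasses.mk_eq_mk_iff_isConj.2 h : _)
  · rintro (rfl | rfl)
    exacts [⟨_, h1, rfl⟩, ⟨_, h2, rfl⟩]

theorem card_classes_two : (IsConj D.zI D.tI → Nat.card {C : ConjClasses G // ∃ t : G, orderOf t = 2 ∧ ConjClasses.mk t = C} = 1) ∧
    (¬ IsConj D.zI D.tI → Nat.card {C : ConjClasses G // ∃ t : G, orderOf t = 2 ∧ ConjClasses.mk t = C} = 2) := by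
  rw [← Set.coe_setOf, Nat.card_coe_set_eq, D.classes_two]
  constructor <;> intro h
  · rw [ConjClasses.mk_eq_mk_iff_isConj.2 h, Set.pair_eq_singleton, Set.ncard_singleton]
  · exact Set.ncard_pair fun h' => h (ConjClasses.mk_eq_mk_iff_isConj.1 h')

theorem card_classes_four : (IsConj D.qI D.pI → Nat.card {C : ConjClasses G // ∃ t : G, orderOf t = 4 ∧ ConjClasses.mk t = C} = 1) ∧
    (¬ IsConj D.qI D.pI → Nat.card {C : ConjClasses G // ∃ t : G, orderOf t = 4 ∧ ConjClasses.mk t = C} = 2) := by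
  rw [← Set.coe_setOf, Nat.card_coe_set_eq, D.classes_four]
  constructor <;> intro h
  · rw [ConjClasses.mk_eq_mk_iff_isConj.2 h, Set.pair_eq_singleton, Set.ncard_singleton]
  · exact Set.ncard_pair fun h' => h (ConjClasses.mk_eq_mk_iff_isConj.1 h')

theorem isConj_z_t (hT : (Subgroup.centralizer (D.T : Set G)).relIndex (Subgroup.normalizer (D.T : Set G)) = 6) :
    IsConj D.zI D.tI := by
  obtain ⟨g, hgN, -, hfree⟩ := D.exists_action_T hT
  obtain ⟨h1, -⟩ := D.orderOf_reps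
  have hz : D.zI ∈ D.T := ⟨_, (ref_mem_four D.hn).2, rfl⟩
  obtain ⟨w, hw, hwe⟩ := (Subgroup.mem_normalizer_iff.1 hgN _).1 hz
  have how : orderOf w = 2 := by
    rw [← orderOf_injective D.ι D.ι_injective, hwe, show g * D.zI * g⁻¹ = MulAut.conj g D.zI from rfl, MulEquiv.orderOf_eq, h1]
  have hc : IsConj D.zI (D.ι w) := isConj_iff.2 ⟨g, hwe.symm⟩
  rcases (classes D.hn).1 w how with h | h
  · exfalso
    obtain ⟨s, hs⟩ := isConj_iff.1 h.symm
    have hcen : (⟨half n, false⟩ : Q n) ∈ Subgroup.center (Q n) := (mem_center D.hn).2 ⟨rfl, Or.inr rfl⟩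
    have hwc : w = ⟨half n, false⟩ := by rw [← hs, Subgroup.mem_center_iff.1 hcen s, mul_inv_cancel_right]
    have := hfree _ hz (hwe.symm.trans (congrArg D.ι hwc))
    rw [this, orderOf_one] at h1
    norm_num at h1
  · exact hc.trans (D.ι.map_isConj h)

theorem qI_mem : D.qI ∈ D.R := ⟨_, by
  rw [SetLike.mem_coe, quat8, mem_sub, mem_torsion_two D.hn]
  simp only [cond_false, sub_zero]
  rw [quarter_add_quarter D.hn, half_add_half D.hn], rfl⟩

theorem qI_sq : D.qI ^ 2 = D.zI := by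
  rw [qI, zI, ← map_pow, pow_two_of_base, quarter_add_quarter D.hn]

theorem isConj_q_p (hR : (D.R ⊔ Subgroup.centralizer (D.R : Set G)).relIndex (Subgroup.normalizer (D.R : Set G)) = 6) :
    IsConj D.qI D.pI := by
  obtain ⟨g, hgN, -, hfree⟩ := D.exists_action_R hR
  obtain ⟨h2, -, h4, -⟩ := D.orderOf_reps
  obtain ⟨w, hw, hwe⟩ := (Subgroup.mem_normalizer_iff.1 hgN _).1 D.qI_mem
  have how : orderOf w = 4 := by
    rw [← orderOf_injective D.ι D.ι_injective, hwe, show g * D.qI * g⁻¹ = MulAut.conj g D.qI from rfl, MulEquiv.orderOf_eq, h4]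
  have hc : IsConj D.qI (D.ι w) := isConj_iff.2 ⟨g, hwe.symm⟩
  rcases (classes D.hn).2.1 w how with h | h
  · exfalso
    refine hfree _ D.qI_mem (by rw [D.qI_sq]; intro h'; rw [h', orderOf_one] at h2; norm_num at h2) ?_
    obtain ⟨i, e⟩ := w
    obtain rfl : e = false := by
      by_contra he
      exact not_isConj_of_e he h
    have hi : i ∈ torsion n 2 := by
      have := hw
      rw [SetLike.mem_coe, quat8, mem_sub] at this
      simpa using this
    obtain ⟨m, hm⟩ := (mem_zpowers_gen (j := 2)).2 hi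
    refine ⟨m, ?_⟩
    rw [← hwe]
    show D.qI ^ m = _
    rw [qI, ← map_zpow]
    exact congrArg D.ι hm
  · exact hc.trans (D.ι.map_isConj h)

theorem isPGroup_autGroup_S : IsPGroup 2 ((groupFusionSystem (D.S : Subgroup G)).autGroup (D.S : Subgroup G)) :=
  ((isPGroup_mulAut_self D.hn).of_equiv (MulAut.congr D.φ)).to_subgroup _

theorem essential_cases {P : Subgroup G} (h : (groupFusionSystem (D.S : Subgroup G)).IsEssential 2 P) :
    ((∃ a ∈ (D.S : Subgroup G), P = D.T.map (MulAut.conj a).toMonoidHom) ∧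
        (Subgroup.centralizer (D.T : Set G)).relIndex (Subgroup.normalizer (D.T : Set G)) = 6) ∨
      ((∃ a ∈ (D.S : Subgroup G), P = D.R.map (MulAut.conj a).toMonoidHom) ∧
        (D.R ⊔ Subgroup.centralizer (D.R : Set G)).relIndex (Subgroup.normalizer (D.R : Set G)) = 6) := by
  have hne := EssentialControl.not_isPGroup_autGroup D.S.2 (isSaturated_groupFusionSystem D.S) h
  have hPS : P ≤ (D.S : Subgroup G) := h.1.1
  have hC := h.1.2 P (isConj_refl hPS)
  set X := P.comap D.ι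
  have hXC : Subgroup.centralizer (X : Set (Q n)) ≤ X := fun u hu => by
    refine hC ⟨D.ι_mem u, fun p hp => ?_⟩
    obtain ⟨w, rfl⟩ := D.exists_ι (hPS hp)
    rw [← map_mul, ← map_mul, hu w hp]
  have hX := D.map_comap hPS
  have hXA : ¬ IsPGroup 2 (MulAut X) := fun hh => hne (by
    have e : MulAut (X.map D.ι : Subgroup G) ≃* MulAut X := MulAut.congr (X.equivMapOfInjective D.ι D.ι_injective).symm
    rw [hX] at e
    exact (hh.of_equiv e.symm).to_subgroup _)
  rcases self_centralizing_cases D.hn X hXC hXA with ⟨s, h1⟩ | ⟨s, h1⟩ <;>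
    have hP := (hX.symm.trans (congrArg (Subgroup.map D.ι) h1.symm)).trans (D.map_conj _ _)
  · refine Or.inl ⟨⟨D.ι s, D.ι_mem s, hP⟩, ?_⟩
    obtain ⟨d, hd | hd, -, hd2⟩ := D.automizer_T
    · exfalso
      refine hne (IsPGroup.of_card (n := 1) ?_)
      rw [autGroup_card hPS, hP, (Wreathed.relIndex_conj _ _).1]
      exact hd2.trans (by rw [hd]; rfl)
    · rw [hd2, hd]
  · refine Or.inr ⟨⟨D.ι s, D.ι_mem s, hP⟩, ?_⟩
    obtain ⟨d, hd | hd, hc, hd2⟩ := D.automizer_R
    · exfalso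
      refine hne (IsPGroup.of_card (n := 3) ?_)
      rw [autGroup_card hPS, hP, (Wreathed.relIndex_conj _ _).1, ← Wreathed.card_range_normalizerMonoidHom]
      exact hc.trans (by rw [hd]; rfl)
    · rw [hd2, hd]

/-- A congruence holding for the essential subgroups holds for all fusion. -/
theorem congr_fusion (X : Subgroup (Q n)) (hX : evens n ≤ X)
    (h : ∀ P, (groupFusionSystem (D.S : Subgroup G)).IsEssential 2 P → P ≤ X.map D.ι)
    {x a : G} (hx : x ∈ (D.S : Subgroup G)) (hax : a * x * a⁻¹ ∈ (D.S : Subgroup G)) : x⁻¹ * (a * x * a⁻¹) ∈ X.map D.ι := by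
  have hm : IsMor (groupFusionSystem (D.S : Subgroup G))
      ((D.S : Subgroup G) ⊓ (D.S : Subgroup G).comap (MulAut.conj a).toMonoidHom) (fun y => a * y * a⁻¹) :=
    isMor_groupFusionSystem.2 ⟨inf_le_left, fun y hy => hy.2, a, fun _ _ => rfl⟩
  refine EssentialControl.congr_of_essential D.S.2 (isSaturated_groupFusionSystem D.S) _ (D.commutator_le hX) (fun P hP α hα y => ?_) hm ⟨hx, hax⟩
  rcases hP with rfl | hP
  · obtain ⟨s, hs, -, hsx⟩ := mem_autInducedBy.1
      (EssentialControl.autGroup_self_le D.S.2 (isSaturated_groupFusionSystem D.S) D.isPGroup_autGroup_S hα)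
    rw [hsx y]
    have := D.commutator_le hX (Subgroup.commutator_mem_commutator (inv_mem y.2) hs)
    simpa [commutatorElement_def, mul_assoc] using this
  · exact mul_mem (inv_mem (h P hP y.2)) (h P hP (α y).2)

theorem congr_MQ (hT : (Subgroup.centralizer (D.T : Set G)).relIndex (Subgroup.normalizer (D.T : Set G)) = 2)
    {x a : G} (hx : x ∈ (D.S : Subgroup G)) (hax : a * x * a⁻¹ ∈ (D.S : Subgroup G)) : x⁻¹ * (a * x * a⁻¹) ∈ D.MQ := by
  have hle := evens_le_quatMax D.hn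
  have := normal_of_evens_le D.hn hle
  refine D.congr_fusion _ hle (fun P hP => ?_) hx hax
  rcases D.essential_cases hP with ⟨-, h⟩ | ⟨⟨s, hs, rfl⟩, -⟩
  · omega
  · rintro _ ⟨y, hy, rfl⟩
    exact D.conj_mem hs (Subgroup.map_mono (quat8_le_quatMax D.hn) hy)

theorem congr_MD (hR : (D.R ⊔ Subgroup.centralizer (D.R : Set G)).relIndex (Subgroup.normalizer (D.R : Set G)) = 2)
    {x a : G} (hx : x ∈ (D.S : Subgroup G)) (hax : a * x * a⁻¹ ∈ (D.S : Subgroup G)) : x⁻¹ * (a * x * a⁻¹) ∈ D.MD := by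
  have hle := evens_le_dihMax D.hn
  have := normal_of_evens_le D.hn hle
  refine D.congr_fusion _ hle (fun P hP => ?_) hx hax
  rcases D.essential_cases hP with ⟨⟨s, hs, rfl⟩, -⟩ | ⟨-, h⟩
  · rintro _ ⟨y, hy, rfl⟩
    exact D.conj_mem hs (Subgroup.map_mono (four_le_dihMax D.hn) hy)
  · omega

theorem not_isConj_z_t (hT : (Subgroup.centralizer (D.T : Set G)).relIndex (Subgroup.normalizer (D.T : Set G)) = 2) :
    ¬ IsConj D.zI D.tI := fun h => by
  obtain ⟨a, ha⟩ := isConj_iff.1 h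
  have hmem : D.zI ∈ D.MQ := ⟨_, (mem_quatMax D.hn).2 ⟨quarter n, by simp [quarter_add_quarter D.hn]⟩, rfl⟩
  have h1 := mul_mem hmem (D.congr_MQ hT (D.ι_mem _) (ha ▸ D.ι_mem _ : a * D.zI * a⁻¹ ∈ (D.S : Subgroup G)))
  rw [show D.ι ⟨half n, false⟩ = D.zI from rfl, mul_inv_cancel_left, ha, MQ, tI, Subgroup.mem_map_iff_mem D.ι_injective, mem_quatMax D.hn] at h1
  obtain ⟨d, hd⟩ := h1
  exact not_one_even D.hn ⟨-d, by simp only [cond_true] at hd; linear_combination -hd⟩

theorem not_isConj_q_p (hR : (D.R ⊔ Subgroup.centralizer (D.R : Set G)).relIndex (Subgroup.normalizer (D.R : Set G)) = 2) :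
    ¬ IsConj D.qI D.pI := fun h => by
  obtain ⟨a, ha⟩ := isConj_iff.1 h
  have hn := D.hn
  have hmem : D.qI ∈ D.MD := ⟨_, (mem_dihMax hn).2 (torsion_even hn (j := 2) (by omega) (by
    rw [mem_torsion_two hn, quarter_add_quarter hn, half_add_half hn])), rfl⟩
  have h1 := mul_mem hmem (D.congr_MD hR (D.ι_mem _) (ha ▸ D.ι_mem _ : a * D.qI * a⁻¹ ∈ (D.S : Subgroup G)))
  rw [show D.ι ⟨quarter n, false⟩ = D.qI from rfl, mul_inv_cancel_left, ha, MD, pI, Subgroup.mem_map_iff_mem D.ι_injective, mem_dihMax hn] at h1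
  exact not_one_even hn h1

/-- The fusion is inner when both automizers are 2-groups. -/
theorem fusion_inner (hT : (Subgroup.centralizer (D.T : Set G)).relIndex (Subgroup.normalizer (D.T : Set G)) = 2)
    (hR : (D.R ⊔ Subgroup.centralizer (D.R : Set G)).relIndex (Subgroup.normalizer (D.R : Set G)) = 2)
    {x a : G} (hx : x ∈ (D.S : Subgroup G)) (hax : a * x * a⁻¹ ∈ (D.S : Subgroup G)) :
    ∃ z ∈ (D.S : Subgroup G), z * x * z⁻¹ = a * x * a⁻¹ := by
  have hno : ∀ P, ¬ (groupFusionSystem (D.S : Subgroup G)).IsEssential 2 P := fun P hP => by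
    rcases D.essential_cases hP with ⟨-, h⟩ | ⟨-, h⟩ <;> omega
  have hle := EssentialControl.le_inner D.S.2 (isSaturated_groupFusionSystem D.S) D.isPGroup_autGroup_S hno
  have hm : IsMor (groupFusionSystem (D.S : Subgroup G))
      ((D.S : Subgroup G) ⊓ (D.S : Subgroup G).comap (MulAut.conj a).toMonoidHom) (fun y => a * y * a⁻¹) :=
    isMor_groupFusionSystem.2 ⟨inf_le_left, fun y hy => hy.2, a, fun _ _ => rfl⟩
  obtain ⟨-, z, hz, h⟩ := isMor_inner.1 (le_iff_isMor.1 hle _ _ hm)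
  exact ⟨z, hz, (h x ⟨hx, hax⟩).symm⟩

/-- The four-subgroup lies in every subgroup containing the displacements of the action of order three. -/
theorem T_le_of_disp {g : G} (hgN : g ∈ Subgroup.normalizer (D.T : Set G)) (hfree : ∀ x ∈ D.T, g * x * g⁻¹ = x → x = 1)
    (M : Subgroup G) (hM : ∀ x ∈ D.T, x⁻¹ * (g * x * g⁻¹) ∈ M) : D.T ≤ M := by
  have hconj : ∀ x ∈ D.T, g * x * g⁻¹ ∈ D.T := fun x hx => (Subgroup.mem_normalizer_iff.1 hgN x).1 hx
  obtain ⟨h2, -⟩ := D.orderOf_reps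
  have hz : D.zI ∈ D.T := ⟨_, (ref_mem_four D.hn).2, rfl⟩
  have hz1 : D.zI ≠ 1 := fun h => by rw [h, orderOf_one] at h2; norm_num at h2
  set d := D.zI⁻¹ * (g * D.zI * g⁻¹) with hd
  have hdT : d ∈ D.T := mul_mem (inv_mem hz) (hconj _ hz)
  have hd1 : d ≠ 1 := fun h => hz1 (hfree _ hz (inv_mul_eq_one.1 h).symm)
  have hd'M : g * d * g⁻¹ ∈ M := by
    have := mul_mem (hM _ hz) (hM d hdT)
    rwa [← hd, mul_inv_cancel_left] at this
  have hd'1 : g * d * g⁻¹ ≠ 1 := fun h => hd1 (by simpa using h)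
  have hne : g * d * g⁻¹ ≠ d := fun h => hd1 (hfree d hdT h)
  have h3 : ({1, d, g * d * g⁻¹} : Set G) ⊆ (D.T ⊓ M : Subgroup G) := by
    rintro _ (rfl | rfl | rfl)
    exacts [one_mem _, ⟨hdT, hM _ hz⟩, ⟨hconj d hdT, hd'M⟩]
  have h4 := Set.ncard_le_ncard h3 (Set.toFinite _)
  rw [← Nat.card_coe_set_eq ((D.T ⊓ M : Subgroup G) : Set G), SetLike.coe_sort_coe,
    show ({1, d, g * d * g⁻¹} : Set G).ncard = 3 from
      Set.ncard_eq_three.2 ⟨_, _, _, fun h => hd1 h.symm, fun h => hd'1 h.symm, fun h => hne h.symm, rfl⟩] at h4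
  obtain ⟨c, hc⟩ := Subgroup.card_dvd_of_le (inf_le_left : D.T ⊓ M ≤ D.T)
  rw [D.isKleinFour_T.card_four] at hc
  refine inf_eq_left.1 (Subgroup.eq_of_le_of_card_ge inf_le_left ?_)
  rw [D.isKleinFour_T.card_four]
  rcases c with _ | _ | c
  · simp at hc
  · omega
  · nlinarith

/-- The quaternion subgroup lies in every subgroup containing the displacements of the action of order three. -/
theorem R_le_of_disp {g : G} (hgN : g ∈ Subgroup.normalizer (D.R : Set G))
    (hfree : ∀ x ∈ D.R, x ^ 2 ≠ 1 → g * x * g⁻¹ ∉ Subgroup.zpowers x)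
    (M : Subgroup G) (hM : ∀ x ∈ D.R, x⁻¹ * (g * x * g⁻¹) ∈ M) : D.R ≤ M := by
  have hconj : ∀ x ∈ D.R, g * x * g⁻¹ ∈ D.R := fun x hx => (Subgroup.mem_normalizer_iff.1 hgN x).1 hx
  obtain ⟨h2, -, h4, -⟩ := D.orderOf_reps
  obtain ⟨e⟩ := D.R_equiv
  have hq2 : D.qI ^ 2 ≠ 1 := by rw [D.qI_sq]; intro h; rw [h, orderOf_one] at h2; norm_num at h2
  set d := D.qI⁻¹ * (g * D.qI * g⁻¹) with hd
  have hdR : d ∈ D.R := mul_mem (inv_mem D.qI_mem) (hconj _ D.qI_mem)
  have hcard : Nat.card D.R = 8 := by rw [Nat.card_congr e.toEquiv, Nat.card_eq_fintype_card, QuaternionGroup.card]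
  have hd2 : d ^ 2 ≠ 1 := fun h => by
    have hkey : ∀ u v : QuaternionGroup 2, u ^ 2 ≠ 1 → v ^ 2 = 1 → v = u ^ 0 ∨ v = u ^ 2 := by decide
    refine hfree _ D.qI_mem hq2 ?_
    have hdz : d ∈ Subgroup.zpowers D.qI := by
      rcases hkey (e ⟨_, D.qI_mem⟩) (e ⟨d, hdR⟩) (fun h' => hq2 (congrArg Subtype.val (e.injective (by rw [map_pow, h', map_one]) : (⟨_, D.qI_mem⟩ : D.R) ^ 2 = 1)))
        (by rw [← map_pow, show (⟨d, hdR⟩ : D.R) ^ 2 = 1 from Subtype.ext h, map_one]) with hv | hv <;>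
      · rw [← map_pow] at hv
        have := congrArg Subtype.val (e.injective hv)
        rw [SubmonoidClass.coe_pow] at this
        rw [show d = _ from this]
        exact Subgroup.npow_mem_zpowers _ _
    have := mul_mem (Subgroup.mem_zpowers D.qI) hdz
    rwa [hd, mul_inv_cancel_left] at this
  have hd'M : g * d * g⁻¹ ∈ M := by
    have := mul_mem (hM _ D.qI_mem) (hM d hdR)
    rwa [← hd, mul_inv_cancel_left] at this
  have hlt : Subgroup.zpowers d < D.R ⊓ M := by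
    refine lt_of_le_of_ne ((Subgroup.zpowers_le).2 ⟨hdR, hM _ D.qI_mem⟩) fun h => hfree d hdR hd2 ?_
    rw [h]
    exact ⟨hconj d hdR, hd'M⟩
  have hd4 : Nat.card (Subgroup.zpowers d) = 4 := by
    rw [Nat.card_zpowers, orderOf_eq_four_iff]
    refine ⟨?_, hd2⟩
    have := congrArg e.symm ((show ∀ u : QuaternionGroup 2, (u ^ 2) ^ 2 = 1 by decide) (e ⟨d, hdR⟩))
    rw [map_one, map_pow, map_pow, e.symm_apply_apply] at this
    exact congrArg Subtype.val this
  have h4' : 4 < Nat.card (D.R ⊓ M : Subgroup G) := by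
    rw [← hd4]
    refine lt_of_le_of_ne (Subgroup.card_le_of_le hlt.le) fun h => hlt.ne ?_
    exact Subgroup.eq_of_le_of_card_ge hlt.le h.ge
  obtain ⟨c, hc⟩ := Subgroup.card_dvd_of_le (inf_le_left : D.R ⊓ M ≤ D.R)
  rw [hcard] at hc
  refine inf_eq_left.1 (Subgroup.eq_of_le_of_card_ge inf_le_left ?_)
  rw [hcard]
  rcases c with _ | _ | c
  · simp at hc
  · omega
  · nlinarith

/-- The reflections of order two lie in a subgroup absorbing the displacements of elements of odd order. -/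
theorem ref_even_mem (hT : (Subgroup.centralizer (D.T : Set G)).relIndex (Subgroup.normalizer (D.T : Set G)) = 6) (M : Subgroup G)
    (hM : ∀ g : G, Odd (orderOf g) → ∀ x ∈ D.MD, g * x * g⁻¹ ∈ D.MD → x⁻¹ * (g * x * g⁻¹) ∈ M) (d : ZMod (2 ^ n)) :
    D.ι ⟨d + d, true⟩ ∈ M := by
  obtain ⟨g, hgN, hgo, hfree⟩ := D.exists_action_T hT
  obtain ⟨k, hk⟩ := exists_shift D.hn d
  have hnorm := normal_of_evens_le D.hn (evens_le_dihMax D.hn)
  set s := D.ι ⟨k, false⟩
  have hle := D.T_le_of_disp hgN hfree (M.comap (MulAut.conj s).toMonoidHom) fun x hx => by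
    show s * (x⁻¹ * (g * x * g⁻¹)) * s⁻¹ ∈ M
    have hTD : D.T ≤ D.MD := Subgroup.map_mono (four_le_dihMax D.hn)
    have h := hM (s * g * s⁻¹) (by rwa [show s * g * s⁻¹ = MulAut.conj s g from rfl, MulEquiv.orderOf_eq]) (s * x * s⁻¹)
      (D.conj_mem (D.ι_mem _) (hTD hx)) (by
        rw [show s * g * s⁻¹ * (s * x * s⁻¹) * (s * g * s⁻¹)⁻¹ = s * (g * x * g⁻¹) * s⁻¹ by group]
        exact D.conj_mem (D.ι_mem _) (hTD ((Subgroup.mem_normalizer_iff.1 hgN x).1 hx)))
    rwa [show (s * x * s⁻¹)⁻¹ * (s * g * s⁻¹ * (s * x * s⁻¹) * (s * g * s⁻¹)⁻¹) = s * (x⁻¹ * (g * x * g⁻¹)) * s⁻¹ by group] at h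
  have h2 : s * D.tI * s⁻¹ ∈ M := hle ⟨_, (ref_mem_four D.hn).1, rfl⟩
  rwa [tI, ← map_inv, ← map_mul, ← map_mul, conj_rot, cond_true, zero_add, hk] at h2

/-- The reflections of order four lie in a subgroup absorbing the displacements of elements of odd order. -/
theorem ref_odd_mem (hR : (D.R ⊔ Subgroup.centralizer (D.R : Set G)).relIndex (Subgroup.normalizer (D.R : Set G)) = 6) (M : Subgroup G)
    (hM : ∀ g : G, Odd (orderOf g) → ∀ x ∈ D.MQ, g * x * g⁻¹ ∈ D.MQ → x⁻¹ * (g * x * g⁻¹) ∈ M) (d : ZMod (2 ^ n)) :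
    D.ι ⟨d + d + 1, true⟩ ∈ M := by
  obtain ⟨g, hgN, hgo, hfree⟩ := D.exists_action_R hR
  obtain ⟨k, hk⟩ := exists_shift D.hn d
  have hnorm := normal_of_evens_le D.hn (evens_le_quatMax D.hn)
  set s := D.ι ⟨k, false⟩
  have hle := D.R_le_of_disp hgN hfree (M.comap (MulAut.conj s).toMonoidHom) fun x hx => by
    show s * (x⁻¹ * (g * x * g⁻¹)) * s⁻¹ ∈ M
    have hRD : D.R ≤ D.MQ := Subgroup.map_mono (quat8_le_quatMax D.hn)
    have h := hM (s * g * s⁻¹) (by rwa [show s * g * s⁻¹ = MulAut.conj s g from rfl, MulEquiv.orderOf_eq]) (s * x * s⁻¹)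
      (D.conj_mem (D.ι_mem _) (hRD hx)) (by
        rw [show s * g * s⁻¹ * (s * x * s⁻¹) * (s * g * s⁻¹)⁻¹ = s * (g * x * g⁻¹) * s⁻¹ by group]
        exact D.conj_mem (D.ι_mem _) (hRD ((Subgroup.mem_normalizer_iff.1 hgN x).1 hx)))
    rwa [show (s * x * s⁻¹)⁻¹ * (s * g * s⁻¹ * (s * x * s⁻¹) * (s * g * s⁻¹)⁻¹) = s * (x⁻¹ * (g * x * g⁻¹)) * s⁻¹ by group] at h
  have h2 : s * D.pI * s⁻¹ ∈ M := hle ⟨_, by rw [SetLike.mem_coe, quat8, mem_sub]; simp, rfl⟩
  rwa [pI, ← map_inv, ← map_mul, ← map_mul, conj_rot, cond_true, hk, add_comm 1 (d + d)] at h2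

/-- In a normal subgroup a subgroup of index two absorbs the displacements. -/
theorem disp_mem {K : Subgroup G} [K.Normal] {H : Subgroup K} (hH : H.index = 2) {j : ℕ} (hK : K.index = 2 ^ j)
    {g x : G} (hg : Odd (orderOf g)) (hx : x ∈ K) : x⁻¹ * (g * x * g⁻¹) ∈ H.map K.subtype := by
  have : H.Normal := Subgroup.normal_of_index_eq_two hH
  have hgK : g ∈ K := Wreathed.Setup.mem_of_odd hK hg
  have hgH : (⟨g, hgK⟩ : K) ∈ H := Wreathed.Setup.mem_index_two hH hg
  refine ⟨(⟨x, hx⟩ : K)⁻¹ * ⟨g, hgK⟩ * ⟨x, hx⟩ * (⟨g, hgK⟩ : K)⁻¹,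
    H.mul_mem (Subgroup.Normal.conj_mem' inferInstance _ hgH _) (inv_mem hgH), ?_⟩
  simp [mul_assoc]

/-- The kernel of a congruence modulo a maximal subgroup of the Sylow subgroup. -/
theorem exists_half {X : Subgroup (Q n)} (hX : Nat.card X = 2 ^ n) (hev : evens n ≤ X)
    (h : ∀ x a : G, x ∈ (D.S : Subgroup G) → a * x * a⁻¹ ∈ (D.S : Subgroup G) → x⁻¹ * (a * x * a⁻¹) ∈ X.map D.ι) :
    ∃ K : Subgroup G, K.Normal ∧ K.index = 2 ∧ X.map D.ι ≤ K ∧ ¬ 2 ∣ (X.map D.ι).relIndex K := by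
  obtain ⟨K, hKn, hKi, hKS⟩ := exists_kernel D.S _ (D.map_le X) (D.commutator_le hev) h
  rw [D.relIndex_max hX] at hKi
  have hXK : X.map D.ι ≤ K := hKS.ge.trans inf_le_left
  refine ⟨K, hKn, hKi, hXK, fun h2 => ?_⟩
  have h1 := Subgroup.relIndex_mul_index hXK
  have h3 := Subgroup.relIndex_mul_index (D.map_le X)
  rw [hKi] at h1; rw [D.relIndex_max hX] at h3
  exact D.S.not_dvd_index (by rw [show (D.S : Subgroup G).index = (X.map D.ι).relIndex K by omega]; exact h2)

/-- Reduction of the hypotheses to the standard subgroups. -/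
theorem reduce {T Q' : Subgroup G} (hT : IsKleinFour T) (hTS : T ≤ (D.S : Subgroup G)) (hQS : Q' ≤ (D.S : Subgroup G))
    (e : Q' ≃* QuaternionGroup 2) :
    (Subgroup.centralizer (T : Set G)).relIndex (Subgroup.normalizer (T : Set G)) =
        (Subgroup.centralizer (D.T : Set G)).relIndex (Subgroup.normalizer (D.T : Set G)) ∧
      (Q' ⊔ Subgroup.centralizer (Q' : Set G)).relIndex (Subgroup.normalizer (Q' : Set G)) =
        (D.R ⊔ Subgroup.centralizer (D.R : Set G)).relIndex (Subgroup.normalizer (D.R : Set G)) := by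
  obtain ⟨a, -, rfl⟩ := D.exists_conj_T hTS hT
  obtain ⟨b, -, rfl⟩ := D.exists_conj_R hQS e
  exact ⟨(Wreathed.relIndex_conj D.T a).1, (Wreathed.relIndex_conj D.R b).2⟩

end Setup

end Cfsg.Agent.Fusion.QuasiDihedral
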