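import Mathlib
import Cfsg.Agent.Lib.Fusion.DihedralModel
import Cfsg.Agent.Lib.Fusion.QuasiDihedralFusion

/-!
Fusion in a group with a dihedral Sylow 2-subgroup.
-/

set_option autoImplicit false

namespace Cfsg.Agent.Fusion.DihedralModel

open Cfsg Cfsg.FusionSystem
open scoped commutatorElement

section Klein

variable {G : Type*} [Group G]

theorem isKleinFour_map {H : Type*} [Group H] (f : G →* H) (U : Subgroup G) (hf : Function.Injective (f.comp U.subtype))
    (hU : IsKleinFour U) : IsKleinFour (U.map f) := by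
  obtain ⟨e⟩ : Nonempty (U ≃* U.map f) := ⟨(MonoidHom.ofInjective hf).trans (MulEquiv.subgroupCongr (by
    rw [MonoidHom.range_comp, Subgroup.range_subtype]))⟩
  exact { card_four := (Nat.card_congr e.toEquiv).symm.trans hU.card_four
          exponent_two := (Monoid.exponent_eq_of_mulEquiv e).symm.trans hU.exponent_two }

theorem card_mulAut_dvd {U : Type*} [Group U] [Finite U] (hU : IsKleinFour U) : Nat.card (MulAut U) ∣ 24 := by
  refine (Subgroup.card_dvd_of_injective (MulAut.toPerm U) fun a b h => MulEquiv.ext fun y => Equiv.Perm.ext_iff.1 h y).trans ?_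
  rw [Nat.card_perm, hU.card_four]; rfl

variable [Finite G]

theorem three_dvd {U : Subgroup G} (hU : IsKleinFour U) (h : ¬ IsPGroup 2 U.normalizerMonoidHom.range) :
    3 ∣ Nat.card U.normalizerMonoidHom.range := by
  by_contra h3
  have hd : Nat.card U.normalizerMonoidHom.range ∣ 8 * 3 :=
    (Subgroup.card_subgroup_dvd_card _).trans (card_mulAut_dvd hU)
  have h8 := ((Nat.prime_three.coprime_iff_not_dvd.2 h3).symm).dvd_of_dvd_mul_right hd
  obtain ⟨k, -, hk⟩ := (Nat.dvd_prime_pow Nat.prime_two).1 (show _ ∣ 2 ^ 3 from h8)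
  exact h (IsPGroup.of_card hk)

/-- An automizer divisible by three makes the nontrivial elements conjugate. -/
theorem klein_transitive {U : Subgroup G} (hU : IsKleinFour U) (h : 3 ∣ Nat.card U.normalizerMonoidHom.range)
    {a b : G} (ha : a ∈ U) (hb : b ∈ U) (ha1 : a ≠ 1) (hb1 : b ≠ 1) : IsConj a b := by
  obtain ⟨g, -, hne, h3⟩ := Wreathed.exists_odd_element h
  have hfree : ∀ x ∈ U, x ≠ 1 → (g : G) * x * (g : G)⁻¹ ≠ x := fun x hx hx1 hfix => by
    refine hne (MulEquiv.ext fun y => ?_)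
    have hcube : (U.normalizerMonoidHom g).toEquiv ^ 3 = 1 := by
      have := congrArg (MulAut.toPerm _) h3
      rwa [map_pow, map_one] at this
    exact Equiv.Perm.ext_iff.1 (Wreathed.perm_four hU.card_four _ hcube (a := (1 : U)) (b := ⟨x, hx⟩)
      (fun h => hx1 (congrArg Subtype.val h).symm) (map_one (U.normalizerMonoidHom g)) (Subtype.ext hfix)) y
  set c := (g : G) * a * (g : G)⁻¹
  have hc : c ∈ U := (Subgroup.mem_normalizer_iff.1 g.2 a).1 ha
  set d := (g : G) * c * (g : G)⁻¹
  have hd : d ∈ U := (Subgroup.mem_normalizer_iff.1 g.2 c).1 hc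
  have hc1 : c ≠ 1 := fun h => ha1 (conj_eq_one_iff.1 h)
  have hd1 : d ≠ 1 := fun h => hc1 (conj_eq_one_iff.1 h)
  have hca : c ≠ a := hfree a ha ha1
  have hdc : d ≠ c := hfree c hc hc1
  have hac : IsConj a c := isConj_iff.2 ⟨g, rfl⟩
  have hcd : IsConj c d := isConj_iff.2 ⟨g, rfl⟩
  have hsq : ∀ x ∈ U, x * x = 1 := fun x hx => by
    simpa [hU.exponent_two, sq] using congrArg Subtype.val (Monoid.pow_exponent_eq_one (⟨x, hx⟩ : U))
  have hda : d ≠ a := by
    intro h
    refine hfree (a * c) (mul_mem ha hc) (fun h' => hca ?_) ?_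
    · exact mul_left_cancel (h'.trans (hsq a ha).symm)
    · have e1 : (g : G) * (a * c) * (g : G)⁻¹ = c * d := by simp [c, d, mul_assoc]
      rw [e1, h]
      exact congrArg Subtype.val (mul_comm_of_exponent_two hU.exponent_two (⟨c, hc⟩ : U) ⟨a, ha⟩)
  have hset : ((U : Set G) \ {1}).ncard = 3 := by
    rw [Set.ncard_sdiff (Set.singleton_subset_iff.2 (one_mem _)), ← Nat.card_coe_set_eq, SetLike.coe_sort_coe,
      hU.card_four, Set.ncard_singleton]
  have heq : ({a, c, d} : Set G) = (U : Set G) \ {1} := by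
    refine Set.eq_of_subset_of_ncard_le ?_ ?_ (Set.toFinite _)
    · rintro _ (rfl | rfl | rfl)
      exacts [⟨ha, ha1⟩, ⟨hc, hc1⟩, ⟨hd, hd1⟩]
    · rw [hset, Set.ncard_eq_three.2 ⟨_, _, _, hca.symm, hda.symm, hdc.symm, rfl⟩]
  have hbm : b ∈ ({a, c, d} : Set G) := heq ▸ ⟨hb, hb1⟩
  rcases hbm with rfl | rfl | rfl
  exacts [IsConj.refl _, hac, hac.trans hcd]

end Klein

/-- The maps respecting membership of four-subgroups in a normal subgroup. -/
def classSystem {Ω : Type*} [Group Ω] {S : Subgroup Ω} (F : FusionSystem S) (M : Subgroup Ω)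
    (hM : ∀ s ∈ S, ∀ x ∈ M, s * x * s⁻¹ ∈ M) : FusionSystem S where
  Hom P := {φ | φ ∈ F.Hom P ∧ ∀ U : Subgroup P, IsKleinFour U → (U.map P.subtype ≤ M ↔ U.map φ ≤ M)}
  le_of_mem h := F.le_of_mem h.1
  injective_of_mem h := F.injective_of_mem h.1
  conj_mem := fun {P g} hP hg => ⟨F.conj_mem hP hg, fun U _ => by
    constructor
    · rintro h _ ⟨u, hu, rfl⟩
      exact hM g hg _ (h ⟨u, hu, rfl⟩)
    · rintro h _ ⟨u, hu, rfl⟩
      have := hM g⁻¹ (S.inv_mem hg) _ (h ⟨u, hu, rfl⟩)
      simpa [conjHom, mul_assoc] using this⟩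
  comp_mem := fun {P Q φ ψ} hφ hψ h => ⟨F.comp_mem hφ.1 hψ.1 h, fun U hU => by
    have hinj : Function.Injective ((φ.codRestrict Q h).comp U.subtype) := fun a b hab =>
      Subtype.ext (F.injective_of_mem hφ.1 (congrArg Subtype.val hab))
    have h1 := hψ.2 _ (isKleinFour_map _ U hinj hU)
    rw [Subgroup.map_map, Subgroup.map_map] at h1
    exact (hφ.2 U hU).trans h1⟩
  inv_mem := fun {P φ} hφ => by
    obtain ⟨ψ, hψ, hx⟩ := F.inv_mem hφ.1
    refine ⟨ψ, ⟨hψ, fun U hU => ?_⟩, hx⟩
    have hb : Function.Bijective φ.rangeRestrict :=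
      ⟨fun a b hab => F.injective_of_mem hφ.1 (congrArg Subtype.val hab), φ.rangeRestrict_surjective⟩
    let e := MulEquiv.ofBijective _ hb
    have hV := isKleinFour_map e.symm.toMonoidHom U (e.symm.injective.comp U.subtype_injective) hU
    have h1 := hφ.2 _ hV
    have h2 : (U.map e.symm.toMonoidHom).map φ = U.map φ.range.subtype := by
      rw [Subgroup.map_map]
      congr 1
      ext u
      exact congrArg Subtype.val (e.apply_symm_apply u)
    have h3 : U.map ψ = (U.map e.symm.toMonoidHom).map P.subtype := by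
      rw [Subgroup.map_map]
      congr 1
      ext u
      have h4 := hx (e.symm u)
      have h5 : (⟨φ (e.symm u), ⟨e.symm u, rfl⟩⟩ : φ.range) = u := e.apply_symm_apply u
      rw [h5] at h4
      exact h4
    rw [← h2, h3]
    exact h1.symm

/-- The data of a group with dihedral Sylow 2-subgroup of order at least eight. -/
structure Setup (G : Type*) [Group G] (k : ℕ) where
  S : Sylow 2 G
  hk : 2 ≤ k
  φ : DihedralGroup (2 ^ k) ≃* (S : Subgroup G)

namespace Setup

variable {k : ℕ} {G : Type*} [Group G] (D : Setup G k)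

/-- The embedding of the model. -/
def ι : DihedralGroup (2 ^ k) →* G := (D.S : Subgroup G).subtype.comp D.φ.toMonoidHom

theorem ι_injective : Function.Injective D.ι := (D.S : Subgroup G).subtype_injective.comp D.φ.injective

theorem ι_mem (u : DihedralGroup (2 ^ k)) : D.ι u ∈ (D.S : Subgroup G) := (D.φ u).2

theorem exists_ι {x : G} (hx : x ∈ (D.S : Subgroup G)) : ∃ u, D.ι u = x :=
  ⟨D.φ.symm ⟨x, hx⟩, congrArg Subtype.val (D.φ.apply_symm_apply _)⟩

theorem range_ι : D.ι.range = (D.S : Subgroup G) :=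
  le_antisymm (by rintro _ ⟨u, rfl⟩; exact D.ι_mem u) fun _ hx => D.exists_ι hx

theorem map_le (X : Subgroup (DihedralGroup (2 ^ k))) : X.map D.ι ≤ (D.S : Subgroup G) := by rintro _ ⟨u, -, rfl⟩; exact D.ι_mem u

theorem map_comap {X : Subgroup G} (hX : X ≤ (D.S : Subgroup G)) : (X.comap D.ι).map D.ι = X := by
  rw [Subgroup.map_comap_eq, D.range_ι, inf_eq_right.2 hX]

/-- A dihedral maximal subgroup of the Sylow subgroup. -/
def MP (ε : ZMod 2) : Subgroup G := (parHom (le_of_lt (Nat.lt_of_succ_le D.hk)) ε).ker.map D.ι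

theorem conj_mem (ε : ZMod 2) {s x : G} (hs : s ∈ (D.S : Subgroup G)) (hx : x ∈ D.MP ε) : s * x * s⁻¹ ∈ D.MP ε := by
  obtain ⟨u, hu, rfl⟩ := hx
  obtain ⟨v, rfl⟩ := D.exists_ι hs
  exact ⟨v * u * v⁻¹, Subgroup.Normal.conj_mem (MonoidHom.normal_ker _) u hu v, by simp⟩

theorem commutator_le (ε : ZMod 2) : ⁅(D.S : Subgroup G), (D.S : Subgroup G)⁆ ≤ D.MP ε := by
  rw [← D.range_ι, MonoidHom.range_eq_map, ← Subgroup.map_commutator, ← commutator_def]
  exact Subgroup.map_mono (Abelianization.commutator_subset_ker _)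

/-- The standard four-subgroup of a parity. -/
def U (ε : ZMod 2) : Subgroup G := (four D.hk ((ε.val : ℕ) : ZMod (2 ^ k))).map D.ι

theorem par_val (ε : ZMod 2) : par (k := k) (le_of_lt (Nat.lt_of_succ_le D.hk)) ((ε.val : ℕ) : ZMod (2 ^ k)) = ε := by
  rw [map_natCast, ZMod.natCast_rightInverse]

theorem isKleinFour_U (ε : ZMod 2) : IsKleinFour (D.U ε) :=
  isKleinFour_map D.ι _ (D.ι_injective.comp (Subgroup.subtype_injective _)) (isKleinFour_four D.hk _)

theorem U_le (ε : ZMod 2) : D.U ε ≤ (D.S : Subgroup G) := D.map_le _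

theorem U_le_MP (ε δ : ZMod 2) : D.U ε ≤ D.MP δ ↔ ε = δ := by
  rw [U, MP, Subgroup.map_le_map_iff_of_injective D.ι_injective, four_le_ker_iff, D.par_val]

theorem klein_cases {V : Subgroup G} (hV : V ≤ (D.S : Subgroup G)) (hK : IsKleinFour V) :
    ∃ ε, ∃ a ∈ (D.S : Subgroup G), (D.U ε).map (MulAut.conj a).toMonoidHom = V := by
  have hK' : IsKleinFour (V.comap D.ι) := by
    let e := ((V.comap D.ι).equivMapOfInjective D.ι D.ι_injective).trans (MulEquiv.subgroupCongr (D.map_comap hV))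
    exact { card_four := (Nat.card_congr e.toEquiv).trans hK.card_four
            exponent_two := (Monoid.exponent_eq_of_mulEquiv e).trans hK.exponent_two }
  obtain ⟨a, ha⟩ := klein_eq_four D.hk _ hK'
  refine ⟨par (k := k) (le_of_lt (Nat.lt_of_succ_le D.hk)) a, ?_⟩
  obtain ⟨g, hg⟩ := exists_conj_four D.hk (b := a) (D.par_val (par (k := k) (le_of_lt (Nat.lt_of_succ_le D.hk)) a))
  refine ⟨D.ι g, D.ι_mem g, ?_⟩
  rw [← D.map_comap hV, ha, ← hg, U, Subgroup.map_map, Subgroup.map_map]
  congr 1; ext x; simp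

variable [Finite G]

theorem isPGroup_autGroup_S : IsPGroup 2 ((groupFusionSystem (D.S : Subgroup G)).autGroup (D.S : Subgroup G)) :=
  ((isPGroup_mulAut_self D.hk).of_equiv (MulAut.congr D.φ)).to_subgroup _

theorem essential_klein {P : Subgroup G} (h : (groupFusionSystem (D.S : Subgroup G)).IsEssential 2 P) :
    P ≤ (D.S : Subgroup G) ∧ IsKleinFour P ∧ ¬ IsPGroup 2 P.normalizerMonoidHom.range := by
  have hne := EssentialControl.not_isPGroup_autGroup D.S.2 (isSaturated_groupFusionSystem D.S) h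
  have hPS : P ≤ (D.S : Subgroup G) := h.1.1
  have hC := h.1.2 P (isConj_refl hPS)
  set X := P.comap D.ι
  have hXC : Subgroup.centralizer (X : Set (DihedralGroup (2 ^ k))) ≤ X := fun u hu => by
    refine hC ⟨D.ι_mem u, fun p hp => ?_⟩
    obtain ⟨w, rfl⟩ := D.exists_ι (hPS hp)
    rw [← map_mul, ← map_mul, hu w hp]
  have hX := D.map_comap hPS
  have hXA : ¬ IsPGroup 2 (MulAut X) := fun hh => hne (by
    have e : MulAut (X.map D.ι : Subgroup G) ≃* MulAut X := MulAut.congr (X.equivMapOfInjective D.ι D.ι_injective).symm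
    rw [hX] at e
    exact (hh.of_equiv e.symm).to_subgroup _)
  refine ⟨hPS, ?_, fun hh => hne ?_⟩
  · have h1 := isKleinFour_map D.ι X (D.ι_injective.comp X.subtype_injective) (self_centralizing_cases D.hk X hXC hXA)
    rwa [hX] at h1
  · obtain ⟨j, hj⟩ := IsPGroup.iff_card.1 hh
    exact IsPGroup.of_card (n := j) (by rw [QuasiDihedral.autGroup_card hPS, ← Wreathed.card_range_normalizerMonoidHom, hj])

/-- The two classes of four-subgroups stay apart under fusion. -/
theorem not_conj_U {ε δ : ZMod 2} {g : G} (h : (D.U ε).map (MulAut.conj g).toMonoidHom = D.U δ) : ε = δ := by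
  set F := groupFusionSystem (D.S : Subgroup G)
  have hle : F ≤ classSystem F (D.MP ε) (fun s hs x hx => D.conj_mem ε hs hx) :=
    le_of_essential D.S.2 (isSaturated_groupFusionSystem D.S) fun R hR α hα => by
      have hRS : R ≤ (D.S : Subgroup G) := hR.elim le_of_eq fun h => h.1.1
      refine Subgroup.subset_closure ⟨(mem_autGroup hRS).1 hα, fun U hU => ?_⟩
      rcases hR with rfl | hR
      · obtain ⟨s, hs, -, hsx⟩ := mem_autInducedBy.1
          (EssentialControl.autGroup_self_le D.S.2 (isSaturated_groupFusionSystem D.S) D.isPGroup_autGroup_S hα)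
        constructor
        · rintro h _ ⟨u, hu, rfl⟩
          show ((α u : (D.S : Subgroup G)) : G) ∈ _
          rw [hsx u]
          exact D.conj_mem ε hs (h ⟨u, hu, rfl⟩)
        · rintro h _ ⟨u, hu, rfl⟩
          have h1 : ((α u : (D.S : Subgroup G)) : G) ∈ D.MP ε := h ⟨u, hu, rfl⟩
          rw [hsx u] at h1
          have := D.conj_mem ε (inv_mem hs) h1
          simpa [mul_assoc] using this
      · have htop : U = ⊤ := Subgroup.eq_top_of_card_eq U (hU.card_four.trans (D.essential_klein hR).2.1.card_four.symm)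
        subst htop
        rw [← MonoidHom.range_eq_map, ← MonoidHom.range_eq_map, Subgroup.range_subtype]
        refine iff_of_eq (congrArg (· ≤ D.MP ε) ?_)
        refine le_antisymm (fun x hx => ?_) ?_
        · exact ⟨α.symm ⟨x, hx⟩, congrArg Subtype.val (α.apply_symm_apply _)⟩
        · rintro _ ⟨u, rfl⟩; exact (α u).2
  have hU := D.isKleinFour_U ε
  have hm : IsMor F (D.U ε) (fun y => g * y * g⁻¹) := isMor_groupFusionSystem.2
    ⟨D.U_le ε, fun y hy => D.U_le δ (h ▸ ⟨y, hy, rfl⟩), g, fun _ _ => rfl⟩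
  obtain ⟨φ, hφ, he⟩ := hm
  have h2 := (hle _ hφ).2 ⊤
    { card_four := (Nat.card_congr Subgroup.topEquiv.toEquiv).trans hU.card_four
      exponent_two := (Monoid.exponent_eq_of_mulEquiv Subgroup.topEquiv).trans hU.exponent_two }
  rw [← MonoidHom.range_eq_map, ← MonoidHom.range_eq_map, Subgroup.range_subtype,
    show φ.range = D.U δ from by
      rw [← h]; ext x
      exact ⟨fun ⟨y, hy⟩ => ⟨y, y.2, (he y).symm.trans hy⟩, fun ⟨y, hy, hyx⟩ => ⟨⟨y, hy⟩, (he ⟨y, hy⟩).trans hyx⟩⟩] at h2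
  exact (((D.U_le_MP δ ε).1 (h2.1 ((D.U_le_MP ε ε).2 rfl)))).symm

/-- The central involution. -/
def zI : G := D.ι (DihedralGroup.r (half k))

theorem zI_mem (ε : ZMod 2) : D.zI ∈ D.U ε := ⟨_, (mem_four D.hk _).2 (Or.inr (Or.inl rfl)), rfl⟩

theorem zI_ne_one : D.zI ≠ 1 := fun h => by
  have := D.ι_injective (h.trans (map_one D.ι).symm)
  rw [DihedralGroup.one_def] at this
  exact half_ne_zero (le_of_lt (Nat.lt_of_succ_le D.hk)) (DihedralGroup.r.inj this)

/-- If both classes of four-subgroups have automizers divisible by three, all involutions are conjugate. -/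
theorem one_class (h : ∀ ε, 3 ∣ Nat.card (D.U ε).normalizerMonoidHom.range) {x : G} (hx : orderOf x = 2) : IsConj x D.zI := by
  have hp : IsPGroup 2 (Subgroup.zpowers x) := IsPGroup.of_card (n := 1) (by rw [Nat.card_zpowers, hx, pow_one])
  obtain ⟨g, hg⟩ := exists_conj_le_sylow D.S hp
  obtain ⟨u, hu⟩ := D.exists_ι (hg ⟨x, Subgroup.mem_zpowers x, rfl⟩ : (MulAut.conj g).toMonoidHom x ∈ (D.S : Subgroup G))
  have ho : orderOf u = 2 := by
    rw [← orderOf_injective D.ι D.ι_injective, hu, orderOf_injective _ (MulAut.conj g).injective, hx]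
  refine (isConj_iff.2 ⟨g, hu.symm⟩ : IsConj x (D.ι u)).trans ?_
  rcases involution_cases (le_of_lt (Nat.lt_of_succ_le D.hk)) ho with rfl | ⟨i, rfl⟩
  · exact IsConj.refl _
  · obtain ⟨a, ha⟩ := exists_conj_four D.hk (a := i) (b := (((par (k := k) (le_of_lt (Nat.lt_of_succ_le D.hk)) i).val : ℕ) : ZMod (2 ^ k)))
      (D.par_val _).symm
    have hmem : D.ι (a * DihedralGroup.sr i * a⁻¹) ∈ D.U (par (k := k) (le_of_lt (Nat.lt_of_succ_le D.hk)) i) :=
      ⟨_, ha ▸ ⟨_, (mem_four D.hk i).2 (Or.inr (Or.inr (Or.inl rfl))), rfl⟩, rfl⟩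
    have hne : D.ι (a * DihedralGroup.sr i * a⁻¹) ≠ 1 := fun h' => by
      have := D.ι_injective (h'.trans (map_one D.ι).symm)
      rw [conj_eq_one_iff] at this
      rw [this, orderOf_one] at ho
      norm_num at ho
    exact (D.ι.map_isConj (isConj_iff.2 ⟨a, rfl⟩)).trans
      (klein_transitive (D.isKleinFour_U _) (h _) hmem (D.zI_mem _) hne D.zI_ne_one)

/-- A class of four-subgroups with a 2-group automizer gives a subgroup of index two. -/
theorem exists_index_two {ε : ZMod 2} (h : ¬ 3 ∣ Nat.card (D.U ε).normalizerMonoidHom.range) :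
    ∃ H : Subgroup G, H.index = 2 := by
  have hcongr : ∀ x a : G, x ∈ (D.S : Subgroup G) → a * x * a⁻¹ ∈ (D.S : Subgroup G) → x⁻¹ * (a * x * a⁻¹) ∈ D.MP (ε + 1) := by
    intro x a hx hax
    have hm : IsMor (groupFusionSystem (D.S : Subgroup G))
        ((D.S : Subgroup G) ⊓ (D.S : Subgroup G).comap (MulAut.conj a).toMonoidHom) (fun y => a * y * a⁻¹) :=
      isMor_groupFusionSystem.2 ⟨inf_le_left, fun y hy => hy.2, a, fun _ _ => rfl⟩
    refine EssentialControl.congr_of_essential D.S.2 (isSaturated_groupFusionSystem D.S) _ (D.commutator_le (ε + 1)) (fun P hP α hα y => ?_) hm ⟨hx, hax⟩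
    rcases hP with rfl | hP
    · obtain ⟨s, hs, -, hsx⟩ := mem_autInducedBy.1
        (EssentialControl.autGroup_self_le D.S.2 (isSaturated_groupFusionSystem D.S) D.isPGroup_autGroup_S hα)
      rw [hsx y]
      have := D.commutator_le (ε + 1) (Subgroup.commutator_mem_commutator (inv_mem y.2) hs)
      simpa [commutatorElement_def, mul_assoc] using this
    · obtain ⟨hPS, hK, hne⟩ := D.essential_klein hP
      obtain ⟨δ, s, hs, rfl⟩ := D.klein_cases hPS hK
      obtain rfl : δ = ε + 1 := by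
        by_contra hne'
        have hδ : δ = ε := (show ∀ a b : ZMod 2, a ≠ b + 1 → a = b by decide) δ ε hne'
        refine h (hδ ▸ ?_)
        have := three_dvd hK hne
        rwa [Wreathed.card_range_normalizerMonoidHom, (Wreathed.relIndex_conj _ _).1, ← Wreathed.card_range_normalizerMonoidHom] at this
      have hle : (D.U (ε + 1)).map (MulAut.conj s).toMonoidHom ≤ D.MP (ε + 1) := by
        rintro _ ⟨u, hu, rfl⟩
        exact D.conj_mem _ hs ((D.U_le_MP _ _).2 rfl hu)
      exact mul_mem (inv_mem (hle y.2)) (hle (α y).2)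
  obtain ⟨K, -, hK, -⟩ := QuasiDihedral.exists_kernel D.S _ (D.map_le _) (D.commutator_le (ε + 1)) hcongr
  refine ⟨K, hK.trans ?_⟩
  rw [← D.range_ι, MonoidHom.range_eq_map, Subgroup.relIndex_map_map_of_injective _ _ D.ι_injective,
    Subgroup.relIndex_top_right, Subgroup.index_ker, MonoidHom.range_eq_top.2 (parHom_surjective _ _), Subgroup.card_top]
  simp

end Setup

end Cfsg.Agent.Fusion.DihedralModel
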