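import Mathlib

/-!
Stabilisation of multiplicities of orbits with respect to an equivalence of subgroups.
-/

set_option autoImplicit false

namespace Cfsg.Agent.Fusion

variable {K : Type*} [Group K] [Finite K] {D E : Subgroup K}

/-- The cosets of `D` fixed by `E`. -/
def fixSet (D E : Subgroup K) : Set (K ⧸ D) := {q | ∀ e ∈ E, e • q = q}

/-- The number of points of `K ⧸ D` fixed by `E`. -/
noncomputable def markOne (D E : Subgroup K) : ℕ := Nat.card (fixSet D E)

/-- The number of fixed points of `E` on the sum of the orbits with multiplicities `c`. -/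
noncomputable def mark (c : Subgroup K → ℕ) (E : Subgroup K) : ℕ :=
  letI := Fintype.ofFinite (Subgroup K)
  ∑ D : Subgroup K, c D * markOne D E

theorem mark_add (c c' : Subgroup K → ℕ) (E : Subgroup K) :
    mark (fun D => c D + c' D) E = mark c E + mark c' E := by
  simp [mark, add_mul, Finset.sum_add_distrib]

theorem mk_mem_fixSet {k : K} : (k : K ⧸ D) ∈ fixSet D E ↔ ∀ e ∈ E, k⁻¹ * e * k ∈ D := by
  refine forall₂_congr fun e _ => ?_
  show ((e * k : K) : K ⧸ D) = (k : K ⧸ D) ↔ _
  rw [eq_comm, QuotientGroup.eq, mul_assoc]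

theorem exists_conj_le_of_markOne (h : markOne D E ≠ 0) : ∃ k : K, ∀ e ∈ E, k⁻¹ * e * k ∈ D := by
  by_contra hne
  apply h
  have : IsEmpty (fixSet D E) := ⟨fun ⟨q, hq⟩ => by
    obtain ⟨k, rfl⟩ := QuotientGroup.mk_surjective q
    exact hne ⟨k, mk_mem_fixSet.1 hq⟩⟩
  exact Nat.card_of_isEmpty

theorem card_le_of_markOne (h : markOne D E ≠ 0) : Nat.card E ≤ Nat.card D := by
  obtain ⟨k, hk⟩ := exists_conj_le_of_markOne h
  refine Nat.card_le_card_of_injective (fun e : E => (⟨k⁻¹ * e * k, hk e e.2⟩ : D)) fun a b hab => ?_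
  have := congrArg Subtype.val hab
  exact Subtype.ext (mul_left_cancel (mul_right_cancel this))

theorem markOne_conj_left (D E : Subgroup K) (k : K) :
    markOne D (E.map (MulAut.conj k).toMonoidHom) = markOne D E := by
  have hE : ∀ q : K ⧸ D, q ∈ fixSet D E ↔ k • q ∈ fixSet D (E.map (MulAut.conj k).toMonoidHom) := by
    intro q
    constructor
    · rintro h _ ⟨e, he, rfl⟩
      show (k * e * k⁻¹) • k • q = k • q
      rw [← mul_smul, inv_mul_cancel_right, mul_smul, h e he]
    · intro h e he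
      have h' : (k * e * k⁻¹) • k • q = k • q := h _ ⟨e, he, rfl⟩
      rw [← mul_smul, inv_mul_cancel_right, mul_smul] at h'
      exact smul_left_cancel k h'
  exact (Nat.card_congr ((MulAction.toPerm k).subtypeEquiv hE)).symm

theorem mark_conj (c : Subgroup K → ℕ) (E : Subgroup K) (k : K) :
    mark c (E.map (MulAut.conj k).toMonoidHom) = mark c E :=
  Finset.sum_congr rfl fun D _ => by rw [markOne_conj_left]

theorem fixSet_self {k : K} : (k : K ⧸ D) ∈ fixSet D D ↔ k ∈ Subgroup.normalizer (D : Set K) := by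
  rw [mk_mem_fixSet, ← Subgroup.inv_mem_iff]
  refine ⟨fun h => ?_, fun h e he => by
    have := (Subgroup.mem_normalizer_iff.1 h e).1 he
    simpa using this⟩
  have hmap : D.map (MulAut.conj k⁻¹).toMonoidHom = D := by
    refine Subgroup.eq_of_le_of_card_ge ?_
      (Nat.card_congr (D.equivMapOfInjective _ (MulAut.conj k⁻¹).injective).toEquiv).le
    rintro _ ⟨e, he, rfl⟩
    simpa using h e he
  refine Subgroup.mem_normalizer_iff.2 fun e => ⟨fun he => hmap.le ⟨e, he, rfl⟩, fun he => ?_⟩
  obtain ⟨e', he', hee⟩ := hmap.ge he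
  rwa [(MulAut.conj k⁻¹).injective (hee : MulAut.conj k⁻¹ e' = MulAut.conj k⁻¹ e)] at he'

theorem markOne_self (D : Subgroup K) :
    markOne D D = D.relIndex (Subgroup.normalizer (D : Set K)) := by
  set N := Subgroup.normalizer (D : Set K)
  refine (Nat.card_congr (Equiv.ofBijective (fun q : N ⧸ D.subgroupOf N =>
    (Quotient.liftOn' q (fun n => (⟨((n : K) : K ⧸ D), fixSet_self.2 n.2⟩ : fixSet D D))
      fun a b hab => Subtype.ext (QuotientGroup.eq.2 (by
        have := QuotientGroup.leftRel_apply.1 hab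
        simpa [Subgroup.mem_subgroupOf] using this)))) ⟨?_, ?_⟩)).symm
  · intro a b
    induction a using QuotientGroup.induction_on with | H a =>
    induction b using QuotientGroup.induction_on with | H b =>
    intro h
    have h' : ((a : K) : K ⧸ D) = ((b : K) : K ⧸ D) := congrArg Subtype.val h
    rw [QuotientGroup.eq] at h' ⊢
    simpa [Subgroup.mem_subgroupOf] using h'
  · rintro ⟨q, hq⟩
    obtain ⟨k, rfl⟩ := QuotientGroup.mk_surjective q
    exact ⟨((⟨k, fixSet_self.1 hq⟩ : N) : N ⧸ D.subgroupOf N), rfl⟩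

theorem markOne_self_pos (D : Subgroup K) : 0 < markOne D D := by
  rw [markOne_self]
  exact Nat.pos_of_ne_zero Subgroup.index_ne_zero_of_finite

/-- Burnside's counting lemma on the fixed points of a normalised subgroup. -/
theorem card_dvd_sum_markOne {G : Type*} [Group G] [Fintype G] (α : G →* K)
    (hα : ∀ g, α g ∈ Subgroup.normalizer (E : Set K)) (D : Subgroup K) :
    Fintype.card G ∣ ∑ g : G, markOne D (E ⊔ Subgroup.zpowers (α g)) := by
  classical
  let act : G → fixSet D E → fixSet D E := fun g q => ⟨α g • (q : K ⧸ D), fun e he => by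
    have h1 := (Subgroup.mem_normalizer_iff.1 ((Subgroup.normalizer (E : Set K)).inv_mem (hα g)) e).1 he
    have h : ((α g)⁻¹ * e * α g) • (q : K ⧸ D) = (q : K ⧸ D) := q.2 _ (by simpa using h1)
    rw [← mul_smul]
    conv_rhs => rw [← h, ← mul_smul]
    congr 1
    group⟩
  let _ : MulAction G (fixSet D E) :=
    { smul := act
      one_smul := fun q => Subtype.ext (by show α 1 • (q : K ⧸ D) = _; rw [map_one, one_smul])
      mul_smul := fun g h q => Subtype.ext (by
        show α (g * h) • (q : K ⧸ D) = α g • α h • (q : K ⧸ D)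
        rw [map_mul, mul_smul]) }
  have := Fintype.ofFinite (fixSet D E)
  have h := MulAction.sum_card_fixedBy_eq_card_orbits_mul_card_group G (fixSet D E)
  have key : ∀ g : G, markOne D (E ⊔ Subgroup.zpowers (α g)) =
      Fintype.card (MulAction.fixedBy (fixSet D E) g) := by
    intro g
    rw [← Nat.card_eq_fintype_card]
    refine Nat.card_congr ⟨fun q => ⟨⟨q, fun e he => q.2 e (Subgroup.mem_sup_left he)⟩,
      Subtype.ext (q.2 _ (Subgroup.mem_sup_right (Subgroup.mem_zpowers _)))⟩,
      fun q => ⟨(q : fixSet D E), fun e he => ?_⟩, fun q => rfl, fun q => rfl⟩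
    have hst : E ⊔ Subgroup.zpowers (α g) ≤ MulAction.stabilizer K ((q : fixSet D E) : K ⧸ D) :=
      sup_le (fun e he => (q : fixSet D E).2 e he)
        (Subgroup.zpowers_le.2 (congrArg Subtype.val q.2))
    exact hst he
  rw [Finset.sum_congr rfl fun g _ => key g, h]
  exact dvd_mul_left _ _

theorem card_dvd_sum_mark {G : Type*} [Group G] [Fintype G] (α : G →* K)
    (hα : ∀ g, α g ∈ Subgroup.normalizer (E : Set K)) (c : Subgroup K → ℕ) :
    Fintype.card G ∣ ∑ g : G, mark c (E ⊔ Subgroup.zpowers (α g)) := by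
  unfold mark
  rw [Finset.sum_comm]
  refine Finset.dvd_sum fun D _ => ?_
  rw [← Finset.mul_sum]
  exact (card_dvd_sum_markOne α hα D).mul_left _

/-- An equivalence of subgroups suitable for stabilisation. -/
structure StableRel (K : Type*) [Group K] where
  Fam : Subgroup K → Prop
  rel : Subgroup K → Subgroup K → Prop
  down : ∀ {D E}, Fam D → E ≤ D → Fam E
  refl : ∀ {D}, Fam D → rel D D
  symm : ∀ {D E}, rel D E → rel E D
  trans : ∀ {A B C}, rel A B → rel B C → rel A C
  fam : ∀ {D E}, rel D E → Fam D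
  card : ∀ {D E}, rel D E → Nat.card D = Nat.card E
  conj : ∀ {D}, Fam D → ∀ k, rel D (D.map (MulAut.conj k).toMonoidHom)
  star : ∀ {D}, Fam D → ∃ D₀, rel D D₀ ∧ ∀ D', rel D D' →
    ∃ α : Subgroup.normalizer (D' : Set K) →* K,
      (∀ n, α n ∈ Subgroup.normalizer (D₀ : Set K)) ∧ (∀ n : Subgroup.normalizer (D' : Set K), (n : K) ∈ D' ↔ α n ∈ D₀) ∧
      ∀ n : Subgroup.normalizer (D' : Set K), (n : K) ∉ D' →
        rel (D' ⊔ Subgroup.zpowers (n : K)) (D₀ ⊔ Subgroup.zpowers (α n)) ∨
          (¬ Fam (D' ⊔ Subgroup.zpowers (n : K)) ∧ ¬ Fam (D₀ ⊔ Subgroup.zpowers (α n)))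

variable (R : StableRel K)

theorem mark_eq_zero {c : Subgroup K → ℕ} (hc : ∀ D, c D ≠ 0 → R.Fam D) (hE : ¬ R.Fam E) :
    mark c E = 0 := by
  refine Finset.sum_eq_zero fun D _ => ?_
  by_contra h
  obtain ⟨hcD, hm⟩ := mul_ne_zero_iff.1 h
  obtain ⟨k, hk⟩ := exists_conj_le_of_markOne hm
  refine hE (R.down (R.fam (R.symm (R.conj (hc D hcD) k))) fun e he => ⟨k⁻¹ * e * k, hk e he, ?_⟩)
  simp [mul_assoc]

/-- The congruence between marks in a class. -/
theorem exists_star_congr (hD : R.Fam D) {c : Subgroup K → ℕ} (hc : ∀ E, c E ≠ 0 → R.Fam E)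
    (hbig : ∀ E₁ E₂ : Subgroup K, Nat.card D < Nat.card E₁ → R.rel E₁ E₂ → mark c E₁ = mark c E₂) :
    ∃ D₀, R.rel D D₀ ∧ ∀ D', R.rel D D' → markOne D' D' ∣ markOne D₀ D₀ ∧
      mark c D' ≡ mark c D₀ [MOD markOne D' D'] := by
  classical
  obtain ⟨D₀, hD₀, hst⟩ := R.star hD
  refine ⟨D₀, hD₀, fun D' hD' => ?_⟩
  set N' := Subgroup.normalizer (D' : Set K) with hN'
  set N₀ := Subgroup.normalizer (D₀ : Set K)
  obtain ⟨α, hα, hmem, hnot⟩ := hst D' hD'
  let β : N' →* N₀ := α.codRestrict N₀ hα
  have hn : (D'.subgroupOf N').Normal := Subgroup.normal_in_normalizer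
  have hn₀ : (D₀.subgroupOf N₀).Normal := Subgroup.normal_in_normalizer
  let γ : N' ⧸ D'.subgroupOf N' →* N₀ ⧸ D₀.subgroupOf N₀ :=
    QuotientGroup.map _ _ β fun n hn => (hmem n).1 hn
  have hγ : Function.Injective γ := (injective_iff_map_eq_one γ).2 fun q => by
    induction q using QuotientGroup.induction_on with | H n =>
    intro h
    replace h : ((β n : N₀) : N₀ ⧸ D₀.subgroupOf N₀) = 1 := h
    rw [QuotientGroup.eq_one_iff] at h
    exact (QuotientGroup.eq_one_iff n).2 ((hmem n).2 h)
  refine ⟨?_, ?_⟩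
  · rw [markOne_self, markOne_self]
    exact Subgroup.card_dvd_of_injective γ hγ
  · have := Fintype.ofFinite N'
    have h1 := card_dvd_sum_mark (E := D') N'.subtype (fun g => g.2) c
    have h2 := card_dvd_sum_mark (E := D₀) α hα c
    set P : Finset N' := Finset.univ.filter fun n : N' => (n : K) ∈ D' with hP
    rw [← Finset.sum_filter_add_sum_filter_not _ fun n : N' => (n : K) ∈ D'] at h1 h2
    have hcardP : P.card = Nat.card D' := by
      rw [← Nat.card_congr (Subgroup.subgroupOfEquivOfLe (Subgroup.le_normalizer : D' ≤ N')).toEquiv,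
        Nat.card_eq_fintype_card]
      exact (Fintype.card_subtype _).symm
    have hin : ∑ n ∈ P, mark c (D' ⊔ Subgroup.zpowers (N'.subtype n)) = Nat.card D' * mark c D' := by
      rw [Finset.sum_congr rfl fun n hn => by
        rw [sup_eq_left.2 (Subgroup.zpowers_le.2 (show N'.subtype n ∈ D' from (Finset.mem_filter.1 hn).2))],
        Finset.sum_const, smul_eq_mul, hcardP]
    have hin₀ : ∑ n ∈ P, mark c (D₀ ⊔ Subgroup.zpowers (α n)) = Nat.card D' * mark c D₀ := by
      rw [Finset.sum_congr rfl fun n hn => by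
        rw [sup_eq_left.2 (Subgroup.zpowers_le.2 ((hmem n).1 (Finset.mem_filter.1 hn).2))],
        Finset.sum_const, smul_eq_mul, hcardP]
    have hout : ∀ n : N', (n : K) ∉ D' →
        mark c (D' ⊔ Subgroup.zpowers (N'.subtype n)) = mark c (D₀ ⊔ Subgroup.zpowers (α n)) := by
      intro n hn'
      rcases hnot n hn' with h | ⟨h, h'⟩
      · refine hbig _ _ ?_ h
        rw [R.card hD']
        refine lt_of_not_ge fun hle => hn' ?_
        rw [Subgroup.eq_of_le_of_card_ge (le_sup_left : D' ≤ _) hle]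
        exact Subgroup.mem_sup_right (Subgroup.mem_zpowers _)
      · exact (mark_eq_zero R hc h).trans (mark_eq_zero R hc h').symm
    rw [hin] at h1
    rw [hin₀, ← Finset.sum_congr rfl fun n hn => hout n (Finset.mem_filter.1 hn).2] at h2
    have h3 : Nat.card D' * mark c D' ≡ Nat.card D' * mark c D₀ [MOD Fintype.card N'] :=
      Nat.ModEq.add_right_cancel' _ ((Nat.modEq_zero_iff_dvd.2 h1).trans (Nat.modEq_zero_iff_dvd.2 h2).symm)
    have hN : Fintype.card N' = Nat.card D' * markOne D' D' := by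
      rw [← Nat.card_eq_fintype_card, markOne_self,
        ← Nat.card_congr (Subgroup.subgroupOfEquivOfLe (Subgroup.le_normalizer : D' ≤ N')).toEquiv]
      exact (Subgroup.card_mul_index (D'.subgroupOf N')).symm
    rw [hN] at h3
    exact Nat.ModEq.mul_left_cancel' Nat.card_pos.ne' h3

/-- Equality of marks on the classes of order at least `n`. -/
def StableFrom (c : Subgroup K → ℕ) (n : ℕ) : Prop :=
  ∀ D E : Subgroup K, n ≤ Nat.card D → R.rel D E → mark c D = mark c E

theorem exists_step {c : Subgroup K → ℕ} (hc : ∀ D, c D ≠ 0 → R.Fam D) {n : ℕ}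
    (h : StableFrom R c (n + 1)) :
    ∃ c' : Subgroup K → ℕ, StableFrom R c' n ∧ (∀ D, c D ≤ c' D) ∧
      ∀ D, c' D ≠ c D → R.Fam D ∧ Nat.card D = n := by
  classical
  have hst : ∀ D, R.Fam D ∧ Nat.card D = n → ∃ D₀, R.rel D D₀ ∧ ∀ D', R.rel D D' →
      markOne D' D' ∣ markOne D₀ D₀ ∧ mark c D' ≡ mark c D₀ [MOD markOne D' D'] := fun D hD =>
    exists_star_congr R hD.1 hc fun E₁ E₂ h1 hr => h E₁ E₂ (by omega) hr
  letI := Fintype.ofFinite (Subgroup K)
  let B := ∑ E : Subgroup K, mark c E
  let Good : Set (Subgroup K) → Subgroup K → Prop := fun C D₀ => D₀ ∈ C ∧ ∀ D' ∈ C,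
    markOne D' D' ∣ markOne D₀ D₀ ∧ mark c D' ≡ mark c D₀ [MOD markOne D' D']
  let pick : Set (Subgroup K) → Subgroup K := fun C => Classical.epsilon (Good C)
  let T : Subgroup K → ℕ := fun D =>
    mark c (pick {E | R.rel D E}) +
      B * markOne (pick {E | R.rel D E}) (pick {E | R.rel D E})
  have hT : ∀ D, R.Fam D ∧ Nat.card D = n →
      mark c D ≤ T D ∧ T D ≡ mark c D [MOD markOne D D] := by
    intro D hD
    have hg : Good {E | R.rel D E} (pick {E | R.rel D E}) := by
      obtain ⟨D₀, h0, h1⟩ := hst D hD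
      exact Classical.epsilon_spec (p := Good {E | R.rel D E}) ⟨D₀, h0, h1⟩
    obtain ⟨h1, h2⟩ := hg.2 D (R.refl hD.1)
    constructor
    · refine le_trans ?_ (Nat.le_add_left _ _)
      refine le_trans ?_ (Nat.le_mul_of_pos_right _ (markOne_self_pos _))
      exact Finset.single_le_sum (fun E _ => Nat.zero_le (mark c E)) (Finset.mem_univ D)
    · exact ((Nat.ModEq.add h2.symm (Nat.modEq_zero_iff_dvd.2 (h1.mul_left B))).trans
        (by rw [add_zero]))
  let st : Setoid (Subgroup K) :=
    { r := fun D E => ∃ k : K, E = D.map (MulAut.conj k).toMonoidHom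
      iseqv :=
        { refl := fun D => ⟨1, by ext; simp⟩
          symm := by
            rintro D _ ⟨k, rfl⟩
            refine ⟨k⁻¹, ?_⟩
            ext x
            simp [Subgroup.mem_map, mul_assoc]
          trans := by
            rintro D _ _ ⟨k, rfl⟩ ⟨l, rfl⟩
            exact ⟨l * k, by rw [Subgroup.map_map]; congr 1; ext x; simp [mul_assoc]⟩ } }
  let rep : Subgroup K → Subgroup K := fun D => (Quotient.mk st D).out
  let d : Subgroup K → ℕ := fun D =>
    if R.Fam D ∧ Nat.card D = n ∧ rep D = D then (T D - mark c D) / markOne D D else 0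
  refine ⟨fun D => c D + d D, ?_, fun D => Nat.le_add_right _ _, fun D hD => ?_⟩
  swap
  · by_contra hne
    apply hD
    simp only [d]
    rw [if_neg fun hh => hne ⟨hh.1, hh.2.1⟩, add_zero]
  have hzero : ∀ E : Subgroup K, n < Nat.card E → mark d E = 0 := fun E hE => by
    refine Finset.sum_eq_zero fun D _ => ?_
    by_contra hne
    obtain ⟨hd, hm⟩ := mul_ne_zero_iff.1 hne
    simp only [d] at hd
    split_ifs at hd with hh
    · exact absurd (card_le_of_markOne hm) (by omega)
    · exact hd rfl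
  have hval : ∀ E : Subgroup K, R.Fam E → Nat.card E = n → mark c E + mark d E = T E := by
    intro E hE hEn
    obtain ⟨k, hk⟩ : st.r E (rep E) := st.symm (Quotient.exact (Quotient.out_eq (Quotient.mk st E)))
    have hrel : R.rel E (rep E) := hk ▸ R.conj hE k
    have hr : R.Fam (rep E) ∧ Nat.card (rep E : Subgroup K) = n :=
      ⟨R.fam (R.symm hrel), by rw [← R.card hrel, hEn]⟩
    have hrr : rep (rep E) = rep E := by
      show (Quotient.mk st (Quotient.mk st E).out).out = _
      rw [Quotient.out_eq]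
    have hTe : T (rep E) = T E := by
      have : {G | R.rel (rep E) G} = {G | R.rel E G} :=
        Set.ext fun G => ⟨fun hG => R.trans hrel hG, fun hG => R.trans (R.symm hrel) hG⟩
      simp only [T, this]
    have hmd : mark d E = d (rep E) * markOne (rep E) (rep E) := by
      unfold mark
      rw [Finset.sum_eq_single (rep E)]
      · congr 1
        conv_rhs => arg 2; rw [hk]
        rw [markOne_conj_left]
      · intro D _ hne
        by_contra h0
        obtain ⟨hd, hm⟩ := mul_ne_zero_iff.1 h0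
        simp only [d] at hd
        split_ifs at hd with hh
        · obtain ⟨l, hl⟩ := exists_conj_le_of_markOne hm
          apply hne
          rw [← hh.2.2]
          have hl' : D = E.map (MulAut.conj l⁻¹).toMonoidHom := by
            refine (Subgroup.eq_of_le_of_card_ge ?_ ?_).symm
            · rintro _ ⟨e, he, rfl⟩
              simpa using hl e he
            · rw [hh.2.1, ← hEn]
              exact (Nat.card_congr (E.equivMapOfInjective _ (MulAut.conj l⁻¹).injective).toEquiv).le
          exact congrArg Quotient.out (Quotient.sound (st.symm ⟨l⁻¹, hl'⟩))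
        · exact hd rfl
      · exact fun h0 => absurd (Finset.mem_univ _) h0
    rw [hmd]
    simp only [d]
    rw [if_pos ⟨hr.1, hr.2, hrr⟩]
    obtain ⟨h1, h2⟩ := hT _ hr
    rw [Nat.div_mul_cancel ((Nat.modEq_iff_dvd' h1).1 h2.symm), ← hTe,
      show mark c E = mark c (rep E) by rw [hk, mark_conj]]
    omega
  intro D E hn hr
  rw [mark_add, mark_add]
  rcases hn.eq_or_lt with he | hlt
  · rw [hval D (R.fam hr) he.symm, hval E (R.fam (R.symm hr)) (R.card hr ▸ he.symm)]
    have : {G | R.rel D G} = {G | R.rel E G} :=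
      Set.ext fun G => ⟨fun hG => R.trans (R.symm hr) hG, fun hG => R.trans hr hG⟩
    simp only [T, this]
  · rw [hzero D hlt, hzero E (R.card hr ▸ hlt), h D E hlt hr]

/-- Multiplicities stable from order `N` extend to stable multiplicities. -/
theorem exists_stable {c₀ : Subgroup K → ℕ} (hc : ∀ D, c₀ D ≠ 0 → R.Fam D) {N : ℕ}
    (h : StableFrom R c₀ N) :
    ∃ c : Subgroup K → ℕ, StableFrom R c 0 ∧ (∀ D, c D ≠ 0 → R.Fam D) ∧
      ∀ D, c D ≠ c₀ D → Nat.card D < N := by
  induction N generalizing c₀ with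
  | zero => exact ⟨c₀, h, hc, fun D hD => absurd rfl hD⟩
  | succ n ih =>
    obtain ⟨c', h', hle, hd⟩ := exists_step R hc h
    have hc' : ∀ D, c' D ≠ 0 → R.Fam D := fun D hD => by
      by_cases he : c' D = c₀ D
      · exact hc D (he ▸ hD)
      · exact (hd D he).1
    obtain ⟨c, h1, h2, h3⟩ := ih hc' h'
    refine ⟨c, h1, h2, fun D hD => ?_⟩
    by_cases he : c D = c' D
    · rw [(hd D (he ▸ hD)).2]
      exact Nat.lt_succ_self _
    · exact (h3 D he).trans (Nat.lt_succ_self _)

end Cfsg.Agent.Fusion
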