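import Mathlib
import Cfsg.Agent.Lib.Fusion.Stabilize
import Cfsg.Agent.Lib.Fusion.Alperin

/-!
Twisted diagonal subgroups and characteristic multiplicities of a saturated system.
-/

set_option autoImplicit false

namespace Cfsg.Agent.Fusion

open Cfsg Cfsg.FusionSystem

variable {Ω : Type*} [Group Ω] {S : Subgroup Ω} {F : FusionSystem S} {p : ℕ}
  {D E : Subgroup (S × S)} {f θ : Ω → Ω} {b : S}

/-- The first projection of a subgroup of `S × S`. -/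
def prOne (D : Subgroup (S × S)) : Subgroup Ω := D.map (S.subtype.comp (MonoidHom.fst S S))

theorem mem_prOne {x : Ω} : x ∈ prOne D ↔ ∃ z ∈ D, (z.1 : Ω) = x := Iff.rfl

theorem prOne_le : prOne D ≤ S := by
  rintro _ ⟨z, -, rfl⟩
  exact z.1.2

theorem prOne_mono (h : D ≤ E) : prOne D ≤ prOne E := Subgroup.map_mono h

theorem mem_prOne_of_mem {z : S × S} (h : z ∈ D) : (z.1 : Ω) ∈ prOne D := ⟨z, h, rfl⟩

/-- `D` is the graph of the map `f` of the system. -/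
def IsTw (F : FusionSystem S) (D : Subgroup (S × S)) (f : Ω → Ω) : Prop :=
  IsMor F (prOne D) f ∧ ∀ z ∈ D, (z.2 : Ω) = f z.1

/-- Twisted diagonal subgroups. -/
def TwFam (F : FusionSystem S) (D : Subgroup (S × S)) : Prop := ∃ f, IsTw F D f

/-- `D'` is the translate of `D` by a map on the left and an element of `S` on the right. -/
def IsTrans (D D' : Subgroup (S × S)) (θ : Ω → Ω) (b : S) : Prop :=
  ∀ z' : S × S, z' ∈ D' ↔ ∃ z ∈ D, (z'.1 : Ω) = θ z.1 ∧ z'.2 = b * z.2 * b⁻¹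

/-- The relation on twisted diagonal subgroups. -/
def TwRel (F : FusionSystem S) (D D' : Subgroup (S × S)) : Prop :=
  TwFam F D ∧ ∃ θ b, IsMor F (prOne D) θ ∧ IsTrans D D' θ b

theorem exists_trans (hθ : IsMor F (prOne D) θ) (b : S) : ∃ D', IsTrans D D' θ b := by
  let g : D →* S × S := MonoidHom.mk'
    (fun z => (⟨θ (z : S × S).1, hθ.mem (mem_prOne_of_mem z.2)⟩, b * (z : S × S).2 * b⁻¹)) fun u v =>
      Prod.ext (Subtype.ext (hθ.map_mul (mem_prOne_of_mem u.2) (mem_prOne_of_mem v.2)))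
        (show b * ((u : S × S).2 * (v : S × S).2) * b⁻¹ =
          b * (u : S × S).2 * b⁻¹ * (b * (v : S × S).2 * b⁻¹) by group)
  refine ⟨g.range, fun z' => ⟨?_, ?_⟩⟩
  · rintro ⟨z, rfl⟩
    exact ⟨z, z.2, rfl, rfl⟩
  · rintro ⟨z, hz, h1, h2⟩
    exact ⟨⟨z, hz⟩, Prod.ext (Subtype.ext h1.symm) h2.symm⟩

theorem IsTrans.isIso (h : IsTrans D E θ b) (hθ : IsMor F (prOne D) θ) :
    IsIso F (prOne D) (prOne E) θ := by
  refine ⟨hθ, fun y => ⟨?_, ?_⟩⟩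
  · rintro ⟨z', hz', rfl⟩
    obtain ⟨z, hz, h1, -⟩ := (h z').1 hz'
    exact ⟨z.1, mem_prOne_of_mem hz, h1.symm⟩
  · rintro ⟨x, ⟨z, hz, rfl⟩, rfl⟩
    exact ⟨(⟨θ z.1, hθ.mem (mem_prOne_of_mem hz)⟩, b * z.2 * b⁻¹), (h _).2 ⟨z, hz, rfl, rfl⟩, rfl⟩

theorem IsTrans.fam (h : IsTrans D E θ b) (hθ : IsMor F (prOne D) θ) (hD : TwFam F D) : TwFam F E := by
  obtain ⟨f, hf, hfz⟩ := hD
  obtain ⟨g, hg, hgl, -⟩ := (h.isIso hθ).exists_symm
  refine ⟨_, (hg.1.comp hf fun x hx => hg.apply_mem hx).conj_after b.2, fun z' hz' => ?_⟩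
  obtain ⟨z, hz, h1, h2⟩ := (h z').1 hz'
  show _ = (b : Ω) * f (g z'.1) * (b : Ω)⁻¹
  rw [h1, hgl _ (mem_prOne_of_mem hz), h2, ← hfz z hz]
  rfl

theorem IsTrans.fam_of (h : IsTrans D E θ b) (hθ : IsMor F (prOne D) θ) (hE : TwFam F E) : TwFam F D := by
  obtain ⟨f, hf, hfz⟩ := hE
  refine ⟨_, (hθ.comp hf fun x hx => (h.isIso hθ).apply_mem hx).conj_after (S.inv_mem b.2), fun z hz => ?_⟩
  have hm : ((⟨θ z.1, hθ.mem (mem_prOne_of_mem hz)⟩, b * z.2 * b⁻¹) : S × S) ∈ E :=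
    (h _).2 ⟨z, hz, rfl, rfl⟩
  have := hfz _ hm
  show _ = (b : Ω)⁻¹ * f (θ z.1) * ((b : Ω)⁻¹)⁻¹
  rw [← this]
  simp [mul_assoc]

theorem TwRel.card (h : TwRel F D E) : Nat.card D = Nat.card E := by
  obtain ⟨-, θ, b, hθ, ht⟩ := h
  refine Nat.card_congr (Equiv.ofBijective (fun z : D =>
    (⟨(⟨θ (z : S × S).1, hθ.mem (mem_prOne_of_mem z.2)⟩, b * (z : S × S).2 * b⁻¹),
      (ht _).2 ⟨z, z.2, rfl, rfl⟩⟩ : E)) ⟨fun u v huv => ?_, fun z' => ?_⟩)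
  · obtain ⟨h1, h2⟩ := Prod.mk.inj (congrArg Subtype.val huv)
    refine Subtype.ext (Prod.ext (Subtype.ext (hθ.injOn (mem_prOne_of_mem u.2) (mem_prOne_of_mem v.2)
      (congrArg Subtype.val h1))) (mul_left_cancel (mul_right_cancel h2)))
  · obtain ⟨z, hz, h1, h2⟩ := (ht z').1 z'.2
    exact ⟨⟨z, hz⟩, Subtype.ext (Prod.ext (Subtype.ext h1.symm) h2.symm)⟩

theorem TwRel.symm (h : TwRel F D E) : TwRel F E D := by
  obtain ⟨hD, θ, b, hθ, ht⟩ := h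
  obtain ⟨g, hg, hgl, -⟩ := (ht.isIso hθ).exists_symm
  refine ⟨ht.fam hθ hD, g, b⁻¹, hg.1, fun z => ⟨fun hz => ?_, ?_⟩⟩
  · refine ⟨(⟨θ z.1, hθ.mem (mem_prOne_of_mem hz)⟩, b * z.2 * b⁻¹), (ht _).2 ⟨z, hz, rfl, rfl⟩,
      (hgl _ (mem_prOne_of_mem hz)).symm, ?_⟩
    show _ = b⁻¹ * (b * z.2 * b⁻¹) * b⁻¹⁻¹
    group
  · rintro ⟨z', hz', h1, h2⟩
    obtain ⟨z₀, hz₀, e1, e2⟩ := (ht z').1 hz'
    have : z = z₀ := by
      refine Prod.ext (Subtype.ext ?_) ?_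
      · rw [h1, e1, hgl _ (mem_prOne_of_mem hz₀)]
      · rw [h2, e2]; group
    exact this ▸ hz₀

theorem TwRel.trans {A B C : Subgroup (S × S)} (h : TwRel F A B) (h' : TwRel F B C) : TwRel F A C := by
  obtain ⟨hA, θ, b, hθ, ht⟩ := h
  obtain ⟨-, θ', b', hθ', ht'⟩ := h'
  refine ⟨hA, θ' ∘ θ, b' * b, hθ.comp hθ' fun x hx => (ht.isIso hθ).apply_mem hx, fun z'' => ⟨?_, ?_⟩⟩
  · intro hz''
    obtain ⟨z', hz', h1, h2⟩ := (ht' z'').1 hz''
    obtain ⟨z, hz, e1, e2⟩ := (ht z').1 hz'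
    refine ⟨z, hz, by rw [h1, e1, Function.comp_apply], ?_⟩
    rw [h2, e2]; group
  · rintro ⟨z, hz, h1, h2⟩
    refine (ht' _).2 ⟨(⟨θ z.1, hθ.mem (mem_prOne_of_mem hz)⟩, b * z.2 * b⁻¹),
      (ht _).2 ⟨z, hz, rfl, rfl⟩, h1, ?_⟩
    rw [h2]; group

theorem TwFam.conj (h : TwFam F D) (k : S × S) : TwRel F D (D.map (MulAut.conj k).toMonoidHom) := by
  refine ⟨h, _, k.2, isMor_conj (F := F) prOne_le k.1.2, fun z' => ⟨?_, ?_⟩⟩
  · rintro ⟨z, hz, rfl⟩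
    exact ⟨z, hz, rfl, rfl⟩
  · rintro ⟨z, hz, h1, h2⟩
    exact ⟨z, hz, Prod.ext (Subtype.ext h1.symm) h2.symm⟩

theorem TwFam.mono (h : TwFam F D) (hle : E ≤ D) : TwFam F E := by
  obtain ⟨f, hf, hz⟩ := h
  exact ⟨f, hf.restrict (prOne_mono hle), fun z hzE => hz z (hle hzE)⟩

theorem TwFam.card_prOne [Finite S] (h : TwFam F D) : Nat.card (prOne D) = Nat.card D := by
  obtain ⟨f, -, hz⟩ := h
  refine (Nat.card_congr (Equiv.ofBijective (fun z : D =>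
    (⟨((z : S × S).1 : Ω), mem_prOne_of_mem z.2⟩ : prOne D)) ⟨fun u v huv => ?_, ?_⟩)).symm
  · have h1 : ((u : S × S).1 : Ω) = (v : S × S).1 := congrArg (fun y : prOne D => (y : Ω)) huv
    exact Subtype.ext (Prod.ext (Subtype.ext h1)
      (Subtype.ext (by rw [hz _ u.2, hz _ v.2, h1])))
  · rintro ⟨_, z, hz', rfl⟩
    exact ⟨⟨z, hz'⟩, rfl⟩

theorem rel_or_not_of_trans (ht : IsTrans D E θ b) (hθ : IsMor F (prOne D) θ) :
    TwRel F D E ∨ (¬ TwFam F D ∧ ¬ TwFam F E) := by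
  by_cases h : TwFam F D
  · exact Or.inl ⟨h, θ, b, hθ, ht⟩
  · exact Or.inr ⟨h, fun h' => h (ht.fam_of hθ h')⟩

section Saturated

variable [Finite S] [Fact p.Prime] (hS : IsPGroup p S) (hF : F.IsSaturated p)
include hS hF

/-- The extension property needed for stabilisation. -/
theorem tw_star (hD : TwFam F D) : ∃ D₀, TwRel F D D₀ ∧ ∀ D', TwRel F D D' →
    ∃ α : Subgroup.normalizer (D' : Set (S × S)) →* S × S,
      (∀ n, α n ∈ Subgroup.normalizer (D₀ : Set (S × S))) ∧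
      (∀ n : Subgroup.normalizer (D' : Set (S × S)), (n : S × S) ∈ D' ↔ α n ∈ D₀) ∧
      ∀ n : Subgroup.normalizer (D' : Set (S × S)), (n : S × S) ∉ D' →
        TwRel F (D' ⊔ Subgroup.zpowers (n : S × S)) (D₀ ⊔ Subgroup.zpowers (α n)) ∨
          (¬ TwFam F (D' ⊔ Subgroup.zpowers (n : S × S)) ∧ ¬ TwFam F (D₀ ⊔ Subgroup.zpowers (α n))) := by
  obtain ⟨Q, hc, hQn⟩ := exists_fullyNormalized (F := F) (prOne_le (D := D))
  obtain ⟨θ₁, hθ₁⟩ := isConj_iff_exists_isIso.1 hc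
  obtain ⟨D₁, ht₁⟩ := exists_trans hθ₁.1 (1 : S)
  have hrel₁ : TwRel F D D₁ := ⟨hD, θ₁, 1, hθ₁.1, ht₁⟩
  obtain ⟨f₁, hf₁, hfz₁⟩ := ht₁.fam hθ₁.1 hD
  have hQ : prOne D₁ = Q := (ht₁.isIso hθ₁.1).image_unique hθ₁
  subst hQ
  obtain ⟨hA, hR⟩ := fullyNormalized_receptive hS hF hQn
  set Q := prOne D₁
  -- the automorphisms compatible with `f₁`
  obtain ⟨τi, hτi, hτl, -⟩ := hf₁.isIso.exists_symm
  set Q₁ := hf₁.image Q le_rfl
  let e : Q ≃* Q₁ := MulEquiv.ofBijective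
    (MonoidHom.mk' (fun x : Q => (⟨f₁ x, hf₁.isIso.apply_mem x.2⟩ : Q₁))
      fun u v => Subtype.ext (hf₁.map_mul u.2 v.2))
    ⟨fun u v huv => Subtype.ext (hf₁.injOn u.2 v.2 (congrArg Subtype.val huv)), fun y => by
      obtain ⟨x, hx, hxy⟩ := hf₁.isIso.exists_apply y.2
      exact ⟨⟨x, hx⟩, Subtype.ext hxy⟩⟩
  set U : Subgroup (MulAut Q) :=
    (autInducedBy S Q₁).comap (MulAut.congr e).toMonoidHom ⊓ F.autGroup Q
  have hUp : IsPGroup p U :=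
    (IsPGroup.comap_of_injective (isPGroup_autInducedBy hS Q₁) _ (MulAut.congr e).injective).to_le inf_le_left
  obtain ⟨γ, hγ, hγU⟩ := exists_conj_le_autInducedBy hA inf_le_right hUp
  have hγm := isMor_of_mem_autGroup hQn.1 hγ
  obtain ⟨D₀, ht₀⟩ := exists_trans (D := D₁) hγm (1 : S)
  have hrel₀ : TwRel F D₁ D₀ := ⟨⟨f₁, hf₁, hfz₁⟩, _, 1, hγm, ht₀⟩
  have hQ0 : prOne D₀ = Q := (ht₀.isIso hγm).image_unique (hγm.isIso_self fun x hx => autFun_mem _ hx)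
  refine ⟨D₀, hrel₁.trans hrel₀, fun D' hD' => ?_⟩
  obtain ⟨hD'f, θ, b, hθ, ht⟩ := (hD'.symm.trans (hrel₁.trans hrel₀))
  set N := Subgroup.normalizer (D' : Set (S × S))
  have hθi := ht.isIso hθ
  rw [hQ0] at hθi
  set P := prOne D'
  have hnorm : ∀ n : N, ((n : S × S).1 : Ω) ∈ Subgroup.normalizer (P : Set Ω) := fun n => by
    refine mem_normalizer_of_conj_mem prOne_le ?_
    rintro _ ⟨z, hz, rfl⟩
    exact ⟨(n : S × S) * z * (n : S × S)⁻¹, (Subgroup.mem_normalizer_iff.1 n.2 z).1 hz, rfl⟩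
  set A : Subgroup Ω := (⊤ : Subgroup N).map ((S.subtype.comp (MonoidHom.fst S S)).comp N.subtype)
  have hmemA : ∀ n : N, ((n : S × S).1 : Ω) ∈ A := fun n => ⟨n, trivial, rfl⟩
  have hext : ∀ a ∈ A, ExtCond S P θ a := by
    rintro _ ⟨n, -, rfl⟩
    refine ⟨(n : S × S).1.2, hnorm n, ?_⟩
    set a : Ω := ((n : S × S).1 : Ω)
    have hcm : IsMor F P (fun x => a * x * a⁻¹) := isMor_conj prOne_le (n : S × S).1.2
    obtain ⟨g, hg, hgl, -⟩ := hθi.exists_symm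
    have hbi : IsIso F Q Q (θ ∘ (fun x => a * x * a⁻¹) ∘ g) :=
      (hg.trans (hcm.isIso_self fun x hx => conj_mem_of_mem_normalizer (hnorm n) hx)).trans hθi
    set β := autOf hbi
    have hβ : β ∈ F.autGroup Q := autOf_mem hbi
    set c : S := b * (n : S × S).2 * b⁻¹
    have hU : γ⁻¹ * β * γ ∈ U := by
      refine ⟨?_, (F.autGroup Q).mul_mem ((F.autGroup Q).mul_mem ((F.autGroup Q).inv_mem hγ) hβ) hγ⟩
      refine mem_autInducedBy.2 ⟨c, c.2, ?_⟩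
      have key : ∀ q : Q, f₁ ((γ⁻¹ * β * γ) q : Q) = (c : Ω) * f₁ q * (c : Ω)⁻¹ := by
        rintro ⟨q, hq⟩
        obtain ⟨z₁, hz₁, rfl⟩ := mem_prOne.1 hq
        have hz₀ : ((⟨autFun γ z₁.1, hγm.mem (mem_prOne_of_mem hz₁)⟩, (1 : S) * z₁.2 * 1⁻¹) : S × S) ∈ D₀ :=
          (ht₀ _).2 ⟨z₁, hz₁, rfl, rfl⟩
        obtain ⟨z, hz, h1, h2⟩ := (ht _).1 hz₀
        have hnz : (n : S × S) * z * (n : S × S)⁻¹ ∈ D' := (Subgroup.mem_normalizer_iff.1 n.2 z).1 hz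
        have hnzP := mem_prOne_of_mem hnz
        obtain ⟨w, hw, e1, e2⟩ := (ht₀ _).1 ((ht (⟨θ _, hθ.mem hnzP⟩,
          b * ((n : S × S) * z * (n : S × S)⁻¹).2 * b⁻¹)).2 ⟨_, hnz, rfl, rfl⟩)
        replace h1 : autFun γ z₁.1 = θ z.1 := h1
        replace h2 : (1 : S) * z₁.2 * 1⁻¹ = b * z.2 * b⁻¹ := h2
        replace e1 : θ (a * (z.1 : Ω) * a⁻¹) = autFun γ w.1 := e1
        replace e2 : b * ((n : S × S).2 * z.2 * (n : S × S).2⁻¹) * b⁻¹ = 1 * w.2 * 1⁻¹ := e2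
        have hval : ((γ⁻¹ * β * γ) (⟨z₁.1, mem_prOne_of_mem hz₁⟩ : Q) : Q) =
            ⟨w.1, mem_prOne_of_mem hw⟩ := by
          apply γ.injective
          refine Subtype.ext ?_
          rw [MulAut.mul_apply, MulAut.mul_apply, MulAut.apply_inv_self, autOf_apply]
          rw [← autFun_apply γ (mem_prOne_of_mem hw), ← e1, Function.comp_apply, Function.comp_apply,
            ← autFun_apply γ (mem_prOne_of_mem hz₁), h1, hgl _ (mem_prOne_of_mem hz)]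
        rw [hval, ← hfz₁ w hw, show ((⟨(z₁.1 : Ω), mem_prOne_of_mem hz₁⟩ : Q) : Ω) = z₁.1 from rfl,
          ← hfz₁ z₁ hz₁]
        rw [one_mul, inv_one, mul_one] at h2 e2
        rw [← e2, h2]
        simp [c, mul_assoc]
      have hmem : ∀ y : Q₁, (c : Ω) * y * (c : Ω)⁻¹ ∈ Q₁ := fun y => by
        obtain ⟨q, rfl⟩ := e.surjective y
        show (c : Ω) * f₁ q * (c : Ω)⁻¹ ∈ Q₁
        rw [← key]
        exact hf₁.isIso.apply_mem (Subtype.prop _)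
      refine ⟨mem_normalizer_of_conj_mem (hf₁.isIso.le') fun y hy => hmem ⟨y, hy⟩, fun y => ?_⟩
      obtain ⟨q, rfl⟩ := e.surjective y
      show ((e ((γ⁻¹ * β * γ) (e.symm (e q))) : Q₁) : Ω) = _
      rw [e.symm_apply_apply]
      exact key q
    have h3 := hγU _ hU
    rw [show γ * (γ⁻¹ * β * γ) * γ⁻¹ = β by group] at h3
    obtain ⟨s, hs, -, hsx⟩ := mem_autInducedBy.1 h3
    refine ⟨s, hs, fun x hx => ?_⟩
    have := hsx ⟨θ x, hθi.apply_mem hx⟩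
    simp only [Subgroup.subtype_apply, β, autOf_apply, Function.comp_apply, hgl x hx] at this
    exact this
  obtain ⟨k, hk, hke⟩ := exists_extension hR hθi hext
  have hPA : P ≤ A := by
    rintro _ ⟨z, hz, rfl⟩
    exact hmemA ⟨z, Subgroup.le_normalizer hz⟩
  let α : N →* S × S := MonoidHom.mk'
    (fun n => (⟨k ((n : S × S).1 : Ω), hk.mem (hmemA n)⟩, b * (n : S × S).2 * b⁻¹)) fun u v =>
      Prod.ext (Subtype.ext (hk.map_mul (hmemA u) (hmemA v)))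
        (show b * ((u : S × S).2 * (v : S × S).2) * b⁻¹ =
          b * (u : S × S).2 * b⁻¹ * (b * (v : S × S).2 * b⁻¹) by group)
  have hsupA : ∀ E' : Subgroup (S × S), E' ≤ N → prOne E' ≤ A := by
    rintro E' hE' _ ⟨z, hz, rfl⟩
    exact hmemA ⟨z, hE' hz⟩
  have hαD : ∀ (n : N), (n : S × S) ∈ D' ↔ α n ∈ D₀ := by
    intro n
    constructor
    · intro hn
      refine (ht _).2 ⟨n, hn, ?_, rfl⟩
      exact hke _ (mem_prOne_of_mem hn) (hmemA n)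
    · intro hn
      obtain ⟨z, hz, h1, h2⟩ := (ht _).1 hn
      replace h1 : k ((n : S × S).1 : Ω) = θ z.1 := h1
      rw [← hke _ (mem_prOne_of_mem hz) (hmemA ⟨z, Subgroup.le_normalizer hz⟩)] at h1
      have e1 := hk.injOn (hmemA n) (hmemA ⟨z, Subgroup.le_normalizer hz⟩) h1
      have e2 : (n : S × S).2 = z.2 := mul_left_cancel (mul_right_cancel (h2 : b * _ * b⁻¹ = _))
      rwa [show (n : S × S) = z from Prod.ext (Subtype.ext e1) e2]
  have hαsurj : ∀ y ∈ D₀, ∃ z : N, (z : S × S) ∈ D' ∧ α z = y := fun y hy => by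
    obtain ⟨z, hz, h1, h2⟩ := (ht y).1 hy
    refine ⟨⟨z, Subgroup.le_normalizer hz⟩, hz, Prod.ext (Subtype.ext ?_) h2.symm⟩
    exact (hke _ (mem_prOne_of_mem hz) (hmemA ⟨z, Subgroup.le_normalizer hz⟩)).trans h1.symm
  refine ⟨α, fun n => ?_, hαD, fun n _ => ?_⟩
  · have hmap : D₀.map (MulAut.conj (α n)).toMonoidHom = D₀ := by
      refine Subgroup.eq_of_le_of_card_ge ?_
        (Nat.card_congr (D₀.equivMapOfInjective _ (MulAut.conj (α n)).injective).toEquiv).le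
      rintro _ ⟨y, hy, rfl⟩
      obtain ⟨z, hz, rfl⟩ := hαsurj y hy
      show α n * α z * (α n)⁻¹ ∈ D₀
      rw [← map_mul, ← map_inv, ← map_mul, ← hαD]
      exact (Subgroup.mem_normalizer_iff.1 n.2 z).1 hz
    refine Subgroup.mem_normalizer_iff.2 fun y => ⟨fun hy => hmap.le ⟨y, hy, rfl⟩, fun hy => ?_⟩
    obtain ⟨y', hy', he⟩ := hmap.ge hy
    rwa [(MulAut.conj (α n)).injective (he : MulAut.conj (α n) y' = MulAut.conj (α n) y)] at hy'
  · have hle : D' ⊔ Subgroup.zpowers (n : S × S) ≤ N :=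
      sup_le Subgroup.le_normalizer (Subgroup.zpowers_le.2 n.2)
    refine rel_or_not_of_trans (θ := k) (b := b) ?_ (hk.restrict (hsupA _ hle))
    have hD0 : D₀ = (D'.subgroupOf N).map α := by
      ext y
      constructor
      · intro hy
        obtain ⟨z, hz, rfl⟩ := hαsurj y hy
        exact ⟨z, hz, rfl⟩
      · rintro ⟨z, hz, rfl⟩
        exact (hαD z).1 hz
    have himg : D₀ ⊔ Subgroup.zpowers (α n) = ((D' ⊔ Subgroup.zpowers (n : S × S)).subgroupOf N).map α := by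
      rw [Subgroup.subgroupOf_sup Subgroup.le_normalizer (Subgroup.zpowers_le.2 n.2), Subgroup.map_sup,
        ← hD0]
      congr 1
      rw [← MonoidHom.map_zpowers]
      congr 1
      ext z
      simp [Subgroup.mem_subgroupOf, Subgroup.mem_zpowers_iff, Subtype.ext_iff]
    intro z'
    rw [himg]
    constructor
    · rintro ⟨z, hz, rfl⟩
      exact ⟨z, hz, rfl, rfl⟩
    · rintro ⟨z, hz, h1, h2⟩
      exact ⟨⟨z, hle hz⟩, hz, Prod.ext (Subtype.ext h1.symm) h2.symm⟩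

/-- The stabilisation data of a saturated system. -/
noncomputable def twStable : StableRel (S × S) where
  Fam := TwFam F
  rel := TwRel F
  down := fun h hle => h.mono hle
  refl := fun {D} hD => by
    have := hD.conj (1 : S × S)
    rwa [show D.map (MulAut.conj (1 : S × S)).toMonoidHom = D by ext; simp] at this
  symm := fun h => h.symm
  trans := fun h h' => h.trans h'
  fam := fun h => h.1
  card := fun h => h.card
  conj := fun h k => h.conj k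
  star := fun hD => tw_star hS hF hD

end Saturated

end Cfsg.Agent.Fusion
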