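import Mathlib
import Cfsg.Agent.Lib.Fusion.NormalCriteria

/-!
Norm maps and the centre of a saturated system.
-/

set_option autoImplicit false

namespace Cfsg.Agent.Fusion

open Cfsg Cfsg.FusionSystem

/-- The norm from the fixed points of a subgroup of index prime to `p` retracts onto the fixed points. -/
theorem exists_norm {M A : Type*} [CommGroup M] [Group A] [Finite A] (ρ : A →* MulAut M) (H : Subgroup A)
    {p : ℕ} [Fact p.Prime] (hM : IsPGroup p M) (hidx : ¬ p ∣ H.index) :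
    ∃ (FH : Subgroup M) (N : FH →* M), (∀ x, x ∈ FH ↔ ∀ a ∈ H, ρ a x = x) ∧
      (∀ (a : A) (x : FH), ρ a (N x) = N x) ∧
      (∀ x : FH, (∀ a : A, ρ a (x : M) = x) → N x = (x : M) ^ H.index) ∧
      (∀ x : FH, ∃ y ∈ Subgroup.closure (Set.range fun az : A × M => az.2⁻¹ * ρ az.1 az.2),
        N x = (x : M) ^ H.index * y) ∧
      (∀ (a : A) (x : FH) (hx : ρ a (x : M) ∈ FH), H.Normal → N ⟨ρ a (x : M), hx⟩ = N x) ∧
      Function.Bijective (fun x : M => x ^ H.index) := by
  classical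
  have := Fintype.ofFinite (A ⧸ H)
  let FH : Subgroup M :=
    { carrier := {x | ∀ a ∈ H, ρ a x = x}
      one_mem' := fun a _ => map_one _
      mul_mem' := fun hx hy a ha => by rw [map_mul, hx a ha, hy a ha]
      inv_mem' := fun hx a ha => by rw [map_inv, hx a ha] }
  have hout : ∀ (x : FH) (a b : A), (a : A ⧸ H) = (b : A ⧸ H) → ρ a (x : M) = ρ b (x : M) := by
    intro x a b hab
    rw [QuotientGroup.eq] at hab
    have h := x.2 _ hab
    calc ρ a (x : M) = ρ a (ρ (a⁻¹ * b) (x : M)) := by rw [h]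
      _ = ρ b (x : M) := by rw [← MulAut.mul_apply, ← map_mul, mul_inv_cancel_left]
  let N : FH →* M := MonoidHom.mk' (fun x => ∏ q : A ⧸ H, ρ q.out (x : M)) fun x y => by
    simp [Finset.prod_mul_distrib]
  have hcard : Fintype.card (A ⧸ H) = H.index := by rw [← Nat.card_eq_fintype_card]; rfl
  refine ⟨FH, N, fun x => Iff.rfl, fun a x => ?_, fun x hx => ?_, fun x => ?_, fun a x hx hn => ?_, ?_⟩
  · show ρ a (∏ q : A ⧸ H, ρ q.out (x : M)) = _
    rw [map_prod]
    refine Fintype.prod_equiv (MulAction.toPerm a) _ _ fun q => ?_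
    rw [← MulAut.mul_apply, ← map_mul]
    refine hout x _ _ ?_
    rw [MulAction.toPerm_apply, QuotientGroup.out_eq']
    show ((a * q.out : A) : A ⧸ H) = a • q
    conv_rhs => rw [← QuotientGroup.out_eq' q]
    rfl
  · show ∏ q : A ⧸ H, ρ q.out (x : M) = _
    rw [Finset.prod_congr rfl fun q _ => hx q.out, Finset.prod_const, Finset.card_univ, hcard]
  · refine ⟨∏ q : A ⧸ H, (x : M)⁻¹ * ρ q.out (x : M),
      Subgroup.prod_mem _ fun q _ => Subgroup.subset_closure ⟨(q.out, (x : M)), rfl⟩, ?_⟩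
    show ∏ q : A ⧸ H, ρ q.out (x : M) = _
    rw [Finset.prod_mul_distrib, Finset.prod_const, Finset.card_univ, hcard, inv_pow, mul_inv_cancel_left]
  · show ∏ q : A ⧸ H, ρ q.out (ρ a (x : M)) = ∏ q : A ⧸ H, ρ q.out (x : M)
    refine Fintype.prod_equiv (Equiv.mulRight (a : A ⧸ H)) _ _ fun q => ?_
    rw [← MulAut.mul_apply, ← map_mul]
    refine hout x _ _ ?_
    rw [QuotientGroup.mk_mul, QuotientGroup.out_eq', QuotientGroup.out_eq']
    rfl
  · exact (hM.powEquiv ((Fact.out : p.Prime).coprime_iff_not_dvd.2 hidx)).bijective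

variable {Ω : Type*} [Group Ω] {S : Subgroup Ω} {F : FusionSystem S} {P Q : Subgroup Ω} {f : Ω → Ω} {p : ℕ}

theorem center_fixed [Finite S] (hf : IsMor F P f) {x : Ω} (hx : x ∈ F.center) (hxP : x ∈ P) : f x = x := by
  obtain ⟨k, -, he, hk⟩ := (isCentral_iff.1 (isCentral_center F)).2 P f hf
  exact (he x hxP).symm.trans (hk x hx)

theorem center_le_center [Finite S] (F : FusionSystem S) :
    F.center ≤ S ⊓ Subgroup.centralizer (S : Set Ω) := fun x hx =>
  ⟨(isCentral_center F).1 hx, Subgroup.mem_centralizer_iff.2 fun a ha => by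
    have := center_fixed (isMor_conj (F := F) (P := S) le_rfl ha) hx ((isCentral_center F).1 hx)
    have h : a * x = x * a := mul_inv_eq_iff_eq_mul.1 this
    exact h⟩

/-- An element of a normal subgroup fixed by its automisers is central in the system. -/
theorem mem_center_of_fixed [Finite S] [Fact p.Prime] (hS : IsPGroup p S) (hF : F.IsSaturated p)
    (hQ : F.IsNormal Q) {x : Ω} (hxQ : x ∈ Q) (h : ∀ α ∈ F.autGroup Q, autFun α x = x) :
    x ∈ F.center := by
  have hfix : ∀ P f, IsMor F P f → x ∈ P → f x = x := by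
    intro P f hf hxP
    obtain ⟨k, hk, he, hkQ⟩ := (isNormal_iff.1 hQ).2 P f hf
    have := h _ (autOf_mem hkQ)
    rw [autFun_apply _ hxQ, autOf_apply, he x hxP] at this
    exact this
  refine le_sSup (show Subgroup.zpowers x ∈ {Q | F.IsCentral Q} from
    (isCentral_iff_isConjElt hS hF).2 ⟨Subgroup.zpowers_le.2 (hQ.1 hxQ), fun z hz y hy => ?_⟩)
    (Subgroup.mem_zpowers x)
  obtain ⟨φ, hφ, rfl⟩ := hy
  obtain ⟨k, hk, he, hkQ⟩ := (isNormal_iff.1 hQ).2 _ _ (isMor_extFun hφ)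
  obtain ⟨n, rfl⟩ := hz
  have e := he _ (Subgroup.mem_zpowers (x ^ n))
  rw [extFun_apply φ (Subgroup.mem_zpowers (x ^ n))] at e
  rw [← e]
  show k (x ^ n) = x ^ n
  have hz : x ^ n ∈ Q := Q.zpow_mem hxQ n
  have hfix' : autFun (autOf hkQ) (x ^ n) = x ^ n := by
    have hm := isMor_of_mem_autGroup hQ.1 (autOf_mem hkQ)
    obtain ⟨ψ, -, hψ⟩ := id hm
    have h1 : ψ (⟨x, hxQ⟩ ^ n) = x ^ n := by rw [map_zpow, hψ, h _ (autOf_mem hkQ)]
    rw [hψ] at h1
    exact h1
  rw [autFun_apply _ hz, autOf_apply] at hfix'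
  exact hfix'

end Cfsg.Agent.Fusion
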