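import Cfsg.Agent.Lib.Fusion.FunctorReduction
import Cfsg.Agent.Lib.Fusion.CenterNorm

/-!
Reduction of control of the centre by a functor to constrained systems.
-/

set_option autoImplicit false

universe v

namespace Cfsg.Agent.Fusion

open Cfsg Cfsg.FusionSystem

/-- The functor contains the central elements. -/
def CentralIn {p : ℕ} (W : SubFunctor.{v} p) : Prop :=
  ∀ {G : Type v} [Group G] (P : Subgroup G) [Finite P], IsPGroup p P →
    ∀ z ∈ P, (∀ a ∈ P, a * z = z * a) → z ∈ W.W P

/-- In constrained systems an element of the centre of `S` fixed by the normalizer of `W(S)` is fixed. -/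
def FixLocal (p : ℕ) (W : SubFunctor.{v} p) : Prop :=
  ∀ {Ω : Type v} [Group Ω] (S : Subgroup Ω) [Finite S] (F : FusionSystem S) (R : Subgroup Ω),
    IsPGroup p S → F.IsSaturated p → F.IsNormal R → F.IsCentric R →
    ∀ z ∈ S, (∀ a ∈ S, a * z = z * a) → (∀ k, IsIso F (W.W S) (W.W S) k → k z = z) →
    ∀ (A : Subgroup Ω) (f : Ω → Ω), IsMor F A f → z ∈ A → f z = z

variable {p : ℕ} [Fact p.Prime]

/-- Reduction to constrained systems. -/
theorem fixed_of_functor (W : SubFunctor.{v} p) (hW : CentralIn W) (hL : FixLocal p W) :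
    ∀ (n : ℕ) {Ω : Type v} [Group Ω] {S : Subgroup Ω} [Finite S] {F : FusionSystem S} {z : Ω},
      Nat.card S = n → IsPGroup p S → F.IsSaturated p → z ∈ S → (∀ a ∈ S, a * z = z * a) →
      (∀ k, IsIso F (W.W S) (W.W S) k → k z = z) →
      ∀ (A : Subgroup Ω) (f : Ω → Ω), IsMor F A f → z ∈ A → f z = z := by
  intro n
  induction n using Nat.strong_induction_on with
  | _ n ih =>
  intro Ω _ S _ F z hn hS hF hzS hzc hN
  subst hn
  have hzn : ∀ A : Subgroup Ω, A ≤ S → z ∈ normalizerIn S A := fun A hA =>
    ⟨hzS, mem_normalizer_of_conj_mem hA fun x hx => by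
      rwa [← hzc x (hA hx), mul_inv_cancel_right]⟩
  intro A
  induction hm : Nat.card S - Nat.card A using Nat.strong_induction_on generalizing A with
  | _ m ihA =>
  subst hm
  intro f hf hzA
  have hbig : ∀ (Q : Subgroup Ω) (g : Ω → Ω), Nat.card A < Nat.card Q → IsMor F Q g → z ∈ Q → g z = z := by
    intro Q g hQ hg hzQ
    have := Nat.card_le_card_of_injective (Subgroup.inclusion hg.le) (Subgroup.inclusion_injective _)
    exact ihA _ (by omega) Q rfl g hg hzQ
  rcases eq_or_lt_of_le hf.le with hAS | hAS
  · subst hAS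
    have hi := hf.isIso_self fun x hx => hf.mem hx
    exact hN f (W.normalizer_le le_rfl hi)
  have hAlt : ∀ {B : Subgroup Ω}, B ≤ S → Nat.card B = Nat.card A → Nat.card A < Nat.card (normalizerIn S B) := by
    intro B hB hc
    rw [← hc]
    refine card_lt_of_lt normalizerIn_le (normalizerIn_self_lt hS (lt_of_le_of_ne hB fun h => ?_))
    have := card_lt_of_lt le_rfl hAS
    rw [← hc, h] at this
    exact this.false
  -- the automorphisms of the fully normalized conjugates fix `z`
  obtain ⟨R, hcR, hR⟩ := exists_fullyNormalized (F := F) hAS.le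
  obtain ⟨g, g', hg, hg', hge, -⟩ := exists_iso_to_fullyNormalized hS hF hcR hR
  have hgz : g z = z := by
    rw [← hge z hzA]
    exact hbig _ g' (hAlt hAS.le rfl) hg' (hzn A hAS.le)
  have hzR : z ∈ R := hgz ▸ hg.apply_mem hzA
  have hRcard : Nat.card R = Nat.card A := hg.card_eq
  have hRS : R < S := lt_of_le_of_ne hR.1 fun h => by
    have := card_lt_of_lt le_rfl hAS
    rw [← hRcard, h] at this
    exact this.false
  have key : ∀ α ∈ F.autGroup R, autFun α z = z := by
    intro α hα
    by_cases hC : centralizerIn S R ≤ R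
    swap
    · rw [← closure_extSet_eq_of_not_centric (fullyNormalized_receptive hS hF hR).2 hC] at hα
      let K : Subgroup (MulAut R) :=
        { carrier := {β | autFun β z = z}
          one_mem' := autFun_one hzR
          mul_mem' := fun {a b} ha hb => by
            show autFun (a * b) z = z
            rw [autFun_mul a b hzR, hb]
            exact ha
          inv_mem' := fun {a} ha => by
            show autFun a⁻¹ z = z
            conv_lhs => rw [← ha]
            rw [← autFun_mul a⁻¹ a hzR, inv_mul_cancel, autFun_one hzR] }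
      refine (Subgroup.closure_le K).2 (fun β hβ => ?_) hα
      obtain ⟨Q, k, hRQ, hk, hx⟩ := mem_extSet.1 hβ
      show autFun β z = z
      rw [autFun_apply _ hzR, ← hx ⟨z, hzR⟩]
      exact hbig Q k (hRcard ▸ card_lt_of_lt hk.le hRQ) hk (hRQ.le hzR)
    have hRc : F.IsCentric R :=
      isCentric_of_fullyCentralized hS hF (fullyNormalized_fullyCentralized hS hF hR) hC
    -- descending on the normalizer: maps stabilizing `Y` fix `z`
    have hfix : ∀ (m : ℕ) (Y : Subgroup Ω), Nat.card S - Nat.card (normalizerIn S Y) = m → Y ≤ S → z ∈ Y →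
        Nat.card A < Nat.card (normalizerIn S Y) → ∀ k, IsIso F Y Y k → k z = z := by
      intro m
      induction m using Nat.strong_induction_on with
      | _ m ihm =>
      intro Y hm hYS hzY hlt k hk
      subst hm
      obtain ⟨V, hcV, hV⟩ := exists_fullyNormalized (F := F) hYS
      obtain ⟨u, u', hu, hu', hue, huN⟩ := exists_iso_to_fullyNormalized hS hF hcV hV
      have huz : u z = z := by
        rw [← hue z hzY]
        exact hbig _ u' hlt hu' (hzn Y hYS)
      have hzV : z ∈ V := huz ▸ hu.apply_mem hzY
      obtain ⟨ui, hui, huil, -⟩ := hu.exists_symm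
      have hcard : Nat.card (normalizerIn S Y) ≤ Nat.card (normalizerIn S V) := by
        have : Finite (normalizerIn S V) := finite_of_le normalizerIn_le
        exact Nat.card_le_card_of_injective
          (fun a : normalizerIn S Y => (⟨u' a, huN a a.2⟩ : normalizerIn S V)) fun a b hab =>
            Subtype.ext (hu'.injOn a.2 b.2 (congrArg Subtype.val hab))
      suffices hVfix : ∀ h, IsIso F V V h → h z = z by
        have h1 := hVfix _ ((hui.trans hk).trans hu)
        have h2 : ui z = z := by
          conv_lhs => rw [← huz]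
          exact huil z hzY
        simp only [Function.comp_apply, h2] at h1
        refine hu.1.injOn (hk.apply_mem hzY) hzY ?_
        rw [h1, huz]
      intro h hh
      by_cases hVT : normalizerIn S V = S
      · -- inside the normalizer of `V C_S(V)`
        have hSV : S ≤ Subgroup.normalizer (V : Set Ω) := fun a ha => (hVT.ge ha).2
        obtain ⟨hR0c, hR0n⟩ := centric_sup_centralizer hS hF hV.1 hSV
        obtain ⟨E, hEs, hEF, hEn, hEiff⟩ := exists_normalizer_top hS hF hR0c.1 hR0n
        obtain ⟨h', hh', hhe⟩ := exists_extension_centralizer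
          (fullyNormalized_receptive hS hF hV).2 hh
        have hh0 : IsIso F (V ⊔ centralizerIn S V) (V ⊔ centralizerIn S V) h' :=
          hh'.isIso_self fun x hx => hh'.apply_mem_sup
            (fun y hy => Subgroup.mem_sup_left (by rw [hhe y hy]; exact hh.apply_mem hy))
            (fun y hy => Subgroup.mem_sup_right (hh'.apply_mem_centralizerIn le_sup_left
              (hh.congr hhe) (Subgroup.mem_sup_right hy) hy)) hx
        have hE : IsMor E (V ⊔ centralizerIn S V) h' :=
          (hEiff _ _).2 ⟨hR0c.1, h', by rwa [sup_idem], fun _ _ => rfl, hh0⟩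
        rw [← hhe z hzV]
        exact hL S E _ hS hEs hEn (isCentric_of_sub hEF hR0c) z hzS hzc
          (fun k hk => hN k ⟨hk.1.of_le hEF, hk.2⟩) _ h' hE (Subgroup.mem_sup_left hzV)
      -- a smaller system
      have hS' : normalizerIn S V < S := lt_of_le_of_ne normalizerIn_le hVT
      obtain ⟨E, hE⟩ := exists_normalizerSystem F hV.1
      have hEs := normalizerSystem_saturated hS hF hV hE
      have : Finite (normalizerIn S V) := finite_of_le normalizerIn_le
      have hEm : IsMor E V h := (isMor_normalizer_iff hE).2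
        ⟨le_normalizerIn hV.1, fun x hx => le_normalizerIn hV.1 (hh.apply_mem hx), h,
          by rw [sup_idem]; exact hh.1, fun _ _ => rfl, hh⟩
      refine ih _ (card_lt_of_lt le_rfl hS') rfl (hS.to_le normalizerIn_le) hEs (hzn V hV.1)
        (fun a ha => hzc a ha.1) (fun k' hk' => ?_) V h hEm hzV
      set W' := W.W (normalizerIn S V)
      have hW'S : W' ≤ S := (W.le _).trans normalizerIn_le
      have hz' : z ∈ W' := hW _ (hS.to_le normalizerIn_le) z (hzn V hV.1) fun a ha => hzc a ha.1
      have hbigger : Nat.card (normalizerIn S V) < Nat.card (normalizerIn S W') := by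
        refine lt_of_lt_of_le (card_lt_of_lt normalizerIn_le (normalizerIn_self_lt hS hS')) ?_
        have : Finite (normalizerIn S W') := finite_of_le normalizerIn_le
        exact Nat.card_le_card_of_injective (Subgroup.inclusion
          (fun a ha => ⟨ha.1, W.mem_normalizer normalizerIn_le ha.1 ha.2⟩ :
            normalizerIn S (normalizerIn S V) ≤ normalizerIn S W')) (Subgroup.inclusion_injective _)
      have h3 : Nat.card (normalizerIn S V) < Nat.card S := card_lt_of_lt le_rfl hS'
      exact ihm _ (by omega) W' rfl hW'S hz' (by omega) k' ⟨isMor_of_normalizer hE hk'.1, hk'.2⟩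
    have hαi := isIso_autFun hR.1 hα
    exact hfix _ R rfl hR.1 hzR (hRcard ▸ hAlt hR.1 hRcard) _ hαi
  -- transport
  obtain ⟨k, k', hk, hk', hke, -⟩ :=
    exists_iso_to_fullyNormalized hS hF (isConj_trans (isConj_symm hf.isIso.isConj) hcR) hR
  have hfc : Nat.card (hf.image A le_rfl) = Nat.card A := hf.isIso.card_eq
  have hk'z : k' z = z := hbig _ k' (hAlt hf.isIso.le' hfc) hk' (hzn _ hf.isIso.le')
  obtain ⟨gi, hgi, hgl, -⟩ := hg.exists_symm
  have hα : IsIso F R R (k ∘ f ∘ gi) := (hgi.trans hf.isIso).trans hk
  have h1 := key _ (autOf_mem hα)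
  rw [autFun_apply _ hzR, autOf_apply] at h1
  have h2 : gi z = z := by
    conv_lhs => rw [← hgz]
    exact hgl z hzA
  simp only [Function.comp_apply, h2] at h1
  rw [← hke _ (hf.isIso.apply_mem hzA)] at h1
  exact hk'.injOn (le_normalizerIn hf.isIso.le' (hf.isIso.apply_mem hzA)) (hzn _ hf.isIso.le')
    (h1.trans hk'z.symm)

/-- Elements fixed by all maps are central. -/
theorem mem_center_of_forall {Ω : Type v} [Group Ω] {S : Subgroup Ω} [Finite S] {F : FusionSystem S}
    (hS : IsPGroup p S) (hF : F.IsSaturated p) {z : Ω} (hz : z ∈ S)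
    (h : ∀ x ∈ Subgroup.zpowers z, ∀ A f, IsMor F A f → x ∈ A → f x = x) : z ∈ F.center := by
  refine le_sSup (show Subgroup.zpowers z ∈ {Q | F.IsCentral Q} from
    (isCentral_iff_isConjElt hS hF).2 ⟨Subgroup.zpowers_le.2 hz, fun x hx y hy => ?_⟩)
    (Subgroup.mem_zpowers z)
  obtain ⟨φ, hφ, rfl⟩ := hy
  rw [← extFun_apply φ (Subgroup.mem_zpowers x)]
  exact h x hx _ _ (isMor_extFun hφ) (Subgroup.mem_zpowers x)

end Cfsg.Agent.Fusion
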