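import Mathlib
import Cfsg.Agent.Lib.Fusion.SubSystem
import Cfsg.Agent.Lib.Fusion.Saturation

/-!
Existence of normalizer and centralizer systems.
-/

set_option autoImplicit false

namespace Cfsg.Agent.Fusion

open Cfsg Cfsg.FusionSystem

variable {Ω : Type*} [Group Ω] {S : Subgroup Ω} {F : FusionSystem S} {P Q T : Subgroup Ω}

/-- No condition on the induced map of `Q`. -/
def SelfCond.trivialCond (F : FusionSystem S) (Q T : Subgroup Ω) : SelfCond F Q T :=
  ⟨fun _ => True, fun _ => trivial, fun _ _ _ _ => trivial, fun _ _ _ _ => trivial⟩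

/-- The induced map of `Q` is the identity. -/
def SelfCond.identityCond (F : FusionSystem S) (Q : Subgroup Ω) :
    SelfCond F Q (centralizerIn S Q) where
  M k := ∀ x ∈ Q, k x = x
  conj := fun {a} ha x hx => conj_eq_of_mem_centralizerIn ha hx
  comp := fun {k l} _ hk _ hl x hx => by rw [Function.comp_apply, hk x hx, hl x hx]
  symm := fun {k l} _ hk _ hl x hx => by
    have := hl x hx
    rwa [hk x hx] at this

/-- The maps of the normalizer system, described by the stable condition. -/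
theorem normalizerHom_eq (F : FusionSystem S) (hQ : Q ≤ S) (P : Subgroup Ω) :
    (extCondOn F hQ inf_le_left inf_le_right (SelfCond.trivialCond F Q (normalizerIn S Q))).system.Hom P =
      F.normalizerHom Q P := by
  refine Set.ext fun φ => ?_
  constructor
  · intro h
    obtain ⟨hφ, ⟨hP, hT⟩, k, ⟨ψ, hψ, hke⟩, hkf, hkQ, -⟩ :=
      (h : φ ∈ F.Hom P ∧ (P ≤ normalizerIn S Q ∧ ∀ x : P, φ x ∈ normalizerIn S Q) ∧ _)
    refine ⟨hφ, hP, hT, ψ, hψ, fun x => ?_, ?_⟩
    · rw [hke, Subgroup.coe_inclusion, hkf _ x.2, extFun_coe]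
    · ext y
      constructor
      · rintro ⟨x, hx, rfl⟩
        rw [hke]
        exact hkQ.apply_mem hx
      · intro hy
        obtain ⟨x, hx, rfl⟩ := hkQ.exists_apply hy
        exact ⟨⟨x, Subgroup.mem_sup_right hx⟩, hx, hke _⟩
  · rintro ⟨hφ, hP, hT, ψ, hψ, hx, hm⟩
    refine ⟨hφ, ⟨hP, hT⟩, extFun ψ, isMor_extFun hψ, fun x hxP => ?_,
      ⟨(isMor_extFun hψ).restrict le_sup_right, fun y => ?_⟩, trivial⟩
    · rw [extFun_apply ψ (Subgroup.mem_sup_left hxP), extFun_apply φ hxP]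
      exact hx ⟨x, hxP⟩
    · constructor
      · intro hy
        rw [← hm] at hy
        obtain ⟨x, hx', rfl⟩ := hy
        exact ⟨x, hx', extFun_coe ψ x⟩
      · rintro ⟨x, hx', rfl⟩
        rw [extFun_apply ψ (Subgroup.mem_sup_right hx')]
        exact hm.le ⟨⟨x, Subgroup.mem_sup_right hx'⟩, hx', rfl⟩

theorem exists_normalizerSystem (F : FusionSystem S) (hQ : Q ≤ S) :
    ∃ E : FusionSystem (normalizerIn S Q), F.IsNormalizerSystem Q E :=
  ⟨_, normalizerHom_eq F hQ⟩

/-- The maps of the centralizer system, described by the stable condition. -/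
theorem centralizerHom_eq (F : FusionSystem S) (hQ : Q ≤ S) (P : Subgroup Ω) :
    (extCondOn F hQ inf_le_left (centralizerIn_le_normalizerIn.trans inf_le_right)
      (SelfCond.identityCond F Q)).system.Hom P = F.centralizerHom Q P := by
  refine Set.ext fun φ => ?_
  constructor
  · intro h
    obtain ⟨hφ, ⟨hP, hT⟩, k, ⟨ψ, hψ, hke⟩, hkf, -, hkQ⟩ :=
      (h : φ ∈ F.Hom P ∧ (P ≤ centralizerIn S Q ∧ ∀ x : P, φ x ∈ centralizerIn S Q) ∧ _)
    refine ⟨hφ, hP, hT, ψ, hψ, fun x => ?_, fun x => ?_⟩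
    · rw [hke, Subgroup.coe_inclusion, hkf _ x.2, extFun_coe]
    · rw [hke, Subgroup.coe_inclusion]
      exact hkQ _ x.2
  · rintro ⟨hφ, hP, hT, ψ, hψ, hx, hm⟩
    have hfix : ∀ x ∈ Q, extFun ψ x = x := fun x hx' => by
      rw [extFun_apply ψ (Subgroup.mem_sup_right hx')]
      exact hm ⟨x, hx'⟩
    refine ⟨hφ, ⟨hP, hT⟩, extFun ψ, isMor_extFun hψ, fun x hxP => ?_,
      ⟨(isMor_extFun hψ).restrict le_sup_right, fun y => ?_⟩, hfix⟩
    · rw [extFun_apply ψ (Subgroup.mem_sup_left hxP), extFun_apply φ hxP]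
      exact hx ⟨x, hxP⟩
    · exact ⟨fun hy => ⟨y, hy, hfix y hy⟩, fun ⟨x, hx', e⟩ => e ▸ (hfix x hx').symm ▸ hx'⟩

theorem exists_centralizerSystem (F : FusionSystem S) (hQ : Q ≤ S) :
    ∃ E : FusionSystem (centralizerIn S Q), F.IsCentralizerSystem Q E :=
  ⟨_, centralizerHom_eq F hQ⟩

end Cfsg.Agent.Fusion
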