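import Mathlib
import Cfsg.Agent.Lib.Fusion.FullyNormalized
import Cfsg.Agent.Lib.Fusion.NormalizerSystem
import Cfsg.Agent.Lib.Fusion.Alperin
import Cfsg.Agent.Lib.Fusion.EssentialDrop

/-!
Saturation of normalizer systems of fully normalized subgroups.
-/

set_option autoImplicit false

namespace Cfsg.Agent.Fusion

open Cfsg Cfsg.FusionSystem

variable {Ω : Type*} [Group Ω] {S : Subgroup Ω} {F : FusionSystem S}
  {P Q R T U V : Subgroup Ω} {f g k : Ω → Ω} {p : ℕ} {M : SelfCond F Q T}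

/-- The conditions under which the system cut out by `M` is saturated. -/
structure KFull (M : SelfCond F Q T) : Prop where
  hQ : Q ≤ S
  hT : T ≤ S
  hn : T ≤ Subgroup.normalizer (Q : Set Ω)
  congr : ∀ {k l : Ω → Ω}, M.M k → (∀ x ∈ Q, l x = k x) → M.M l
  mem : ∀ {a : Ω}, a ∈ normalizerIn S Q → M.M (fun x => a * x * a⁻¹) → a ∈ T
  full : ∀ (Q' : Subgroup Ω) (r : Ω → Ω), IsIso F Q Q' r → ∀ W : Subgroup Ω,
    (∀ a ∈ W, a ∈ normalizerIn S Q' ∧
      ∀ ri : Ω → Ω, IsIso F Q' Q ri → (∀ x ∈ Q, ri (r x) = x) → M.M (fun x => ri (a * r x * a⁻¹))) →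
    ∃ σ, IsMor F (W ⊔ Q') σ ∧ IsIso F Q' Q σ ∧ M.M (σ ∘ r)

/-- The maps of the system cut out by `M`. -/
def KMor (M : SelfCond F Q T) (P : Subgroup Ω) (f : Ω → Ω) : Prop :=
  (P ≤ T ∧ ∀ x ∈ P, f x ∈ T) ∧
    ∃ k, IsMor F (P ⊔ Q) k ∧ (∀ x ∈ P, k x = f x) ∧ IsIso F Q Q k ∧ M.M k

/-- The automorphisms of `P Q` preserving `P` and `Q` and inducing on `Q` a map satisfying `M`. -/
def kAut [Finite S] (M : SelfCond F Q T) (hM : KFull M) (P : Subgroup Ω) (hP : P ≤ T) :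
    Subgroup (MulAut ↥(P ⊔ Q)) where
  carrier := {α | α ∈ F.autGroup (P ⊔ Q) ∧ (∀ x ∈ P, autFun α x ∈ P) ∧
    IsIso F Q Q (autFun α) ∧ M.M (autFun α)}
  one_mem' := by
    have h1 : M.M (fun x => 1 * x * 1⁻¹) := M.conj (one_mem T)
    have e : ∀ x ∈ P ⊔ Q, autFun (1 : MulAut ↥(P ⊔ Q)) x = x := fun x hx => autFun_one hx
    refine ⟨one_mem _, fun x hx => by rw [e x (Subgroup.mem_sup_left hx)]; exact hx,
      (isIso_id hM.hQ).congr fun x hx => e x (Subgroup.mem_sup_right hx),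
      hM.congr h1 fun x hx => by rw [e x (Subgroup.mem_sup_right hx)]; simp⟩
  mul_mem' := by
    rintro α β ⟨hα, hαP, hαQ, hαM⟩ ⟨hβ, hβP, hβQ, hβM⟩
    have e : ∀ x ∈ P ⊔ Q, autFun (α * β) x = autFun α (autFun β x) := fun x hx => autFun_mul α β hx
    refine ⟨mul_mem hα hβ, fun x hx => ?_, (hβQ.trans hαQ).congr fun x hx => e x (Subgroup.mem_sup_right hx),
      hM.congr (M.comp hβQ hβM hαQ hαM) fun x hx => e x (Subgroup.mem_sup_right hx)⟩
    rw [e x (Subgroup.mem_sup_left hx)]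
    exact hαP _ (hβP x hx)
  inv_mem' := by
    rintro α ⟨hα, hαP, hαQ, hαM⟩
    have hU : P ⊔ Q ≤ S := sup_le (hP.trans hM.hT) hM.hQ
    have e : ∀ x ∈ P ⊔ Q, autFun α⁻¹ (autFun α x) = x := fun x hx => by
      rw [← autFun_mul _ _ hx, inv_mul_cancel, autFun_one hx]
    have hPi := ((isMor_of_mem_autGroup hU hα).restrict le_sup_left).isIso_self hαP
    have hm := isMor_of_mem_autGroup hU ((F.autGroup (P ⊔ Q)).inv_mem hα)
    have hQi : IsIso F Q Q (autFun α⁻¹) := by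
      refine (hm.restrict le_sup_right).isIso_self fun x hx => ?_
      obtain ⟨y, hy, rfl⟩ := hαQ.exists_apply hx
      rwa [e y (Subgroup.mem_sup_right hy)]
    refine ⟨(F.autGroup (P ⊔ Q)).inv_mem hα, fun x hx => ?_, hQi,
      M.symm hαQ hαM hQi fun x hx => e x (Subgroup.mem_sup_right hx)⟩
    obtain ⟨y, hy, rfl⟩ := hPi.exists_apply hx
    rwa [e y (Subgroup.mem_sup_left hy)]

theorem mem_kAut [Finite S] {hM : KFull M} {hP : P ≤ T} {α : MulAut ↥(P ⊔ Q)} :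
    α ∈ kAut M hM P hP ↔ α ∈ F.autGroup (P ⊔ Q) ∧ (∀ x ∈ P, autFun α x ∈ P) ∧
      IsIso F Q Q (autFun α) ∧ M.M (autFun α) := Iff.rfl

theorem kAut_le [Finite S] {hM : KFull M} {hP : P ≤ T} : kAut M hM P hP ≤ F.autGroup (P ⊔ Q) :=
  fun _ h => h.1

/-- The conjugation homomorphism on the normalizer. -/
def conjNorm (S V : Subgroup Ω) : normalizerIn S V →* MulAut V :=
  V.normalizerMonoidHom.comp (Subgroup.inclusion (inf_le_right : normalizerIn S V ≤ _))

theorem conjNorm_apply (a : normalizerIn S V) (x : V) :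
    ((conjNorm S V a x : V) : Ω) = (a : Ω) * x * (a : Ω)⁻¹ := rfl

theorem autFun_conjNorm (a : normalizerIn S V) {x : Ω} (hx : x ∈ V) :
    autFun (conjNorm S V a) x = (a : Ω) * x * (a : Ω)⁻¹ := by
  rw [autFun_apply _ hx, conjNorm_apply]

theorem range_conjNorm : (conjNorm S V).range = autInducedBy S V := by
  ext α
  rw [mem_autInducedBy]
  constructor
  · rintro ⟨a, rfl⟩
    exact ⟨a, a.2.1, a.2.2, fun x => rfl⟩
  · rintro ⟨a, ha, han, hx⟩
    exact ⟨⟨a, ha, han⟩, MulEquiv.ext fun x => Subtype.ext (hx x).symm⟩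

theorem card_ker_conjNorm : Nat.card (conjNorm S V).ker = Nat.card (centralizerIn S V) := by
  refine Nat.card_congr ⟨fun a => ⟨(a : normalizerIn S V), mem_centralizerIn.2 ⟨a.1.2.1, fun x hx => ?_⟩⟩,
    fun c => ⟨⟨c, centralizerIn_le_normalizerIn c.2⟩, ?_⟩, fun _ => rfl, fun _ => rfl⟩
  · have h : conjNorm S V a.1 = 1 := a.2
    have h1 := autFun_conjNorm a.1 hx
    rw [h, autFun_one hx] at h1
    exact eq_mul_inv_iff_mul_eq.1 h1
  · refine MulEquiv.ext fun x => Subtype.ext ?_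
    rw [conjNorm_apply]
    exact conj_eq_of_mem_centralizerIn c.2 x.2

theorem card_comap_eq {A B : Type*} [Group A] [Group B] (c : A →* B) (H : Subgroup B) :
    Nat.card (H.comap c) = Nat.card c.ker * Nat.card ↥(c.range ⊓ H) := by
  let c' : H.comap c →* B := c.comp (H.comap c).subtype
  have hr : c'.range = c.range ⊓ H := by
    ext b
    constructor
    · rintro ⟨⟨a, ha⟩, rfl⟩
      exact ⟨⟨a, rfl⟩, ha⟩
    · rintro ⟨⟨a, rfl⟩, hb⟩
      exact ⟨⟨a, hb⟩, rfl⟩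
  have hk : Nat.card c'.ker = Nat.card c.ker :=
    Nat.card_congr ⟨fun a => ⟨(a : H.comap c), a.2⟩,
      fun a => ⟨⟨a, show c a ∈ H by rw [show c (a : A) = 1 from a.2]; exact one_mem H⟩, a.2⟩,
      fun _ => rfl, fun _ => rfl⟩
  rw [Subgroup.card_eq_card_quotient_mul_card_subgroup c'.ker, hk,
    Nat.card_congr (QuotientGroup.quotientKerEquivRange c').toEquiv, hr, mul_comm]

theorem exists_conj_le_of_sylow {G : Type*} [Group G] [Finite G] [Fact p.Prime] {W J B : Subgroup G}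
    (hB : B ≤ W) (hJp : IsPGroup p J) (hBp : IsPGroup p B) (hJ : J ≤ W) (hi : ¬ p ∣ J.relIndex W) :
    ∃ w ∈ W, ∀ b ∈ B, w * b * w⁻¹ ∈ J := by
  let Sy : Sylow p W := (hJp.of_equiv (Subgroup.subgroupOfEquivOfLe hJ).symm).toSylow hi
  obtain ⟨R', hR'⟩ := IsPGroup.exists_le_sylow (hBp.of_equiv (Subgroup.subgroupOfEquivOfLe hB).symm)
  obtain ⟨w, hw⟩ := MulAction.exists_smul_eq W R' Sy
  refine ⟨w, w.2, fun b hb => ?_⟩
  have h1 : (⟨b, hB hb⟩ : W) ∈ (R' : Subgroup W) := hR' hb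
  have h2 : w * ⟨b, hB hb⟩ * w⁻¹ ∈ (Sy : Subgroup W) := by
    rw [← hw, Sylow.coe_subgroup_smul]
    exact Subgroup.smul_mem_pointwise_smul _ (MulAut.conj w) _ h1
  exact h2

theorem card_le_of_sylow {G : Type*} [Group G] [Finite G] [Fact p.Prime] {W J B : Subgroup G}
    (hB : B ≤ W) (hJp : IsPGroup p J) (hBp : IsPGroup p B) (hJ : J ≤ W) (hi : ¬ p ∣ J.relIndex W) :
    Nat.card B ≤ Nat.card J := by
  obtain ⟨w, -, hw⟩ := exists_conj_le_of_sylow hB hJp hBp hJ hi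
  refine Nat.card_le_card_of_injective (fun b : B => (⟨w * b * w⁻¹, hw b b.2⟩ : J)) fun a b hab => ?_
  exact Subtype.ext (mul_left_cancel (mul_right_cancel (congrArg Subtype.val hab)))

theorem relIndex_mul_natCard {G : Type*} [Group G] {H K : Subgroup G} (h : H ≤ K) :
    H.relIndex K * Nat.card H = Nat.card K := by
  rw [← Nat.card_congr (Subgroup.subgroupOfEquivOfLe h).toEquiv, Subgroup.relIndex, mul_comm]
  exact (H.subgroupOf K).card_mul_index

/-- The Sylow and centrality conditions giving a receptive and fully automized member. -/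
def KGood [Finite S] (p : ℕ) (M : SelfCond F Q T) (hM : KFull M) (R : Subgroup Ω) (hR : R ≤ T) : Prop :=
  ¬ p ∣ (autInducedBy S (R ⊔ Q) ⊓ kAut M hM R hR).relIndex (kAut M hM R hR) ∧
    F.IsFullyCentralized (R ⊔ Q)

theorem conjNorm_mem_kAut [Finite S] {hM : KFull M} {hR : R ≤ T} {a : Ω} (haT : a ∈ T)
    (haR : a ∈ Subgroup.normalizer (R : Set Ω)) (ha : a ∈ normalizerIn S (R ⊔ Q)) :
    conjNorm S (R ⊔ Q) ⟨a, ha⟩ ∈ kAut M hM R hR := by
  have hU : R ⊔ Q ≤ S := sup_le (hR.trans hM.hT) hM.hQ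
  refine ⟨(conjAut_mem hU ha).2, fun x hx => ?_, ?_, ?_⟩
  · rw [autFun_conjNorm _ (Subgroup.mem_sup_left hx)]
    exact conj_mem_of_mem_normalizer haR hx
  · exact (isIso_conj_self hM.hQ (hM.hT haT) (hM.hn haT)).congr fun x hx =>
      autFun_conjNorm _ (Subgroup.mem_sup_right hx)
  · exact hM.congr (M.conj haT) fun x hx => autFun_conjNorm _ (Subgroup.mem_sup_right hx)

theorem mem_normalizer_sup [Finite S] (hR : R ≤ S) (hQ : Q ≤ S) {a : Ω}
    (haR : a ∈ Subgroup.normalizer (R : Set Ω)) (haQ : a ∈ Subgroup.normalizer (Q : Set Ω)) :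
    a ∈ Subgroup.normalizer ((R ⊔ Q : Subgroup Ω) : Set Ω) := by
  refine mem_normalizer_of_conj_mem (sup_le hR hQ) fun x hx => ?_
  have hle : R ⊔ Q ≤ (R ⊔ Q).comap (MulAut.conj a).toMonoidHom := sup_le
    (fun y hy => Subgroup.mem_sup_left (conj_mem_of_mem_normalizer haR hy))
    (fun y hy => Subgroup.mem_sup_right (conj_mem_of_mem_normalizer haQ hy))
  exact hle hx

section Saturated

variable [Finite S] [Fact p.Prime] (hS : IsPGroup p S) (hF : F.IsSaturated p)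
include hS hF

theorem exists_good (hM : KFull M) (hP : P ≤ T) :
    ∃ (R : Subgroup Ω) (hR : R ≤ T) (f : Ω → Ω),
      KMor M P f ∧ IsIso F P R f ∧ KGood p M hM R hR := by
  set U := P ⊔ Q with hUdef
  have hU : U ≤ S := sup_le (hP.trans hM.hT) hM.hQ
  have := finite_mulAut (S := S) hU
  obtain ⟨V, hc, hVn⟩ := exists_fullyNormalized (F := F) hU
  obtain ⟨ρ₀, hρ₀⟩ := isConj_iff_exists_isIso.1 hc
  obtain ⟨hA, hVr⟩ := fullyNormalized_receptive hS hF hVn
  have := finite_mulAut (S := S) hVn.1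
  set G₀ := kAut M hM P hP
  obtain ⟨J₀⟩ : Nonempty (Sylow p G₀) := inferInstance
  set G₁ := G₀.map (MulAut.congr hρ₀.toMulEquiv).toMonoidHom with hG₁
  obtain ⟨γ, hγ, hγJ⟩ := exists_conj_le_autInducedBy hA
    (T := ((J₀ : Subgroup G₀).map G₀.subtype).map (MulAut.congr hρ₀.toMulEquiv).toMonoidHom)
    (by rw [← autGroup_map_congr hρ₀]; exact Subgroup.map_mono ((Subgroup.map_subtype_le _).trans kAut_le))
    ((J₀.isPGroup'.map _).map _)
  have hρ : IsIso F U V (autFun γ ∘ ρ₀) := hρ₀.trans (isIso_autFun hVn.1 hγ)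
  set ρ := autFun γ ∘ ρ₀
  set G := G₀.map (MulAut.congr hρ.toMulEquiv).toMonoidHom with hG
  -- a Sylow subgroup of `G` is induced by `S`
  have hcongr : ∀ α : MulAut U, MulAut.congr hρ.toMulEquiv α = γ * MulAut.congr hρ₀.toMulEquiv α * γ⁻¹ := by
    intro α
    refine MulEquiv.ext fun y => ?_
    obtain ⟨x, rfl⟩ := hρ.toMulEquiv.surjective y
    rw [congr_apply, MulEquiv.symm_apply_apply, MulAut.mul_apply, MulAut.mul_apply, congr_apply]
    have e : ∀ z : U, hρ.toMulEquiv z = γ (hρ₀.toMulEquiv z) := fun z => Subtype.ext (by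
      show autFun γ (ρ₀ z) = _
      rw [autFun_apply γ (hρ₀.apply_mem z.2)]
      rfl)
    rw [e, e, MulAut.inv_apply_self, MulEquiv.symm_apply_apply]
  have hGind : ¬ p ∣ (autInducedBy S V ⊓ G).relIndex G := by
    set J := ((J₀ : Subgroup G₀).map G₀.subtype).map (MulAut.congr hρ.toMulEquiv).toMonoidHom with hJ
    have hJG : J ≤ G := Subgroup.map_mono (Subgroup.map_subtype_le _)
    have hJle : J ≤ autInducedBy S V ⊓ G := by
      refine le_inf ?_ hJG
      rintro _ ⟨α, hα, rfl⟩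
      show MulAut.congr hρ.toMulEquiv α ∈ _
      rw [hcongr]
      exact hγJ _ ⟨α, hα, rfl⟩
    have h1 : J.relIndex G = (J₀ : Subgroup G₀).index := by
      rw [hJ, hG, Subgroup.relIndex_map_map_of_injective _ _ (MulAut.congr hρ.toMulEquiv).injective,
        Subgroup.relIndex, Subgroup.subgroupOf, Subgroup.comap_map_eq_self_of_injective G₀.subtype_injective]
    intro hd
    refine J₀.not_dvd_index (h1 ▸ hd.trans ?_)
    exact Dvd.intro_left _ (Subgroup.relIndex_mul_relIndex J _ _ hJle inf_le_right)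
  -- the images of `P` and `Q`
  set P' := hρ.1.image P le_sup_left with hP'
  set Q' := hρ.1.image Q le_sup_right with hQ'
  have hrQ : IsIso F Q Q' ρ := hρ.1.isIso_image Q le_sup_right
  set W₀ := G.comap (conjNorm S V) with hW₀
  set W := W₀.map (normalizerIn S V).subtype with hW
  have hWmem : ∀ a : normalizerIn S V, conjNorm S V a ∈ G →
      ∃ α ∈ G₀, ∀ x ∈ U, ρ (autFun α x) = (a : Ω) * ρ x * (a : Ω)⁻¹ := by
    rintro a ⟨α, hα, hαe⟩
    refine ⟨α, hα, fun x hx => ?_⟩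
    have h1 := congrArg (fun β : MulAut V => ((β (hρ.toMulEquiv ⟨x, hx⟩) : V) : Ω)) hαe
    simp only [MulEquiv.coe_toMonoidHom, congr_apply, MulEquiv.symm_apply_apply] at h1
    rw [autFun_apply α hx]
    exact h1
  have hfull : ∀ a ∈ W, a ∈ normalizerIn S Q' ∧
      ∀ ri : Ω → Ω, IsIso F Q' Q ri → (∀ x ∈ Q, ri (ρ x) = x) → M.M (fun x => ri (a * ρ x * a⁻¹)) := by
    rintro _ ⟨a, ha, rfl⟩
    obtain ⟨α, hα, hαe⟩ := hWmem a ha
    refine ⟨⟨a.2.1, mem_normalizer_of_conj_mem hrQ.le' ?_⟩, fun ri hri hrir => ?_⟩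
    · intro y hy
      obtain ⟨x, hx, rfl⟩ := hrQ.exists_apply hy
      show (a : Ω) * ρ x * (a : Ω)⁻¹ ∈ Q'
      rw [← hαe x (Subgroup.mem_sup_right hx)]
      exact hrQ.apply_mem (hα.2.2.1.apply_mem hx)
    · refine hM.congr hα.2.2.2 fun x hx => ?_
      show ri ((a : Ω) * ρ x * (a : Ω)⁻¹) = _
      rw [← hαe x (Subgroup.mem_sup_right hx), hrir _ (hα.2.2.1.apply_mem hx)]
  obtain ⟨σ, hσ, hσQ, hσM⟩ := hM.full Q' ρ hrQ W hfull
  -- `V` is inside the domain of `σ`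
  have hVdom : V ≤ W ⊔ Q' := by
    intro y hy
    obtain ⟨x, hx, rfl⟩ := hρ.exists_apply hy
    refine hρ.1.mapsTo_sup (fun z hz => Subgroup.mem_sup_left ?_)
      (fun z hz => Subgroup.mem_sup_right (hrQ.apply_mem hz)) hx
    have hzU : z ∈ U := Subgroup.mem_sup_left hz
    have hρz : ρ z ∈ normalizerIn S V :=
      ⟨hρ.1.mem hzU, Subgroup.le_normalizer (hρ.apply_mem hzU)⟩
    refine ⟨⟨ρ z, hρz⟩, ?_, rfl⟩
    have hzN : z ∈ normalizerIn S U := ⟨hU hzU, Subgroup.le_normalizer hzU⟩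
    refine ⟨conjNorm S U ⟨z, hzN⟩, conjNorm_mem_kAut (hP hz) (Subgroup.le_normalizer hz) hzN, ?_⟩
    refine MulEquiv.ext fun w => Subtype.ext ?_
    obtain ⟨w', rfl⟩ := hρ.toMulEquiv.surjective w
    show ((MulAut.congr hρ.toMulEquiv (conjNorm S U ⟨z, hzN⟩) (hρ.toMulEquiv w') : V) : Ω) = _
    rw [congr_apply, MulEquiv.symm_apply_apply, conjNorm_apply, IsIso.toMulEquiv_apply,
      IsIso.toMulEquiv_apply, conjNorm_apply]
    exact hρ.1.map_conj w'.2 hzU
  have hk₀ : IsMor F U (σ ∘ ρ) := hρ.1.comp hσ fun x hx => hVdom (hρ.apply_mem hx)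
  have hk₀Q : IsIso F Q Q (σ ∘ ρ) := hrQ.trans hσQ
  set R := hk₀.image P le_sup_left with hRdef
  have hPR : IsIso F P R (σ ∘ ρ) := hk₀.isIso_image P le_sup_left
  have hRT : R ≤ T := by
    rintro _ ⟨x, hx, rfl⟩
    have hxU : x ∈ U := Subgroup.mem_sup_left hx
    obtain ⟨g, hg, hgk, hkg⟩ := hk₀Q.exists_symm
    have hgM := M.symm hk₀Q hσM hg hgk
    have haN : (σ ∘ ρ) x ∈ normalizerIn S Q :=
      hk₀.apply_mem_normalizerIn le_sup_right hk₀Q hxU (hM.hn (hP hx))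
    refine hM.mem haN ?_
    have hc1 := isIso_conj_self (F := F) hM.hQ (hM.hT (hP hx)) (hM.hn (hP hx))
    refine hM.congr (M.comp (hg.trans hc1) (M.comp hg hgM hc1 (M.conj (hP hx))) hk₀Q hσM) fun y hy => ?_
    show _ = (σ ∘ ρ) (x * g y * x⁻¹)
    rw [hk₀.map_conj (Subgroup.mem_sup_right (hg.apply_mem hy)) hxU, hkg y hy]
  have hRU : IsIso F U (R ⊔ Q) (σ ∘ ρ) := by
    refine ⟨hk₀, fun y => ⟨fun hy => ?_, ?_⟩⟩
    · have hle : R ⊔ Q ≤ hk₀.image U le_rfl := sup_le (fun z hz => by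
        obtain ⟨x, hx, e⟩ := hPR.exists_apply hz
        exact ⟨x, Subgroup.mem_sup_left hx, e⟩) fun z hz => by
        obtain ⟨x, hx, e⟩ := hk₀Q.exists_apply hz
        exact ⟨x, Subgroup.mem_sup_right hx, e⟩
      exact hle hy
    · rintro ⟨x, hx, rfl⟩
      exact hk₀.mapsTo_sup (fun z hz => Subgroup.mem_sup_left (hPR.apply_mem hz))
        (fun z hz => Subgroup.mem_sup_right (hk₀Q.apply_mem hz)) hx
  refine ⟨R, hRT, σ ∘ ρ, ⟨⟨hP, fun x hx => hRT (hPR.apply_mem hx)⟩, σ ∘ ρ, hk₀, fun _ _ => rfl, hk₀Q, hσM⟩,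
    hPR, ?_⟩
  -- `σ` carries `W` into the stabilizer at `R Q`
  have hσV : IsIso F V (R ⊔ Q) σ := by
    refine ⟨hσ.restrict hVdom, fun y => ⟨fun hy => ?_, ?_⟩⟩
    · obtain ⟨x, hx, rfl⟩ := hRU.exists_apply hy
      exact ⟨ρ x, hρ.apply_mem hx, rfl⟩
    · rintro ⟨x, hx, rfl⟩
      obtain ⟨u, hu, rfl⟩ := hρ.exists_apply hx
      exact hRU.apply_mem hu
  set G' := kAut M hM R hRT with hG'
  have hGmap : G' = G₀.map (MulAut.congr hRU.toMulEquiv).toMonoidHom := by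
    obtain ⟨g, hg, hgk, hkg⟩ := hk₀.isIso.exists_symm
    have hgR : ∀ z ∈ R, g z ∈ P := fun z hz => by
      obtain ⟨x, hx, rfl⟩ := hPR.exists_apply hz
      rwa [hgk x (Subgroup.mem_sup_left hx)]
    have hRS : R ⊔ Q ≤ S := hRU.le'
    have hsymm : ∀ y : (R ⊔ Q : Subgroup Ω), ((hRU.toMulEquiv.symm y : U) : Ω) = g y := fun y => by
      rw [← hgk _ (hRU.toMulEquiv.symm y).2]
      exact congrArg g (hRU.toMulEquiv_symm_apply y)
    have hgQ : IsIso F Q Q g := by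
      obtain ⟨gQ, hgQ, hgQk, -⟩ := hk₀Q.exists_symm
      refine hgQ.congr fun y hy => ?_
      obtain ⟨x, hx, rfl⟩ := hk₀Q.exists_apply hy
      rw [hgk x (Subgroup.mem_sup_right hx), hgQk x hx]
    have hgM : M.M g := M.symm hk₀Q hσM hgQ fun x hx => hgk x (Subgroup.mem_sup_right hx)
    ext β
    constructor
    · rintro ⟨hβ, hβP, hβQ, hβM⟩
      refine ⟨(MulAut.congr hRU.toMulEquiv).symm β, ?_, MulEquiv.apply_symm_apply _ β⟩
      have e : ∀ x ∈ U, autFun ((MulAut.congr hRU.toMulEquiv).symm β) x = g (autFun β ((σ ∘ ρ) x)) := by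
        intro x hx
        rw [autFun_apply _ hx]
        show ((hRU.toMulEquiv.symm (β (hRU.toMulEquiv ⟨x, hx⟩)) : U) : Ω) = _
        rw [hsymm, autFun_apply β (hRU.apply_mem hx)]
        rfl
      refine ⟨?_, fun x hx => ?_, ?_, ?_⟩
      · obtain ⟨α, hα, he⟩ := (autGroup_map_congr hRU).ge hβ
        have : α = (MulAut.congr hRU.toMulEquiv).symm β := by rw [← he]; exact (MulEquiv.symm_apply_apply _ α).symm
        exact this ▸ hα
      · rw [e x (Subgroup.mem_sup_left hx)]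
        exact hgR _ (hβP _ (hPR.apply_mem hx))
      · exact ((hk₀Q.trans hβQ).trans hgQ).congr fun x hx => e x (Subgroup.mem_sup_right hx)
      · exact hM.congr (M.comp (hk₀Q.trans hβQ) (M.comp hk₀Q hσM hβQ hβM) hgQ hgM) fun x hx =>
          e x (Subgroup.mem_sup_right hx)
    · rintro ⟨α, ⟨hα, hαP, hαQ, hαM⟩, rfl⟩
      have e : ∀ y ∈ R ⊔ Q, autFun ((MulAut.congr hRU.toMulEquiv).toMonoidHom α) y = (σ ∘ ρ) (autFun α (g y)) := by
        intro y hy
        rw [autFun_apply _ hy]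
        show ((hRU.toMulEquiv (α (hRU.toMulEquiv.symm ⟨y, hy⟩)) : (R ⊔ Q : Subgroup Ω)) : Ω) = _
        rw [IsIso.toMulEquiv_apply, ← autFun_coe, hsymm]
      refine ⟨(autGroup_map_congr hRU).le ⟨α, hα, rfl⟩, fun x hx => ?_, ?_, ?_⟩
      · rw [e x (Subgroup.mem_sup_left hx)]
        exact hPR.apply_mem (hαP _ (hgR x hx))
      · exact ((hgQ.trans hαQ).trans hk₀Q).congr fun x hx => e x (Subgroup.mem_sup_right hx)
      · exact hM.congr (M.comp (hgQ.trans hαQ) (M.comp hgQ hgM hαQ hαM) hk₀Q hσM) fun x hx =>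
          e x (Subgroup.mem_sup_right hx)
  have := finite_mulAut (S := S) hRU.le'
  have := finite_of_le (normalizerIn_le (S := S) (P := R ⊔ Q))
  have hcard : Nat.card W₀ ≤ Nat.card (G'.comap (conjNorm S (R ⊔ Q))) := by
    have hdom : ∀ a : W₀, ((a : normalizerIn S V) : Ω) ∈ W ⊔ Q' :=
      fun a => Subgroup.mem_sup_left ⟨_, a.2, rfl⟩
    refine Nat.card_le_card_of_injective (fun a => ⟨⟨σ ((a : normalizerIn S V) : Ω),
      hσ.apply_mem_normalizerIn hVdom hσV (hdom a) a.1.2.2⟩, ?_⟩) fun a b hab => ?_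
    · obtain ⟨α, hα, hαe⟩ := hWmem a.1 a.2
      rw [Subgroup.mem_comap, hGmap]
      refine ⟨α, hα, MulEquiv.ext fun w => Subtype.ext ?_⟩
      obtain ⟨w', rfl⟩ := hRU.toMulEquiv.surjective w
      show ((MulAut.congr hRU.toMulEquiv α (hRU.toMulEquiv w') : (R ⊔ Q : Subgroup Ω)) : Ω) = _
      rw [congr_apply, MulEquiv.symm_apply_apply, conjNorm_apply, IsIso.toMulEquiv_apply,
        IsIso.toMulEquiv_apply, ← autFun_coe]
      show σ (ρ (autFun α w')) = σ _ * σ (ρ w') * (σ _)⁻¹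
      rw [hαe _ w'.2, hσ.map_conj (hVdom (hρ.apply_mem w'.2)) (hdom a)]
    · exact Subtype.ext (Subtype.ext (hσ.injOn (hdom a) (hdom b)
        (congrArg (fun z : G'.comap (conjNorm S (R ⊔ Q)) => ((z : normalizerIn S (R ⊔ Q)) : Ω)) hab)))
  rw [card_comap_eq, card_comap_eq, card_ker_conjNorm, card_ker_conjNorm, range_conjNorm, range_conjNorm] at hcard
  have hCV : Nat.card (centralizerIn S (R ⊔ Q)) ≤ Nat.card (centralizerIn S V) :=
    (fullyNormalized_fullyCentralized hS hF hVn).2 _ hσV.isConj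
  have hcardG : Nat.card G' = Nat.card G := by
    rw [hGmap, hG, Subgroup.card_map_of_injective (f := (MulAut.congr hρ.toMulEquiv).toMonoidHom)
      (MulAut.congr hρ.toMulEquiv).injective,
      Subgroup.card_map_of_injective (f := (MulAut.congr hRU.toMulEquiv).toMonoidHom)
      (MulAut.congr hRU.toMulEquiv).injective]
  have hJle : Nat.card ↥(autInducedBy S (R ⊔ Q) ⊓ G') ≤ Nat.card ↥(autInducedBy S V ⊓ G) := by
    let θ : MulAut ↥(R ⊔ Q) ≃* MulAut V :=
      (MulAut.congr hRU.toMulEquiv).symm.trans (MulAut.congr hρ.toMulEquiv)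
    have hθ : G'.map θ.toMonoidHom = G := by
      rw [hGmap, Subgroup.map_map, hG]
      congr 1
      ext α
      simp [θ]
    rw [← Subgroup.card_map_of_injective (f := θ.toMonoidHom) θ.injective]
    exact card_le_of_sylow ((Subgroup.map_mono inf_le_right).trans_eq hθ)
      ((isPGroup_autInducedBy hS V).to_le inf_le_left)
      (((isPGroup_autInducedBy hS (R ⊔ Q)).to_le inf_le_left).map _) inf_le_right hGind
  have hposC : 0 < Nat.card (centralizerIn S V) := by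
    have := finite_of_le (centralizerIn_le (S := S) (P := V))
    exact Nat.card_pos
  have hposJ : 0 < Nat.card ↥(autInducedBy S V ⊓ G) := Nat.card_pos
  have hJeq : Nat.card ↥(autInducedBy S (R ⊔ Q) ⊓ G') = Nat.card ↥(autInducedBy S V ⊓ G) := by
    refine le_antisymm hJle (Nat.le_of_mul_le_mul_left ?_ hposC)
    exact hcard.trans (Nat.mul_le_mul_right _ hCV)
  refine ⟨?_, ?_⟩
  · intro hd
    refine hGind ?_
    have h1 := relIndex_mul_natCard (inf_le_right : autInducedBy S (R ⊔ Q) ⊓ G' ≤ G')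
    have h2 := relIndex_mul_natCard (inf_le_right : autInducedBy S V ⊓ G ≤ G)
    rw [hJeq, hcardG] at h1
    rwa [Nat.eq_of_mul_eq_mul_right hposJ (h2.trans h1.symm)]
  · refine ⟨hRU.le', fun Z hZ => ?_⟩
    have h3 := (fullyNormalized_fullyCentralized hS hF hVn).2 Z (isConj_trans hσV.isConj hZ)
    refine h3.trans ?_
    rw [hJeq] at hcard
    exact Nat.le_of_mul_le_mul_right hcard hposJ

variable {E : FusionSystem T} (hE : ∀ P f, IsMor E P f ↔ IsMor F P f ∧ KMor M P f)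
include hE

/-- A good member is fully automized. -/
theorem good_fullyAutomized (hM : KFull M) (hR : R ≤ T) (hg : KGood p M hM R hR) :
    E.IsFullyAutomized p R := by
  have hTf := finite_of_le hM.hT
  have hU : R ⊔ Q ≤ S := sup_le (hR.trans hM.hT) hM.hQ
  set G := kAut M hM R hR
  have := finite_mulAut (S := S) hU
  have hex : ∀ α : G, ∃ β : E.autGroup R, ∀ x ∈ R, autFun (β : MulAut R) x = autFun (α : MulAut ↥(R ⊔ Q)) x := by
    rintro ⟨α, hα⟩
    obtain ⟨hα1, hαR, hαQ, hαM⟩ := mem_kAut.1 hα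
    have hm : IsMor E R (autFun α) := (hE R _).2 ⟨(isMor_of_mem_autGroup hU hα1).restrict le_sup_left,
      ⟨hR, fun x hx => hR (hαR x hx)⟩, autFun α, isMor_of_mem_autGroup hU hα1, fun _ _ => rfl, hαQ, hαM⟩
    refine ⟨⟨autOf (hm.isIso_self hαR), autOf_mem _⟩, fun x hx => ?_⟩
    rw [autFun_apply _ hx]
    rfl
  choose r hr using hex
  let res : G →* E.autGroup R := MonoidHom.mk' r fun α β => by
    refine Subtype.ext (autFun_injOn fun x hx => ?_)
    have hxU : x ∈ R ⊔ Q := Subgroup.mem_sup_left hx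
    rw [hr _ x hx, Subgroup.coe_mul, autFun_mul _ _ hxU, Subgroup.coe_mul, autFun_mul _ _ hx, hr β x hx,
      hr α _ ((mem_kAut.1 β.2).2.1 x hx)]
  have hsurj : Function.Surjective res := by
    rintro ⟨β, hβ⟩
    obtain ⟨hβF, -, k, hk, hke, hkQ, hkM⟩ := (hE R _).1 (isMor_of_mem_autGroup hR hβ)
    have hkU : ∀ x ∈ R ⊔ Q, k x ∈ R ⊔ Q := fun x hx => hk.mapsTo_sup
      (fun y hy => Subgroup.mem_sup_left (by rw [hke y hy]; exact autFun_mem β hy))
      (fun y hy => Subgroup.mem_sup_right (hkQ.apply_mem hy)) hx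
    have hi := hk.isIso_self hkU
    have e : ∀ x ∈ R ⊔ Q, autFun (autOf hi) x = k x := fun x hx => by rw [autFun_apply _ hx]; rfl
    refine ⟨⟨autOf hi, mem_kAut.2 ⟨autOf_mem hi, fun x hx => ?_, hkQ.congr fun x hx => e x (Subgroup.mem_sup_right hx),
      hM.congr hkM fun x hx => e x (Subgroup.mem_sup_right hx)⟩⟩, Subtype.ext (autFun_injOn fun x hx => ?_)⟩
    · rw [e x (Subgroup.mem_sup_left hx), hke x hx]
      exact autFun_mem β hx
    · show autFun (r _ : MulAut R) x = _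
      rw [hr _ x hx, e x (Subgroup.mem_sup_left hx), hke x hx]
  set J := (autInducedBy S (R ⊔ Q) ⊓ G).subgroupOf G
  have hJp : IsPGroup p J := ((isPGroup_autInducedBy hS (R ⊔ Q)).to_le inf_le_left).of_equiv
    (Subgroup.subgroupOfEquivOfLe inf_le_right).symm
  let Sy : Sylow p G := hJp.toSylow hg.1
  refine ⟨hR, Sy.mapSurjective hsurj, ?_⟩
  rw [Sylow.coe_mapSurjective, show (Sy : Subgroup G) = J from rfl]
  ext β
  rw [Subgroup.mem_subgroupOf, mem_autInducedBy]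
  constructor
  · rintro ⟨α, hα, rfl⟩
    obtain ⟨a, ha, han, hax⟩ := mem_autInducedBy.1 (Subgroup.mem_subgroupOf.1 hα).1
    obtain ⟨-, hαR, hαQ, hαM⟩ := mem_kAut.1 α.2
    have e : ∀ x ∈ R ⊔ Q, autFun (α : MulAut ↥(R ⊔ Q)) x = a * x * a⁻¹ := fun x hx => by
      rw [autFun_apply _ hx]; exact hax ⟨x, hx⟩
    have haT : a ∈ T := hM.mem ⟨ha, mem_normalizer_of_conj_mem hM.hQ fun x hx => by
      rw [← e x (Subgroup.mem_sup_right hx)]; exact hαQ.apply_mem hx⟩
      (hM.congr hαM fun x hx => (e x (Subgroup.mem_sup_right hx)).symm)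
    refine ⟨a, haT, mem_normalizer_of_conj_mem (hR.trans hM.hT) fun x hx => ?_, fun x => ?_⟩
    · rw [← e x (Subgroup.mem_sup_left hx)]; exact hαR x hx
    · show ((r α : MulAut R) x : Ω) = _
      rw [← autFun_coe, hr α x x.2, e x (Subgroup.mem_sup_left x.2)]
  · rintro ⟨a, haT, han, hax⟩
    have haN : a ∈ normalizerIn S (R ⊔ Q) :=
      ⟨hM.hT haT, mem_normalizer_sup (hR.trans hM.hT) hM.hQ han (hM.hn haT)⟩
    refine ⟨⟨_, conjNorm_mem_kAut (hM := hM) (hR := hR) haT han haN⟩,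
      Subgroup.mem_subgroupOf.2 ⟨(conjAut_mem (F := F) hU haN).1, conjNorm_mem_kAut haT han haN⟩,
      Subtype.ext (autFun_injOn fun x hx => ?_)⟩
    show autFun (r _ : MulAut R) x = _
    rw [hr _ x hx, autFun_conjNorm _ (Subgroup.mem_sup_left hx), autFun_apply _ hx]
    exact (hax ⟨x, hx⟩).symm

/-- A good member is receptive. -/
theorem good_receptive (hM : KFull M) (hR : R ≤ T) (hg : KGood p M hM R hR) : E.IsReceptive R := by
  have hTf := finite_of_le hM.hT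
  have hU : R ⊔ Q ≤ S := sup_le (hR.trans hM.hT) hM.hQ
  refine isReceptive_intro hR fun P' A f hf hP'A hA => ?_
  obtain ⟨hfF, ⟨hP', -⟩, k, hk, hke, hkQ, hkM⟩ := (hE P' f).1 hf.1
  have hkU : IsIso F (P' ⊔ Q) (R ⊔ Q) k := by
    refine ⟨hk, fun y => ⟨fun hy => ?_, ?_⟩⟩
    · have hle : R ⊔ Q ≤ hk.image (P' ⊔ Q) le_rfl := sup_le (fun z hz => by
        obtain ⟨x, hx, e⟩ := hf.exists_apply hz
        exact ⟨x, Subgroup.mem_sup_left hx, (hke x hx).trans e⟩) fun z hz => by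
        obtain ⟨x, hx, e⟩ := hkQ.exists_apply hz
        exact ⟨x, Subgroup.mem_sup_right hx, e⟩
      exact hle hy
    · rintro ⟨x, hx, rfl⟩
      exact hk.mapsTo_sup (fun z hz => Subgroup.mem_sup_left (by rw [hke z hz]; exact hf.apply_mem hz))
        (fun z hz => Subgroup.mem_sup_right (hkQ.apply_mem hz)) hx
  obtain ⟨kk, hkk, hkkl, hkkr⟩ := hkU.exists_symm
  set G := kAut M hM R hR
  have := finite_mulAut (S := S) hU
  let Wg : Subgroup (MulAut ↥(R ⊔ Q)) :=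
    { carrier := {α | α ∈ G ∧ ∃ h ∈ T, h ∈ Subgroup.normalizer (R : Set Ω) ∧
        ∀ x ∈ R, autFun α x = h * x * h⁻¹}
      one_mem' := ⟨one_mem _, 1, one_mem _, one_mem _, fun x hx => by
        rw [autFun_one (Subgroup.mem_sup_left hx)]; simp⟩
      mul_mem' := by
        rintro α β ⟨hα, a, ha, han, hax⟩ ⟨hβ, b, hb, hbn, hbx⟩
        refine ⟨mul_mem hα hβ, a * b, mul_mem ha hb, mul_mem han hbn, fun x hx => ?_⟩
        rw [autFun_mul _ _ (Subgroup.mem_sup_left hx), hbx x hx, hax _ (conj_mem_of_mem_normalizer hbn hx)]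
        group
      inv_mem' := by
        rintro α ⟨hα, a, ha, han, hax⟩
        refine ⟨inv_mem hα, a⁻¹, inv_mem ha, inv_mem han, fun x hx => ?_⟩
        have hy : a⁻¹ * x * a⁻¹⁻¹ ∈ R := conj_mem_of_mem_normalizer (inv_mem han) hx
        have h1 := hax _ hy
        rw [show a * (a⁻¹ * x * a⁻¹⁻¹) * a⁻¹ = x by group] at h1
        conv_lhs => rw [← h1]
        rw [← autFun_mul _ _ (Subgroup.mem_sup_left hy), inv_mul_cancel, autFun_one (Subgroup.mem_sup_left hy)] }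
  set J := autInducedBy S (R ⊔ Q) ⊓ G
  have hJW : J ≤ Wg := by
    rintro α ⟨hα, hαG⟩
    obtain ⟨a, ha, han, hax⟩ := mem_autInducedBy.1 hα
    obtain ⟨-, hαR, hαQ, hαM⟩ := mem_kAut.1 hαG
    have e : ∀ x ∈ R ⊔ Q, autFun α x = a * x * a⁻¹ := fun x hx => by
      rw [autFun_apply _ hx]; exact hax ⟨x, hx⟩
    refine ⟨hαG, a, hM.mem ⟨ha, mem_normalizer_of_conj_mem hM.hQ fun x hx => by
      rw [← e x (Subgroup.mem_sup_right hx)]; exact hαQ.apply_mem hx⟩
      (hM.congr hαM fun x hx => (e x (Subgroup.mem_sup_right hx)).symm),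
      mem_normalizer_of_conj_mem (hR.trans hM.hT) fun x hx => ?_, fun x hx => e x (Subgroup.mem_sup_left hx)⟩
    rw [← e x (Subgroup.mem_sup_left hx)]; exact hαR x hx
  have hAT : A ≤ T := fun a ha => (hA a ha).1
  have hAN : A ≤ normalizerIn S (P' ⊔ Q) := fun a ha =>
    ⟨hM.hT (hAT ha), mem_normalizer_sup (hP'.trans hM.hT) hM.hQ (hA a ha).2.1 (hM.hn (hAT ha))⟩
  let β : A →* MulAut ↥(R ⊔ Q) :=
    (MulAut.congr hkU.toMulEquiv).toMonoidHom.comp ((conjNorm S (P' ⊔ Q)).comp (Subgroup.inclusion hAN))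
  have hβ : ∀ a : A, ∀ x ∈ P' ⊔ Q, autFun (β a) (k x) = k ((a : Ω) * x * (a : Ω)⁻¹) := by
    intro a x hx
    rw [autFun_apply _ (hkU.apply_mem hx)]
    show ((hkU.toMulEquiv (conjNorm S (P' ⊔ Q) (Subgroup.inclusion hAN a)
      (hkU.toMulEquiv.symm (hkU.toMulEquiv ⟨x, hx⟩))) : (R ⊔ Q : Subgroup Ω)) : Ω) = _
    rw [MulEquiv.symm_apply_apply, IsIso.toMulEquiv_apply, conjNorm_apply]
    rfl
  have hBW : β.range ≤ Wg := by
    rintro _ ⟨a, rfl⟩
    obtain ⟨haT, haP, h, hh, hax⟩ := hA a a.2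
    have hhR : h ∈ Subgroup.normalizer (R : Set Ω) := by
      refine mem_normalizer_of_conj_mem (hR.trans hM.hT) fun y hy => ?_
      obtain ⟨x, hx, rfl⟩ := hf.exists_apply hy
      rw [← hax x hx]
      exact hf.apply_mem (conj_mem_of_mem_normalizer haP hx)
    refine ⟨mem_kAut.2 ⟨?_, fun y hy => ?_, ?_, ?_⟩, h, hh, hhR, fun y hy => ?_⟩
    · exact (autGroup_map_congr hkU).le ⟨_, (conjAut_mem hkU.le (hAN a.2)).2, rfl⟩
    · obtain ⟨x, hx, rfl⟩ := hf.exists_apply hy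
      rw [← hke x hx, hβ a x (Subgroup.mem_sup_left hx), hke _ (conj_mem_of_mem_normalizer haP hx)]
      exact hf.apply_mem (conj_mem_of_mem_normalizer haP hx)
    · obtain ⟨g, hg, hgk, hkg⟩ := hkQ.exists_symm
      refine ((hg.trans (isIso_conj_self hM.hQ (hM.hT haT) (hM.hn haT))).trans hkQ).congr fun y hy => ?_
      conv_lhs => rw [← hkg y hy]
      exact hβ a _ (Subgroup.mem_sup_right (hg.apply_mem hy))
    · obtain ⟨g, hg, hgk, hkg⟩ := hkQ.exists_symm
      have hc1 := isIso_conj_self (F := F) hM.hQ (hM.hT haT) (hM.hn haT)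
      refine hM.congr (M.comp (hg.trans hc1) (M.comp hg (M.symm hkQ hkM hg hgk) hc1 (M.conj haT)) hkQ hkM)
        fun y hy => ?_
      conv_lhs => rw [← hkg y hy]
      exact hβ a _ (Subgroup.mem_sup_right (hg.apply_mem hy))
    · obtain ⟨x, hx, rfl⟩ := hf.exists_apply hy
      rw [← hke x hx, hβ a x (Subgroup.mem_sup_left hx), hke _ (conj_mem_of_mem_normalizer haP hx),
        hax x hx, hke x hx]
  have hAp : IsPGroup p A := hS.to_le (hAT.trans hM.hT)
  have hBp : IsPGroup p β.range := by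
    rintro ⟨_, a, rfl⟩
    obtain ⟨n, hn⟩ := hAp a
    exact ⟨n, Subtype.ext (by rw [Subgroup.coe_pow, ← map_pow, hn, map_one]; rfl)⟩
  have hrel : ¬ p ∣ J.relIndex Wg := fun hd => hg.1 (hd.trans
    (Dvd.intro _ (Subgroup.relIndex_mul_relIndex J Wg G hJW fun α hα => hα.1)))
  obtain ⟨w, ⟨hwG, h₀, hh₀, hh₀R, hwx⟩, hw⟩ :=
    exists_conj_le_of_sylow hBW ((isPGroup_autInducedBy hS _).to_le inf_le_left) hBp hJW hrel
  -- replace `w` by an element trivial on `R`
  have hh₀N : h₀ ∈ normalizerIn S (R ⊔ Q) :=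
    ⟨hM.hT hh₀, mem_normalizer_sup (hR.trans hM.hT) hM.hQ hh₀R (hM.hn hh₀)⟩
  set c₀ := conjNorm S (R ⊔ Q) ⟨h₀, hh₀N⟩ with hc₀
  have hc₀J : c₀ ∈ J := ⟨(conjAut_mem (F := F) hU hh₀N).1, conjNorm_mem_kAut hh₀ hh₀R hh₀N⟩
  set w₀ := c₀⁻¹ * w with hw₀
  have hw₀J : ∀ b ∈ β.range, w₀ * b * w₀⁻¹ ∈ J := fun b hb => by
    have e : w₀ * b * w₀⁻¹ = c₀⁻¹ * (w * b * w⁻¹) * c₀ := by rw [hw₀]; group
    rw [e]
    exact mul_mem (mul_mem (inv_mem hc₀J) (hw b hb)) hc₀J
  have hw₀G : w₀ ∈ G := mul_mem (inv_mem hc₀J.2) hwG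
  have hw₀R : ∀ x ∈ R, autFun w₀ x = x := fun x hx => by
    rw [hw₀, autFun_mul _ _ (Subgroup.mem_sup_left hx), hwx x hx]
    have e : autFun c₀ x = h₀ * x * h₀⁻¹ := autFun_conjNorm _ (Subgroup.mem_sup_left hx)
    rw [← e, ← autFun_mul _ _ (Subgroup.mem_sup_left hx), inv_mul_cancel, autFun_one (Subgroup.mem_sup_left hx)]
  obtain ⟨hw₀F, -, hw₀Q, hw₀M⟩ := mem_kAut.1 hw₀G
  -- the map extended by the receptive subgroup
  have hk' : IsIso F (P' ⊔ Q) (R ⊔ Q) (autFun w₀ ∘ k) := hkU.trans (isIso_autFun hU hw₀F)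
  have hcond : ∀ a ∈ A ⊔ (P' ⊔ Q), ExtCond S (P' ⊔ Q) (autFun w₀ ∘ k) a := by
    have hle : A ⊔ (P' ⊔ Q) ≤ extSubgroup S (P' ⊔ Q) (autFun w₀ ∘ k) := by
      refine sup_le (fun a ha => ?_) (le_extSubgroup hk'.1)
      obtain ⟨s, hs, -, hsx⟩ := mem_autInducedBy.1 (hw₀J _ ⟨⟨a, ha⟩, rfl⟩).1
      refine ⟨(hAN ha).1, (hAN ha).2, s, hs, fun x hx => ?_⟩
      have hkx := hkU.apply_mem hx
      have h1 := hsx ⟨autFun w₀ (k x), autFun_mem _ hkx⟩
      rw [Function.comp_apply, Function.comp_apply, ← hβ ⟨a, ha⟩ x hx]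
      rw [← show ((⟨autFun w₀ (k x), autFun_mem _ hkx⟩ : (R ⊔ Q : Subgroup Ω)) : Ω) = autFun w₀ (k x) from rfl,
        ← h1, ← autFun_coe, ← autFun_mul _ _ hkx, ← autFun_mul _ _ hkx, inv_mul_cancel_right]
    exact fun a ha => hle ha
  obtain ⟨f', hf', hf'e⟩ := exists_extension (fullyCentralized_receptive hS hF hg.2) hk' hcond
  have hf'k : ∀ x ∈ P' ⊔ Q, f' x = autFun w₀ (k x) := fun x hx => hf'e x hx (Subgroup.mem_sup_right hx)
  have hf'P : ∀ x ∈ P', f' x = f x := fun x hx => by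
    rw [hf'k x (Subgroup.mem_sup_left hx), hke x hx, hw₀R _ (hf.apply_mem hx)]
  have hf'Q : IsIso F Q Q f' := (hkQ.trans hw₀Q).congr fun x hx => hf'k x (Subgroup.mem_sup_right hx)
  have hf'M : M.M f' := hM.congr (M.comp hkQ hkM hw₀Q hw₀M) fun x hx => hf'k x (Subgroup.mem_sup_right hx)
  refine ⟨f', (hE A f').2 ⟨hf'.restrict le_sup_left, ⟨hAT, fun a ha => ?_⟩, f',
    hf'.restrict (sup_le le_sup_left (le_sup_right.trans le_sup_right)), fun _ _ => rfl, hf'Q, hf'M⟩, hf'P⟩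
  have haD : a ∈ A ⊔ (P' ⊔ Q) := Subgroup.mem_sup_left ha
  have hQD : Q ≤ A ⊔ (P' ⊔ Q) := le_sup_right.trans le_sup_right
  obtain ⟨g, hg', hgk, hkg⟩ := hf'Q.exists_symm
  have hc1 := isIso_conj_self (F := F) hM.hQ (hM.hT (hAT ha)) (hM.hn (hAT ha))
  refine hM.mem (hf'.apply_mem_normalizerIn hQD hf'Q haD (hM.hn (hAT ha))) ?_
  refine hM.congr (M.comp (hg'.trans hc1) (M.comp hg' (M.symm hf'Q hf'M hg' hgk) hc1 (M.conj (hAT ha))) hf'Q hf'M)
    fun y hy => ?_
  show _ = f' (a * g y * a⁻¹)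
  rw [hf'.map_conj (hQD (hg'.apply_mem hy)) haD, hkg y hy]

/-- The system cut out by `M` is saturated. -/
theorem saturated_of_kFull (hM : KFull M) : E.IsSaturated p := by
  intro P hP
  obtain ⟨R, hR, f, hKM, hi, hg⟩ := exists_good hS hF hM hP
  refine ⟨R, IsIso.isConj (F := E) ⟨(hE P f).2 ⟨hi.1, hKM⟩, hi.2⟩, good_fullyAutomized hS hF hE hM hR hg,
    good_receptive hS hF hE hM hR hg⟩

end Saturated

section Instances

variable [Finite S] [Fact p.Prime] (hS : IsPGroup p S) (hF : F.IsSaturated p)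
include hS hF

theorem kFull_normalizer (hQ : F.IsFullyNormalized Q) :
    KFull (SelfCond.trivialCond F Q (normalizerIn S Q)) := by
  refine ⟨hQ.1, inf_le_left, inf_le_right, fun _ _ => trivial, fun ha _ => ha, fun Q' r hr W hW => ?_⟩
  obtain ⟨f, f', hf, hf', he, -⟩ := exists_iso_to_fullyNormalized hS hF hr.exists_symm.choose_spec.1.isConj hQ
  exact ⟨f', hf'.restrict (sup_le (fun a ha => (hW a ha).1) (le_normalizerIn hr.le')), hf.congr he, trivial⟩

theorem kFull_centralizer (hQ : F.IsFullyCentralized Q) : KFull (SelfCond.identityCond F Q) := by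
  refine ⟨hQ.1, inf_le_left, centralizerIn_le_normalizerIn.trans inf_le_right,
    fun h he x hx => (he x hx).trans (h x hx),
    fun ha h => mem_centralizerIn.2 ⟨ha.1, fun x hx => (eq_mul_inv_iff_mul_eq.1 (h x hx).symm)⟩,
    fun Q' r hr W hW => ?_⟩
  obtain ⟨ri, hri, hrir, hrri⟩ := hr.exists_symm
  have hle : W ⊔ Q' ≤ extSubgroup S Q' ri := by
    refine sup_le (fun a ha => ?_) (le_extSubgroup hri.1)
    obtain ⟨haN, hM⟩ := hW a ha
    refine extCond_of_centralizer (mem_centralizerIn.2 ⟨haN.1, fun y hy => ?_⟩)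
    obtain ⟨x, hx, rfl⟩ := hr.exists_apply hy
    have h1 := congrArg r (hM ri hri hrir x hx)
    rw [hrri _ (conj_mem_of_mem_normalizer haN.2 hy)] at h1
    exact eq_mul_inv_iff_mul_eq.1 h1.symm
  obtain ⟨σ, hσ, hσe⟩ := exists_extension (fullyCentralized_receptive hS hF hQ) hri fun a ha => hle ha
  have he : ∀ y ∈ Q', σ y = ri y := fun y hy => hσe y hy (Subgroup.mem_sup_right hy)
  exact ⟨σ, hσ, hri.congr he, fun x hx => (he _ (hr.apply_mem hx)).trans (hrir x hx)⟩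

theorem normalizerSystem_saturated (hQ : F.IsFullyNormalized Q) {E : FusionSystem (normalizerIn S Q)}
    (hE : F.IsNormalizerSystem Q E) : E.IsSaturated p := by
  refine saturated_of_kFull hS hF (fun P f => ?_) (kFull_normalizer hS hF hQ)
  rw [show E = _ from fusionSystem_ext fun P => (hE P).trans (normalizerHom_eq F hQ.1 P).symm]
  exact MapCond.isMor_system' _

theorem centralizerSystem_saturated (hQ : F.IsFullyCentralized Q) {E : FusionSystem (centralizerIn S Q)}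
    (hE : F.IsCentralizerSystem Q E) : E.IsSaturated p := by
  refine saturated_of_kFull hS hF (fun P f => ?_) (kFull_centralizer hS hF hQ)
  rw [show E = _ from fusionSystem_ext fun P => (hE P).trans (centralizerHom_eq F hQ.1 P).symm]
  exact MapCond.isMor_system' _

end Instances

end Cfsg.Agent.Fusion
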