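import Mathlib

/-!
The transfer of a group of permutations commuting with a free action of a commutative group on a
set of points.
-/

set_option autoImplicit false

namespace Cfsg.Agent.Fusion

variable {A X : Type*} [CommGroup A]

theorem inv_perm_apply {X : Type*} (e : Equiv.Perm X) (x : X) : e⁻¹ (e x) = x := e.symm_apply_apply x

/-- The orbit relation of `la` on `Y`. -/
def orbSetoid (la : A →* Equiv.Perm X) (Y : Set X) : Setoid Y where
  r y y' := ∃ a, la a y = y'
  iseqv :=
    { refl := fun y => ⟨1, by simp⟩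
      symm := by
        rintro y y' ⟨a, h⟩
        exact ⟨a⁻¹, by rw [← h, map_inv, inv_perm_apply]⟩
      trans := by
        rintro y y' y'' ⟨a, h⟩ ⟨b, h'⟩
        exact ⟨b * a, by rw [← h', ← h, map_mul, Equiv.Perm.mul_apply]⟩ }

/-- The orbits. -/
def Orb (la : A →* Equiv.Perm X) (Y : Set X) : Type _ := Quotient (orbSetoid la Y)

/-- The orbit of a point. -/
def Orb.mk {la : A →* Equiv.Perm X} {Y : Set X} (y : Y) : Orb la Y := Quotient.mk _ y

/-- A representative. -/
noncomputable def Orb.rep {la : A →* Equiv.Perm X} {Y : Set X} (o : Orb la Y) : Y := Quotient.out o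

open Classical in
/-- The coordinate of a point relative to the representatives. -/
noncomputable def orbCoord (la : A →* Equiv.Perm X) (Y : Set X) (x : X) : A :=
  if h : x ∈ Y then
    (Quotient.exact (Quotient.out_eq (Quotient.mk (orbSetoid la Y) ⟨x, h⟩))).choose
  else 1

instance [Finite X] (la : A →* Equiv.Perm X) (Y : Set X) : Finite (Orb la Y) :=
  Quotient.finite _

open Classical in
/-- The transfer of a permutation. -/
noncomputable def transferOn [Finite X] (la : A →* Equiv.Perm X) (Y : Set X) (k : Equiv.Perm X) : A :=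
  letI := Fintype.ofFinite (Orb la Y)
  ∏ o : Orb la Y, orbCoord la Y (k o.rep)

variable {la : A →* Equiv.Perm X} {Y : Set X} [Finite X]

/-- A set on which `la` acts freely. -/
structure FreeOn (la : A →* Equiv.Perm X) (Y : Set X) : Prop where
  mem : ∀ (a : A) (y : X), y ∈ Y → la a y ∈ Y
  free : ∀ (a : A) (y : X), y ∈ Y → la a y = y → a = 1

/-- A permutation preserving `Y` and commuting with the action. -/
structure CommOn (la : A →* Equiv.Perm X) (Y : Set X) (k : Equiv.Perm X) : Prop where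
  mem : ∀ y ∈ Y, k y ∈ Y
  comm : ∀ (a : A) (y : X), k (la a y) = la a (k y)

omit [Finite X] in
theorem orbCoord_spec {x : X} (h : x ∈ Y) :
    la (orbCoord la Y x) ((Orb.mk (la := la) ⟨x, h⟩).rep : X) = x := by
  classical
  unfold orbCoord
  rw [dif_pos h]
  exact (Quotient.exact (Quotient.out_eq (Quotient.mk (orbSetoid la Y) ⟨x, h⟩))).choose_spec

omit [Finite X] in
theorem Orb.rep_rel {x : X} (h : x ∈ Y) :
    ∃ a, la a ((Orb.mk (la := la) ⟨x, h⟩).rep : X) = x := ⟨_, orbCoord_spec h⟩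

omit [Finite X] in
theorem orbCoord_smul (hF : FreeOn la Y) (a : A) {x : X} (h : x ∈ Y) :
    orbCoord la Y (la a x) = a * orbCoord la Y x := by
  have h' := hF.mem a x h
  have e : (Orb.mk (la := la) ⟨la a x, h'⟩ : Orb la Y) = Orb.mk ⟨x, h⟩ :=
    Quotient.sound ⟨a⁻¹, by show la a⁻¹ (la a x) = x; rw [map_inv, inv_perm_apply]⟩
  have h1 := orbCoord_spec (la := la) h'
  rw [e] at h1
  have h2 : la ((a * orbCoord la Y x)⁻¹ * orbCoord la Y (la a x))
      ((Orb.mk (la := la) ⟨x, h⟩).rep : X) = (Orb.mk (la := la) ⟨x, h⟩).rep := by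
    rw [map_mul, Equiv.Perm.mul_apply, h1, map_inv, Equiv.Perm.inv_eq_iff_eq, map_mul,
      Equiv.Perm.mul_apply, orbCoord_spec h]
  exact (inv_mul_eq_one.1 (hF.free _ _ (Subtype.prop _) h2)).symm

omit [Finite X] in
theorem orbCoord_rep (hF : FreeOn la Y) (o : Orb la Y) : orbCoord la Y o.rep = 1 := by
  refine hF.free _ _ o.rep.2 ?_
  have h := orbCoord_spec (la := la) o.rep.2
  have e : (Orb.mk (la := la) ⟨(o.rep : X), o.rep.2⟩ : Orb la Y) = o := Quotient.out_eq o
  rwa [e] at h

omit [Finite X] in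
theorem Orb.mk_rep (o : Orb la Y) : Orb.mk o.rep = o := Quotient.out_eq o

/-- The induced permutation of the orbits. -/
noncomputable def CommOn.orbPerm {k : Equiv.Perm X} (hk : CommOn la Y k) : Equiv.Perm (Orb la Y) := by
  refine Equiv.ofBijective (fun o => Orb.mk ⟨k o.rep, hk.mem _ o.rep.2⟩)
    (Finite.injective_iff_bijective.1 fun o o' h => ?_)
  obtain ⟨a, ha⟩ := Quotient.exact h
  rw [← Orb.mk_rep o, ← Orb.mk_rep o']
  refine Quotient.sound ⟨a, k.injective ?_⟩
  rw [hk.comm]
  exact ha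

theorem CommOn.orbPerm_apply {k : Equiv.Perm X} (hk : CommOn la Y k) (o : Orb la Y) :
    hk.orbPerm o = Orb.mk ⟨k o.rep, hk.mem _ o.rep.2⟩ := rfl

theorem CommOn.mul {k l : Equiv.Perm X} (hk : CommOn la Y k) (hl : CommOn la Y l) :
    CommOn la Y (k * l) :=
  ⟨fun y hy => hk.mem _ (hl.mem y hy), fun a y => by
    rw [Equiv.Perm.mul_apply, hl.comm, hk.comm]; rfl⟩

theorem transferOn_mul (hF : FreeOn la Y) {k l : Equiv.Perm X} (hk : CommOn la Y k)
    (hl : CommOn la Y l) : transferOn la Y (k * l) = transferOn la Y k * transferOn la Y l := by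
  classical
  unfold transferOn
  letI := Fintype.ofFinite (Orb la Y)
  rw [← Equiv.prod_comp hl.orbPerm (fun o => orbCoord la Y (k o.rep)), ← Finset.prod_mul_distrib]
  refine Finset.prod_congr rfl fun o _ => ?_
  have h := orbCoord_spec (la := la) (hl.mem _ o.rep.2)
  rw [Equiv.Perm.mul_apply, hl.orbPerm_apply]
  conv_lhs => rw [← h]
  rw [hk.comm, orbCoord_smul hF _ (hk.mem _ (Subtype.prop _)), mul_comm]

theorem transferOn_eq (hF : FreeOn la Y) {k : Equiv.Perm X} (hk : CommOn la Y k) (w : X → A)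
    (hw : ∀ (a : A) (y : X), y ∈ Y → w (la a y) = a * w y) :
    letI := Fintype.ofFinite (Orb la Y)
    transferOn la Y k = ∏ o : Orb la Y, w (k o.rep) / w o.rep := by
  classical
  letI := Fintype.ofFinite (Orb la Y)
  have h : ∀ o : Orb la Y, w (k o.rep) / w o.rep =
      orbCoord la Y (k o.rep) * (w (hk.orbPerm o).rep / w o.rep) := fun o => by
    rw [hk.orbPerm_apply]
    conv_lhs => rw [← orbCoord_spec (la := la) (hk.mem _ o.rep.2), hw _ _ (Subtype.prop _)]
    rw [mul_div_assoc]
  show _ = _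
  rw [Finset.prod_congr rfl fun o _ => h o, Finset.prod_mul_distrib, Finset.prod_div_distrib,
    Equiv.prod_comp hk.orbPerm (fun o => w o.rep), div_self', mul_one]
  rfl

theorem transferOn_smul (hF : FreeOn la Y) (a : A) :
    transferOn la Y (la a) = a ^ Nat.card (Orb la Y) := by
  classical
  unfold transferOn
  letI := Fintype.ofFinite (Orb la Y)
  rw [Nat.card_eq_fintype_card, ← Finset.card_univ, ← Finset.prod_const]
  refine Finset.prod_congr rfl fun o _ => ?_
  rw [orbCoord_smul hF a o.rep.2, orbCoord_rep hF, mul_one]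

omit [Finite X] in
theorem card_orb_mul (hF : FreeOn la Y) : Nat.card (Orb la Y) * Nat.card A = Nat.card Y := by
  rw [← Nat.card_prod]
  refine (Nat.card_congr (Equiv.ofBijective (fun q : Orb la Y × A =>
    (⟨la q.2 q.1.rep, hF.mem _ _ q.1.rep.2⟩ : Y)) ⟨?_, ?_⟩))
  · rintro ⟨o, a⟩ ⟨o', b⟩ h
    have he : la a (o.rep : X) = la b o'.rep := congrArg Subtype.val h
    have ho : o = o' := by
      rw [← Orb.mk_rep o, ← Orb.mk_rep o']
      exact Quotient.sound ⟨b⁻¹ * a, by rw [map_mul, Equiv.Perm.mul_apply, he, map_inv, inv_perm_apply]⟩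
    subst ho
    have := congrArg (orbCoord la Y) he
    rw [orbCoord_smul hF a o.rep.2, orbCoord_smul hF b o.rep.2] at this
    exact Prod.ext rfl (mul_right_cancel this)
  · rintro ⟨x, hx⟩
    exact ⟨(Orb.mk ⟨x, hx⟩, orbCoord la Y x), Subtype.ext (orbCoord_spec hx)⟩

/-- Naturality. -/
theorem transferOn_conj {Y' : Set X} (hF : FreeOn la Y) (hF' : FreeOn la Y') (e : Equiv.Perm X)
    (he : ∀ x, x ∈ Y ↔ e x ∈ Y') (θ : A ≃* A) (hθ : ∀ a x, e (la a x) = la (θ a) (e x))
    {k k' : Equiv.Perm X} (hk : CommOn la Y k) (hk' : CommOn la Y' k')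
    (hkk : ∀ x, e (k x) = k' (e x)) : transferOn la Y' k' = θ (transferOn la Y k) := by
  classical
  let w : X → A := fun x => θ (orbCoord la Y (e.symm x))
  have hw : ∀ (a : A) (y : X), y ∈ Y' → w (la a y) = a * w y := fun a y hy => by
    show θ (orbCoord la Y (e.symm (la a y))) = a * θ (orbCoord la Y (e.symm y))
    have h1 : e.symm (la a y) = la (θ.symm a) (e.symm y) := by
      apply e.injective
      rw [Equiv.apply_symm_apply, hθ, θ.apply_symm_apply, Equiv.apply_symm_apply]
    rw [h1, orbCoord_smul hF _ (by rw [he, Equiv.apply_symm_apply]; exact hy), map_mul,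
      θ.apply_symm_apply]
  rw [transferOn_eq hF' hk' w hw]
  letI := Fintype.ofFinite (Orb la Y)
  letI := Fintype.ofFinite (Orb la Y')
  show _ = θ (∏ o : Orb la Y, orbCoord la Y (k o.rep))
  rw [map_prod]
  have hE : Function.Bijective (fun o : Orb la Y => (Orb.mk ⟨e o.rep, (he _).1 o.rep.2⟩ : Orb la Y')) := by
    constructor
    · intro o o' h
      obtain ⟨a, ha⟩ := Quotient.exact h
      rw [← Orb.mk_rep o, ← Orb.mk_rep o']
      refine Quotient.sound ⟨θ.symm a, e.injective ?_⟩
      rw [hθ, θ.apply_symm_apply]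
      exact ha
    · intro o'
      have hm : e.symm (o'.rep : X) ∈ Y := by rw [he, Equiv.apply_symm_apply]; exact o'.rep.2
      refine ⟨Orb.mk ⟨_, hm⟩, ?_⟩
      obtain ⟨a, ha⟩ := Orb.rep_rel (la := la) hm
      conv_rhs => rw [← Orb.mk_rep o']
      refine Quotient.sound ⟨θ a, ?_⟩
      show la (θ a) (e _) = _
      rw [← hθ, ha, Equiv.apply_symm_apply]
  rw [← Equiv.prod_comp (Equiv.ofBijective _ hE)]
  refine Finset.prod_congr rfl fun o _ => ?_
  rw [Equiv.ofBijective_apply]
  obtain ⟨a, ha⟩ := Orb.rep_rel (la := la) ((he _).1 o.rep.2)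
  set r := (Orb.mk (la := la) ⟨e o.rep, (he _).1 o.rep.2⟩ : Orb la Y').rep
  have h1 : w (k' (e o.rep)) / w (e o.rep) = w (k' r) / w r := by
    rw [← ha, hk'.comm, hw _ _ (hk'.mem _ r.2), hw _ _ r.2, mul_div_mul_left_eq_div]
  rw [← h1, ← hkk]
  show θ _ / θ _ = _
  rw [Equiv.symm_apply_apply, Equiv.symm_apply_apply, orbCoord_rep hF, map_one, div_one]

end Cfsg.Agent.Fusion
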