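import Mathlib
import Cfsg.Agent.Lib.Solv.Basic
import Cfsg.Agent.Lib.Fusion.Centric
import Cfsg.Agent.Lib.Fusion.FactorSat

/-!
Groups realizing a fusion system, and a criterion for being a model.
-/

set_option autoImplicit false

namespace Cfsg.Agent.Fusion

open Cfsg Cfsg.FusionSystem

variable {Ω : Type*} [Group Ω] {S : Subgroup Ω} {F : FusionSystem S} {P Q R : Subgroup Ω}
  {G : Type*} [Group G] {ι : S →* G} {p : ℕ} {f : Ω → Ω}

/-- The image in `G` of a subgroup of `S`. -/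
def mImg (ι : S →* G) (R : Subgroup Ω) : Subgroup G := (R.subgroupOf S).map ι

theorem mem_mImg {y : G} : y ∈ mImg ι R ↔ ∃ x : S, (x : Ω) ∈ R ∧ ι x = y := Iff.rfl

theorem realized_exists_conj (h : F.IsRealizedBy ι) (hf : IsMor F P f) :
    ∃ g : G, ∀ x y : S, (x : Ω) ∈ P → (y : Ω) = f x → ι y = g * ι x * g⁻¹ := by
  obtain ⟨φ, hφ, hx⟩ := hf
  obtain ⟨hP, hφS⟩ := F.le_of_mem hφ
  obtain ⟨g, hg⟩ := (h.2 P hP φ hφS).1 hφ
  refine ⟨g, fun x y hxP hy => ?_⟩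
  have := hg ⟨x, hxP⟩
  rwa [show (⟨φ ⟨x, hxP⟩, hφS _⟩ : S) = y from Subtype.ext ((hx ⟨x, hxP⟩).trans hy.symm)] at this

theorem exists_hom_of_conj (hi : Function.Injective ι) (hP : P ≤ S) (g : G)
    (hg : ∀ x : S, (x : Ω) ∈ P → g * ι x * g⁻¹ ∈ ι.range) :
    ∃ (φ : P →* Ω) (hφ : ∀ x, φ x ∈ S), ∀ x : P, ι ⟨φ x, hφ x⟩ = g * ι ⟨x, hP x.2⟩ * g⁻¹ := by
  let c : P →* ι.range := MonoidHom.mk' (fun x => ⟨g * ι ⟨x, hP x.2⟩ * g⁻¹, hg _ x.2⟩) fun x y => by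
    refine Subtype.ext ?_
    show g * ι (⟨x, hP x.2⟩ * ⟨y, hP y.2⟩) * g⁻¹ =
      g * ι ⟨x, hP x.2⟩ * g⁻¹ * (g * ι ⟨y, hP y.2⟩ * g⁻¹)
    rw [map_mul]
    group
  refine ⟨S.subtype.comp ((MonoidHom.ofInjective hi).symm.toMonoidHom.comp c), fun x => Subtype.prop _,
    fun x => ?_⟩
  show ι ((MonoidHom.ofInjective hi).symm (c x)) = _
  exact congrArg Subtype.val ((MonoidHom.ofInjective hi).apply_symm_apply (c x))

theorem realized_exists_mor (h : F.IsRealizedBy ι) (hP : P ≤ S) (g : G)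
    (hg : ∀ x : S, (x : Ω) ∈ P → g * ι x * g⁻¹ ∈ ι.range) :
    ∃ f, IsMor F P f ∧ ∀ x y : S, (x : Ω) ∈ P → (y : Ω) = f x → ι y = g * ι x * g⁻¹ := by
  obtain ⟨φ, hφ, hx⟩ := exists_hom_of_conj h.1 hP g hg
  refine ⟨extFun φ, isMor_extFun ((h.2 P hP φ hφ).2 ⟨g, hx⟩), fun x y hxP hy => ?_⟩
  rw [extFun_apply φ hxP] at hy
  have := hx ⟨x, hxP⟩
  rwa [show (⟨φ ⟨x, hxP⟩, hφ _⟩ : S) = y from Subtype.ext hy.symm] at this

theorem realized_intro (hi : Function.Injective ι)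
    (h1 : ∀ (P : Subgroup Ω) (f : Ω → Ω), IsMor F P f →
      ∃ g : G, ∀ x y : S, (x : Ω) ∈ P → (y : Ω) = f x → ι y = g * ι x * g⁻¹)
    (h2 : ∀ (P : Subgroup Ω), P ≤ S → ∀ g : G, (∀ x : S, (x : Ω) ∈ P → g * ι x * g⁻¹ ∈ ι.range) →
      ∃ f, IsMor F P f ∧ ∀ x y : S, (x : Ω) ∈ P → (y : Ω) = f x → ι y = g * ι x * g⁻¹) :
    F.IsRealizedBy ι := by
  refine ⟨hi, fun P hP φ hφS => ⟨fun hφ => ?_, fun ⟨g, hg⟩ => ?_⟩⟩
  · obtain ⟨g, hg⟩ := h1 P _ (isMor_extFun hφ)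
    exact ⟨g, fun x => hg ⟨x, hP x.2⟩ ⟨φ x, hφS x⟩ x.2 (extFun_coe φ x).symm⟩
  · obtain ⟨f, hf, hfg⟩ := h2 P hP g fun x hx => ⟨_, hg ⟨x, hx⟩⟩
    refine mem_hom_of_isMor hf fun x => ?_
    have h3 := hfg ⟨x, hP x.2⟩ ⟨f x, hf.mem x.2⟩ x.2 rfl
    rw [← hg x] at h3
    exact (congrArg Subtype.val (hi h3)).symm

theorem le_pCore_mImg [Finite G] [Fact p.Prime] (hS : IsPGroup p S)
    (hnorm : ∀ (g : G) (x : S), (x : Ω) ∈ R → ∃ y : S, (y : Ω) ∈ R ∧ g * ι x * g⁻¹ = ι y) :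
    mImg ι R ≤ pCore p G := by
  have : (mImg ι R).Normal := ⟨fun _ hy g => by
    obtain ⟨x, hx, rfl⟩ := hy
    obtain ⟨y, hy, he⟩ := hnorm g x hx
    exact ⟨y, hy, he.symm⟩⟩
  exact Solv.le_pCore ((hS.to_subgroup _).map ι)

/-- A criterion for a group realizing a system to be a model. -/
theorem isModel_intro [Finite S] [Finite G] [Fact p.Prime] (hS : IsPGroup p S)
    (hReal : F.IsRealizedBy ι) (hR : R ≤ S) (hFA : F.IsFullyAutomized p R)
    (hnorm : ∀ (g : G) (x : S), (x : Ω) ∈ R → ∃ y : S, (y : Ω) ∈ R ∧ g * ι x * g⁻¹ = ι y)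
    (hcent : ∀ g : G, (∀ x : S, (x : Ω) ∈ R → g * ι x * g⁻¹ = ι x) →
      ∃ z : S, (z : Ω) ∈ R ∧ ι z = g) :
    F.IsModel p G ι := by
  classical
  have hi := hReal.1
  have hex : ∀ g : G, ∃ α ∈ F.autGroup R, ∀ x y : S, (x : Ω) ∈ R → (y : Ω) = autFun α x →
      ι y = g * ι x * g⁻¹ := by
    intro g
    obtain ⟨f, hf, hfg⟩ := realized_exists_mor hReal hR g fun x hx => by
      obtain ⟨y, -, he⟩ := hnorm g x hx
      exact ⟨y, he.symm⟩
    have hiso := hf.isIso_self fun x hx => by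
      obtain ⟨y, hy, he⟩ := hnorm g ⟨x, hR hx⟩ hx
      have h3 := hfg ⟨x, hR hx⟩ ⟨f x, hf.mem hx⟩ hx rfl
      rw [he] at h3
      rw [show f x = (y : Ω) from congrArg Subtype.val (hi h3)]
      exact hy
    refine ⟨autOf hiso, autOf_mem hiso, fun x y hx hy => hfg x y hx ?_⟩
    rw [hy, autFun_apply _ hx, autOf_apply]
  choose act hact hactg using hex
  have huniq : ∀ (g : G) (α : MulAut R), (∀ x y : S, (x : Ω) ∈ R → (y : Ω) = autFun α x →
      ι y = g * ι x * g⁻¹) → α = act g := by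
    intro g α hα
    refine MulEquiv.ext fun x => Subtype.ext ?_
    have e1 := hα ⟨x, hR x.2⟩ ⟨_, hR (autFun_mem α x.2)⟩ x.2 rfl
    have e2 := hactg g ⟨x, hR x.2⟩ ⟨_, hR (autFun_mem (act g) x.2)⟩ x.2 rfl
    have e := congrArg Subtype.val (hi (e1.trans e2.symm))
    simp only [autFun_coe] at e
    exact e
  let ρ : G →* MulAut R := MonoidHom.mk' act fun a b => (huniq _ _ fun x y hx hy => by
    rw [autFun_mul _ _ hx] at hy
    have h1 := hactg b x ⟨_, hR (autFun_mem (act b) hx)⟩ hx rfl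
    have h2 := hactg a ⟨_, hR (autFun_mem (act b) hx)⟩ y (autFun_mem (act b) hx) hy
    rw [h2, h1]
    group).symm
  have hrange : ρ.range = F.autGroup R := by
    refine le_antisymm (fun α => by rintro ⟨g, rfl⟩; exact hact g) fun α hα => ?_
    obtain ⟨g, hg⟩ := realized_exists_conj hReal (isMor_of_mem_autGroup hR hα)
    exact ⟨g, (huniq g α hg).symm⟩
  have hSn : ∀ s : S, (s : Ω) ∈ Subgroup.normalizer (R : Set Ω) := fun s => by
    refine mem_normalizer_of_conj_mem hR fun x hx => ?_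
    obtain ⟨y, hy, he⟩ := hnorm (ι s) ⟨x, hR hx⟩ hx
    rw [← map_inv, ← map_mul, ← map_mul] at he
    rw [← hi he] at hy
    exact hy
  have hcomap : (autInducedBy S R).comap ρ = ι.range := by
    ext g
    constructor
    · intro hg
      obtain ⟨a, ha, -, hax⟩ := mem_autInducedBy.1 (Subgroup.mem_comap.1 hg)
      obtain ⟨z, -, hz⟩ := hcent ((ι ⟨a, ha⟩)⁻¹ * g) fun x hx => by
        have h1 := hactg g x ⟨_, hR (autFun_mem (act g) hx)⟩ hx rfl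
        have e : (⟨autFun (act g) x, hR (autFun_mem (act g) hx)⟩ : S) = ⟨a, ha⟩ * x * ⟨a, ha⟩⁻¹ := by
          refine Subtype.ext ?_
          show autFun (act g) x = a * (x : Ω) * a⁻¹
          rw [autFun_apply _ hx]
          exact hax ⟨x, hx⟩
        rw [e, map_mul, map_mul, map_inv] at h1
        calc (ι ⟨a, ha⟩)⁻¹ * g * ι x * ((ι ⟨a, ha⟩)⁻¹ * g)⁻¹
            = (ι ⟨a, ha⟩)⁻¹ * (g * ι x * g⁻¹) * ι ⟨a, ha⟩ := by group
          _ = (ι ⟨a, ha⟩)⁻¹ * (ι ⟨a, ha⟩ * ι x * (ι ⟨a, ha⟩)⁻¹) * ι ⟨a, ha⟩ := by rw [h1]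
          _ = ι x := by group
      refine ⟨⟨a, ha⟩ * z, ?_⟩
      rw [map_mul, hz, mul_inv_cancel_left]
    · rintro ⟨s, rfl⟩
      refine Subgroup.mem_comap.2 (mem_autInducedBy.2 ⟨s, s.2, hSn s, fun x => ?_⟩)
      have h1 := hactg (ι s) ⟨x, hR x.2⟩ ⟨_, hR (autFun_mem (act (ι s)) x.2)⟩ x.2 rfl
      rw [← map_inv, ← map_mul, ← map_mul] at h1
      have e := congrArg Subtype.val (hi h1)
      simp only [autFun_coe] at e
      exact e
  have hidx : ¬ p ∣ ι.range.index := by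
    rw [← hcomap, Subgroup.index_comap, hrange]
    exact (isFullyAutomized_iff hS hR).1 hFA
  have hpg : IsPGroup p ι.range := by
    rw [MonoidHom.range_eq_map]
    exact (hS.to_subgroup _).map ι
  refine ⟨inferInstance, hReal, ⟨hpg.toSylow hidx, IsPGroup.toSylow_coe hpg hidx⟩, fun g hg => ?_⟩
  have hle := le_pCore_mImg (p := p) hS hnorm
  obtain ⟨z, hz, rfl⟩ := hcent g fun x hx => by
    rw [← Subgroup.mem_centralizer_iff.1 hg _ (hle ⟨x, hx, rfl⟩), mul_inv_cancel_right]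
  exact hle ⟨z, hz, rfl⟩

/-- A system realized on a Sylow subgroup is saturated. -/
theorem realized_saturated [Finite G] [Fact p.Prime] (h : F.IsRealizedBy ι)
    (hT : ∃ T : Sylow p G, (T : Subgroup G) = ι.range) : F.IsSaturated p := by
  obtain ⟨T, hT⟩ := hT
  let e : S ≃* (T : Subgroup G) := (MonoidHom.ofInjective h.1).trans (MulEquiv.subgroupCongr hT.symm)
  let θ : (T : Subgroup G) →* Ω := S.subtype.comp e.symm.toMonoidHom
  have hιe : ∀ s : (T : Subgroup G), ι (e.symm s) = (s : G) := fun s => by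
    conv_rhs => rw [← e.apply_symm_apply s]
    rfl
  have hker : ∀ s : (T : Subgroup G), θ s = 1 ↔ (s : G) ∈ (⊥ : Subgroup G) := fun s => by
    rw [Subgroup.mem_bot, ← hιe s]
    constructor
    · intro hs
      rw [show e.symm s = 1 from Subtype.ext hs, map_one]
    · intro hs
      show ((e.symm s : S) : Ω) = 1
      rw [h.1 (hs.trans (map_one ι).symm), Subgroup.coe_one]
  have hpre : ∀ (P' : Subgroup Ω) (x : G) (hx : x ∈ (T : Subgroup G)),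
      x ∈ preimageAlong θ P' ↔ θ ⟨x, hx⟩ ∈ P' :=
    fun P' x hx => ⟨fun ⟨y, hy, hye⟩ => (show y = ⟨x, hx⟩ from Subtype.ext hye) ▸ hy,
      fun hy => ⟨⟨x, hx⟩, hy, rfl⟩⟩
  have hE : (groupFusionSystem (T : Subgroup G)).IsFactorSystem ⊥ θ F := by
    refine ⟨bot_le, hker, ?_, fun P' φ' => ⟨fun hφ' => ?_, ?_⟩⟩
    · ext x
      exact ⟨fun ⟨s, hs⟩ => hs ▸ (e.symm s).2, fun hx => ⟨e ⟨x, hx⟩, by simp [θ]⟩⟩
    · have hP' := (F.le_of_mem hφ').1
      obtain ⟨g, hg⟩ := realized_exists_conj h (isMor_extFun hφ')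
      have hle : preimageAlong θ P' ≤ (T : Subgroup G) := by
        rintro _ ⟨y, -, rfl⟩
        exact y.2
      have hmem : ∀ x : preimageAlong θ P',
          ∃ hθ : θ ⟨x, hle x.2⟩ ∈ P', g * (x : G) * g⁻¹ =
            ι ⟨φ' ⟨_, hθ⟩, (F.le_of_mem hφ').2 _⟩ := by
        intro x
        have hθ := (hpre P' x (hle x.2)).1 x.2
        refine ⟨hθ, ?_⟩
        rw [hg (e.symm ⟨x, hle x.2⟩) _ hθ (extFun_apply φ' hθ).symm, hιe]
      refine ⟨hP', conjHom _ g, ⟨hle, fun x => ?_, g, fun _ => rfl⟩, hle, fun x => ?_,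
        fun x => (hmem x).1, fun x => ?_⟩
      · obtain ⟨hθ, he⟩ := hmem x
        rw [conjHom_apply, he]
        exact (SetLike.ext_iff.1 hT _).2 ⟨_, rfl⟩
      · obtain ⟨hθ, he⟩ := hmem x
        rw [conjHom_apply, he]
        exact (SetLike.ext_iff.1 hT _).2 ⟨_, rfl⟩
      · obtain ⟨hθ, he⟩ := hmem x
        show _ = ((e.symm ⟨g * (x : G) * g⁻¹, _⟩ : S) : Ω)
        exact (congrArg Subtype.val (e.symm_apply_eq.2 (Subtype.ext he) :
          e.symm ⟨g * (x : G) * g⁻¹, _⟩ = ⟨φ' ⟨_, hθ⟩, (F.le_of_mem hφ').2 _⟩)).symm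
    · rintro ⟨hP', φ, ⟨hle, hφT, g, hg⟩, hP, hφ, hPm, hind⟩
      have hx0 : ∀ x : S, (x : Ω) ∈ P' → ι x ∈ preimageAlong θ P' := fun x hx => by
        refine ⟨e x, ?_, rfl⟩
        show ((e.symm (e x) : S) : Ω) ∈ P'
        rwa [e.symm_apply_apply]
      have hrange : ∀ x : S, (x : Ω) ∈ P' → g * ι x * g⁻¹ ∈ ι.range := fun x hx => by
        have := hφT ⟨ι x, hx0 x hx⟩
        rw [hg] at this
        exact (SetLike.ext_iff.1 hT _).1 this
      obtain ⟨f, hf, hfg⟩ := realized_exists_mor h hP' g hrange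
      refine mem_hom_of_isMor hf fun x => ?_
      have hxm := hx0 ⟨x, hP' x.2⟩ x.2
      have h1 := hind ⟨_, hxm⟩
      have e0 : (⟨θ ⟨ι ⟨x, hP' x.2⟩, hP hxm⟩, hPm ⟨_, hxm⟩⟩ : P') = x := by
        refine Subtype.ext ?_
        show ((e.symm (e ⟨x, hP' x.2⟩) : S) : Ω) = x
        rw [e.symm_apply_apply]
      rw [e0] at h1
      rw [h1]
      show ((e.symm ⟨φ ⟨_, hxm⟩, hφ _⟩ : S) : Ω) = f x
      exact (congrArg Subtype.val (e.symm_apply_eq.2 (Subtype.ext ((hg ⟨_, hxm⟩).trans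
        (hfg ⟨x, hP' x.2⟩ ⟨f x, hf.mem x.2⟩ x.2 rfl).symm)) :
        e.symm ⟨φ ⟨_, hxm⟩, hφ _⟩ = ⟨f x, hf.mem x.2⟩))
  exact factor_saturated T.isPGroup' (isSaturated_groupFusionSystem T)
    (normal_stronglyClosed isNormal_bot) hE

end Cfsg.Agent.Fusion
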