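import Mathlib
import Cfsg.Agent.Lib.Fusion.ModelBasic

/-!
Models: normal subgroups, uniqueness and rigidity.
-/

set_option autoImplicit false

namespace Cfsg.Agent.Fusion

open Cfsg Cfsg.FusionSystem

variable {Ω : Type*} [Group Ω] {S : Subgroup Ω} {F : FusionSystem S} {P Q R : Subgroup Ω}
  {G : Type*} [Group G] {ι : S →* G} {G₂ : Type*} [Group G₂] {ι₂ : S →* G₂} {p : ℕ} {f : Ω → Ω}

/-- `ι(Q)` is normal and contains its centralizer. -/
structure NormCent (ι : S →* G) (Q : Subgroup Ω) : Prop where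
  norm : ∀ (g : G) (x : S), (x : Ω) ∈ Q → ∃ y : S, (y : Ω) ∈ Q ∧ g * ι x * g⁻¹ = ι y
  cent : ∀ g : G, (∀ x : S, (x : Ω) ∈ Q → g * ι x * g⁻¹ = ι x) → ∃ z : S, (z : Ω) ∈ Q ∧ ι z = g

theorem conj_mem_range_of_sup (hP : P ≤ S) (hR : R ≤ S) {g : G}
    (h1 : ∀ x : S, (x : Ω) ∈ P → g * ι x * g⁻¹ ∈ ι.range)
    (h2 : ∀ x : S, (x : Ω) ∈ R → g * ι x * g⁻¹ ∈ ι.range) :
    ∀ x : S, (x : Ω) ∈ P ⊔ R → g * ι x * g⁻¹ ∈ ι.range := by
  intro x hx
  let K : Subgroup Ω := (ι.range.comap ((MulAut.conj g).toMonoidHom.comp ι)).map S.subtype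
  have hle : P ⊔ R ≤ K := sup_le (fun y hy => ⟨⟨y, hP hy⟩, h1 ⟨y, hP hy⟩ hy, rfl⟩)
    fun y hy => ⟨⟨y, hR hy⟩, h2 ⟨y, hR hy⟩ hy, rfl⟩
  obtain ⟨x', hx', he⟩ := hle hx
  obtain rfl : x' = x := Subtype.ext he
  exact hx'

/-- The preimage in `S` of `O_p` of a model. -/
def modelCore (p : ℕ) (ι : S →* G) : Subgroup Ω := ((pCore p G).comap ι).map S.subtype

theorem modelCore_le : modelCore p ι ≤ S := by
  rintro _ ⟨x, -, rfl⟩
  exact x.2

theorem mem_modelCore {x : S} : (x : Ω) ∈ modelCore p ι ↔ ι x ∈ pCore p G :=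
  ⟨fun ⟨_, hy, he⟩ => Subtype.ext he ▸ hy, fun h => ⟨x, h, rfl⟩⟩

theorem exists_preimage_pCore (hM : F.IsModel p G ι) {y : G} (hy : y ∈ pCore p G) :
    ∃ x : S, (x : Ω) ∈ modelCore p ι ∧ ι x = y := by
  obtain ⟨-, -, ⟨T, hT⟩, -⟩ := hM
  obtain ⟨x, rfl⟩ : y ∈ ι.range := hT ▸ Solv.pCore_le_sylow T hy
  exact ⟨x, mem_modelCore.2 hy, rfl⟩

theorem modelCore_norm (hM : F.IsModel p G ι) (g : G) (x : S) (hx : (x : Ω) ∈ modelCore p ι) :
    ∃ y : S, (y : Ω) ∈ modelCore p ι ∧ g * ι x * g⁻¹ = ι y := by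
  have := Solv.pCore_characteristic p G
  obtain ⟨y, hy, he⟩ := exists_preimage_pCore hM
    (Subgroup.Normal.conj_mem (inferInstance : (pCore p G).Normal) _ (mem_modelCore.1 hx) g)
  exact ⟨y, hy, he.symm⟩

theorem modelCore_cent (hM : F.IsModel p G ι) (g : G)
    (hg : ∀ x : S, (x : Ω) ∈ modelCore p ι → g * ι x * g⁻¹ = ι x) :
    ∃ z : S, (z : Ω) ∈ modelCore p ι ∧ ι z = g := by
  refine exists_preimage_pCore hM (hM.2.2.2 (Subgroup.mem_centralizer_iff.2 fun y hy => ?_))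
  obtain ⟨x, hx, rfl⟩ := exists_preimage_pCore hM hy
  exact (mul_inv_eq_iff_eq_mul.1 (hg x hx)).symm

theorem modelCore_normCent (hM : F.IsModel p G ι) : NormCent ι (modelCore p ι) :=
  ⟨modelCore_norm hM, modelCore_cent hM⟩

theorem isNormal_of_norm [Finite S] (hReal : F.IsRealizedBy ι) (hQ : Q ≤ S)
    (hn : ∀ (g : G) (x : S), (x : Ω) ∈ Q → ∃ y : S, (y : Ω) ∈ Q ∧ g * ι x * g⁻¹ = ι y) :
    F.IsNormal Q := by
  refine isNormal_iff.2 ⟨hQ, fun P f hf => ?_⟩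
  obtain ⟨g, hg⟩ := realized_exists_conj hReal hf
  obtain ⟨k, hk, hkg⟩ := realized_exists_mor hReal (sup_le hf.le hQ) g
    (conj_mem_range_of_sup hf.le hQ
      (fun x hx => ⟨⟨f x, hf.mem hx⟩, hg x ⟨f x, hf.mem hx⟩ hx rfl⟩) fun x hx => by
      obtain ⟨y, -, he⟩ := hn g x hx
      exact ⟨y, he.symm⟩)
  refine ⟨k, hk, fun x hx => ?_, (hk.restrict le_sup_right).isIso_self fun x hx => ?_⟩
  · have hxs : x ∈ P ⊔ Q := Subgroup.mem_sup_left hx
    have h1 := hkg ⟨x, hf.le hx⟩ ⟨k x, hk.mem hxs⟩ hxs rfl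
    rw [← hg ⟨x, hf.le hx⟩ ⟨f x, hf.mem hx⟩ hx rfl] at h1
    exact congrArg Subtype.val (hReal.1 h1)
  · have hxs : x ∈ P ⊔ Q := Subgroup.mem_sup_right hx
    obtain ⟨y, hy, he⟩ := hn g ⟨x, hQ hx⟩ hx
    have h1 := hkg ⟨x, hQ hx⟩ ⟨k x, hk.mem hxs⟩ hxs rfl
    rw [he] at h1
    rw [show k x = (y : Ω) from congrArg Subtype.val (hReal.1 h1)]
    exact hy

theorem isCentric_of_normCent [Finite S] (hReal : F.IsRealizedBy ι) (hQ : Q ≤ S)
    (hn : NormCent ι Q) : F.IsCentric Q := by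
  refine ⟨hQ, fun R hR => ?_⟩
  obtain ⟨f, hf⟩ := isConj_iff_exists_isIso.1 hR
  obtain rfl : R = Q := hf.image_unique (normal_isIso (isNormal_of_norm hReal hQ hn.norm) hf.1 le_rfl)
  intro c hc
  obtain ⟨hcS, hcc⟩ := mem_centralizerIn.1 hc
  obtain ⟨z, hz, he⟩ := hn.cent (ι ⟨c, hcS⟩) fun x hx => by
    rw [← map_inv, ← map_mul, ← map_mul]
    congr 1
    refine Subtype.ext ?_
    show c * (x : Ω) * c⁻¹ = x
    rw [← hcc _ hx, mul_inv_cancel_right]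
  rw [show (z : Ω) = c from congrArg Subtype.val (hReal.1 he)] at hz
  exact hz

theorem model_saturated [Fact p.Prime] (hM : F.IsModel p G ι) : F.IsSaturated p := by
  obtain ⟨_, hReal, hT, -⟩ := hM
  exact realized_saturated hReal hT

theorem model_constrained [Finite S] [Fact p.Prime] (hM : F.IsModel p G ι) : F.IsConstrained p :=
  ⟨model_saturated hM, _, isNormal_of_norm hM.2.1 modelCore_le (modelCore_norm hM),
    isCentric_of_normCent hM.2.1 modelCore_le (modelCore_normCent hM)⟩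

/-- In a model, a normal centric subgroup of the system is normal and contains its centralizer. -/
theorem normCent_of_model [Finite S] [Fact p.Prime] (hS : IsPGroup p S) (hM : F.IsModel p G ι)
    (hQn : F.IsNormal Q) (hQc : F.IsCentric Q) : NormCent ι Q := by
  have hReal := hM.2.1
  have hQS := hQn.1
  set R := modelCore p ι
  have hR : R ≤ S := modelCore_le
  have hSQ := normal_le_normalizer hQn
  have norm : ∀ (g : G) (x : S), (x : Ω) ∈ Q → ∃ y : S, (y : Ω) ∈ Q ∧ g * ι x * g⁻¹ = ι y := by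
    intro g x hx
    obtain ⟨f, hf, hfg⟩ := realized_exists_mor hReal hR g fun a ha => by
      obtain ⟨b, -, he⟩ := modelCore_norm hM g a ha
      exact ⟨b, he.symm⟩
    obtain ⟨-, hQn'⟩ := isNormal_iff.1 hQn
    obtain ⟨k, hk, hke, hkQ⟩ := hQn' R f hf
    obtain ⟨h, hh⟩ := realized_exists_conj hReal hk
    obtain ⟨o, ho, hoe⟩ := modelCore_cent hM (h⁻¹ * g) fun a ha => by
      have hs : (a : Ω) ∈ R ⊔ Q := Subgroup.mem_sup_left ha
      have e1 := hfg a ⟨f a, hf.mem ha⟩ ha rfl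
      have e2 := hh a ⟨f a, hf.mem ha⟩ hs (hke a ha).symm
      calc h⁻¹ * g * ι a * (h⁻¹ * g)⁻¹ = h⁻¹ * (g * ι a * g⁻¹) * h := by group
        _ = h⁻¹ * (h * ι a * h⁻¹) * h := by rw [← e1, e2]
        _ = ι a := by group
    have hox : ((o * x * o⁻¹ : S) : Ω) ∈ Q := conj_mem_of_mem_normalizer (hSQ o.2) hx
    have hs : ((o * x * o⁻¹ : S) : Ω) ∈ R ⊔ Q := Subgroup.mem_sup_right hox
    refine ⟨⟨k (o * x * o⁻¹ : S), hk.mem hs⟩, hkQ.apply_mem hox, ?_⟩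
    rw [hh _ ⟨k (o * x * o⁻¹ : S), hk.mem hs⟩ hs rfl, map_mul, map_mul, map_inv, hoe]
    group
  refine ⟨norm, fun g hg => ?_⟩
  obtain ⟨f, hf, hfg⟩ := realized_exists_mor hReal (sup_le hR hQS) g
    (conj_mem_range_of_sup hR hQS (fun a ha => by
      obtain ⟨b, -, he⟩ := modelCore_norm hM g a ha
      exact ⟨b, he.symm⟩) fun a ha => ⟨a, (hg a ha).symm⟩)
  obtain ⟨z, hzQ, -, hze⟩ := exists_twist_of_eqOn_centric hS (model_saturated hM) hQc
    (le_sup_right : Q ≤ R ⊔ Q) (isMor_id (sup_le hR hQS)) hf fun a ha => by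
      have e := hfg ⟨a, hQS ha⟩ ⟨f a, hf.mem (Subgroup.mem_sup_right ha)⟩ (Subgroup.mem_sup_right ha) rfl
      rw [hg _ ha] at e
      exact (congrArg Subtype.val (hReal.1 e)).symm
  obtain ⟨w, -, hwe⟩ := modelCore_cent hM ((ι ⟨z, hQS hzQ⟩)⁻¹ * g) fun a ha => by
    have hs : (a : Ω) ∈ R ⊔ Q := Subgroup.mem_sup_left ha
    have e := hfg a (⟨z, hQS hzQ⟩ * a * ⟨z, hQS hzQ⟩⁻¹) hs (by rw [hze a hs]; rfl)
    rw [map_mul, map_mul, map_inv] at e
    calc (ι ⟨z, hQS hzQ⟩)⁻¹ * g * ι a * ((ι ⟨z, hQS hzQ⟩)⁻¹ * g)⁻¹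
        = (ι ⟨z, hQS hzQ⟩)⁻¹ * (g * ι a * g⁻¹) * ι ⟨z, hQS hzQ⟩ := by group
      _ = ι a := by rw [← e]; group
  have hgr : g = ι (⟨z, hQS hzQ⟩ * w) := by rw [map_mul, hwe, mul_inv_cancel_left]
  refine ⟨_, centralizerIn_le_of_isCentric hQc (mem_centralizerIn.2
    ⟨(⟨z, hQS hzQ⟩ * w : S).2, fun y hy => ?_⟩), hgr.symm⟩
  have e := hg ⟨y, hQS hy⟩ hy
  rw [hgr, ← map_inv, ← map_mul, ← map_mul] at e
  exact (mul_inv_eq_iff_eq_mul.1 (congrArg Subtype.val (hReal.1 e))).symm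

section Average

variable [Finite S] [Finite G] [Fact p.Prime]

omit [Finite S] [Finite G] [Fact p.Prime] in
theorem NormCent.mem_mImg (h : NormCent ι Q) {g : G}
    (hg : g ∈ Subgroup.centralizer (mImg ι Q : Set G)) : g ∈ mImg ι Q := by
  obtain ⟨z, hz, rfl⟩ := h.cent g fun x hx => by
    rw [← Subgroup.mem_centralizer_iff.1 hg _ ⟨x, hx, rfl⟩, mul_inv_cancel_right]
  exact ⟨z, hz, rfl⟩

omit [Finite S] [Finite G] [Fact p.Prime] in
theorem NormCent.conj_mem (h : NormCent ι Q) {m : G}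
    (hm : m ∈ Subgroup.centralizer (mImg ι Q : Set G)) (g : G) :
    g * m * g⁻¹ ∈ Subgroup.centralizer (mImg ι Q : Set G) := by
  refine Subgroup.mem_centralizer_iff.2 ?_
  rintro _ ⟨x, hx, rfl⟩
  obtain ⟨y, hy, he⟩ := h.norm g⁻¹ x hx
  have h2 := Subgroup.mem_centralizer_iff.1 hm (ι y) ⟨y, hy, rfl⟩
  rw [← he, inv_inv] at h2
  calc ι x * (g * m * g⁻¹) = g * (g⁻¹ * ι x * g * m) * g⁻¹ := by group
    _ = g * (m * (g⁻¹ * ι x * g)) * g⁻¹ := by rw [h2]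
    _ = g * m * g⁻¹ * ι x := by group

omit [Finite S] [Finite G] [Fact p.Prime] in
/-- Conjugation on the centre of `ι(Q)`, which is a commutative group of `p`-power order. -/
theorem NormCent.isPGroup_centralizer (h : NormCent ι Q) (hS : IsPGroup p S) :
    IsPGroup p (Subgroup.centralizer (mImg ι Q : Set G)) :=
  ((hS.to_subgroup _).map ι).to_le fun _ hg => h.mem_mImg hg

omit [Finite S] in
theorem not_dvd_index_of_sylow (hT : ∃ T : Sylow p G, (T : Subgroup G) = ι.range) :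
    ¬ p ∣ ι.range.index := by
  obtain ⟨T, hT⟩ := hT
  exact hT ▸ T.not_dvd_index

/-- Rigidity: an automorphism fixing `ι(S)` pointwise is conjugation by a central element of `S`. -/
theorem exists_central_conj (hS : IsPGroup p S) (hi : Function.Injective ι)
    (hT : ∃ T : Sylow p G, (T : Subgroup G) = ι.range) (hn : NormCent ι Q) (hQ : Q ≤ S)
    (ψ : G ≃* G) (hψ : ∀ x : S, ψ (ι x) = ι x) :
    ∃ z : S, z ∈ Subgroup.center S ∧ ∀ g : G, ψ g = ι z * g * (ι z)⁻¹ := by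
  classical
  set M := Subgroup.centralizer (mImg ι Q : Set G)
  have hMc : ∀ a b : M, a * b = b * a := fun a b =>
    Subtype.ext (Subgroup.mem_centralizer_iff.1 b.2 a (hn.mem_mImg a.2))
  letI : CommGroup M := { (inferInstance : Group M) with mul_comm := hMc }
  have hd : ∀ g : G, g⁻¹ * ψ g ∈ M := fun g => Subgroup.mem_centralizer_iff.2 (by
    rintro _ ⟨x, hx, rfl⟩
    obtain ⟨y, -, he⟩ := hn.norm g x hx
    have h1 : ψ g * ι x * (ψ g)⁻¹ = g * ι x * g⁻¹ := by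
      conv_lhs => rw [← hψ x, ← map_inv ψ g, ← map_mul, ← map_mul, he, hψ, ← he]
    calc ι x * (g⁻¹ * ψ g) = g⁻¹ * (g * ι x * g⁻¹) * ψ g := by group
      _ = g⁻¹ * (ψ g * ι x * (ψ g)⁻¹) * ψ g := by rw [h1]
      _ = g⁻¹ * ψ g * ι x := by group)
  let d : G → M := fun g => ⟨g⁻¹ * ψ g, hd g⟩
  have hds : ∀ (s : S) (g : G), d (ι s * g) = d g := fun s g => Subtype.ext (by
    show (ι s * g)⁻¹ * ψ (ι s * g) = g⁻¹ * ψ g
    rw [map_mul, hψ]; group)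
  let E : G ⧸ ι.range → M := Quotient.lift (fun c : G => d c⁻¹) fun a b hab => by
    obtain ⟨s, hs⟩ : a⁻¹ * b ∈ ι.range := QuotientGroup.leftRel_apply.1 hab
    show d a⁻¹ = d b⁻¹
    rw [show b⁻¹ = ι s⁻¹ * a⁻¹ by rw [map_inv, hs]; group, hds]
  let γ : G → M →* M := fun h => MonoidHom.mk'
    (fun m => ⟨h⁻¹ * m * h⁻¹⁻¹, hn.conj_mem m.2 h⁻¹⟩) fun a b => Subtype.ext (by
      show h⁻¹ * ((a : G) * b) * h⁻¹⁻¹ = h⁻¹ * a * h⁻¹⁻¹ * (h⁻¹ * b * h⁻¹⁻¹)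
      group)
  have hstep : ∀ (h : G) (c : G ⧸ ι.range), E (h⁻¹ • c) = γ h (E c) * d h := by
    intro h c
    obtain ⟨a, rfl⟩ := QuotientGroup.mk_surjective c
    refine Subtype.ext ?_
    show (h⁻¹ * a)⁻¹⁻¹ * ψ ((h⁻¹ * a)⁻¹) = h⁻¹ * (a⁻¹⁻¹ * ψ a⁻¹) * h⁻¹⁻¹ * (h⁻¹ * ψ h)
    rw [mul_inv_rev, inv_inv, map_mul]
    group
  letI := Fintype.ofFinite (G ⧸ ι.range)
  let b : M := ∏ c, E c
  have hm : (Nat.card (G ⧸ ι.range)) = ι.range.index := rfl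
  have hb : ∀ h : G, b = γ h b * d h ^ ι.range.index := by
    intro h
    calc b = ∏ c, E (h⁻¹ • c) := (Fintype.prod_equiv (MulAction.toPerm h⁻¹) _ _ fun c => rfl).symm
      _ = ∏ c, (γ h (E c) * d h) := Finset.prod_congr rfl fun c _ => hstep h c
      _ = _ := by rw [Finset.prod_mul_distrib, map_prod, Finset.prod_const, Finset.card_univ,
            ← Nat.card_eq_fintype_card, hm]
  have hbij := ((hn.isPGroup_centralizer hS).powEquiv
    ((Fact.out : p.Prime).coprime_iff_not_dvd.2 (not_dvd_index_of_sylow hT))).bijective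
  obtain ⟨z, hz⟩ := hbij.2 b
  have hz' : z ^ ι.range.index = b := hz
  have hdh : ∀ h, z = γ h z * d h := fun h => hbij.1 (by
    show z ^ ι.range.index = (γ h z * d h) ^ ι.range.index
    rw [mul_pow, ← map_pow, hz']
    exact hb h)
  obtain ⟨w, hw, hwz⟩ := hn.mem_mImg z.2
  have key : ∀ g, ψ g = (ι w)⁻¹ * g * ι w := by
    intro g
    have h1 : (z : G) = g⁻¹ * z * g⁻¹⁻¹ * (g⁻¹ * ψ g) := congrArg Subtype.val (hdh g)
    rw [← hwz] at h1
    rw [inv_inv] at h1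
    calc ψ g = (ι w)⁻¹ * g * (g⁻¹ * ι w * g * (g⁻¹ * ψ g)) := by group
      _ = (ι w)⁻¹ * g * ι w := by rw [← h1]
  refine ⟨w⁻¹, Subgroup.mem_center_iff.2 fun s => hi ?_, fun g => ?_⟩
  · have h2 := key (ι s)
    rw [hψ] at h2
    rw [map_mul, map_mul, map_inv]
    calc ι s * (ι w)⁻¹ = (ι w)⁻¹ * ι s * ι w * (ι w)⁻¹ := by rw [← h2]
      _ = (ι w)⁻¹ * ι s := by group
  · rw [map_inv, inv_inv]
    exact key g

/-- Two realizations with a common self-centralizing normal subgroup are compatibly related. -/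
theorem exists_hom_extending (hS : IsPGroup p S) (h₁ : F.IsRealizedBy ι) (hi₂ : Function.Injective ι₂)
    (h₂ : ∀ (P : Subgroup Ω) (f : Ω → Ω), IsMor F P f →
      ∃ g : G₂, ∀ x y : S, (x : Ω) ∈ P → (y : Ω) = f x → ι₂ y = g * ι₂ x * g⁻¹)
    (hT : ∃ T : Sylow p G, (T : Subgroup G) = ι.range) (hQ : Q ≤ S)
    (hn : NormCent ι Q) (hn₂ : NormCent ι₂ Q) :
    ∃ φ : G →* G₂, Function.Injective φ ∧ ∀ x : S, φ (ι x) = ι₂ x := by
  classical
  -- compatible elements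
  let Compat : G → G₂ → Prop := fun g h => ∀ x y : S, (x : Ω) ∈ Q → g * ι x * g⁻¹ = ι y →
    h * ι₂ x * h⁻¹ = ι₂ y
  letI st : Setoid G :=
    { r := fun g h => ∃ a b : S, h = ι a * g * ι b
      iseqv :=
        { refl := fun g => ⟨1, 1, by simp⟩
          symm := by
            rintro g _ ⟨a, b, rfl⟩
            exact ⟨a⁻¹, b⁻¹, by simp [mul_assoc]⟩
          trans := by
            rintro g _ _ ⟨a, b, rfl⟩ ⟨a', b', rfl⟩
            exact ⟨a' * a, b * b', by simp [mul_assoc]⟩ } }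
  have hex0 : ∀ r : G, ∃ k : G₂, ∀ x y : S, r * ι x * r⁻¹ = ι y → k * ι₂ x * k⁻¹ = ι₂ y := by
    intro r
    let P : Subgroup Ω := (ι.range.comap ((MulAut.conj r).toMonoidHom.comp ι)).map S.subtype
    obtain ⟨f, hf, hfr⟩ := realized_exists_mor h₁ (P := P) (by rintro _ ⟨x, -, rfl⟩; exact x.2) r
      fun x ⟨x', hx', he⟩ => by
        obtain rfl : x' = x := Subtype.ext he
        exact hx'
    obtain ⟨k, hk⟩ := h₂ P f hf
    refine ⟨k, fun x y hxy => ?_⟩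
    have hxP : (x : Ω) ∈ P := ⟨x, ⟨y, hxy.symm⟩, rfl⟩
    refine (hk x y hxP ?_).symm
    have h := hfr x ⟨f x, hf.mem hxP⟩ hxP rfl
    rw [hxy] at h
    exact (congrArg Subtype.val (h₁.1 h)).symm
  choose k₀ hk₀ using hex0
  have hdec : ∀ g : G, ∃ ab : S × S, g = ι ab.1 * (⟦g⟧ : Quotient st).out * ι ab.2 := fun g => by
    obtain ⟨a, b, h⟩ := Quotient.exact (Quotient.out_eq (⟦g⟧ : Quotient st))
    exact ⟨(a, b), h⟩
  choose ab hab using hdec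
  let f₀ : G → G₂ := fun g => ι₂ (ab g).1 * k₀ (⟦g⟧ : Quotient st).out * ι₂ (ab g).2
  have hf₀ : ∀ (a b : S) (g : G), f₀ (ι a * g * ι b) = ι₂ a * f₀ g * ι₂ b := by
    intro a b g
    have he : (⟦ι a * g * ι b⟧ : Quotient st) = ⟦g⟧ :=
      Quotient.sound (st.symm ⟨a, b, rfl⟩)
    have h1 := hab (ι a * g * ι b)
    rw [he] at h1
    conv_lhs at h1 => rw [hab g]
    simp only [f₀, he]
    set r := (⟦g⟧ : Quotient st).out
    set a1 := (ab (ι a * g * ι b)).1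
    set b1 := (ab (ι a * g * ι b)).2
    set a0 := (ab g).1
    set b0 := (ab g).2
    have h2 : r * ι (b0 * b * b1⁻¹) * r⁻¹ = ι ((a * a0)⁻¹ * a1) := by
      simp only [map_mul, map_inv]
      calc r * (ι b0 * ι b * (ι b1)⁻¹) * r⁻¹
          = (ι a * ι a0)⁻¹ * (ι a * (ι a0 * r * ι b0) * ι b) * (ι b1)⁻¹ * r⁻¹ := by group
        _ = (ι a * ι a0)⁻¹ * (ι a1 * r * ι b1) * (ι b1)⁻¹ * r⁻¹ := by rw [h1]
        _ = (ι a * ι a0)⁻¹ * ι a1 := by group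
    have h3 := hk₀ r _ _ h2
    simp only [map_mul, map_inv] at h3
    calc ι₂ a1 * k₀ r * ι₂ b1
        = (ι₂ a * ι₂ a0) * ((ι₂ a * ι₂ a0)⁻¹ * ι₂ a1) * k₀ r * ι₂ b1 := by group
      _ = (ι₂ a * ι₂ a0) * (k₀ r * (ι₂ b0 * ι₂ b * (ι₂ b1)⁻¹) * (k₀ r)⁻¹) * k₀ r * ι₂ b1 := by rw [h3]
      _ = ι₂ a * (ι₂ a0 * k₀ r * ι₂ b0) * ι₂ b := by group
  have hc₀ : ∀ g, Compat g (f₀ g) := by
    intro g x y hx hxy
    have h1 := hab g
    set r := (⟦g⟧ : Quotient st).out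
    set a0 := (ab g).1
    set b0 := (ab g).2
    have h2 : r * ι (b0 * x * b0⁻¹) * r⁻¹ = ι (a0⁻¹ * y * a0) := by
      simp only [map_mul, map_inv]
      rw [h1] at hxy
      rw [← hxy]
      group
    have h3 := hk₀ r _ _ h2
    simp only [map_mul, map_inv] at h3
    show ι₂ a0 * k₀ r * ι₂ b0 * ι₂ x * (ι₂ a0 * k₀ r * ι₂ b0)⁻¹ = ι₂ y
    calc ι₂ a0 * k₀ r * ι₂ b0 * ι₂ x * (ι₂ a0 * k₀ r * ι₂ b0)⁻¹
        = ι₂ a0 * (k₀ r * (ι₂ b0 * ι₂ x * (ι₂ b0)⁻¹) * (k₀ r)⁻¹) * (ι₂ a0)⁻¹ := by group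
      _ = ι₂ y := by rw [h3]; group
  -- normalise at the identity
  let u : G₂ := f₀ 1
  have hu : ∀ s : S, u * ι₂ s = ι₂ s * u := fun s => by
    have e1 := hf₀ 1 s 1
    have e2 := hf₀ s 1 1
    simp only [map_one, mul_one, one_mul] at e1 e2
    exact e1.symm.trans e2
  let f : G → G₂ := fun g => f₀ g * u⁻¹
  have hf1 : f 1 = 1 := mul_inv_cancel _
  have hf : ∀ (a b : S) (g : G), f (ι a * g * ι b) = ι₂ a * f g * ι₂ b := by
    intro a b g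
    show f₀ _ * u⁻¹ = ι₂ a * (f₀ g * u⁻¹) * ι₂ b
    rw [hf₀]
    calc ι₂ a * f₀ g * ι₂ b * u⁻¹ = ι₂ a * f₀ g * u⁻¹ * (u * ι₂ b) * u⁻¹ := by group
      _ = ι₂ a * (f₀ g * u⁻¹) * ι₂ b := by rw [hu b]; group
  have hfl : ∀ (a : S) (g : G), f (ι a * g) = ι₂ a * f g := fun a g => by simpa using hf a 1 g
  have hfs : ∀ s : S, f (ι s) = ι₂ s := fun s => by
    rw [← mul_one (ι s), hfl, hf1, mul_one]
  have hc : ∀ g, Compat g (f g) := by
    intro g x y hx hxy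
    show f₀ g * u⁻¹ * ι₂ x * (f₀ g * u⁻¹)⁻¹ = ι₂ y
    rw [← hc₀ g x y hx hxy]
    calc f₀ g * u⁻¹ * ι₂ x * (f₀ g * u⁻¹)⁻¹ = f₀ g * u⁻¹ * (ι₂ x * u) * (f₀ g)⁻¹ := by group
      _ = f₀ g * ι₂ x * (f₀ g)⁻¹ := by rw [← hu x]; group
  -- the commutative group
  set M := Subgroup.centralizer (mImg ι₂ Q : Set G₂)
  have hMc : ∀ a b : M, a * b = b * a := fun a b =>
    Subtype.ext (Subgroup.mem_centralizer_iff.1 b.2 a (hn₂.mem_mImg a.2))
  letI : CommGroup M := { (inferInstance : Group M) with mul_comm := hMc }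
  have he : ∀ g h : G, f h * (f (g * h))⁻¹ * f g ∈ M := by
    intro g h
    refine Subgroup.mem_centralizer_iff.2 ?_
    rintro _ ⟨x, hx, rfl⟩
    obtain ⟨x₁, hx₁, e1⟩ := hn.norm g x hx
    obtain ⟨x₂, hx₂, e2⟩ := hn.norm (g * h)⁻¹ x₁ hx₁
    have d1 := hc g x x₁ hx e1
    have d2 := hc (g * h) x₂ x₁ hx₂ (by rw [← e2]; group)
    have d3 := hc h x₂ x hx₂ (by rw [← e2, ← e1]; group)
    have hfix : f h * (f (g * h))⁻¹ * f g * ι₂ x * (f h * (f (g * h))⁻¹ * f g)⁻¹ = ι₂ x := by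
      calc f h * (f (g * h))⁻¹ * f g * ι₂ x * (f h * (f (g * h))⁻¹ * f g)⁻¹
          = f h * ((f (g * h))⁻¹ * (f g * ι₂ x * (f g)⁻¹) * f (g * h)) * (f h)⁻¹ := by group
        _ = f h * ι₂ x₂ * (f h)⁻¹ := by rw [d1, ← d2]; group
        _ = ι₂ x := d3
    exact (mul_inv_eq_iff_eq_mul.1 hfix).symm
  let e : G → G → M := fun g h => ⟨_, he g h⟩
  have hel : ∀ (s : S) g h, e (ι s * g) h = e g h := fun s g h => Subtype.ext (by
    show f h * (f (ι s * g * h))⁻¹ * f (ι s * g) = f h * (f (g * h))⁻¹ * f g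
    rw [mul_assoc (ι s), hfl, hfl]
    group)
  let E : G ⧸ ι.range → G → M := fun c h => Quotient.liftOn c (fun c : G => e c⁻¹ h) fun a b hab => by
    obtain ⟨s, hs⟩ : a⁻¹ * b ∈ ι.range := QuotientGroup.leftRel_apply.1 hab
    show e a⁻¹ h = e b⁻¹ h
    rw [show b⁻¹ = ι s⁻¹ * a⁻¹ by rw [map_inv, hs]; group, hel]
  have hC : ∀ h k : G, f h * f k * (f (h * k))⁻¹ ∈ M := fun h k => by
    have := hn₂.conj_mem (he h k) (f h)
    rwa [show f h * (f k * (f (h * k))⁻¹ * f h) * (f h)⁻¹ = f h * f k * (f (h * k))⁻¹ by group] at this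
  let C : G → G → M := fun h k => ⟨_, hC h k⟩
  let γ : G → M →* M := fun h => MonoidHom.mk'
    (fun m => ⟨f h * m * (f h)⁻¹, hn₂.conj_mem m.2 (f h)⟩) fun a b => Subtype.ext (by
      show f h * ((a : G₂) * b) * (f h)⁻¹ = f h * a * (f h)⁻¹ * (f h * b * (f h)⁻¹)
      group)
  have hstep : ∀ (c : G ⧸ ι.range) (h k : G),
      γ h (E (h⁻¹ • c) k) * E c h = C h k * E c (h * k) := by
    intro c h k
    obtain ⟨a, rfl⟩ := QuotientGroup.mk_surjective c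
    refine Subtype.ext ?_
    show f h * (f k * (f ((h⁻¹ * a)⁻¹ * k))⁻¹ * f (h⁻¹ * a)⁻¹) * (f h)⁻¹ *
        (f h * (f (a⁻¹ * h))⁻¹ * f a⁻¹) =
      f h * f k * (f (h * k))⁻¹ * (f (h * k) * (f (a⁻¹ * (h * k)))⁻¹ * f a⁻¹)
    rw [show (h⁻¹ * a)⁻¹ = a⁻¹ * h by group, mul_assoc a⁻¹ h k]
    group
  letI := Fintype.ofFinite (G ⧸ ι.range)
  let b : G → M := fun h => ∏ c, E c h
  have hb : ∀ h k, γ h (b k) * b h = C h k ^ ι.range.index * b (h * k) := by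
    intro h k
    have e1 : ∏ c, γ h (E (h⁻¹ • c) k) = γ h (b k) := by
      rw [map_prod]
      exact Fintype.prod_equiv (MulAction.toPerm h⁻¹) _ _ fun c => rfl
    rw [← e1, ← Finset.prod_mul_distrib, Finset.prod_congr rfl fun c _ => hstep c h k,
      Finset.prod_mul_distrib, Finset.prod_const, Finset.card_univ, ← Nat.card_eq_fintype_card]
    rfl
  have hbij := ((hn₂.isPGroup_centralizer hS).powEquiv
    ((Fact.out : p.Prime).coprime_iff_not_dvd.2 (not_dvd_index_of_sylow hT))).bijective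
  have hroot : ∀ h, ∃ β : M, β ^ ι.range.index = b h := fun h => hbij.2 (b h)
  choose β hβ using hroot
  have hβm : ∀ h k, γ h (β k) * β h = C h k * β (h * k) := fun h k => hbij.1 (by
    show (γ h (β k) * β h) ^ ι.range.index = (C h k * β (h * k)) ^ ι.range.index
    rw [mul_pow, mul_pow, ← map_pow, hβ, hβ, hβ, hb])
  let φ : G →* G₂ := MonoidHom.mk' (fun h => ((β h : M) : G₂)⁻¹ * f h) fun h k => by
    show ((β (h * k) : M) : G₂)⁻¹ * f (h * k) =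
      ((β h : M) : G₂)⁻¹ * f h * (((β k : M) : G₂)⁻¹ * f k)
    have e1 : (β (h * k))⁻¹ = (β h)⁻¹ * (γ h (β k))⁻¹ * C h k := by
      rw [← mul_inv_rev, hβm, mul_inv, mul_comm (C h k)⁻¹, inv_mul_cancel_right]
    have e2 : ((β (h * k) : M) : G₂)⁻¹ = ((β h : M) : G₂)⁻¹ *
        (f h * ((β k : M) : G₂) * (f h)⁻¹)⁻¹ * (f h * f k * (f (h * k))⁻¹) :=
      congrArg Subtype.val e1
    rw [e2]
    group
  have hφι : ∀ x : S, φ (ι x) = ι₂ x := by
    intro s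
    have hbs : b (ι s) = 1 := Finset.prod_eq_one fun c _ => by
      obtain ⟨a, rfl⟩ := QuotientGroup.mk_surjective c
      refine Subtype.ext ?_
      show f (ι s) * (f (a⁻¹ * ι s))⁻¹ * f a⁻¹ = 1
      have := hf 1 s a⁻¹
      rw [map_one, map_one, one_mul, one_mul] at this
      rw [this, hfs]
      group
    have : β (ι s) = 1 := hbij.1 (by
      show β (ι s) ^ ι.range.index = 1 ^ ι.range.index
      rw [hβ, hbs, one_pow])
    show ((β (ι s) : M) : G₂)⁻¹ * f (ι s) = ι₂ s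
    rw [this, hfs, Subgroup.coe_one, inv_one, one_mul]
  refine ⟨φ, (injective_iff_map_eq_one φ).2 fun g hg => ?_, hφι⟩
  obtain ⟨z, -, rfl⟩ := hn.cent g fun x hx => by
    obtain ⟨y, hy, hxy⟩ := hn.norm g x hx
    rw [hxy]
    congr 1
    apply hi₂
    rw [← hφι, ← hφι, ← hxy, map_mul, map_mul, hg, map_inv, hg, inv_one, one_mul, mul_one]
  rw [hφι] at hg
  rw [hi₂ (hg.trans (map_one ι₂).symm), map_one]

/-- Uniqueness of models. -/
theorem model_unique (hS : IsPGroup p S) (h₁ : F.IsModel p G ι) (h₂ : F.IsModel p G₂ ι₂) :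
    ∃ φ : G ≃* G₂, ∀ x : S, φ (ι x) = ι₂ x := by
  have : Finite G₂ := h₂.1
  obtain ⟨-, Q, hQn, hQc⟩ := model_constrained h₁
  have n₁ := normCent_of_model hS h₁ hQn hQc
  have n₂ := normCent_of_model hS h₂ hQn hQc
  obtain ⟨φ, hφ, hφι⟩ := exists_hom_extending hS h₁.2.1 h₂.2.1.1 (fun _ _ => realized_exists_conj h₂.2.1) h₁.2.2.1 hQn.1 n₁ n₂
  obtain ⟨ψ, hψ, -⟩ := exists_hom_extending hS h₂.2.1 h₁.2.1.1 (fun _ _ => realized_exists_conj h₁.2.1) h₂.2.2.1 hQn.1 n₂ n₁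
  exact ⟨MulEquiv.ofBijective φ ((Nat.bijective_iff_injective_and_card φ).2
    ⟨hφ, le_antisymm (Nat.card_le_card_of_injective φ hφ) (Nat.card_le_card_of_injective ψ hψ)⟩), hφι⟩

end Average

end Cfsg.Agent.Fusion
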