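import Mathlib
import Cfsg.Agent.Lib.Fusion.Biset

/-!
Characteristic multiplicities of orbits for a saturated system.
-/

set_option autoImplicit false

namespace Cfsg.Agent.Fusion

open Cfsg Cfsg.FusionSystem

variable {Ω : Type*} [Group Ω] {S : Subgroup Ω} {F : FusionSystem S} {p : ℕ}
  {D E : Subgroup (S × S)}

/-- The conjugacy setoid of subgroups. -/
def conjSetoid (K : Type*) [Group K] : Setoid (Subgroup K) where
  r D E := ∃ k : K, E = D.map (MulAut.conj k).toMonoidHom
  iseqv :=
    { refl := fun D => ⟨1, by ext; simp⟩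
      symm := by
        rintro D _ ⟨k, rfl⟩
        refine ⟨k⁻¹, ?_⟩
        ext x
        simp [Subgroup.mem_map, mul_assoc]
      trans := by
        rintro D _ _ ⟨k, rfl⟩ ⟨l, rfl⟩
        exact ⟨l * k, by rw [Subgroup.map_map]; congr 1; ext x; simp [mul_assoc]⟩ }

/-- A chosen conjugate. -/
noncomputable def conjRep {K : Type*} [Group K] (D : Subgroup K) : Subgroup K :=
  (Quotient.mk (conjSetoid K) D).out

theorem conjRep_spec {K : Type*} [Group K] (D : Subgroup K) :
    ∃ k : K, conjRep D = D.map (MulAut.conj k).toMonoidHom :=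
  (conjSetoid K).symm (Quotient.exact (Quotient.out_eq (Quotient.mk (conjSetoid K) D)))

theorem conjRep_conj {K : Type*} [Group K] (D : Subgroup K) (k : K) :
    conjRep (D.map (MulAut.conj k).toMonoidHom) = conjRep D :=
  congrArg Quotient.out (Quotient.sound ((conjSetoid K).symm ⟨k, rfl⟩))

theorem conjRep_idem {K : Type*} [Group K] (D : Subgroup K) : conjRep (conjRep D) = conjRep D := by
  obtain ⟨k, hk⟩ := conjRep_spec D
  rw [hk, conjRep_conj, hk]

/-- Twisted diagonals of full size. -/
def IsTop (F : FusionSystem S) (D : Subgroup (S × S)) : Prop := TwFam F D ∧ Nat.card D = Nat.card S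

theorem IsTop.prOne_eq [Finite S] (h : IsTop F D) : prOne D = S :=
  eq_of_le_of_card_le' le_rfl prOne_le (by rw [h.1.card_prOne, h.2])

theorem IsTop.exists_auto [Finite S] (h : IsTop F D) :
    ∃ α ∈ F.autGroup S, ∀ z : S × S, z ∈ D ↔ (z.2 : Ω) = autFun α z.1 := by
  obtain ⟨f, hf, hfz⟩ := h.1
  have hm : IsMor F S f := by rwa [h.prOne_eq] at hf
  have hi := hm.isIso_self fun x hx => hm.mem hx
  refine ⟨autOf hi, autOf_mem hi, fun z => ⟨fun hz => ?_, fun hz => ?_⟩⟩
  · rw [hfz z hz, autFun_apply _ z.1.2, autOf_apply]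
  · have hx : (z.1 : Ω) ∈ prOne D := h.prOne_eq.symm ▸ z.1.2
    obtain ⟨w, hw, hwx⟩ := mem_prOne.1 hx
    rw [autFun_apply _ z.1.2, autOf_apply, ← hwx, ← hfz w hw] at hz
    rwa [show z = w from Prod.ext (Subtype.ext hwx.symm) (Subtype.ext hz)]

/-- The graph of an automorphism of `S`. -/
def autGraph (α : MulAut S) : Subgroup (S × S) :=
  MonoidHom.range ((MonoidHom.id S).prod α.toMonoidHom)

theorem mem_autGraph {α : MulAut S} {z : S × S} : z ∈ autGraph α ↔ z.2 = α z.1 :=
  ⟨fun ⟨_, hx⟩ => hx ▸ rfl, fun h => ⟨z.1, Prod.ext rfl h.symm⟩⟩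

theorem isTop_autGraph [Finite S] {α : MulAut S} (hα : α ∈ F.autGroup S) : IsTop F (autGraph α) := by
  refine ⟨⟨autFun α, (isMor_of_mem_autGroup le_rfl hα).restrict prOne_le, fun z hz => ?_⟩, ?_⟩
  · rw [autFun_coe, mem_autGraph.1 hz]
  · exact (Nat.card_congr (MonoidHom.ofInjective (f := (MonoidHom.id S).prod α.toMonoidHom)
      fun a b h => congrArg Prod.fst h).toEquiv).symm

theorem autGraph_conj (α : MulAut S) (a b : S) :
    (autGraph α).map (MulAut.conj ((a, b) : S × S)).toMonoidHom =
      autGraph (MulAut.conj b * α * (MulAut.conj a)⁻¹) := by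
  ext z
  constructor
  · rintro ⟨w, hw, rfl⟩
    refine mem_autGraph.2 ?_
    show b * w.2 * b⁻¹ = MulAut.conj b (α ((MulAut.conj a).symm (MulAut.conj a w.1)))
    rw [MulEquiv.symm_apply_apply, mem_autGraph.1 hw]
    rfl
  · intro hz
    refine ⟨((MulAut.conj a)⁻¹ z.1, α ((MulAut.conj a)⁻¹ z.1)), mem_autGraph.2 rfl, Prod.ext ?_ ?_⟩
    · show MulAut.conj a ((MulAut.conj a)⁻¹ z.1) = z.1
      rw [MulAut.apply_inv_self]
    · rw [mem_autGraph.1 hz]
      rfl

theorem IsTop.markOne_self [Finite S] (h : IsTop F D) :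
    markOne D D = Nat.card (Subgroup.center S) := by
  rw [Fusion.markOne_self]
  obtain ⟨α, -, hD⟩ := h.exists_auto
  have hgraph : D = autGraph α := Subgroup.ext fun z => by
    rw [hD, mem_autGraph, autFun_coe, Subtype.ext_iff]
  subst hgraph
  set N := Subgroup.normalizer (autGraph α : Set (S × S))
  have hN : ∀ z : S × S, z ∈ N ↔ (α z.1)⁻¹ * z.2 ∈ Subgroup.center S := by
    intro z
    constructor
    · intro hz
      refine Subgroup.mem_center_iff.2 fun y => ?_
      obtain ⟨x, rfl⟩ := α.surjective y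
      have := (Subgroup.mem_normalizer_iff.1 hz (x, α x)).1 (mem_autGraph.2 rfl)
      have h1 : z.2 * α x * z.2⁻¹ = α (z.1 * x * z.1⁻¹) := mem_autGraph.1 this
      rw [map_mul, map_mul, map_inv] at h1
      have h2 : z.2 * α x = α z.1 * α x * (α z.1)⁻¹ * z.2 := by
        rw [← h1]; group
      calc α x * ((α z.1)⁻¹ * z.2) = (α z.1)⁻¹ * (α z.1 * α x * (α z.1)⁻¹ * z.2) := by group
        _ = (α z.1)⁻¹ * (z.2 * α x) := by rw [h2]
        _ = (α z.1)⁻¹ * z.2 * α x := by group
    · intro hc
      set c := (α z.1)⁻¹ * z.2 with hcdef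
      have hz2 : z.2 = α z.1 * c := by rw [hcdef]; group
      refine Subgroup.mem_normalizer_iff.2 fun w => ?_
      rw [mem_autGraph, mem_autGraph]
      show w.2 = α w.1 ↔ z.2 * w.2 * z.2⁻¹ = α (z.1 * w.1 * z.1⁻¹)
      rw [map_mul, map_mul, map_inv, hz2]
      have hcomm : α z.1 * c * w.2 * (α z.1 * c)⁻¹ = α z.1 * w.2 * (α z.1)⁻¹ := by
        rw [mul_assoc (α z.1) c w.2, ← Subgroup.mem_center_iff.1 hc w.2]
        group
      rw [hcomm]
      simp
  let e : N ≃ autGraph α × Subgroup.center S :=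
    { toFun := fun z => (⟨((z : S × S).1, α (z : S × S).1), mem_autGraph.2 rfl⟩, ⟨_, (hN z).1 z.2⟩)
      invFun := fun q => ⟨((q.1 : S × S).1, α (q.1 : S × S).1 * q.2), (hN _).2 (by simp)⟩
      left_inv := fun z => by
        refine Subtype.ext (Prod.ext rfl ?_)
        show α (z : S × S).1 * ((α (z : S × S).1)⁻¹ * (z : S × S).2) = _
        rw [mul_inv_cancel_left]
      right_inv := fun q => by
        refine Prod.ext (Subtype.ext (Prod.ext rfl ?_)) (Subtype.ext ?_)
        · exact (mem_autGraph.1 q.1.2).symm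
        · show (α (q.1 : S × S).1)⁻¹ * (α (q.1 : S × S).1 * q.2) = _
          rw [inv_mul_cancel_left] }
  have h1 := Subgroup.card_mul_index ((autGraph α).subgroupOf N)
  rw [Nat.card_congr (Subgroup.subgroupOfEquivOfLe (Subgroup.le_normalizer : autGraph α ≤ N)).toEquiv,
    Nat.card_congr e, Nat.card_prod] at h1
  exact Nat.eq_of_mul_eq_mul_left Nat.card_pos h1

theorem card_eq_card_S_of_le [Finite S] (h : TwFam F D) (hle : Nat.card S ≤ Nat.card D) : IsTop F D :=
  ⟨h, le_antisymm (h.card_prOne ▸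
    Nat.card_le_card_of_injective (Subgroup.inclusion prOne_le) (Subgroup.inclusion_injective _)) hle⟩

/-- Characteristic multiplicities, with the marks of the subgroups of full size. -/
theorem exists_characteristic' [Finite S] [Fact p.Prime] (hS : IsPGroup p S) (hF : F.IsSaturated p) :
    ∃ c : Subgroup (S × S) → ℕ, (∀ D, c D ≠ 0 → TwFam F D) ∧
      (∀ D E, TwRel F D E → mark c D = mark c E) ∧
      (∀ E, IsTop F E → mark c E = Nat.card (Subgroup.center S)) ∧
      ∃ m, ¬ p ∣ m ∧ Nat.card (Σ i : Σ D : Subgroup (S × S), Fin (c D), (S × S) ⧸ i.1) = m * Nat.card S := by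
  classical
  letI := Fintype.ofFinite (Subgroup (S × S))
  let c₀ : Subgroup (S × S) → ℕ := fun D => if IsTop F D ∧ conjRep D = D then 1 else 0
  have hc₀ : ∀ D, c₀ D ≠ 0 → TwFam F D := fun D hD => by
    simp only [c₀] at hD
    split_ifs at hD with h
    · exact h.1.1
    · exact absurd rfl hD
  have hrep : ∀ D, IsTop F D → IsTop F (conjRep D) := fun D hD => by
    obtain ⟨k, hk⟩ := conjRep_spec D
    exact ⟨((hD.1.conj k).symm.1 : TwFam F _) |> fun h => hk ▸ h, by rw [hk, ← (hD.1.conj k).card, hD.2]⟩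
  have hmark : ∀ E, IsTop F E → mark c₀ E = Nat.card (Subgroup.center S) := by
    intro E hE
    obtain ⟨k, hk⟩ := conjRep_spec E
    unfold mark
    rw [Finset.sum_eq_single (conjRep E)]
    · simp only [c₀]
      rw [if_pos ⟨hrep E hE, conjRep_idem E⟩, one_mul, ← (hrep E hE).markOne_self]
      conv_rhs => arg 2; rw [hk]
      rw [markOne_conj_left]
    · intro D _ hne
      by_contra h0
      obtain ⟨hd, hm⟩ := mul_ne_zero_iff.1 h0
      simp only [c₀] at hd
      split_ifs at hd with h
      · obtain ⟨l, hl⟩ := exists_conj_le_of_markOne hm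
        apply hne
        have hl' : D = E.map (MulAut.conj l⁻¹).toMonoidHom := by
          refine (Subgroup.eq_of_le_of_card_ge ?_ ?_).symm
          · rintro _ ⟨e, he, rfl⟩
            simpa using hl e he
          · rw [h.1.2, ← hE.2]
            exact (Nat.card_congr (E.equivMapOfInjective _ (MulAut.conj l⁻¹).injective).toEquiv).le
        rw [← h.2, hl', conjRep_conj]
      · exact hd rfl
    · exact fun h0 => absurd (Finset.mem_univ _) h0
  have hst : StableFrom (twStable hS hF) c₀ (Nat.card S) := fun D E hn (hr : TwRel F D E) => by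
    have hDt := card_eq_card_S_of_le hr.1 hn
    rw [hmark D hDt, hmark E ⟨hr.symm.1, hr.card ▸ hDt.2⟩]
  obtain ⟨c, hstab, hc, hlt⟩ := exists_stable (twStable hS hF) hc₀ hst
  refine ⟨c, hc, fun D E h => hstab D E (Nat.zero_le _) h, fun E hE => ?_, ?_⟩
  · rw [← hmark E hE]
    refine Finset.sum_congr rfl fun D _ => ?_
    by_cases he : c D = c₀ D
    · rw [he]
    · have h0 : markOne D E = 0 := by
        by_contra h
        exact absurd (card_le_of_markOne h) (not_le.2 (hE.2.symm ▸ hlt D he))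
      rw [h0, mul_zero, mul_zero]
  -- counting
  have hA := finite_autGroup (F := F) (le_refl S)
  let I := (Inn (S : Subgroup Ω)).subgroupOf (F.autGroup S)
  have hIn : I.Normal := inferInstance
  let T := {D : Subgroup (S × S) // IsTop F D ∧ conjRep D = D}
  have hinnmem : ∀ b : S, MulAut.conj b ∈ Inn (S : Subgroup Ω) := fun b => ⟨b, rfl⟩
  have hTcard : Nat.card T = I.index := by
    let g : T → F.autGroup S ⧸ I := fun D =>
      QuotientGroup.mk ⟨_, D.2.1.exists_auto.choose_spec.1⟩
    refine (Nat.card_congr (Equiv.ofBijective g ⟨?_, ?_⟩)).trans rfl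
    · rintro ⟨D, hD, hDr⟩ ⟨E, hE, hEr⟩ hde
      obtain ⟨-, hD2⟩ := hD.exists_auto.choose_spec
      obtain ⟨-, hE2⟩ := hE.exists_auto.choose_spec
      set α := hD.exists_auto.choose
      set β := hE.exists_auto.choose
      have h1 := QuotientGroup.eq.1 hde
      obtain ⟨s, hs⟩ : α⁻¹ * β ∈ Inn (S : Subgroup Ω) := h1
      have hDg : D = autGraph α := Subgroup.ext fun z => by
        rw [hD2, mem_autGraph, autFun_coe, Subtype.ext_iff]
      have hEg : E = autGraph β := Subgroup.ext fun z => by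
        rw [hE2, mem_autGraph, autFun_coe, Subtype.ext_iff]
      have : E = D.map (MulAut.conj ((s⁻¹, 1) : S × S)).toMonoidHom := by
        rw [hDg, autGraph_conj, hEg, map_one, one_mul, map_inv, inv_inv]
        congr 1
        rw [show MulAut.conj s = α⁻¹ * β from hs, mul_inv_cancel_left]
      apply Subtype.ext
      show D = E
      calc D = conjRep D := hDr.symm
        _ = conjRep E := by rw [this, conjRep_conj]
        _ = E := hEr
    · intro q
      obtain ⟨⟨α, hα⟩, rfl⟩ := QuotientGroup.mk_surjective q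
      have ht := isTop_autGraph (F := F) hα
      obtain ⟨k, hk⟩ := conjRep_spec (autGraph α)
      obtain ⟨a, b⟩ := k
      refine ⟨⟨conjRep (autGraph α), hrep _ ht, conjRep_idem _⟩, ?_⟩
      obtain ⟨-, hspec⟩ := (hrep _ ht).exists_auto.choose_spec
      set β := (hrep _ ht).exists_auto.choose
      have hβ : β = MulAut.conj b * α * (MulAut.conj a)⁻¹ := by
        refine MulEquiv.ext fun x => Subtype.ext ?_
        have hm : ((x, (MulAut.conj b * α * (MulAut.conj a)⁻¹) x) : S × S) ∈ conjRep (autGraph α) := by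
          rw [hk, autGraph_conj]
          exact mem_autGraph.2 rfl
        have := (hspec _).1 hm
        rw [autFun_coe] at this
        exact this.symm
      refine QuotientGroup.eq.2 ?_
      show β⁻¹ * α ∈ Inn (S : Subgroup Ω)
      have e : β⁻¹ * α = MulAut.conj a * (α⁻¹ * (MulAut.conj b)⁻¹ * α) := by rw [hβ]; group
      rw [e]
      refine mul_mem (hinnmem a) ?_
      refine ⟨(α⁻¹ : MulAut S) b⁻¹, MulEquiv.ext fun x => ?_⟩
      show (α⁻¹ : MulAut S) b⁻¹ * x * ((α⁻¹ : MulAut S) b⁻¹)⁻¹ = α.symm ((MulAut.conj b).symm (α x))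
      apply α.injective
      simp
  have hidx : ¬ p ∣ I.index := by
    have hfn : F.IsFullyNormalized S := ⟨le_rfl, fun R _ => by
      have := finite_of_le (normalizerIn_le : normalizerIn S S ≤ S)
      exact Nat.card_le_card_of_injective
        (Subgroup.inclusion (normalizerIn_le.trans (le_normalizerIn le_rfl))) (Subgroup.inclusion_injective _)⟩
    obtain ⟨Sy, hSy⟩ := (fullyNormalized_receptive hS hF hfn).1.2
    have : I = (Sy : Subgroup (F.autGroup S)) := by
      rw [hSy]
      refine congrArg (fun H : Subgroup (MulAut S) => H.subgroupOf (F.autGroup S))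
        (le_antisymm (inn_le_autInducedBy le_rfl) fun α hα => ?_)
      obtain ⟨a, ha, -, hax⟩ := mem_autInducedBy.1 hα
      exact ⟨⟨a, ha⟩, MulEquiv.ext fun x => Subtype.ext (hax x).symm⟩
    rw [this]
    exact Sy.not_dvd_index
  have hpow : ∀ D : Subgroup (S × S), Nat.card D < Nat.card S → p * Nat.card S ∣ D.index := by
    intro D hD
    obtain ⟨n, hn⟩ := IsPGroup.iff_card.1 hS
    have hmul := D.card_mul_index
    rw [Nat.card_prod, hn, ← pow_add] at hmul
    rw [hn] at hD ⊢
    obtain ⟨i, hi, hi'⟩ := (Nat.dvd_prime_pow (Fact.out : p.Prime)).1 (Dvd.intro _ hmul)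
    rw [hi'] at hD hmul
    have hin : i < n := (Nat.pow_lt_pow_iff_right (Fact.out : p.Prime).one_lt).1 hD
    have he : D.index = p ^ (n + n - i) := by
      refine Nat.eq_of_mul_eq_mul_left (pow_pos (Fact.out : p.Prime).pos i) ?_
      rw [hmul, ← pow_add]
      congr 1
      omega
    rw [he, ← pow_succ']
    exact pow_dvd_pow p (by omega)
  -- the small orbits contribute multiples of `p * |S|`
  have hsplit : ∀ D : Subgroup (S × S), ∃ t, c D * D.index =
      (if IsTop F D ∧ conjRep D = D then Nat.card S else 0) + p * Nat.card S * t := by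
    intro D
    by_cases he : c D = c₀ D
    · refine ⟨0, ?_⟩
      rw [he, mul_zero, add_zero]
      simp only [c₀]
      split_ifs with h
      · have hmul := D.card_mul_index
        rw [h.1.2, Nat.card_prod] at hmul
        rw [one_mul]
        exact Nat.eq_of_mul_eq_mul_left Nat.card_pos hmul
      · rw [zero_mul]
    · obtain ⟨u, hu⟩ := hpow D (hlt D he)
      refine ⟨c D * u, ?_⟩
      rw [if_neg fun h => absurd h.1.2 (hlt D he).ne, zero_add, hu]
      ring
  choose t ht using hsplit
  refine ⟨I.index + p * ∑ D, t D, fun hd => hidx ((Nat.dvd_add_left (dvd_mul_right p _)).1 hd), ?_⟩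
  have hX : Nat.card (Σ i : Σ D : Subgroup (S × S), Fin (c D), (S × S) ⧸ i.1) = ∑ D, c D * D.index := by
    rw [Nat.card_sigma, Fintype.sum_sigma]
    refine Finset.sum_congr rfl fun D _ => ?_
    show (∑ _y : Fin (c D), D.index) = _
    rw [Finset.sum_const, Finset.card_univ, Fintype.card_fin, smul_eq_mul]
  rw [hX]
  rw [Finset.sum_congr rfl fun D _ => ht D, Finset.sum_add_distrib, ← Finset.mul_sum, ← Finset.sum_filter,
    Finset.sum_const, smul_eq_mul, ← hTcard, add_mul]
  congr 1
  · congr 1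
    rw [Nat.card_eq_fintype_card]
    exact (Fintype.card_subtype _).symm
  · ring

/-- Characteristic multiplicities. -/
theorem exists_characteristic [Finite S] [Fact p.Prime] (hS : IsPGroup p S) (hF : F.IsSaturated p) :
    ∃ c : Subgroup (S × S) → ℕ, (∀ D, c D ≠ 0 → TwFam F D) ∧
      (∀ D E, TwRel F D E → mark c D = mark c E) ∧
      ∃ m, ¬ p ∣ m ∧ Nat.card (Σ i : Σ D : Subgroup (S × S), Fin (c D), (S × S) ⧸ i.1) = m * Nat.card S := by
  obtain ⟨c, h1, h2, -, h3⟩ := exists_characteristic' hS hF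
  exact ⟨c, h1, h2, h3⟩

end Cfsg.Agent.Fusion
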