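import Mathlib
import Cfsg.Agent.Lib.Fusion.Characteristic
import Cfsg.Agent.Lib.Fusion.NormalCriteria

/-!
The transfer of a saturated fusion system.
-/

set_option autoImplicit false

namespace Cfsg.Agent.Fusion

open Cfsg Cfsg.FusionSystem

/-! ### Marks determine a finite action -/

section Marks

variable {G : Type*} [Group G] [Finite G]

/-- Number of fixed points of a subgroup. -/
noncomputable def numFixed (X : Type*) [MulAction G X] (L : Subgroup G) : ℕ :=
  Nat.card {x : X // ∀ l ∈ L, l • x = x}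

theorem exists_max_fixed (X : Type*) [MulAction G X] [Finite X] [Nonempty X] :
    ∃ L : Subgroup G, 0 < numFixed X L ∧ ∀ L' : Subgroup G, L < L' → numFixed X L' = 0 := by
  obtain ⟨x₀⟩ := ‹Nonempty X›
  obtain ⟨L, hL, hmax⟩ := Set.Finite.exists_maximalFor (fun L : Subgroup G => Nat.card L)
    {L | 0 < numFixed X L} (Set.toFinite _) ⟨⊥, Nat.card_pos_iff.2 ⟨⟨⟨x₀, fun l hl => by
      rw [Subgroup.mem_bot.1 hl, one_smul]⟩⟩, inferInstance⟩⟩
  refine ⟨L, hL, fun L' hlt => ?_⟩
  by_contra h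
  have h1 := hmax (Nat.pos_of_ne_zero h : L' ∈ {L | 0 < numFixed X L})
    (Nat.card_le_card_of_injective (Subgroup.inclusion hlt.le) (Subgroup.inclusion_injective _))
  exact hlt.ne (Subgroup.eq_of_le_of_card_ge hlt.le h1)

theorem numFixed_split (X : Type*) [MulAction G X] [Finite X] (O : Set X) (L : Subgroup G) :
    numFixed X L = Nat.card {x : O // ∀ l ∈ L, l • (x : X) = x} +
      Nat.card {x : (Oᶜ : Set X) // ∀ l ∈ L, l • (x : X) = x} := by
  classical
  rw [numFixed, ← Nat.card_sum]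
  refine Nat.card_congr ((Equiv.sumCompl fun x : {x : X // ∀ l ∈ L, l • x = x} => (x : X) ∈ O).symm.trans
    (Equiv.sumCongr ?_ ?_))
  · exact (Equiv.subtypeSubtypeEquivSubtypeInter _ _).trans ((Equiv.subtypeEquivRight fun x => And.comm).trans
      (Equiv.subtypeSubtypeEquivSubtypeInter (fun x => x ∈ O) fun x => ∀ l ∈ L, l • x = x).symm)
  · exact (Equiv.subtypeSubtypeEquivSubtypeInter _ fun x => x ∉ O).trans
      ((Equiv.subtypeEquivRight fun x => And.comm).trans
        (Equiv.subtypeSubtypeEquivSubtypeInter (fun x => x ∉ O) fun x => ∀ l ∈ L, l • x = x).symm)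

theorem exists_equivariant_of_numFixed : ∀ (n : ℕ) {X Y : Type*} [MulAction G X] [MulAction G Y]
    [Finite X] [Finite Y], Nat.card X = n → (∀ L : Subgroup G, numFixed X L = numFixed Y L) →
    ∃ e : X ≃ Y, ∀ (g : G) (x : X), e (g • x) = g • e x := by
  intro n
  induction n using Nat.strong_induction_on with
  | _ n ih =>
  intro X Y _ _ _ _ hn hfix
  rcases isEmpty_or_nonempty X with hX | hX
  · have : IsEmpty Y := by
      by_contra hY
      rw [not_isEmpty_iff] at hY
      obtain ⟨y⟩ := hY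
      have h := hfix ⊥
      have h0 : numFixed X (⊥ : Subgroup G) = 0 := Nat.card_of_isEmpty
      rw [h0] at h
      have : Nonempty {y : Y // ∀ l ∈ (⊥ : Subgroup G), l • y = y} :=
        ⟨⟨y, fun l hl => by rw [Subgroup.mem_bot.1 hl, one_smul]⟩⟩
      exact Nat.card_pos.ne' h.symm
    exact ⟨Equiv.equivOfIsEmpty X Y, fun g x => isEmptyElim x⟩
  obtain ⟨L, hL, hmax⟩ := exists_max_fixed (G := G) X
  obtain ⟨⟨x, hx⟩⟩ := (Nat.card_pos_iff.1 hL).1
  obtain ⟨⟨y, hy⟩⟩ := (Nat.card_pos_iff.1 ((hfix L) ▸ hL)).1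
  have hsx : MulAction.stabilizer G x = L := by
    refine eq_of_le_of_not_lt (fun l hl => hx l hl) ?_ |>.symm
    intro hlt
    have h := hmax _ hlt
    have : Nonempty {z : X // ∀ l ∈ MulAction.stabilizer G x, l • z = z} := ⟨⟨x, fun l hl => hl⟩⟩
    exact Nat.card_pos.ne' h
  have hsy : MulAction.stabilizer G y = L := by
    refine eq_of_le_of_not_lt (fun l hl => hy l hl) ?_ |>.symm
    intro hlt
    have h := (hfix _).symm.trans (hmax _ hlt)
    have : Nonempty {z : Y // ∀ l ∈ MulAction.stabilizer G y, l • z = z} := ⟨⟨y, fun l hl => hl⟩⟩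
    exact Nat.card_pos.ne' h
  let OX := MulAction.orbit G x
  let OY := MulAction.orbit G y
  let eO : OX ≃ OY := (MulAction.orbitEquivQuotientStabilizer G x).trans
    ((Subgroup.quotientEquivOfEq (hsx.trans hsy.symm)).trans (MulAction.orbitEquivQuotientStabilizer G y).symm)
  have heO : ∀ (g : G), (eO ⟨g • x, ⟨g, rfl⟩⟩ : Y) = g • y := by
    intro g
    have h1 : MulAction.orbitEquivQuotientStabilizer G x ⟨g • x, ⟨g, rfl⟩⟩ =
        ((g : G) : G ⧸ MulAction.stabilizer G x) := by
      rw [← Equiv.eq_symm_apply]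
      exact Subtype.ext (MulAction.orbitEquivQuotientStabilizer_symm_apply G x g).symm
    simp only [eO, Equiv.trans_apply, h1]
    exact MulAction.orbitEquivQuotientStabilizer_symm_apply G y g
  have heO' : ∀ (g : G) (z : OX), (eO ⟨g • (z : X), MulAction.mem_orbit_of_mem_orbit g z.2⟩ : Y) =
      g • (eO z : Y) := by
    rintro g ⟨_, g', rfl⟩
    have e1 : (⟨g • g' • x, MulAction.mem_orbit_of_mem_orbit g ⟨g', rfl⟩⟩ : OX) = ⟨(g * g') • x, ⟨g * g', rfl⟩⟩ :=
      Subtype.ext (mul_smul g g' x).symm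
    rw [e1, heO, mul_smul, ← heO g']
  have hcX : ∀ (g : G) (z : X), z ∈ OXᶜ → g • z ∈ OXᶜ := fun g z hz hgz => hz (by
    have := MulAction.mem_orbit_of_mem_orbit g⁻¹ hgz
    rwa [inv_smul_smul] at this)
  have hcY : ∀ (g : G) (z : Y), z ∈ OYᶜ → g • z ∈ OYᶜ := fun g z hz hgz => hz (by
    have := MulAction.mem_orbit_of_mem_orbit g⁻¹ hgz
    rwa [inv_smul_smul] at this)
  let _ : MulAction G (OXᶜ : Set X) :=
    { smul := fun g z => ⟨g • (z : X), hcX g z z.2⟩
      one_smul := fun z => Subtype.ext (one_smul G (z : X))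
      mul_smul := fun g h z => Subtype.ext (mul_smul g h (z : X)) }
  let _ : MulAction G (OYᶜ : Set Y) :=
    { smul := fun g z => ⟨g • (z : Y), hcY g z z.2⟩
      one_smul := fun z => Subtype.ext (one_smul G (z : Y))
      mul_smul := fun g h z => Subtype.ext (mul_smul g h (z : Y)) }
  have hlt : Nat.card (OXᶜ : Set X) < n := by
    rw [← hn]
    exact Finite.card_subtype_lt (p := fun z => z ∈ OXᶜ) fun h => h (MulAction.mem_orbit_self x)
  have hfix' : ∀ L' : Subgroup G, numFixed (OXᶜ : Set X) L' = numFixed (OYᶜ : Set Y) L' := by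
    intro L'
    have h := hfix L'
    rw [numFixed_split X OX, numFixed_split Y OY] at h
    have he : Nat.card {z : OX // ∀ l ∈ L', l • (z : X) = z} = Nat.card {z : OY // ∀ l ∈ L', l • (z : Y) = z} := by
      refine Nat.card_congr (eO.subtypeEquiv fun z => ⟨fun hz l hl => ?_, fun hz l hl => ?_⟩)
      · rw [← heO' l z]
        congr 2
        exact Subtype.ext (hz l hl)
      · have h1 := hz l hl
        rw [← heO' l z] at h1
        exact congrArg Subtype.val (eO.injective (Subtype.ext h1))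
    have h2 : Nat.card {z : (OXᶜ : Set X) // ∀ l ∈ L', l • (z : X) = z} =
        Nat.card {z : (OYᶜ : Set Y) // ∀ l ∈ L', l • (z : Y) = z} := by omega
    have hXeq : numFixed (OXᶜ : Set X) L' = Nat.card {z : (OXᶜ : Set X) // ∀ l ∈ L', l • (z : X) = z} :=
      Nat.card_congr (Equiv.subtypeEquivRight fun z => forall₂_congr fun l _ => Subtype.ext_iff)
    have hYeq : numFixed (OYᶜ : Set Y) L' = Nat.card {z : (OYᶜ : Set Y) // ∀ l ∈ L', l • (z : Y) = z} :=
      Nat.card_congr (Equiv.subtypeEquivRight fun z => forall₂_congr fun l _ => Subtype.ext_iff)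
    rw [hXeq, hYeq, h2]
  obtain ⟨e, he⟩ := ih _ hlt rfl hfix'
  classical
  refine ⟨(Equiv.sumCompl fun z => z ∈ OX).symm.trans ((Equiv.sumCongr eO e).trans
    (Equiv.sumCompl fun z => z ∈ OY)), fun g z => ?_⟩
  by_cases hz : z ∈ OX
  · rw [Equiv.trans_apply, Equiv.trans_apply, Equiv.trans_apply, Equiv.trans_apply,
      Equiv.sumCompl_symm_apply_of_pos hz, Equiv.sumCompl_symm_apply_of_pos (MulAction.mem_orbit_of_mem_orbit g hz)]
    exact heO' g ⟨z, hz⟩
  · rw [Equiv.trans_apply, Equiv.trans_apply, Equiv.trans_apply, Equiv.trans_apply,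
      Equiv.sumCompl_symm_apply_of_neg hz, Equiv.sumCompl_symm_apply_of_neg (hcX g z hz)]
    exact congrArg Subtype.val (he g ⟨z, hz⟩)

end Marks

/-- A product over the cycles of a permutation. -/
theorem prod_eq_pow_card_of_cycles {O A : Type*} [CommGroup A] (π : Equiv.Perm O) (g : O → A) (a : A)
    (h : ∀ (o : O) (l : ℕ), (π ^ l) o = o → ∏ i ∈ Finset.range l, g ((π ^ i) o) = a ^ l)
    (hfin : ∀ o : O, ∃ l, 0 < l ∧ (π ^ l) o = o) (s : Finset O) (hs : ∀ o ∈ s, π o ∈ s) :
    ∏ o ∈ s, g o = a ^ s.card := by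
  classical
  induction hn : s.card using Nat.strong_induction_on generalizing s with
  | _ n ih =>
  subst hn
  rcases s.eq_empty_or_nonempty with rfl | ⟨o, ho⟩
  · simp
  have hfo := hfin o
  let l := Nat.find hfo
  obtain ⟨hl, hlo⟩ : 0 < l ∧ (π ^ l) o = o := Nat.find_spec hfo
  let C := (Finset.range l).image fun i => (π ^ i) o
  have hCs : C ⊆ s := by
    intro z hz
    obtain ⟨i, -, rfl⟩ := Finset.mem_image.1 hz
    clear hz
    induction i with
    | zero => simpa using ho
    | succ i ihi => rw [pow_succ', Equiv.Perm.mul_apply]; exact hs _ ihi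
  have hinj : Set.InjOn (fun i => (π ^ i) o) (Finset.range l : Set ℕ) := by
    intro i hi j hj hij
    simp only [Finset.coe_range, Set.mem_Iio] at hi hj
    by_contra hne
    rcases Nat.lt_or_lt_of_ne hne with hlt | hlt
    · refine (Nat.find_min hfo (show j - i < l by omega)) ⟨by omega, ?_⟩
      apply (π ^ i).injective
      rw [← Equiv.Perm.mul_apply, ← pow_add, show i + (j - i) = j by omega]
      exact hij.symm
    · refine (Nat.find_min hfo (show i - j < l by omega)) ⟨by omega, ?_⟩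
      apply (π ^ j).injective
      rw [← Equiv.Perm.mul_apply, ← pow_add, show j + (i - j) = i by omega]
      exact hij
  have hC : ∏ z ∈ C, g z = a ^ C.card := by
    rw [Finset.prod_image hinj, Finset.card_image_of_injOn hinj, Finset.card_range, h o l hlo]
  have hCπ : ∀ z, π z ∈ C → z ∈ C := by
    intro z hz
    obtain ⟨i, hi, hiz⟩ := Finset.mem_image.1 hz
    rw [Finset.mem_range] at hi
    rcases Nat.eq_zero_or_pos i with h0 | h0
    · refine Finset.mem_image.2 ⟨l - 1, Finset.mem_range.2 (by omega), π.injective ?_⟩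
      rw [← Equiv.Perm.mul_apply, ← pow_succ', show l - 1 + 1 = l by omega, hlo, ← hiz, h0]
      rfl
    · refine Finset.mem_image.2 ⟨i - 1, Finset.mem_range.2 (by omega), π.injective ?_⟩
      rw [← Equiv.Perm.mul_apply, ← pow_succ', show i - 1 + 1 = i by omega, hiz]
  have hlt : (s \ C).card < s.card := Finset.card_lt_card (Finset.sdiff_ssubset hCs
    ⟨o, Finset.mem_image.2 ⟨0, Finset.mem_range.2 hl, rfl⟩⟩)
  rw [← Finset.prod_sdiff hCs, hC, ih _ hlt (s \ C) (fun z hz => Finset.mem_sdiff.2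
    ⟨hs z (Finset.mem_sdiff.1 hz).1, fun h' => (Finset.mem_sdiff.1 hz).2 (hCπ z h')⟩) rfl, ← pow_add,
    Finset.card_sdiff_add_card_eq_card hCs]

/-! ### The transfer -/

universe v

variable {Ω : Type v} [Group Ω] {S : Subgroup Ω} [Finite S] {F : FusionSystem S} {p : ℕ} [Fact p.Prime]

theorem exists_biset' (hS : IsPGroup p S) (hF : F.IsSaturated p) :
    ∃ (X : Type v) (_ : Finite X) (_ : MulAction (S × S) X),
      (∃ m, ¬ p ∣ m ∧ Nat.card X = m * Nat.card S) ∧
      (∀ x : X, ∃ D f, IsTw F D f ∧ MulAction.stabilizer (S × S) x = D) ∧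
      (∀ L L' : Subgroup (S × S), (TwRel F L L' ∨ (¬ TwFam F L ∧ ¬ TwFam F L')) →
        numFixed X L = numFixed X L') ∧
      ∀ L, IsTop F L → numFixed X L = Nat.card (Subgroup.center S) := by
  obtain ⟨c, hc, hst, htop, m, hm, hcard⟩ := exists_characteristic' hS hF
  let act : MulAction (S × S) (Σ i : Σ D : Subgroup (S × S), Fin (c D), (S × S) ⧸ i.1) :=
    { smul := fun k x => ⟨x.1, k • x.2⟩
      one_smul := fun ⟨i, q⟩ => Sigma.ext rfl (heq_of_eq (one_smul _ q))
      mul_smul := fun g h ⟨i, q⟩ => Sigma.ext rfl (heq_of_eq (mul_smul g h q)) }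
  refine ⟨_, inferInstance, act, ⟨m, hm, hcard⟩, ?_, ?_⟩
  · rintro ⟨⟨D, j⟩, q⟩
    obtain ⟨k, rfl⟩ := QuotientGroup.mk_surjective q
    have hD : TwFam F D := hc D (Nat.pos_iff_ne_zero.1 (Fin.pos j))
    obtain ⟨f, hf⟩ := ((hD.conj k).symm.1 : TwFam F _)
    refine ⟨_, f, hf, Subgroup.ext fun z => ?_⟩
    rw [MulAction.mem_stabilizer_iff]
    show (⟨⟨D, j⟩, ((z * k : S × S) : (S × S) ⧸ D)⟩ :
        Σ i : Σ D : Subgroup (S × S), Fin (c D), (S × S) ⧸ i.1) = ⟨⟨D, j⟩, (k : (S × S) ⧸ D)⟩ ↔ _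
    rw [Sigma.mk.inj_iff]
    simp only [heq_eq_eq, true_and]
    rw [eq_comm, QuotientGroup.eq]
    constructor
    · exact fun h => ⟨k⁻¹ * (z * k), h, by simp [mul_assoc]⟩
    · rintro ⟨w, hw, rfl⟩
      simpa [mul_assoc] using hw
  · letI := Fintype.ofFinite (Subgroup (S × S))
    have key : ∀ L : Subgroup (S × S),
        numFixed (Σ i : Σ D : Subgroup (S × S), Fin (c D), (S × S) ⧸ i.1) L = mark c L := by
      intro L
      have h1 : numFixed (Σ i : Σ D : Subgroup (S × S), Fin (c D), (S × S) ⧸ i.1) L =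
          Nat.card (Σ i : Σ D : Subgroup (S × S), Fin (c D), fixSet i.1 L) := by
        refine Nat.card_congr
          { toFun := fun x => ⟨x.1.1, x.1.2, fun l hl => eq_of_heq (Sigma.mk.inj_iff.1 (x.2 l hl)).2⟩
            invFun := fun x => ⟨⟨x.1, x.2.1⟩, fun l hl => Sigma.ext rfl (heq_of_eq (x.2.2 l hl))⟩
            left_inv := fun _ => rfl
            right_inv := fun _ => rfl }
      rw [h1, Nat.card_sigma, Fintype.sum_sigma]
      refine Finset.sum_congr rfl fun D _ => ?_
      show (∑ _j : Fin (c D), markOne D L) = _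
      rw [Finset.sum_const, Finset.card_univ, Fintype.card_fin, smul_eq_mul]
    refine ⟨fun L L' hLL' => ?_, fun L hL => (key L).trans (htop L hL)⟩
    rw [key, key]
    rcases hLL' with h | ⟨h, h'⟩
    · exact hst _ _ h
    · exact (mark_eq_zero (twStable hS hF) hc h).trans (mark_eq_zero (twStable hS hF) hc h').symm

theorem exists_biset (hS : IsPGroup p S) (hF : F.IsSaturated p) :
    ∃ (X : Type v) (_ : Finite X) (_ : MulAction (S × S) X),
      (∃ m, ¬ p ∣ m ∧ Nat.card X = m * Nat.card S) ∧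
      (∀ x : X, ∃ D f, IsTw F D f ∧ MulAction.stabilizer (S × S) x = D) ∧
      ∀ L L' : Subgroup (S × S), (TwRel F L L' ∨ (¬ TwFam F L ∧ ¬ TwFam F L')) →
        numFixed X L = numFixed X L' := by
  obtain ⟨X, h1, h2, h3, h4, h5, -⟩ := exists_biset' hS hF
  exact ⟨X, h1, h2, h3, h4, h5⟩

omit [Fact p.Prime] in
theorem right_free {X : Type*} [MulAction (S × S) X]
    (hX : ∀ x : X, ∃ D f, IsTw F D f ∧ MulAction.stabilizer (S × S) x = D) (x : X) {b : S}
    (h : ((1, b) : S × S) • x = x) : b = 1 := by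
  obtain ⟨D, f, ⟨hf, hfz⟩, hD⟩ := hX x
  have hm : ((1, b) : S × S) ∈ D := hD ▸ h
  have := hfz _ hm
  rw [show (((1, b) : S × S).1 : Ω) = 1 from rfl, hf.map_one] at this
  exact Subtype.ext this

/-- The transfer: a homomorphism to the abelianisation, invariant under the system. -/
theorem exists_transfer (hS : IsPGroup p S) (hF : F.IsSaturated p) :
    ∃ (m : ℕ) (t : S →* Abelianization S), ¬ p ∣ m ∧
      (∀ (P : Subgroup Ω) (f : Ω → Ω), IsMor F P f → ∀ (x y : S), (x : Ω) ∈ P → (y : Ω) = f x → t y = t x) ∧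
      ∀ z : S, (z : Ω) ∈ F.center → t z = (Abelianization.of z)⁻¹ ^ m := by
  classical
  obtain ⟨X, _, _, ⟨m, hm, hcard⟩, hX, hfix⟩ := exists_biset hS hF
  letI st : Setoid X :=
    { r := fun x y => ∃ b : S, y = ((1, b) : S × S) • x
      iseqv :=
        { refl := fun x => ⟨1, by rw [Prod.mk_one_one, one_smul]⟩
          symm := by
            rintro x _ ⟨b, rfl⟩
            exact ⟨b⁻¹, by rw [← mul_smul, Prod.mk_mul_mk, one_mul, inv_mul_cancel, Prod.mk_one_one, one_smul]⟩
          trans := by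
            rintro x _ _ ⟨b, rfl⟩ ⟨b', rfl⟩
            exact ⟨b' * b, by rw [← mul_smul, Prod.mk_mul_mk, one_mul]⟩ } }
  let O := Quotient st
  let sec : O → X := fun o => o.out
  have hfree : ∀ (x : X) (b b' : S), ((1, b) : S × S) • x = ((1, b') : S × S) • x → b = b' := by
    intro x b b' h
    have : ((1, b'⁻¹ * b) : S × S) • x = x := by
      rw [show ((1, b'⁻¹ * b) : S × S) = ((1, b') : S × S)⁻¹ * (1, b) by simp, mul_smul, h, inv_smul_smul]
    exact (inv_mul_eq_one.1 (right_free hX x this)).symm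
  have hsec : ∀ x : X, ∃ b : S, x = ((1, b) : S × S) • sec ⟦x⟧ := fun x =>
    Quotient.exact (Quotient.out_eq (⟦x⟧ : O))
  choose β hβ using hsec
  let mv : S → O → O := fun a o => ⟦((a, 1) : S × S) • sec o⟧
  let lam : S → O → S := fun a o => β (((a, 1) : S × S) • sec o)
  have hmv : ∀ a o, ((a, 1) : S × S) • sec o = ((1, lam a o) : S × S) • sec (mv a o) := fun a o => hβ _
  have hclass : ∀ (o : O) (b : S), (⟦((1, b) : S × S) • sec o⟧ : O) = o := fun o b => by
    conv_rhs => rw [← Quotient.out_eq o]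
    exact Quotient.sound (st.symm ⟨b, rfl⟩)
  have huniq : ∀ (o o' : O) (b b' : S), ((1, b) : S × S) • sec o = ((1, b') : S × S) • sec o' →
      o = o' ∧ b = b' := by
    intro o o' b b' h
    have ho : o = o' := by rw [← hclass o b, h, hclass]
    subst ho
    exact ⟨rfl, hfree _ _ _ h⟩
  have hcomm : ∀ (a b : S), ((a, 1) : S × S) * (1, b) = (1, b) * (a, 1) := fun a b => by simp
  have hmul : ∀ a a' o, mv (a * a') o = mv a (mv a' o) ∧ lam (a * a') o = lam a' o * lam a (mv a' o) := by
    intro a a' o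
    apply huniq
    rw [← hmv, show ((a * a', 1) : S × S) = (a, 1) * (a', 1) by simp, mul_smul, hmv a' o, ← mul_smul,
      hcomm, mul_smul, hmv a, ← mul_smul]
    congr 1
    simp
  have hone : ∀ o, mv 1 o = o ∧ lam 1 o = 1 := fun o => by
    apply huniq
    rw [← hmv]
  let q : S →* Abelianization S := Abelianization.of
  have hOfin : Finite O := Quotient.finite st
  letI := Fintype.ofFinite O
  let perm : S → Equiv.Perm O := fun a => ⟨mv a, mv a⁻¹,
    fun o => by rw [← (hmul _ _ _).1, inv_mul_cancel, (hone o).1],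
    fun o => by rw [← (hmul _ _ _).1, mul_inv_cancel, (hone o).1]⟩
  let t : S →* Abelianization S := MonoidHom.mk' (fun a => ∏ o, q (lam a o)) fun a a' => by
    show ∏ o, q (lam (a * a') o) = (∏ o, q (lam a o)) * ∏ o, q (lam a' o)
    rw [← Equiv.prod_comp (perm a') (fun o => q (lam a o)), mul_comm, ← Finset.prod_mul_distrib]
    refine Finset.prod_congr rfl fun o _ => ?_
    rw [(hmul a a' o).2, map_mul]
    rfl
  have hcardO : Nat.card O = m := by
    have e : X ≃ O × S :=
      { toFun := fun x => (⟦x⟧, β x)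
        invFun := fun q => ((1, q.2) : S × S) • sec q.1
        left_inv := fun x => (hβ x).symm
        right_inv := fun ⟨o, b⟩ => by
          have h := huniq _ _ _ _ (hβ (((1, b) : S × S) • sec o))
          exact Prod.ext h.1.symm h.2.symm }
    rw [Nat.card_congr e, Nat.card_prod] at hcard
    exact Nat.eq_of_mul_eq_mul_right Nat.card_pos hcard
  refine ⟨m, t, hm, ?_, ?_⟩
  · intro P f hf x y hx hy
    set C : Subgroup S := P.subgroupOf S
    let fC : C →* S := MonoidHom.mk' (fun a => (⟨f ((a : S) : Ω), hf.mem a.2⟩ : S))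
      fun u v => Subtype.ext (hf.map_mul u.2 v.2)
    let i1 : C × S →* S × S := C.subtype.prodMap (MonoidHom.id S)
    let i2 : C × S →* S × S := fC.prodMap (MonoidHom.id S)
    have hmor : ∀ L : Subgroup (C × S), prOne (L.map i1) ≤ P := by
      rintro L _ ⟨_, ⟨w, -, rfl⟩, rfl⟩
      exact w.1.2
    have htr : ∀ L : Subgroup (C × S), IsTrans (L.map i1) (L.map i2) f 1 := by
      intro L z'
      constructor
      · rintro ⟨w, hw, rfl⟩
        exact ⟨i1 w, ⟨w, hw, rfl⟩, rfl, by simp [i1, i2]⟩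
      · rintro ⟨z, ⟨w, hw, rfl⟩, h1, h2⟩
        refine ⟨w, hw, Prod.ext (Subtype.ext h1.symm) ?_⟩
        rw [h2]
        simp [i1, i2]
    have hnum : ∀ (i : C × S →* S × S) (L : Subgroup (C × S)),
        @numFixed (C × S) _ X (MulAction.compHom X i) L = numFixed X (L.map i) := fun i L =>
      Nat.card_congr (Equiv.subtypeEquivRight fun x =>
        ⟨fun h => by rintro _ ⟨w, hw, rfl⟩; exact h w hw, fun h w hw => h _ ⟨w, hw, rfl⟩⟩)
    obtain ⟨σ, hσ⟩ := @exists_equivariant_of_numFixed (C × S) _ _ (Nat.card X) X X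
      (MulAction.compHom X i1) (MulAction.compHom X i2) _ _ rfl fun L => by
        rw [hnum, hnum]
        exact hfix _ _ (rel_or_not_of_trans (htr L) (hf.restrict (hmor L)))
    have hσ' : ∀ (a : C) (b : S) (z : X),
        σ (((a : S), b) • z) = ((fC a, b) : S × S) • σ z := fun a b z => hσ (a, b) z
    have hσr : ∀ (b : S) (z : X), σ (((1 : S), b) • z) = ((1, b) : S × S) • σ z := fun b z => by
      have := hσ' 1 b z
      rwa [Subgroup.coe_one, map_one] at this
    let τ : O → O := fun o => ⟦σ (sec o)⟧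
    have hτinj : Function.Injective τ := by
      intro o o' h
      obtain ⟨b, hb⟩ := Quotient.exact h
      rw [← hσr] at hb
      have h1 := σ.injective hb
      rw [← hclass o b, ← h1]
      exact Quotient.out_eq o'
    have hτ : Function.Bijective τ := Finite.injective_iff_bijective.1 hτinj
    set u : O → S := fun o => β (σ (sec o))
    have key : ∀ o, mv y (τ o) = τ (mv x o) ∧ u o * lam y (τ o) = lam x o * u (mv x o) := by
      intro o
      have hy' : fC ⟨x, hx⟩ = y := Subtype.ext hy.symm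
      have e1 : σ (((x, 1) : S × S) • sec o) = ((y, 1) : S × S) • σ (sec o) := by
        rw [hσ' ⟨x, hx⟩ 1, hy']
      rw [hmv, hσr, hβ (σ (sec (mv x o))), hβ (σ (sec o)), ← mul_smul, ← mul_smul, hcomm, mul_smul ((1, β (σ (sec o))) : S × S),
        hmv, ← mul_smul] at e1
      simp only [Prod.mk_mul_mk, one_mul] at e1
      obtain ⟨h1, h2⟩ := huniq _ _ _ _ e1
      exact ⟨h1.symm, h2.symm⟩
    show ∏ o, q (lam y o) = ∏ o, q (lam x o)
    rw [← Equiv.prod_comp (Equiv.ofBijective τ hτ) (fun o => q (lam y o))]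
    have h3 : ∀ o, q (lam y (τ o)) = (q (u o))⁻¹ * q (u (mv x o)) * q (lam x o) := fun o => by
      rw [← map_inv, ← map_mul, mul_comm, ← map_mul, ← mul_inv_cancel_left (u o)⁻¹ (lam y (τ o)), inv_inv,
        (key o).2]
      simp only [map_mul, map_inv]
      exact mul_left_comm _ _ _
    have h4 : ∏ o, q (u (mv x o)) = ∏ o, q (u o) := Equiv.prod_comp (perm x) (fun o => q (u o))
    calc ∏ o, q (lam y (Equiv.ofBijective τ hτ o)) = ∏ o, (q (u o))⁻¹ * q (u (mv x o)) * q (lam x o) :=
          Finset.prod_congr rfl fun o _ => h3 o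
      _ = ∏ o, q (lam x o) := by
          rw [Finset.prod_mul_distrib, Finset.prod_mul_distrib, h4, Finset.prod_inv_distrib, inv_mul_cancel, one_mul]
  · intro z hz
    show ∏ o, q (lam z o) = _
    have hpow : ∀ (i : ℕ) (o : O), (perm z ^ i) o = mv (z ^ i) o ∧
        q (lam (z ^ i) o) = ∏ j ∈ Finset.range i, q (lam z ((perm z ^ j) o)) := by
      intro i o
      induction i with
      | zero => simp [(hone o).1, (hone o).2]
      | succ i ih =>
        constructor
        · rw [pow_succ', pow_succ', Equiv.Perm.mul_apply, ih.1, (hmul _ _ _).1]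
          rfl
        · rw [Finset.prod_range_succ, ← ih.2, ih.1, pow_succ', (hmul _ _ _).2, map_mul]
    rw [prod_eq_pow_card_of_cycles (perm z) (fun o => q (lam z o)) (q z)⁻¹ ?_ ?_ Finset.univ
      (fun o _ => Finset.mem_univ _), Finset.card_univ, ← Nat.card_eq_fintype_card, hcardO]
    · intro o l hl
      obtain ⟨h1, h2⟩ := hpow l o
      rw [← h2, inv_pow, ← map_pow, ← map_inv]
      congr 1
      rw [h1] at hl
      have hst : ((z ^ l, (lam (z ^ l) o)⁻¹) : S × S) • sec o = sec o := by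
        rw [show ((z ^ l, (lam (z ^ l) o)⁻¹) : S × S) = (1, (lam (z ^ l) o)⁻¹) * (z ^ l, 1) by simp, mul_smul,
          hmv, hl, ← mul_smul]
        simp [Prod.mk_one_one]
      obtain ⟨D, f, ⟨hf, hfz⟩, hD⟩ := hX (sec o)
      have hm' : ((z ^ l, (lam (z ^ l) o)⁻¹) : S × S) ∈ D := hD ▸ hst
      have h3 := hfz _ hm'
      have hzl : ((z ^ l : S) : Ω) ∈ F.center := by
        rw [Subgroup.coe_pow]
        exact pow_mem hz l
      rw [center_fixed' hf hzl (mem_prOne_of_mem hm')] at h3
      rw [← inv_eq_iff_eq_inv]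
      exact Subtype.ext h3
    · intro o
      refine ⟨orderOf (perm z), (isOfFinOrder_of_finite (perm z)).orderOf_pos, ?_⟩
      rw [pow_orderOf_eq_one]
      rfl
where
  center_fixed' {P : Subgroup Ω} {f : Ω → Ω} (hf : IsMor F P f) {x : Ω} (hx : x ∈ F.center) (hxP : x ∈ P) :
      f x = x := by
    obtain ⟨k, -, he, hk⟩ := (isCentral_iff.1 (isCentral_center F)).2 P f hf
    exact (he x hxP).symm.trans (hk x hx)

end Cfsg.Agent.Fusion
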