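import Mathlib
import Cfsg.Agent.Lib.Fusion.ModelUnique
import Cfsg.Agent.Lib.Fusion.Transfer
import Cfsg.Agent.Lib.Fusion.FreeTransfer

/-!
Existence of models of constrained saturated systems, from a characteristic biset.
-/

set_option autoImplicit false

universe v

namespace Cfsg.Agent.Fusion

open Cfsg Cfsg.FusionSystem

variable {Ω : Type v} [Group Ω] {S : Subgroup Ω} [Finite S] {F : FusionSystem S} {p : ℕ} [Fact p.Prime]
  {P Q : Subgroup Ω}

/-- Every map of the system is induced by a permutation of a stable biset commuting with the right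
action. -/
theorem biset_realize {X : Type v} [Finite X] [MulAction (S × S) X]
    (hfix : ∀ L L' : Subgroup (S × S), (TwRel F L L' ∨ (¬ TwFam F L ∧ ¬ TwFam F L')) →
      numFixed X L = numFixed X L') {f : Ω → Ω} (hf : IsMor F P f) :
    ∃ σ : Equiv.Perm X, (∀ (b : S) (z : X), σ (((1, b) : S × S) • z) = ((1, b) : S × S) • σ z) ∧
      ∀ (x y : S) (z : X), (x : Ω) ∈ P → (y : Ω) = f x →
        σ (((x, 1) : S × S) • z) = ((y, 1) : S × S) • σ z := by
  set C : Subgroup S := P.subgroupOf S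
  let fC : C →* S := MonoidHom.mk' (fun a => (⟨f ((a : S) : Ω), hf.mem a.2⟩ : S))
    fun u v => Subtype.ext (hf.map_mul u.2 v.2)
  let i1 : C × S →* S × S := C.subtype.prodMap (MonoidHom.id S)
  let i2 : C × S →* S × S := fC.prodMap (MonoidHom.id S)
  have hmor : ∀ L : Subgroup (C × S), prOne (L.map i1) ≤ P := by
    rintro L _ ⟨_, ⟨w, -, rfl⟩, rfl⟩
    exact w.1.2
  have htr : ∀ L : Subgroup (C × S), IsTrans (L.map i1) (L.map i2) f 1 := by
    intro L z'
    constructor
    · rintro ⟨w, hw, rfl⟩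
      exact ⟨i1 w, ⟨w, hw, rfl⟩, rfl, by simp [i1, i2]⟩
    · rintro ⟨z, ⟨w, hw, rfl⟩, h1, h2⟩
      refine ⟨w, hw, Prod.ext (Subtype.ext h1.symm) ?_⟩
      rw [h2]
      simp [i1, i2]
  have hnum : ∀ (i : C × S →* S × S) (L : Subgroup (C × S)),
      @numFixed (C × S) _ X (MulAction.compHom X i) L = numFixed X (L.map i) := fun i L =>
    Nat.card_congr (Equiv.subtypeEquivRight fun x =>
      ⟨fun h => by rintro _ ⟨w, hw, rfl⟩; exact h w hw, fun h w hw => h _ ⟨w, hw, rfl⟩⟩)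
  obtain ⟨σ, hσ⟩ := @exists_equivariant_of_numFixed (C × S) _ _ (Nat.card X) X X
    (MulAction.compHom X i1) (MulAction.compHom X i2) _ _ rfl fun L => by
      rw [hnum, hnum]
      exact hfix _ _ (rel_or_not_of_trans (htr L) (hf.restrict (hmor L)))
  have hσ' : ∀ (a : C) (b : S) (z : X),
      σ (((a : S), b) • z) = ((fC a, b) : S × S) • σ z := fun a b z => hσ (a, b) z
  refine ⟨σ, fun b z => ?_, fun x y z hx hy => ?_⟩
  · have := hσ' 1 b z
    rwa [Subgroup.coe_one, map_one] at this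
  · have := hσ' ⟨x, hx⟩ 1 z
    rwa [show fC ⟨x, hx⟩ = y from Subtype.ext hy.symm] at this

/-- Existence of models. -/
theorem exists_model (hS : IsPGroup p S) (hF : F.IsSaturated p) (hQn : F.IsNormal Q)
    (hQc : F.IsCentric Q) :
    ∃ (L : Type v) (_ : Group L) (ι : S →* L), F.IsModel p L ι := by
  classical
  obtain ⟨X, _, _, ⟨m, hm, hcard⟩, hX, hfix, htop⟩ := exists_biset' hS hF
  have hQS := hQn.1
  have hQfin := finite_of_le hQS
  have hSN := normal_le_normalizer hQn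
  have hQfn : F.IsFullyNormalized Q := ⟨hQS, fun R _ => by
    have hQN : normalizerIn S Q = S := inf_eq_left.2 hSN
    rw [hQN]
    exact Nat.card_le_card_of_injective (Subgroup.inclusion normalizerIn_le) (Subgroup.inclusion_injective _)⟩
  obtain ⟨hFA, hRec⟩ := fullyNormalized_receptive hS hF hQfn
  -- the two actions
  let Lp : S →* Equiv.Perm X :=
    (MulAction.toPermHom (S × S) X).comp ((MonoidHom.id S).prod (1 : S →* S))
  let Rt : S →* Equiv.Perm X :=
    (MulAction.toPermHom (S × S) X).comp ((1 : S →* S).prod (MonoidHom.id S))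
  have hLp : ∀ (a : S) (x : X), Lp a x = ((a, 1) : S × S) • x := fun _ _ => rfl
  have hRt : ∀ (b : S) (x : X), Rt b x = ((1, b) : S × S) • x := fun _ _ => rfl
  have hfree : ∀ (a : S) (x : X), Lp a x = x → a = 1 := by
    intro a x h
    rw [hLp] at h
    obtain ⟨D, f, ⟨hf, hfz⟩, hD⟩ := hX x
    have hm : ((a, 1) : S × S) ∈ D := hD ▸ h
    exact Subtype.ext (hf.eq_one (mem_prOne_of_mem hm) (hfz _ hm).symm)
  have hne : Nonempty X := by
    by_contra h
    rw [not_nonempty_iff] at h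
    rw [Nat.card_of_isEmpty] at hcard
    rcases Nat.mul_eq_zero.1 hcard.symm with h0 | h0
    · exact hm (h0 ▸ dvd_zero p)
    · exact Nat.card_pos.ne' h0
  have hLinj : Function.Injective Lp := (injective_iff_map_eq_one Lp).2 fun a ha => by
    obtain ⟨x⟩ := hne
    exact hfree a x (by rw [ha]; rfl)
  have hLR : ∀ (a b : S), Lp a * Rt b = Rt b * Lp a := fun a b => Equiv.ext fun x => by
    show ((a, 1) : S × S) • ((1, b) : S × S) • x = ((1, b) : S × S) • ((a, 1) : S × S) • x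
    rw [← mul_smul, ← mul_smul]
    congr 1
    simp
  -- the group `N`
  let G₀ : Subgroup (Equiv.Perm X) := Subgroup.centralizer (Rt.range : Set (Equiv.Perm X))
  have hLG : ∀ a, Lp a ∈ G₀ := fun a => Subgroup.mem_centralizer_iff.2 (by
    rintro _ ⟨b, rfl⟩
    exact (hLR a b).symm)
  let qS : Q →* S := Subgroup.inclusion hQS
  let Act : Equiv.Perm X → MulAut Q → Prop := fun g α => ∀ q : Q, g * Lp (qS q) = Lp (qS (α q)) * g
  let N : Subgroup (Equiv.Perm X) :=
    { carrier := {g | g ∈ G₀ ∧ ∃ α ∈ F.autGroup Q, Act g α}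
      one_mem' := ⟨G₀.one_mem, 1, (F.autGroup Q).one_mem, fun q => by simp⟩
      mul_mem' := fun {g h} ⟨hg, α, hα, ha⟩ ⟨hh, β, hβ, hb⟩ =>
        ⟨G₀.mul_mem hg hh, α * β, (F.autGroup Q).mul_mem hα hβ, fun q => by
          rw [mul_assoc, hb q, ← mul_assoc, ha (β q), mul_assoc]; rfl⟩
      inv_mem' := fun {g} ⟨hg, α, hα, ha⟩ =>
        ⟨G₀.inv_mem hg, α⁻¹, (F.autGroup Q).inv_mem hα, fun q => by
          have h := ha (α⁻¹ q)
          rw [MulAut.apply_inv_self] at h
          rw [eq_mul_inv_iff_mul_eq, mul_assoc, ← eq_inv_mul_iff_mul_eq, inv_inv, h]⟩ }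
  have hactU : ∀ (g : Equiv.Perm X) (α β : MulAut Q), Act g α → Act g β → α = β := fun g α β ha hb =>
    MulEquiv.ext fun q => Subgroup.inclusion_injective hQS
      (hLinj (mul_right_cancel ((ha q).symm.trans (hb q))))
  have hexα : ∀ g : N, ∃ α ∈ F.autGroup Q, Act g α := fun g => g.2.2
  choose act hact hactg using hexα
  let ρ : N →* MulAut Q := MonoidHom.mk' act fun g h => hactU (g * h : N) _ _ (hactg _) fun q => by
    show (g : Equiv.Perm X) * h * Lp (qS q) = Lp (qS (act g (act h q))) * ((g : Equiv.Perm X) * h)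
    rw [mul_assoc, hactg h q, ← mul_assoc, hactg g, mul_assoc]
  have hLN : ∀ s : S, Lp s ∈ N := fun s => by
    refine ⟨hLG s, _, autOf_mem ((isMor_conj (F := F) hQS s.2).isIso_self fun x hx =>
      conj_mem_of_mem_normalizer (hSN s.2) hx), fun q => ?_⟩
    rw [← map_mul, ← map_mul]
    congr 1
    refine Subtype.ext ?_
    show (s : Ω) * q = (s : Ω) * q * (s : Ω)⁻¹ * s
    group
  let ιN : S →* N := Lp.codRestrict N hLN
  have hρι : ∀ (s : S) (q : Q), ((ρ (ιN s) q : Q) : Ω) = s * q * (s : Ω)⁻¹ := fun s q => by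
    have h := hactg (ιN s) q
    show ((act (ιN s) q : Q) : Ω) = _
    have h2 : qS (act (ιN s) q) = s * qS q * s⁻¹ := hLinj (by
      rw [map_mul, map_mul, map_inv]
      exact (eq_mul_inv_iff_mul_eq.2 h.symm))
    exact congrArg Subtype.val h2
  -- realisations
  have hreal : ∀ (P : Subgroup Ω) (f : Ω → Ω), Q ≤ P → IsMor F P f → (hiso : IsIso F Q Q f) →
      ∃ g : N, ρ g = autOf hiso ∧ ∀ x y : S, (x : Ω) ∈ P → (y : Ω) = f x → g * ιN x = ιN y * g := by
    intro P f hQP hf hiso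
    obtain ⟨σ, hσR, hσL⟩ := biset_realize hfix hf
    have hA : Act σ (autOf hiso) := fun q => Equiv.ext fun z =>
      hσL (qS q) (qS (autOf hiso q)) z (hQP q.2) rfl
    have hσN : σ ∈ N := ⟨Subgroup.mem_centralizer_iff.2 (by
      rintro _ ⟨b, rfl⟩
      exact Equiv.ext fun z => (hσR b z).symm), _, autOf_mem hiso, hA⟩
    exact ⟨⟨σ, hσN⟩, hactU σ _ _ (hactg ⟨σ, hσN⟩) hA, fun x y hx hy =>
      Subtype.ext (Equiv.ext fun z => hσL x y z hx hy)⟩
  have hρsurj : ∀ α ∈ F.autGroup Q, ∃ g : N, ρ g = α := fun α hα => by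
    obtain ⟨g, hg, -⟩ := hreal Q _ le_rfl (isMor_of_mem_autGroup hQS hα) (isIso_autFun hQS hα)
    refine ⟨g, hg.trans (MulEquiv.ext fun q => Subtype.ext ?_)⟩
    rw [autOf_apply, autFun_coe]
  -- the free action of the centre of `Q`
  let A := Subgroup.center Q
  letI : CommGroup A :=
    { (inferInstance : Group A) with
      mul_comm := fun a b => Subtype.ext (Subgroup.mem_center_iff.1 b.2 a) }
  let la : A →* Equiv.Perm X := (Lp.comp qS).comp A.subtype
  have hAcomm : ∀ (a : A) (q : Q), (qS (a : Q)) * qS q = qS q * qS (a : Q) := fun a q => by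
    rw [← map_mul, ← map_mul, Subgroup.mem_center_iff.1 a.2 q]
  let Y : MulAut Q → Set X := fun φ => {x | ∀ q : Q, ((qS q, qS (φ q)) : S × S) • x = x}
  have hY : ∀ φ, FreeOn la (Y φ) := fun φ => by
    refine ⟨fun a y hy q => ?_, fun a y _ h => ?_⟩
    · show ((qS q, qS (φ q)) : S × S) • ((qS (a : Q), 1) : S × S) • y = ((qS (a : Q), 1) : S × S) • y
      rw [← mul_smul, Prod.mk_mul_mk, ← hAcomm, mul_one, show ((qS (a : Q) * qS q, qS (φ q)) : S × S) =
        (qS (a : Q), 1) * (qS q, qS (φ q)) by simp, mul_smul, hy q]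
    · have := hfree _ y h
      exact Subtype.ext (Subgroup.inclusion_injective hQS (this.trans (map_one qS).symm))
  have hNY : ∀ (g : N) (φ : MulAut Q) (x : X), x ∈ Y φ ↔ (g : Equiv.Perm X) x ∈ Y (φ * (ρ g)⁻¹) := by
    intro g φ x
    have key : ∀ q : Q, (g : Equiv.Perm X) (((qS q, qS (φ q)) : S × S) • x) =
        ((qS (ρ g q), qS (φ q)) : S × S) • (g : Equiv.Perm X) x := by
      intro q
      have h1 : ∀ (a b : S) (z : X), ((a, b) : S × S) • z = Lp a (Rt b z) := fun a b z => by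
        rw [hLp, hRt, ← mul_smul]; simp
      rw [h1, h1]
      have h2 := Subgroup.mem_centralizer_iff.1 g.2.1 (Rt (qS (φ q))) ⟨_, rfl⟩
      show ((g : Equiv.Perm X) * Lp (qS q)) (Rt (qS (φ q)) x) = _
      rw [hactg g q]
      show Lp (qS (ρ g q)) (((g : Equiv.Perm X) * Rt (qS (φ q))) x) = _
      rw [← h2]
      rfl
    constructor
    · intro hx q
      have := key ((ρ g)⁻¹ q)
      rw [hx, MulAut.apply_inv_self] at this
      exact this.symm
    · intro hx q
      apply (g : Equiv.Perm X).injective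
      rw [key]
      have := hx (ρ g q)
      rwa [MulAut.mul_apply, MulAut.inv_apply_self] at this
  let K := ρ.ker
  have hKc : ∀ (k : K) (φ : MulAut Q), CommOn la (Y φ) (((k : N) : Equiv.Perm X)) := fun k φ => by
    have hk1 : ρ (k : N) = 1 := k.2
    refine ⟨fun y hy => ?_, fun a y => ?_⟩
    · have := (hNY (k : N) φ y).1 hy
      rwa [hk1, inv_one, mul_one] at this
    · have h := hactg (k : N) (a : Q)
      have h1 : act (k : N) = 1 := hk1
      rw [h1] at h
      exact congrArg (fun e : Equiv.Perm X => e y) h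
  -- the number of orbits
  have hcardY : ∀ α ∈ F.autGroup Q, Nat.card (Orb la (Y α)) = Nat.card (Orb la (Y 1)) := by
    intro α hα
    obtain ⟨g, hg⟩ := hρsurj α⁻¹ ((F.autGroup Q).inv_mem hα)
    have h1 : Nat.card (Y 1) = Nat.card (Y α) := Nat.card_congr ((g : Equiv.Perm X).subtypeEquiv fun x => by
      have := hNY g 1 x
      rwa [hg, inv_inv, one_mul] at this)
    rw [← card_orb_mul (hY 1), ← card_orb_mul (hY α)] at h1
    exact (Nat.eq_of_mul_eq_mul_right Nat.card_pos h1).symm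
  have hn : ¬ p ∣ Nat.card (Orb la (Y 1)) := by
    have hdiag : ∀ (s : S) (y : X), y ∈ Y 1 → ((s, s) : S × S) • y ∈ Y 1 := by
      intro s y hy q
      have hq : ∃ q' : Q, qS q' = s⁻¹ * qS q * s := by
        refine ⟨⟨(s : Ω)⁻¹ * q * s, ?_⟩, rfl⟩
        simpa using conj_mem_of_mem_normalizer (inv_mem (hSN s.2)) q.2
      obtain ⟨q', hq'⟩ := hq
      have h := hy q'
      rw [MulAut.one_apply] at h ⊢
      rw [← mul_smul, show ((qS q, qS q) : S × S) * (s, s) = (s, s) * (qS q', qS q') by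
        rw [hq', Prod.mk_mul_mk, Prod.mk_mul_mk]; simp [mul_assoc], mul_smul, h]
    let O := Orb la (Y 1)
    have hdA : ∀ (s : S) (a : A), ∃ a' : A, qS (a' : Q) = s * qS (a : Q) * s⁻¹ := by
      intro s a
      refine ⟨⟨⟨(s : Ω) * (a : Q) * (s : Ω)⁻¹, conj_mem_of_mem_normalizer (hSN s.2) (a : Q).2⟩,
        Subgroup.mem_center_iff.2 fun q => Subtype.ext ?_⟩, rfl⟩
      have hq : (s : Ω)⁻¹ * q * s ∈ Q := by
        simpa using conj_mem_of_mem_normalizer (inv_mem (hSN s.2)) q.2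
      have h := congrArg Subtype.val (Subgroup.mem_center_iff.1 a.2 ⟨_, hq⟩)
      show (q : Ω) * ((s : Ω) * (a : Q) * (s : Ω)⁻¹) = (s : Ω) * (a : Q) * (s : Ω)⁻¹ * q
      calc (q : Ω) * ((s : Ω) * (a : Q) * (s : Ω)⁻¹)
          = (s : Ω) * (((s : Ω)⁻¹ * q * s) * (a : Q)) * (s : Ω)⁻¹ := by group
        _ = (s : Ω) * (((a : Q) : Ω) * ((s : Ω)⁻¹ * q * s)) * (s : Ω)⁻¹ := by
            rw [show ((s : Ω)⁻¹ * q * s) * (a : Q) = ((a : Q) : Ω) * ((s : Ω)⁻¹ * q * s) from h]
        _ = _ := by group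
    let sm : S → O → O := fun s => Quotient.map (fun y : Y 1 => (⟨((s, s) : S × S) • (y : X), hdiag s y y.2⟩ : Y 1))
      fun y y' ⟨a, ha⟩ => by
        obtain ⟨a', ha'⟩ := hdA s a
        refine ⟨a', ?_⟩
        show ((qS (a' : Q), 1) : S × S) • ((s, s) : S × S) • (y : X) = ((s, s) : S × S) • (y' : X)
        rw [← ha, ha', ← mul_smul, show ((s * qS (a : Q) * s⁻¹, 1) : S × S) * (s, s) =
          (s, s) * (qS (a : Q), 1) by simp [mul_assoc], mul_smul]
        rfl
    have hsm1 : ∀ o : O, sm 1 o = o := fun o => by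
      induction o using Quotient.inductionOn with
      | h y =>
        refine congrArg (Quotient.mk _) (Subtype.ext ?_)
        show (((1 : S), (1 : S)) : S × S) • (y : X) = y
        rw [Prod.mk_one_one, one_smul]
    have hsmm : ∀ (s t : S) (o : O), sm (s * t) o = sm s (sm t o) := fun s t o => by
      induction o using Quotient.inductionOn with
      | h y =>
        refine congrArg (Quotient.mk _) (Subtype.ext ?_)
        show ((s * t, s * t) : S × S) • (y : X) = ((s, s) : S × S) • ((t, t) : S × S) • (y : X)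
        rw [← mul_smul]; rfl
    letI : MulAction S O := { smul := sm, one_smul := hsm1, mul_smul := hsmm }
    let ΔS := autGraph (1 : MulAut S)
    have hΔ : Nat.card {x : X // ∀ l ∈ ΔS, l • x = x} = Nat.card (Subgroup.center S) :=
      htop ΔS (isTop_autGraph (F.autGroup S).one_mem)
    have hΔmem : ∀ {l : S × S}, l ∈ ΔS ↔ l.2 = l.1 := fun {l} => mem_autGraph
    have hFY : ∀ x : X, (∀ l ∈ ΔS, l • x = x) → x ∈ Y 1 := fun x hx q => hx _ (hΔmem.2 rfl)
    have hone : Nat.card (MulAction.fixedPoints S O) = 1 := by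
      obtain ⟨⟨x₀, hx₀⟩⟩ := (Nat.card_pos_iff.1 (hΔ ▸ Nat.card_pos : 0 < Nat.card {x : X // ∀ l ∈ ΔS, l • x = x})).1
      -- the fixed points form one orbit of the centre
      have htrans : ∀ x : X, (∀ l ∈ ΔS, l • x = x) → ∃ z : Subgroup.center S, Lp (z : S) x₀ = x := by
        let j : Subgroup.center S → {x : X // ∀ l ∈ ΔS, l • x = x} := fun z =>
          ⟨Lp (z : S) x₀, fun l hl => by
            show l • ((((z : S), 1) : S × S) • x₀) = (((z : S), 1) : S × S) • x₀
            rw [← mul_smul, show l * (((z : S), 1) : S × S) = (((z : S), 1) : S × S) * l by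
              refine Prod.ext ?_ ?_
              · exact Subgroup.mem_center_iff.1 z.2 l.1
              · simp, mul_smul, hx₀ l hl]⟩
        have hj : Function.Injective j := fun z z' h => by
          have h1 : Lp (z : S) x₀ = Lp (z' : S) x₀ := congrArg Subtype.val h
          have h2 : Lp (((z' : S))⁻¹ * z) x₀ = x₀ := by
            rw [map_mul, Equiv.Perm.mul_apply, h1, ← Equiv.Perm.mul_apply, ← map_mul, inv_mul_cancel, map_one]
            rfl
          exact Subtype.ext (inv_mul_eq_one.1 (hfree _ _ h2)).symm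
        intro x hx
        obtain ⟨z, hz⟩ := ((Nat.bijective_iff_injective_and_card j).2 ⟨hj, hΔ.symm⟩).2 ⟨x, hx⟩
        exact ⟨z, congrArg Subtype.val hz⟩
      have hfixed : ∀ o ∈ MulAction.fixedPoints S O, o = Orb.mk ⟨x₀, hFY x₀ hx₀⟩ := by
        intro o ho
        obtain ⟨⟨y, hy⟩, rfl⟩ : ∃ y : Y 1, Orb.mk y = o := ⟨o.rep, Orb.mk_rep o⟩
        obtain ⟨D, f, ⟨hf, hfz⟩, hD⟩ := hX y
        have hyD : ∀ l, l ∈ D ↔ l • y = y := fun l => hD ▸ Iff.rfl
        have hQD : ∀ q : Q, ((qS q, qS q) : S × S) ∈ D := fun q => (hyD _).2 (hy q)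
        have hshift : ∀ s : S, ∃ a : A, (((qS (a : Q))⁻¹ * s, s) : S × S) ∈ D := fun s => by
          obtain ⟨a, ha⟩ := Quotient.exact (ho s).symm
          refine ⟨a, (hyD _).2 ?_⟩
          have h : ((qS (a : Q), 1) : S × S) • y = ((s, s) : S × S) • y := ha
          rw [show (((qS (a : Q))⁻¹ * s, s) : S × S) = (qS (a : Q), 1)⁻¹ * (s, s) by simp, mul_smul, ← h,
            inv_smul_smul]
        have hpr : prOne D = S := le_antisymm prOne_le fun x hx => by
          obtain ⟨a, ha⟩ := hshift ⟨x, hx⟩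
          have := mul_mem (mem_prOne_of_mem (hQD (a : Q))) (mem_prOne_of_mem ha)
          simpa [qS] using this
        rw [hpr] at hf
        have hfQ : ∀ x ∈ Q, f x = x := fun x hx => (hfz _ (hQD ⟨x, hx⟩)).symm
        obtain ⟨z, hzQ, hzc, hzf⟩ := exists_twist_of_eqOn_centric hS hF hQc hQS (isMor_id (F := F) le_rfl) hf
          fun x hx => (hfQ x hx).symm
        have hzA : (⟨z, hzQ⟩ : Q) ∈ A := Subgroup.mem_center_iff.2 fun q =>
          Subtype.ext (Subgroup.mem_centralizer_iff.1 hzc q q.2)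
        let za : A := ⟨⟨z, hzQ⟩, hzA⟩
        have hx' : ∀ l ∈ ΔS, l • (la za y) = la za y := by
          rintro ⟨u, u'⟩ hl
          obtain rfl : u' = u := hΔmem.1 hl
          set zs : S := qS ⟨z, hzQ⟩
          have hmem : ((zs⁻¹ * u' * zs, u') : S × S) ∈ D := by
            have hx : ((zs⁻¹ * u' * zs : S) : Ω) ∈ prOne D := by rw [hpr]; exact (zs⁻¹ * u' * zs).2
            obtain ⟨w, hw, hw1⟩ := mem_prOne.1 hx
            have h2 := hfz w hw
            rw [hw1, hzf _ (zs⁻¹ * u' * zs).2] at h2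
            convert hw using 1
            refine Prod.ext (Subtype.ext hw1.symm) (Subtype.ext ?_)
            rw [h2]
            show (u' : Ω) = z * ((z : Ω)⁻¹ * u' * z) * z⁻¹
            group
          show ((u', u') : S × S) • ((zs, 1) : S × S) • y = ((zs, 1) : S × S) • y
          rw [← mul_smul, show ((u', u') : S × S) * (zs, 1) = (zs, 1) * (zs⁻¹ * u' * zs, u') by
            simp [mul_assoc], mul_smul, (hyD _).1 hmem]
        obtain ⟨c, hc⟩ := htrans _ hx'
        have hcQ : ((c : S) : Ω) ∈ Q := centralizerIn_le_of_isCentric hQc (mem_centralizerIn.2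
          ⟨(c : S).2, fun x hx => congrArg Subtype.val (Subgroup.mem_center_iff.1 c.2 ⟨x, hQS hx⟩)⟩)
        let ca : A := ⟨⟨_, hcQ⟩, Subgroup.mem_center_iff.2 fun q =>
          Subtype.ext (show (q : Ω) * ((c : S) : Ω) = ((c : S) : Ω) * q from
            congrArg (fun s : S => (s : Ω)) (Subgroup.mem_center_iff.1 c.2 (qS q)))⟩
        refine (Quotient.sound (s := orbSetoid la (Y 1)) (a := ⟨x₀, hFY x₀ hx₀⟩) (b := ⟨y, hy⟩)
          ⟨za⁻¹ * ca, ?_⟩).symm
        show la (za⁻¹ * ca) x₀ = y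
        rw [map_mul, Equiv.Perm.mul_apply, show la ca x₀ = la za y from hc, map_inv, inv_perm_apply]
      rw [Nat.card_eq_one_iff_exists]
      refine ⟨⟨Orb.mk ⟨x₀, hFY x₀ hx₀⟩, fun s => ?_⟩, fun o => Subtype.ext (hfixed _ o.2)⟩
      refine congrArg (Quotient.mk _) (Subtype.ext ?_)
      exact hx₀ _ (hΔmem.2 rfl)
    intro hd
    have h := hS.card_modEq_card_fixedPoints O
    rw [hone] at h
    exact (Fact.out : p.Prime).not_dvd_one ((h.dvd_iff dvd_rfl).1 hd)
  -- the transfer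
  let Af := F.autGroup Q
  have hAf : Finite Af := finite_autGroup hQS
  let H : Subgroup Af := (autInducedBy S Q).subgroupOf Af
  have hidx : ¬ p ∣ H.index := (isFullyAutomized_iff hS hQS).1 hFA
  letI := Fintype.ofFinite (Af ⧸ H)
  let rep : Af ⧸ H → MulAut Q := fun c => ((c.out : Af) : MulAut Q)⁻¹
  let T : K →* A := MonoidHom.mk'
    (fun k => ∏ c : Af ⧸ H, transferOn la (Y (rep c)) ((k : N) : Equiv.Perm X)) fun k k' => by
      rw [← Finset.prod_mul_distrib]
      exact Finset.prod_congr rfl fun c _ => transferOn_mul (hY _) (hKc k _) (hKc k' _)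
  set n := Nat.card (Orb la (Y 1)) * H.index with hndef
  have hnp : ¬ p ∣ n := fun h => ((Fact.out : p.Prime).dvd_mul.1 h).elim hn hidx
  have hbij := (((hS.to_le hQS).to_subgroup A).powEquiv
    ((Fact.out : p.Prime).coprime_iff_not_dvd.2 hnp)).bijective
  have hAK : ∀ a : A, ιN (qS (a : Q)) ∈ K := fun a => by
    refine MulEquiv.ext fun q => Subtype.ext ?_
    rw [hρι, MulAut.one_apply]
    have h := congrArg Subtype.val (hAcomm a q)
    show ((qS (a : Q) : S) : Ω) * (q : Ω) * _⁻¹ = q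
    rw [show ((qS (a : Q) : S) : Ω) * (q : Ω) = (q : Ω) * (qS (a : Q) : S) from h, mul_inv_cancel_right]
  have hTA : ∀ a : A, T ⟨_, hAK a⟩ = a ^ n := fun a => by
    show ∏ c : Af ⧸ H, transferOn la (Y (rep c)) (la a) = a ^ n
    rw [Finset.prod_congr rfl fun c _ => transferOn_smul (hY (rep c)) a, Finset.prod_pow_eq_pow_sum,
      Finset.sum_congr rfl fun c _ => hcardY (rep c) (Af.inv_mem c.out.2), Finset.sum_const,
      Finset.card_univ, smul_eq_mul, ← Nat.card_eq_fintype_card, mul_comm]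
    rfl
  have hTconj : ∀ (g : N) (k : K), T k = 1 →
      T ⟨g * k * g⁻¹, MonoidHom.normal_ker ρ |>.conj_mem _ k.2 g⟩ = 1 := by
    intro g k hk
    set α : Af := ⟨ρ g, hact g⟩
    let θ : A ≃* A :=
      { toFun := fun a => ⟨ρ g a, Subgroup.mem_center_iff.2 fun q => by
          have h := congrArg (ρ g) (Subgroup.mem_center_iff.1 a.2 ((ρ g)⁻¹ q))
          rw [map_mul, map_mul, MulAut.apply_inv_self] at h
          exact h⟩
        invFun := fun a => ⟨(ρ g)⁻¹ a, Subgroup.mem_center_iff.2 fun q => by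
          have h := congrArg ((ρ g)⁻¹ : MulAut Q) (Subgroup.mem_center_iff.1 a.2 (ρ g q))
          rw [map_mul, map_mul, MulAut.inv_apply_self] at h
          exact h⟩
        left_inv := fun a => Subtype.ext (MulAut.inv_apply_self _ _ _)
        right_inv := fun a => Subtype.ext (MulAut.apply_inv_self _ _ _)
        map_mul' := fun a b => Subtype.ext (map_mul (ρ g) _ _) }
    have hθ : ∀ a x, (g : Equiv.Perm X) (la a x) = la (θ a) ((g : Equiv.Perm X) x) := fun a x =>
      congrArg (fun e : Equiv.Perm X => e x) (hactg g (a : Q))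
    show ∏ c : Af ⧸ H, transferOn la (Y (rep c)) _ = 1
    have hstep : ∀ c : Af ⧸ H, transferOn la (Y (rep (α • c)))
        (((g * k * g⁻¹ : N) : Equiv.Perm X)) =
          θ (transferOn la (Y (rep c)) ((k : N) : Equiv.Perm X)) := by
      intro c
      obtain ⟨h, hh, hhe⟩ : ∃ h : Af, h ∈ H ∧ (α • c).out = α * c.out * h := by
        refine ⟨(α * c.out)⁻¹ * (α • c).out, ?_, by group⟩
        refine QuotientGroup.eq.1 ?_
        rw [QuotientGroup.out_eq']
        conv_rhs => rw [← QuotientGroup.out_eq' c]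
        rfl
      obtain ⟨s, hs, -, hsx⟩ := mem_autInducedBy.1 (H.inv_mem hh)
      -- first move by `g`, then by the right action of `s`
      have e1 := transferOn_conj (hY (rep c)) (hY (rep c * (ρ g)⁻¹)) (g : Equiv.Perm X)
        (fun x => hNY g _ x) θ hθ (hKc k _)
        (hKc ⟨g * k * g⁻¹, MonoidHom.normal_ker ρ |>.conj_mem _ k.2 g⟩ _) fun x => by
          show _ = ((g : Equiv.Perm X) * (k : N) * (g : Equiv.Perm X)⁻¹) ((g : Equiv.Perm X) x)
          rw [Equiv.Perm.mul_apply, inv_perm_apply]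
          rfl
      rw [← e1]
      have hrep : ∀ q : Q, qS (rep (α • c) q) = (⟨s, hs⟩ : S) * qS ((rep c * (ρ g)⁻¹) q) * (⟨s, hs⟩ : S)⁻¹ := by
        intro q
        refine Subtype.ext ?_
        show ((rep (α • c) q : Q) : Ω) = s * ((rep c * (ρ g)⁻¹) q : Q) * s⁻¹
        rw [← hsx]
        simp only [rep]
        rw [hhe]
        rfl
      have hRmem : ∀ x, x ∈ Y (rep c * (ρ g)⁻¹) ↔ Rt ⟨s, hs⟩ x ∈ Y (rep (α • c)) := by
        intro x
        refine forall_congr' fun q => ?_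
        rw [hRt, ← mul_smul, hrep, show ((qS q, (⟨s, hs⟩ : S) * qS ((rep c * (ρ g)⁻¹) q) *
          (⟨s, hs⟩ : S)⁻¹) : S × S) * (1, ⟨s, hs⟩) = (1, ⟨s, hs⟩) * (qS q, qS ((rep c * (ρ g)⁻¹) q)) by simp,
          mul_smul, smul_left_cancel_iff]
      exact transferOn_conj (hY _) (hY _) (Rt ⟨s, hs⟩) hRmem (MulEquiv.refl A)
        (fun a x => (congrArg (fun e : Equiv.Perm X => e x) (hLR (qS (a : Q)) ⟨s, hs⟩)).symm)
        (hKc ⟨g * k * g⁻¹, MonoidHom.normal_ker ρ |>.conj_mem _ k.2 g⟩ _)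
        (hKc ⟨g * k * g⁻¹, MonoidHom.normal_ker ρ |>.conj_mem _ k.2 g⟩ _) fun x =>
          congrArg (fun e : Equiv.Perm X => e x)
            (Subgroup.mem_centralizer_iff.1 (g * k * g⁻¹ : N).2.1 (Rt ⟨s, hs⟩) ⟨_, rfl⟩)
    rw [← Equiv.prod_comp (MulAction.toPerm α) (fun c => transferOn la (Y (rep c))
        (((g * k * g⁻¹ : N) : Equiv.Perm X))), Finset.prod_congr rfl fun c _ =>
        (show transferOn la (Y (rep ((MulAction.toPerm α) c))) _ = _ from hstep c), ← map_prod]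
    have hk' : ∏ c : Af ⧸ H, transferOn la (Y (rep c)) ((k : N) : Equiv.Perm X) = 1 := hk
    rw [hk', map_one]
  -- the quotient
  let M : Subgroup N := T.ker.map K.subtype
  have hMn : M.Normal := ⟨by
    rintro _ ⟨k, hk, rfl⟩ g
    exact ⟨_, hTconj g k hk, rfl⟩⟩
  let L := N ⧸ M
  let mk : N →* L := QuotientGroup.mk' M
  let ι : S →* L := mk.comp ιN
  have hMK : ∀ g ∈ M, ρ g = 1 := by
    rintro _ ⟨k, -, rfl⟩
    exact k.2
  have hρfix : ∀ s : S, ρ (ιN s) = 1 → ∃ a : A, qS (a : Q) = s := fun s hs => by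
    have hc : ∀ x ∈ Q, x * (s : Ω) = s * x := fun x hx => by
      have e := hρι s ⟨x, hx⟩
      rw [hs, MulAut.one_apply] at e
      calc x * (s : Ω) = (s : Ω) * x * (s : Ω)⁻¹ * s := by rw [← e]
        _ = s * x := by group
    exact ⟨⟨⟨s, centralizerIn_le_of_isCentric hQc (mem_centralizerIn.2 ⟨s.2, hc⟩)⟩,
      Subgroup.mem_center_iff.2 fun q => Subtype.ext (hc q q.2)⟩, rfl⟩
  have hιinj : Function.Injective ι := (injective_iff_map_eq_one ι).2 fun s hs => by
    have hsM : ιN s ∈ M := (QuotientGroup.eq_one_iff _).1 hs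
    obtain ⟨a, rfl⟩ := hρfix s (hMK _ hsM)
    obtain ⟨k, hk, hke⟩ := hsM
    obtain rfl : k = ⟨_, hAK a⟩ := Subtype.ext hke
    have h1 : a ^ n = 1 := (hTA a).symm.trans hk
    have ha : a = 1 := hbij.1 (show a ^ n = (1 : A) ^ n by rw [h1, one_pow])
    rw [ha, Subgroup.coe_one, map_one]
  have hKA : ∀ k : N, ρ k = 1 → ∃ a : A, mk k = ι (qS (a : Q)) := fun k hk => by
    obtain ⟨a, ha⟩ := hbij.2 (T ⟨k, hk⟩)
    refine ⟨a, (QuotientGroup.eq).2 ?_⟩
    refine ⟨⟨k, hk⟩⁻¹ * ⟨_, hAK a⟩, ?_, rfl⟩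
    show T _ = 1
    rw [map_mul, map_inv, hTA, show a ^ n = T ⟨k, hk⟩ from ha, inv_mul_cancel]
  have hρL : ∀ g h : N, mk g = mk h → ρ g = ρ h := fun g h e => by
    have := hMK _ (QuotientGroup.eq.1 e)
    rw [map_mul, map_inv, inv_mul_eq_one] at this
    exact this
  have hQnorm : ∀ (g : N) (q : Q), mk g * ι (qS q) * (mk g)⁻¹ = ι (qS (ρ g q)) := fun g q => by
    show mk g * mk (ιN (qS q)) * (mk g)⁻¹ = mk (ιN (qS (ρ g q)))
    rw [← map_inv, ← map_mul, ← map_mul]
    congr 1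
    refine Subtype.ext ?_
    show (g : Equiv.Perm X) * Lp (qS q) * (g : Equiv.Perm X)⁻¹ = Lp (qS (ρ g q))
    rw [hactg g q, mul_inv_cancel_right]
    rfl
  refine ⟨L, inferInstance, ι, isModel_intro hS (realized_intro hιinj ?_ ?_) hQS hFA ?_ ?_⟩
  · intro P f hf
    obtain ⟨k, hk, hke, hkQ⟩ := (isNormal_iff.1 hQn).2 P f hf
    obtain ⟨g, -, hg⟩ := hreal (P ⊔ Q) k le_sup_right hk hkQ
    refine ⟨mk g, fun x y hx hy => ?_⟩
    have := hg x y (Subgroup.mem_sup_left hx) (hy.trans (hke x hx).symm)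
    show mk (ιN y) = mk g * mk (ιN x) * (mk g)⁻¹
    rw [← map_inv, ← map_mul, ← map_mul, this, mul_inv_cancel_right]
  · intro P hP l hl
    obtain ⟨g, rfl⟩ := QuotientGroup.mk'_surjective M l
    have hiso := isIso_autFun hQS (hact g)
    have hext : ∀ x ∈ P ⊔ Q, ExtCond S Q (autFun (act g)) x := by
      intro x hx
      refine (mem_extSubgroup (S := S) (P := Q) (f := autFun (act g))).1 ?_
      refine (sup_le (fun x hx => mem_extSubgroup.2 ?_) (le_extSubgroup hiso.1) : P ⊔ Q ≤ _) hx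
      obtain ⟨y, hy⟩ := hl ⟨x, hP hx⟩ hx
      have e : ρ g * ρ (ιN ⟨x, hP hx⟩) * (ρ g)⁻¹ = ρ (ιN y) := by
        rw [← map_inv, ← map_mul, ← map_mul]
        refine hρL _ _ ?_
        rw [map_mul, map_mul, map_inv]
        exact hy.symm
      refine ⟨hP hx, hSN (hP hx), y, y.2, fun q hq => ?_⟩
      have e2 := congrArg (fun β : MulAut Q => ((β (act g ⟨q, hq⟩) : Q) : Ω)) e
      have h3 : (ρ g * ρ (ιN ⟨x, hP hx⟩) * (ρ g)⁻¹) (act g ⟨q, hq⟩) =
          act g ⟨x * q * x⁻¹, conj_mem_of_mem_normalizer (hSN (hP hx)) hq⟩ := by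
        show ρ g (ρ (ιN ⟨x, hP hx⟩) ((ρ g)⁻¹ (ρ g ⟨q, hq⟩))) = _
        rw [MulAut.inv_apply_self]
        exact congrArg (act g) (Subtype.ext (hρι _ _))
      rw [h3, hρι] at e2
      rw [autFun_apply _ hq, autFun_apply _ (conj_mem_of_mem_normalizer (hSN (hP hx)) hq)]
      exact e2
    obtain ⟨β, hβ, hβe⟩ := exists_extension hRec hiso hext
    have hβQ : IsIso F Q Q β := hiso.congr fun x hx => hβe x hx (Subgroup.mem_sup_right hx)
    obtain ⟨σ, hσρ, hσ⟩ := hreal (P ⊔ Q) β le_sup_right hβ hβQ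
    have hσg : ρ σ = ρ g := hσρ.trans (MulEquiv.ext fun q => Subtype.ext (by
      rw [autOf_apply, hβe _ q.2 (Subgroup.mem_sup_right q.2), autFun_coe]
      rfl))
    obtain ⟨a, ha⟩ := hKA (σ⁻¹ * g) (by rw [map_mul, map_inv, hσg, inv_mul_cancel])
    set z : Ω := ((a : Q) : Ω)
    have hzQ : z ∈ Q := (a : Q).2
    have hcm : ∀ x ∈ P, z * x * z⁻¹ ∈ P ⊔ Q := fun x hx =>
      mul_mem (mul_mem (Subgroup.mem_sup_right hzQ) (Subgroup.mem_sup_left hx))
        (inv_mem (Subgroup.mem_sup_right hzQ))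
    refine ⟨β ∘ fun x => z * x * z⁻¹, (isMor_conj (F := F) hP (hQS hzQ)).comp hβ hcm, fun x y hx hy => ?_⟩
    have h1 := hσ (qS (a : Q) * x * (qS (a : Q))⁻¹) y (hcm x hx) hy
    have h2 : mk σ * (ι (qS (a : Q)) * ι x * (ι (qS (a : Q)))⁻¹) = ι y * mk σ := by
      rw [← map_inv ι, ← map_mul ι, ← map_mul ι]
      show mk σ * mk (ιN _) = mk (ιN y) * mk σ
      rw [← map_mul, ← map_mul, h1]
    have h3 : QuotientGroup.mk' M g = mk σ * ι (qS (a : Q)) := by
      rw [← ha, ← map_mul, mul_inv_cancel_left]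
    rw [h3]
    calc ι y = mk σ * (ι (qS (a : Q)) * ι x * (ι (qS (a : Q)))⁻¹) * (mk σ)⁻¹ := by
          rw [h2, mul_inv_cancel_right]
      _ = mk σ * ι (qS (a : Q)) * ι x * (mk σ * ι (qS (a : Q)))⁻¹ := by group
  · intro l x hx
    obtain ⟨g, rfl⟩ := QuotientGroup.mk'_surjective M l
    exact ⟨qS (ρ g ⟨x, hx⟩), (ρ g ⟨x, hx⟩).2, hQnorm g ⟨x, hx⟩⟩
  · intro l hl
    obtain ⟨g, rfl⟩ := QuotientGroup.mk'_surjective M l
    obtain ⟨a, ha⟩ := hKA g (MulEquiv.ext fun q => by
      have h := hιinj ((hQnorm g q).symm.trans (hl (qS q) q.2))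
      rw [MulAut.one_apply]
      exact Subgroup.inclusion_injective hQS h)
    exact ⟨qS (a : Q), (a : Q).2, ha.symm⟩

end Cfsg.Agent.Fusion
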