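import Mathlib
import Cfsg.Prelude.Def_FusionReduction
import Cfsg.Prelude.Def_LocalEven
import Cfsg.Agent.Lib.Fusion.Model
import Cfsg.Agent.Lib.Fusion.NormalizerSystem
import Cfsg.Agent.Lib.Fusion.KNormalizer

/-!
Models of normalizer systems of centric subgroups, and embeddings between them.
-/

set_option autoImplicit false

universe v

namespace Cfsg.Agent.Fusion

open Cfsg Cfsg.FusionSystem

variable {Ω : Type v} [Group Ω] {S : Subgroup Ω} [Finite S] {F : FusionSystem S} {p : ℕ} [Fact p.Prime]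
  {A P Q R : Subgroup Ω} {f : Ω → Ω}

omit [Finite S] [Fact p.Prime] in
theorem isMor_normalizer_iff {E : FusionSystem (normalizerIn S Q)} (hE : F.IsNormalizerSystem Q E) :
    IsMor E A f ↔ A ≤ normalizerIn S Q ∧ (∀ x ∈ A, f x ∈ normalizerIn S Q) ∧
      ∃ k, IsMor F (A ⊔ Q) k ∧ (∀ x ∈ A, k x = f x) ∧ IsIso F Q Q k := by
  constructor
  · rintro ⟨φ, hφ, hx⟩
    rw [hE A] at hφ
    obtain ⟨-, hA, hm, ψ, hψ, he, hQ⟩ := hφ
    refine ⟨hA, fun x hxA => hx ⟨x, hxA⟩ ▸ hm _, extFun ψ, isMor_extFun hψ, fun x hxA => ?_,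
      (isMor_extFun hψ).restrict le_sup_right, fun y => ?_⟩
    · rw [extFun_apply ψ (Subgroup.mem_sup_left hxA)]
      exact (he ⟨x, hxA⟩).trans (hx _)
    · conv_lhs => rw [← hQ]
      constructor
      · rintro ⟨x, hxQ, rfl⟩
        exact ⟨x, hxQ, extFun_coe ψ x⟩
      · rintro ⟨x, hxQ, rfl⟩
        exact ⟨⟨x, Subgroup.mem_sup_right hxQ⟩, hxQ, (extFun_apply ψ _).symm⟩
  · rintro ⟨hA, hm, k, hk, he, hQ⟩
    obtain ⟨φ, hφ, hx⟩ := (hk.restrict le_sup_left).congr fun x hx => (he x hx).symm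
    obtain ⟨ψ, hψ, hψx⟩ := id hk
    refine ⟨φ, ?_, hx⟩
    rw [hE A]
    refine ⟨hφ, hA, fun x => by rw [hx]; exact hm x x.2, ψ, hψ, fun x => ?_, ?_⟩
    · rw [hψx, hx]
      exact he x x.2
    · ext y
      rw [hQ.2]
      constructor
      · rintro ⟨x, hxQ, rfl⟩
        exact ⟨x, hxQ, (hψx x).symm⟩
      · rintro ⟨x, hxQ, rfl⟩
        exact ⟨⟨x, Subgroup.mem_sup_right hxQ⟩, hxQ, hψx _⟩

omit [Finite S] [Fact p.Prime] in
theorem isMor_of_normalizer {E : FusionSystem (normalizerIn S Q)} (hE : F.IsNormalizerSystem Q E)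
    (hf : IsMor E A f) : IsMor F A f := by
  obtain ⟨φ, hφ, hx⟩ := hf
  rw [hE A] at hφ
  exact ⟨φ, hφ.1, hx⟩

omit [Fact p.Prime] in
theorem isNormal_normalizerSystem (hQ : Q ≤ S) {E : FusionSystem (normalizerIn S Q)}
    (hE : F.IsNormalizerSystem Q E) : E.IsNormal Q := by
  refine isNormal_iff.2 ⟨le_normalizerIn hQ, fun A f hf => ?_⟩
  have : Finite (normalizerIn S Q) := finite_of_le normalizerIn_le
  obtain ⟨hA, hm, k, hk, he, hkQ⟩ := (isMor_normalizer_iff hE).1 hf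
  have hsup : A ⊔ Q ≤ normalizerIn S Q := sup_le hA (le_normalizerIn hQ)
  have hkm : IsMor E (A ⊔ Q) k := (isMor_normalizer_iff hE).2 ⟨hsup, fun x hx =>
    hk.apply_mem_normalizerIn le_sup_right hkQ hx (hsup hx).2, k,
      by rwa [sup_assoc, sup_idem], fun _ _ => rfl, hkQ⟩
  exact ⟨k, hkm, he, (hkm.restrict le_sup_right).isIso_self (P := Q) fun x hx => hkQ.apply_mem hx⟩

omit [Finite S] [Fact p.Prime] in
theorem isCentric_normalizerSystem (hQ : F.IsCentric Q) {E : FusionSystem (normalizerIn S Q)}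
    (hE : F.IsNormalizerSystem Q E) : E.IsCentric Q := by
  refine ⟨le_normalizerIn hQ.1, fun R hR => ?_⟩
  obtain ⟨u, hu⟩ := isConj_iff_exists_isIso.1 hR
  have hu' : IsIso F Q R u := ⟨isMor_of_normalizer hE hu.1, hu.2⟩
  exact le_trans (inf_le_inf_right _ normalizerIn_le) (hQ.2 R hu'.isConj)

/-- The normalizer system of a fully normalized centric subgroup has a model. -/
theorem exists_normalizer_model (hS : IsPGroup p S) (hF : F.IsSaturated p) (hQn : F.IsFullyNormalized Q)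
    (hQc : F.IsCentric Q) :
    ∃ (E : FusionSystem (normalizerIn S Q)) (_ : F.IsNormalizerSystem Q E) (L : Type v) (_ : Group L)
      (ι : normalizerIn S Q →* L), E.IsModel p L ι := by
  have : Finite (normalizerIn S Q) := finite_of_le normalizerIn_le
  obtain ⟨E, hE⟩ := exists_normalizerSystem F hQn.1
  obtain ⟨L, hL, ι, hι⟩ := exists_model (hS.to_le normalizerIn_le) (normalizerSystem_saturated hS hF hQn hE)
    (isNormal_normalizerSystem hQn.1 hE) (isCentric_normalizerSystem hQc hE)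
  exact ⟨E, hE, L, hL, ι, hι⟩

omit [Finite S] [Fact p.Prime] in
theorem mImg_conj_eq {T : Subgroup Ω} {G : Type*} [Group G] {κ : T →* G} {g : G} {U : Subgroup Ω}
    (h1 : ∀ x : T, (x : Ω) ∈ U → ∃ y : T, (y : Ω) ∈ U ∧ g * κ x * g⁻¹ = κ y)
    (h2 : ∀ y : T, (y : Ω) ∈ U → ∃ x : T, (x : Ω) ∈ U ∧ g * κ x * g⁻¹ = κ y) :
    g ∈ Subgroup.normalizer (mImg κ U : Set G) := by
  refine Subgroup.mem_normalizer_iff.2 fun z => ⟨?_, ?_⟩
  · rintro ⟨x, hx, rfl⟩
    obtain ⟨y, hy, he⟩ := h1 x hx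
    exact ⟨y, hy, he.symm⟩
  · rintro ⟨y, hy, he⟩
    obtain ⟨x, hx, he'⟩ := h2 y hy
    exact ⟨x, hx, mul_left_cancel (a := g) (mul_right_cancel (b := g⁻¹) (he'.trans he))⟩

omit [Fact p.Prime] in
theorem IsMor.apply_mem_sup {T : Subgroup Ω} (hf : IsMor F (A ⊔ P) f) (hfA : ∀ x ∈ A, f x ∈ T)
    (hfP : ∀ x ∈ P, f x ∈ T) {x : Ω} (hx : x ∈ A ⊔ P) : f x ∈ T := by
  obtain ⟨φ, -, he⟩ := hf
  have hle : (⊤ : Subgroup ↥(A ⊔ P)) ≤ T.comap φ := by
    rw [← Subgroup.subgroupOf_self, Subgroup.subgroupOf_sup le_sup_left le_sup_right]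
    refine sup_le (fun y hy => ?_) fun y hy => ?_
    · show φ y ∈ T
      rw [he]
      exact hfA y hy
    · show φ y ∈ T
      rw [he]
      exact hfP y hy
  have := hle (x := ⟨x, hx⟩) trivial
  rw [Subgroup.mem_comap, he] at this
  exact this

/-- If the maps of `E` extend to a centric subgroup `P`, a model of `E` embeds into a model of the
normalizer system of a fully normalized conjugate of `P`. -/
theorem exists_embedding (hS : IsPGroup p S) (hF : F.IsSaturated p) {T : Subgroup Ω} {E : FusionSystem T}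
    (hT : T ≤ normalizerIn S P) (hPc : F.IsCentric P)
    (hRP : R ≤ P) (hQP : Q ≤ P) (hQnorm : T ≤ Subgroup.normalizer (Q : Set Ω)) (hRT : R ≤ T) (hRn : E.IsNormal R) (hRc : E.IsCentric R)
    {L : Type*} [Group L] {ι : T →* L} (hL : E.IsModel p L ι)
    (hext : ∀ A f, IsMor E A f → ∃ ψ, IsMor F (A ⊔ P) ψ ∧ (∀ x ∈ A, ψ x = f x) ∧ IsIso F P P ψ ∧
      IsIso F R R ψ ∧ IsIso F Q Q ψ)
    (hC : ∀ f, IsIso F P P f → IsIso F Q Q f → (∀ r ∈ R, f r = r) →
      ∃ z ∈ R, ∀ y ∈ P, f y = z * y * z⁻¹)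
    (hCP : centralizerIn S P ≤ R)
    {P' : Subgroup Ω} (hconj : F.IsConj P P') (hP' : F.IsFullyNormalized P')
    {N' : FusionSystem (normalizerIn S P')} (hN' : F.IsNormalizerSystem P' N')
    {L' : Type*} [Group L'] {ι' : normalizerIn S P' →* L'} (hL' : N'.IsModel p L' ι') :
    ∃ φ : L →* L', Function.Injective φ := by
  classical
  have := hL.1
  have : Finite (normalizerIn S P') := finite_of_le normalizerIn_le
  have : Finite T := finite_of_le (hT.trans normalizerIn_le)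
  have hPS := hPc.1
  have hTS : T ≤ S := hT.trans normalizerIn_le
  have hRS : R ≤ S := hRP.trans hPS
  obtain ⟨k₀, k, hk₀, hk, hke, hkN⟩ := exists_iso_to_fullyNormalized hS hF hconj hP'
  have hkP : IsIso F P P' k := hk₀.congr hke
  obtain ⟨φk, -, hφk⟩ := id hk
  let NP := normalizerIn S P
  let κ : NP →* L' := ι'.comp (φk.codRestrict (normalizerIn S P') fun x => by
    rw [hφk]; exact hkN x x.2)
  have hκe : ∀ (x : NP) (y : normalizerIn S P'), (y : Ω) = k x → κ x = ι' y := by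
    intro x y hy
    show ι' _ = ι' y
    congr 1
    exact Subtype.ext ((hφk x).trans hy.symm)
  have hPN : P ≤ NP := le_normalizerIn hPS
  have hQN : Q ≤ NP := hQP.trans hPN
  have hRN : R ≤ NP := hRP.trans hPN
  let ι₂ : T →* L' := κ.comp (Subgroup.inclusion hT)
  have hι₂i : Function.Injective ι₂ := fun a b h => by
    have h1 := congrArg (fun y : normalizerIn S P' => (y : Ω)) (hL'.2.1.1 (show ι' _ = ι' _ from h))
    replace h1 : φk (Subgroup.inclusion hT a) = φk (Subgroup.inclusion hT b) := h1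
    rw [hφk, hφk] at h1
    exact Subtype.ext (hk.injOn (hT a.2) (hT b.2) h1)
  let H : Subgroup L' := Subgroup.normalizer (mImg κ R : Set L') ⊓ Subgroup.normalizer (mImg κ Q : Set L')
  -- elements realising the maps of `E`
  have hreal : ∀ A f, IsMor E A f → ∃ g ∈ H, ∀ x y : T, (x : Ω) ∈ A → (y : Ω) = f x →
      ι₂ y = g * ι₂ x * g⁻¹ := by
    intro A f hf
    obtain ⟨ψ, hψ, hψe, hψP, hψR, hψQ⟩ := hext A f hf
    have hAN : A ≤ NP := hf.le.trans hT
    have hsup : A ⊔ P ≤ NP := sup_le hAN hPN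
    have hψN : ∀ x ∈ A ⊔ P, ψ x ∈ NP := fun x hx =>
      hψ.apply_mem_sup (fun y hy => hψe y hy ▸ hT (hf.mem hy)) (fun y hy => hPN (hψP.apply_mem hy)) hx
    have hks := (hk.restrict hsup).isIso
    obtain ⟨ki, hki, hkil, hkir⟩ := hks.exists_symm
    have hkp : P' ≤ (hk.restrict hsup).image (A ⊔ P) le_rfl := by
      intro y hy
      obtain ⟨x, hx, rfl⟩ := hkP.exists_apply hy
      exact ⟨x, Subgroup.mem_sup_right hx, rfl⟩
    have hcomp : IsMor F ((hk.restrict hsup).image (A ⊔ P) le_rfl) (k ∘ ψ ∘ ki) :=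
      (hki.1.comp hψ fun y hy => hki.apply_mem hy).comp hk fun y hy => hψN _ (hki.apply_mem hy)
    have hmor' : IsMor N' ((hk.restrict hsup).image (A ⊔ P) le_rfl) (k ∘ ψ ∘ ki) := by
      refine (isMor_normalizer_iff hN').2 ⟨?_, fun y hy => hkN _ (hψN _ (hki.apply_mem hy)), _,
        by rwa [sup_eq_left.2 hkp], fun _ _ => rfl, (hcomp.restrict hkp).isIso_self fun y hy => ?_⟩
      · rintro _ ⟨x, hx, rfl⟩
        exact hkN x (hsup hx)
      · obtain ⟨x, hx, rfl⟩ := hkP.exists_apply hy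
        show k (ψ (ki (k x))) ∈ P'
        rw [hkil x (Subgroup.mem_sup_right hx)]
        exact hkP.apply_mem (hψP.apply_mem hx)
    obtain ⟨g, hg⟩ := realized_exists_conj hL'.2.1 hmor'
    have hg2 : ∀ x y : NP, (x : Ω) ∈ A ⊔ P → (y : Ω) = ψ x → κ y = g * κ x * g⁻¹ := fun x y hx hy => by
      rw [hκe x ⟨k x, hkN x x.2⟩ rfl, hκe y ⟨k y, hkN y y.2⟩ rfl]
      refine hg ⟨k x, hkN x x.2⟩ ⟨k y, hkN y y.2⟩ ⟨x, hx, rfl⟩ ?_
      show k y = k (ψ (ki (k x)))
      rw [hkil x hx, hy]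
    have hnor : ∀ U, U ≤ P → IsIso F U U ψ → g ∈ Subgroup.normalizer (mImg κ U : Set L') := by
      intro U hUP hU
      refine mImg_conj_eq (fun x hx => ?_) fun y hy => ?_
      · exact ⟨⟨ψ x, hPN (hUP (hU.apply_mem hx))⟩, hU.apply_mem hx,
          (hg2 x _ (Subgroup.mem_sup_right (hUP hx)) rfl).symm⟩
      · obtain ⟨x, hx, hxy⟩ := hU.exists_apply hy
        exact ⟨⟨x, hPN (hUP hx)⟩, hx, (hg2 _ y (Subgroup.mem_sup_right (hUP hx)) hxy.symm).symm⟩
    exact ⟨g, ⟨hnor R hRP hψR, hnor Q hQP hψQ⟩, fun x y hx hy =>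
      hg2 (Subgroup.inclusion hT x) (Subgroup.inclusion hT y) (Subgroup.mem_sup_left hx)
        (hy.trans (hψe _ hx).symm)⟩
  -- `ι₂` lands in `H`
  have hιH : ∀ t : T, ι₂ t ∈ H := by
    intro t
    refine ⟨mImg_conj_eq (fun x hx => ?_) (fun y hy => ?_), mImg_conj_eq (fun x hx => ?_) (fun y hy => ?_)⟩
    · refine ⟨Subgroup.inclusion hT t * x * (Subgroup.inclusion hT t)⁻¹, ?_, by
        rw [map_mul, map_mul, map_inv]; rfl⟩
      have hn := normal_le_normalizer hRn t.2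
      exact conj_mem_of_mem_normalizer hn hx
    · refine ⟨(Subgroup.inclusion hT t)⁻¹ * y * Subgroup.inclusion hT t, ?_, by
        rw [map_mul, map_mul, map_inv]; show κ _ * _ * (κ _)⁻¹ = _; group⟩
      have hn := inv_mem (normal_le_normalizer hRn t.2)
      simpa using conj_mem_of_mem_normalizer hn hy
    · refine ⟨Subgroup.inclusion hT t * x * (Subgroup.inclusion hT t)⁻¹, ?_, by
        rw [map_mul, map_mul, map_inv]; rfl⟩
      have hn : (t : Ω) ∈ Subgroup.normalizer (Q : Set Ω) := hQnorm t.2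
      exact conj_mem_of_mem_normalizer hn hx
    · refine ⟨(Subgroup.inclusion hT t)⁻¹ * y * Subgroup.inclusion hT t, ?_, by
        rw [map_mul, map_mul, map_inv]; show κ _ * _ * (κ _)⁻¹ = _; group⟩
      have hn := inv_mem (hQnorm t.2)
      simpa using conj_mem_of_mem_normalizer hn hy
  obtain ⟨φ, hφ, -⟩ := exists_hom_extending (G₂ := H) (ι₂ := ι₂.codRestrict H hιH)
    ((hS.to_le hTS)) hL.2.1 (fun a b h => hι₂i (congrArg Subtype.val h))
    (fun A f hf => by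
      obtain ⟨g, hgH, hg⟩ := hreal A f hf
      exact ⟨⟨g, hgH⟩, fun x y hx hy => Subtype.ext (hg x y hx hy)⟩)
    hL.2.2.1 hRT (normCent_of_model (hS.to_le hTS) hL hRn hRc)
    ⟨fun g x hx => by
      have h := (Subgroup.mem_normalizer_iff.1 g.2.1 (κ (Subgroup.inclusion hT x))).1 ⟨_, hx, rfl⟩
      obtain ⟨y, hy, he⟩ := h
      exact ⟨⟨y, hRT hy⟩, hy, Subtype.ext he.symm⟩,
    fun g hg => by
      have hN'n := isNormal_normalizerSystem hP'.1 hN'
      have nc := normCent_of_model (hS.to_le normalizerIn_le) hL' hN'n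
        (isCentric_normalizerSystem (isCentric_of_isConj hPc hconj) hN')
      have hP'N : P' ≤ normalizerIn S P' := le_normalizerIn hP'.1
      obtain ⟨f', hf', hfg⟩ := realized_exists_mor hL'.2.1 hP'N (g : L') fun x hx => by
        obtain ⟨y, -, he⟩ := nc.norm g x hx
        exact ⟨y, he.symm⟩
      have hf'P : IsIso F P' P' f' := (isMor_of_normalizer hN' hf').isIso_self fun x hx => by
        obtain ⟨y, hy, he⟩ := nc.norm g ⟨x, hP'N hx⟩ hx
        have e := hfg ⟨x, hP'N hx⟩ ⟨f' x, hf'.mem hx⟩ hx rfl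
        rw [he] at e
        rw [show f' x = (y : Ω) from congrArg Subtype.val (hL'.2.1.1 e)]
        exact hy
      obtain ⟨kj, hkj, hkjl, hkjr⟩ := hkP.exists_symm
      have hfP : IsIso F P P (kj ∘ f' ∘ k) := (hkP.trans hf'P).trans hkj
      have hconjg : ∀ (x : NP) (y : NP), (x : Ω) ∈ P → (y : Ω) ∈ P → (g : L') * κ x * (g : L')⁻¹ = κ y →
          (kj ∘ f' ∘ k) x = y := by
        intro x y hx hy he
        have hxk : k x ∈ P' := hkP.apply_mem hx
        have e := hfg ⟨k x, hP'N hxk⟩ ⟨f' (k x), hf'.mem hxk⟩ hxk rfl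
        rw [← hκe x ⟨k x, hP'N hxk⟩ rfl, he, hκe y ⟨k y, hkN y y.2⟩ rfl] at e
        show kj (f' (k x)) = y
        rw [show f' (k x) = k y from congrArg Subtype.val (hL'.2.1.1 e), hkjl _ hy]
      have hfQ : IsIso F Q Q (kj ∘ f' ∘ k) := (hfP.1.restrict hQP).isIso_self fun x hx => by
        obtain ⟨y, hy, he⟩ := (Subgroup.mem_normalizer_iff.1 g.2.2 (κ ⟨x, hQN hx⟩)).1 ⟨_, hx, rfl⟩
        rw [hconjg ⟨x, hQN hx⟩ y (hQP hx) (hQP hy) he.symm]
        exact hy
      have hfR : ∀ r ∈ R, (kj ∘ f' ∘ k) r = r := fun r hr =>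
        hconjg ⟨r, hRN hr⟩ ⟨r, hRN hr⟩ (hRP hr) (hRP hr) (congrArg Subtype.val (hg ⟨r, hRT hr⟩ hr))
      obtain ⟨z, hz, hze⟩ := hC _ hfP hfQ hfR
      obtain ⟨w, hw, hwe⟩ := nc.cent ((κ ⟨z, hRN hz⟩)⁻¹ * g) (by
        intro x hx
        obtain ⟨y, hy, hyx⟩ := hkP.exists_apply hx
        have hκy : κ ⟨y, hPN hy⟩ = ι' x := hκe _ _ hyx.symm
        have e1 : (g : L') * ι' x * (g : L')⁻¹ = κ (⟨z, hRN hz⟩ * ⟨y, hPN hy⟩ * ⟨z, hRN hz⟩⁻¹) := by
          have hyk : f' (k y) ∈ P' := hf'P.apply_mem (hkP.apply_mem hy)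
          have e := hfg x ⟨f' (k y), hP'N hyk⟩ hx (by show f' (k y) = f' x; rw [hyx])
          rw [← e]
          refine (hκe _ _ ?_).symm
          show f' (k y) = k (z * y * z⁻¹)
          rw [← hze y hy]
          exact (hkjr _ hyk).symm
        rw [map_mul, map_mul, map_inv, hκy] at e1
        calc (κ ⟨z, hRN hz⟩)⁻¹ * g * ι' x * ((κ ⟨z, hRN hz⟩)⁻¹ * g)⁻¹
            = (κ ⟨z, hRN hz⟩)⁻¹ * ((g : L') * ι' x * (g : L')⁻¹) * κ ⟨z, hRN hz⟩ := by group
          _ = ι' x := by rw [e1]; group)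
      obtain ⟨y, hy, hyw⟩ := hkP.exists_apply hw
      have hκy : κ ⟨y, hPN hy⟩ = ι' w := hκe _ _ hyw.symm
      have hgval : (g : L') = κ (⟨z, hRN hz⟩ * ⟨y, hPN hy⟩) := by
        rw [map_mul, hκy, hwe, mul_inv_cancel_left]
      have hfy : ∀ x ∈ P, z * y * x * (z * y)⁻¹ = z * x * z⁻¹ := fun x hx => by
        rw [← hze x hx]
        refine (hconjg ⟨x, hPN hx⟩ (⟨z, hRN hz⟩ * ⟨y, hPN hy⟩ * ⟨x, hPN hx⟩ * (⟨z, hRN hz⟩ * ⟨y, hPN hy⟩)⁻¹)
          hx (mul_mem (mul_mem (mul_mem (hRP hz) hy) hx) (inv_mem (mul_mem (hRP hz) hy))) ?_).symm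
        rw [hgval, map_mul, map_mul, map_mul, map_inv, map_mul]
      have hyR : y ∈ R := hCP (mem_centralizerIn.2 ⟨hPS hy, fun x hx => by
        have e := hfy x hx
        calc x * y = z⁻¹ * (z * x * z⁻¹) * z * y := by group
          _ = z⁻¹ * (z * y * x * (z * y)⁻¹) * z * y := by rw [e]
          _ = y * x := by group⟩)
      refine ⟨⟨z, hRT hz⟩ * ⟨y, hRT hyR⟩, R.mul_mem hz hyR, Subtype.ext ?_⟩
      show ι₂ (⟨z, hRT hz⟩ * ⟨y, hRT hyR⟩) = (g : L')
      rw [hgval]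
      rfl⟩
  exact ⟨(Subgroup.subtype H).comp φ, H.subtype_injective.comp hφ⟩

theorem involves_of_injective {H G G' : Type*} [Group H] [Group G] [Group G'] (φ : G →* G')
    (hφ : Function.Injective φ) (h : Involves H G) : Involves H G' := by
  obtain ⟨K, R, hn, ⟨e⟩⟩ := h
  let e' : K ≃* K.map φ := K.equivMapOfInjective φ hφ
  have hmap : (R.subgroupOf K).map e'.toMonoidHom = (R.map φ).subgroupOf (K.map φ) := by
    ext x
    constructor
    · rintro ⟨y, hy, rfl⟩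
      exact ⟨y, hy, rfl⟩
    · rintro ⟨r, hr, hrx⟩
      obtain ⟨y, rfl⟩ := e'.surjective x
      refine ⟨y, ?_, rfl⟩
      rw [show r = (y : G) from hφ (hrx.trans (Subgroup.coe_equivMapOfInjective_apply K φ hφ y))] at hr
      exact hr
  have hn' : ((R.map φ).subgroupOf (K.map φ)).Normal := hmap ▸ hn.map _ e'.surjective
  exact ⟨K.map φ, R.map φ, hn', ⟨(QuotientGroup.congr (R.subgroupOf K) ((R.map φ).subgroupOf (K.map φ)) e' hmap).symm.trans e⟩⟩

end Cfsg.Agent.Fusion
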