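import Cfsg.Agent.Lib.Fusion.CenterControl
import Cfsg.Agent.Lib.Fusion.ModelSection

/-!
Functors given on groups, and the centre theorem for functors with a local centre condition.
-/

set_option autoImplicit false

universe u

namespace Cfsg.Agent.Fusion

open Cfsg Cfsg.FusionSystem

variable {p : ℕ} [Fact p.Prime]

open Classical in
/-- The functor on subgroups attached to a functor on `p`-groups. -/
noncomputable def liftFunctor (W : ∀ (Q : Type u) [Group Q], Subgroup Q)
    (hW1 : ∀ (Q : Type u) [Group Q] [Finite Q], IsPGroup p Q → Nontrivial Q → W Q ≠ ⊥)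
    (hW2 : ∀ (Q R : Type u) [Group Q] [Group R] [Finite Q], IsPGroup p Q → ∀ φ : Q ≃* R,
      (W Q).map φ.toMonoidHom = W R) : SubFunctor.{u} p where
  W {G} _ P := if IsPGroup p P then (W P).map P.subtype else P
  le {G} _ P := by
    split
    · exact Subgroup.map_subtype_le _
    · exact le_rfl
  ne := by
    intro G _ P _ hP h1 h
    rw [if_pos hP] at h
    exact hW1 P hP ((Subgroup.nontrivial_iff_ne_bot P).2 h1)
      ((Subgroup.map_eq_bot_iff_of_injective _ P.subtype_injective).1 h)
  map := by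
    intro G H _ _ P _ f hf
    by_cases hP : IsPGroup p P
    · have hR : IsPGroup p f.range := hP.of_equiv (MonoidHom.ofInjective hf)
      rw [if_pos hP, if_pos hR]
      rw [show ((W P).map P.subtype).subgroupOf P = W P from
        Subgroup.comap_map_eq_self_of_injective P.subtype_injective _]
      rw [← hW2 P f.range hP (MonoidHom.ofInjective hf), Subgroup.map_map]
      rfl
    · have hR : ¬ IsPGroup p f.range := fun h => hP (h.of_equiv (MonoidHom.ofInjective hf).symm)
      rw [if_neg hP, if_neg hR, Subgroup.subgroupOf_self, MonoidHom.range_eq_map]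

variable {W : ∀ (Q : Type u) [Group Q], Subgroup Q}
  {hW1 : ∀ (Q : Type u) [Group Q] [Finite Q], IsPGroup p Q → Nontrivial Q → W Q ≠ ⊥}
  {hW2 : ∀ (Q R : Type u) [Group Q] [Group R] [Finite Q], IsPGroup p Q → ∀ φ : Q ≃* R,
    (W Q).map φ.toMonoidHom = W R}

omit [Fact p.Prime] in
theorem liftFunctor_apply {G : Type u} [Group G] {P : Subgroup G} (hP : IsPGroup p P) :
    (liftFunctor W hW1 hW2).W P = (W P).map P.subtype :=
  if_pos hP

omit [Fact p.Prime] in
theorem centralIn_lift (hWZ : ∀ (Q : Type u) [Group Q] [Finite Q], IsPGroup p Q → Subgroup.center Q ≤ W Q) :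
    CentralIn (liftFunctor W hW1 hW2) := by
  intro G _ P _ hP z hz hc
  rw [liftFunctor_apply hP]
  exact ⟨⟨z, hz⟩, hWZ P hP (Subgroup.mem_center_iff.2 fun a => Subtype.ext (hc a a.2)), rfl⟩

/-- The transfer of a local centre condition to constrained systems. -/
theorem fixLocal_of_groups (V : SubFunctor.{u} p) (hV : CentralIn V)
    (hC : ∀ (L : Type u) [Group L] [Finite L] (P : Sylow p L),
      Subgroup.centralizer (pCore p L : Set L) ≤ pCore p L →
      ∀ z ∈ (P : Subgroup L), (∀ a ∈ (P : Subgroup L), a * z = z * a) →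
        (∀ g ∈ Subgroup.normalizer (V.W (P : Subgroup L) : Set L), g * z * g⁻¹ = z) →
        ∀ g : L, g * z * g⁻¹ = z) : FixLocal p V := by
  intro Ω _ S _ F R hS hF hRn hRc z hzS hzc hN A f hf hzA
  obtain ⟨L, hLg, ι, hL⟩ := exists_model hS hF hRn hRc
  have := hL.1
  obtain ⟨T, hT⟩ := hL.2.2.1
  have hi := hL.2.1.1
  have hfin : Finite (V.W S) := finite_of_le (V.le S)
  have hVT : V.W (T : Subgroup L) = mImg ι (V.W S) := by
    rw [hT, ← V.map S ι hi]
    ext y
    constructor
    · rintro ⟨x, hx, rfl⟩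
      exact ⟨x, hx, rfl⟩
    · rintro ⟨x, hx, rfl⟩
      exact ⟨x, hx, rfl⟩
  have hcen : ∀ g : L, g * ι ⟨z, hzS⟩ * g⁻¹ = ι ⟨z, hzS⟩ := by
    refine hC L T hL.2.2.2 _ (hT.ge ⟨_, rfl⟩) (fun a ha => ?_) fun g hg => ?_
    · obtain ⟨b, rfl⟩ := hT.le ha
      rw [← map_mul, ← map_mul]
      exact congrArg ι (Subtype.ext (hzc b b.2))
    · have hg' : g ∈ Subgroup.normalizer ((mImg ι (V.W S) : Subgroup L) : Set L) :=
        (congrArg (fun X : Subgroup L => Subgroup.normalizer (X : Set L)) hVT).le hg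
      have hmem : ∀ x : S, (x : Ω) ∈ V.W S → ∃ y : S, (y : Ω) ∈ V.W S ∧ g * ι x * g⁻¹ = ι y := by
        intro x hx
        obtain ⟨y, hy, he⟩ := (Subgroup.mem_normalizer_iff.1 hg' (ι x)).1 ⟨x, hx, rfl⟩
        exact ⟨y, hy, he.symm⟩
      have hzV : z ∈ V.W S := hV S hS z hzS hzc
      obtain ⟨k, hk, hkg⟩ := realized_exists_mor hL.2.1 (V.le S) g fun x hx => by
        obtain ⟨y, -, hy⟩ := hmem x hx
        exact ⟨y, hy.symm⟩
      have hkV : IsIso F (V.W S) (V.W S) k := hk.isIso_self fun x hx => by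
        obtain ⟨y, hy, he⟩ := hmem ⟨x, V.le S hx⟩ hx
        have e := hkg ⟨x, V.le S hx⟩ ⟨k x, hk.mem hx⟩ hx rfl
        rw [he] at e
        rw [show k x = (y : Ω) from congrArg Subtype.val (hi e)]
        exact hy
      exact (hkg ⟨z, hzS⟩ ⟨z, hzS⟩ hzV (hN k hkV).symm).symm
  obtain ⟨g, hg⟩ := realized_exists_conj hL.2.1 hf
  have e := hg ⟨z, hzS⟩ ⟨f z, hf.mem hzA⟩ hzA rfl
  rw [hcen g] at e
  exact congrArg Subtype.val (hi e)

/-- The centre of `N_F(W(S))` is the centre of `F`. -/
theorem center_eq_of_fixLocal (V : SubFunctor.{u} p) (hV : CentralIn V) (hL : FixLocal p V)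
    {Ω : Type u} [Group Ω] {S : Subgroup Ω} [Finite S] (hS : IsPGroup p S) {F : FusionSystem S}
    (hF : F.IsSaturated p) {U : Subgroup Ω} (hU : U = V.W S) {N : FusionSystem (normalizerIn S U)}
    (hN : F.IsNormalizerSystem U N) : N.center = F.center := by
  subst hU
  have hUS : V.W S ≤ S := V.le S
  have hSU : S ≤ Subgroup.normalizer (V.W S : Set Ω) := fun a ha =>
    V.mem_normalizer le_rfl ha (Subgroup.le_normalizer ha)
  have hfn : F.IsFullyNormalized (V.W S) := ⟨hUS, fun R _ => by
    rw [show normalizerIn S (V.W S) = S from inf_eq_left.2 hSU]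
    exact Nat.card_le_card_of_injective (Subgroup.inclusion normalizerIn_le)
      (Subgroup.inclusion_injective _)⟩
  have hNs := normalizerSystem_saturated hS hF hfn hN
  have : Finite (normalizerIn S (V.W S)) := finite_of_le normalizerIn_le
  refine le_antisymm (fun z hz => ?_) (fun z hz => ?_)
  · have hz' := center_le_center N hz
    have hzS : z ∈ S := hz'.1.1
    have hzc : ∀ a ∈ S, a * z = z * a := fun a ha =>
      Subgroup.mem_centralizer_iff.1 hz'.2 a ⟨ha, hSU ha⟩
    refine mem_center_of_forall hS hF hzS fun x hx A f hf hxA => ?_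
    have hxc : x ∈ N.center := Subgroup.zpowers_le.2 hz hx
    obtain ⟨n, rfl⟩ := hx
    refine fixed_of_functor V hV hL _ rfl hS hF (S.zpow_mem hzS n)
      (fun a ha => ((show Commute a z from hzc a ha).zpow_right n).eq) (fun k hk => ?_) A f hf hxA
    have hxV : z ^ n ∈ V.W S := hV S hS _ (S.zpow_mem hzS n) fun a ha =>
      ((show Commute a z from hzc a ha).zpow_right n).eq
    have hkN : IsMor N (V.W S) k := (isMor_normalizer_iff hN).2
      ⟨le_normalizerIn hUS, fun y hy => le_normalizerIn hUS (hk.apply_mem hy), k,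
        by rw [sup_idem]; exact hk.1, fun _ _ => rfl, hk⟩
    exact center_fixed hkN hxc hxV
  · obtain ⟨hzS, hzc⟩ := center_le_center F hz
    have hzU : z ∈ V.W S := hV S hS z hzS fun a ha => Subgroup.mem_centralizer_iff.1 hzc a ha
    refine mem_center_of_fixed (hS.to_le normalizerIn_le) hNs (isNormal_normalizerSystem hUS hN) hzU
      fun α hα => center_fixed (isMor_of_normalizer hN
        (isMor_of_mem_autGroup (le_normalizerIn hUS) hα)) hz hzU

end Cfsg.Agent.Fusion
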