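import Mathlib
import Cfsg.Agent.Lib.Fusion.FactorSat
import Cfsg.Agent.Lib.Fusion.Normal

/-!
Strongly closed subgroups and factor systems; solvable systems.
-/

set_option autoImplicit false

namespace Cfsg.Agent.Fusion

open Cfsg Cfsg.FusionSystem

variable {Ω : Type*} [Group Ω] {S : Subgroup Ω} {F : FusionSystem S} {P Q R T U : Subgroup Ω}
  {f g k : Ω → Ω} {Ω' : Type*} [Group Ω'] {S' : Subgroup Ω'} {θ : S →* Ω'} {P' Q' R' : Subgroup Ω'}
  {E : FusionSystem S'} {p : ℕ}

/-- A strongly closed abelian subgroup is normal. -/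
theorem isNormal_of_abelian [Finite S] [Fact p.Prime] (hS : IsPGroup p S) (hF : F.IsSaturated p)
    (hQ : F.StronglyClosed Q) (hab : ⁅Q, Q⁆ = ⊥) : F.IsNormal Q := by
  refine isNormal_of_series hS hF hQ (n := 1) ![⊥, Q] rfl rfl
    (Fin.monotone_iff_le_succ.2 fun i => ?_) (fun i => ?_) fun i => ?_
  · fin_cases i
    exact bot_le
  · fin_cases i
    exact hab.le
  · fin_cases i
    exact ⟨bot_le, fun φ _ => eq_bot_iff.2 (by
      rintro _ ⟨x, rfl⟩
      rw [show x = 1 from Subtype.ext (Subgroup.mem_bot.1 x.2), map_one]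
      exact one_mem _)⟩

section Fac

variable [Finite S] [Fact p.Prime] (hS : IsPGroup p S) (hF : F.IsSaturated p)
  (hT : F.StronglyClosed T) (hE : F.IsFactorSystem T θ E)
include hT hE

omit [Finite S] [Fact p.Prime] in
theorem image_stronglyClosed (hU : F.StronglyClosed U) (hTU : T ≤ U) :
    E.StronglyClosed (imageAlong θ U) := by
  refine stronglyClosed_of_apply_mem (imageAlong_le hE.2.2.1) fun R' f' hR' hf' y hy => ?_
  obtain ⟨hRS, f, hf, hi⟩ := hf'.factor_lift hE
  obtain ⟨x, hx, rfl⟩ := exists_qfun_eq hE.2.2.1 hRS hy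
  rw [hi x hx]
  refine imageAlong_mem hU.1 (stronglyClosed_apply hU hf hx ?_)
  obtain ⟨u, hu, huS, hxu⟩ := mem_imageAlong.1 (hR' hy)
  rw [qfun_eq_iff hE.2.1 huS (preimageAlong_le hx)] at hxu
  rw [show x = u * (u⁻¹ * x) by group]
  exact U.mul_mem hu (hTU hxu)

include hS hF in
theorem preimage_stronglyClosed (hP' : E.StronglyClosed P') : F.StronglyClosed (preimageAlong θ P') := by
  refine stronglyClosed_of_apply_mem preimageAlong_le fun R f hR hf x hx => ?_
  obtain ⟨f', hf', hi⟩ := factor_isMor_of hS hF hT hE hf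
  refine mem_preimageAlong.2 ⟨hf.mem hx, ?_⟩
  rw [← hi x hx]
  exact stronglyClosed_apply hP' hf' (imageAlong_mem hf.le hx) (mem_preimageAlong.1 (hR hx)).2

end Fac

end Cfsg.Agent.Fusion
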