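import Mathlib
import Cfsg.Prelude.Def_FusionReduction
import Cfsg.Agent.Lib.Fusion.ModelSection

/-!
Section-free systems: normalizer systems, and the reduction to radical subgroups.
-/

set_option autoImplicit false

universe v

namespace Cfsg.Agent.Fusion

open Cfsg Cfsg.FusionSystem

variable {Ω : Type v} [Group Ω] {S : Subgroup Ω} [Finite S] {F : FusionSystem S} {p : ℕ} [Fact p.Prime]
  {P Q R : Subgroup Ω}

theorem centric_sup_of_normalizer (hS : IsPGroup p S) (hF : F.IsSaturated p) (hQ : F.IsFullyNormalized Q)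
    {N : FusionSystem (normalizerIn S Q)} (hN : F.IsNormalizerSystem Q N) (hR : N.IsCentric R) :
    F.IsCentric (R ⊔ Q) := by
  have hQN : Q ≤ normalizerIn S Q := le_normalizerIn hQ.1
  have hRS : R ≤ S := hR.1.trans normalizerIn_le
  have : Finite (normalizerIn S Q) := finite_of_le normalizerIn_le
  refine ⟨sup_le hRS hQ.1, fun P₁ hP₁ => ?_⟩
  obtain ⟨f, hf⟩ := isConj_iff_exists_isIso.1 hP₁
  set Q₁ := hf.1.image Q le_sup_right
  have hQ₁ : IsIso F Q Q₁ f := hf.restrict le_sup_right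
  obtain ⟨k₀, k, hk₀, hk, hke, hkN⟩ :=
    exists_iso_to_fullyNormalized hS hF (isConj_symm hQ₁.isConj) hQ
  have hPN : ∀ x ∈ R ⊔ Q, f x ∈ normalizerIn S Q₁ := fun x hx =>
    hf.1.apply_mem_normalizerIn le_sup_right hQ₁ hx (sup_le hR.1 hQN hx).2
  have hg : IsMor F (R ⊔ Q) (k ∘ f) := hf.1.comp hk hPN
  have hgQ : IsIso F Q Q (k ∘ f) := (hQ₁.trans hk₀).congr fun x hx => hke _ (hQ₁.apply_mem hx)
  have hgN : IsMor N R (k ∘ f) := (isMor_normalizer_iff hN).2
    ⟨hR.1, fun x hx => hkN _ (hPN x (Subgroup.mem_sup_left hx)), _, hg, fun _ _ => rfl, hgQ⟩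
  intro c hc
  obtain ⟨hcS, hcc⟩ := mem_centralizerIn.1 hc
  have hcC : c ∈ centralizerIn S Q₁ := mem_centralizerIn.2 ⟨hcS, fun y hy => by
    obtain ⟨x, hx, rfl⟩ := hQ₁.exists_apply hy
    exact hcc _ (hf.apply_mem (Subgroup.mem_sup_right hx))⟩
  have hcN : c ∈ normalizerIn S Q₁ := centralizerIn_le_normalizerIn hcC
  have hkc : k c ∈ centralizerIn (normalizerIn S Q) (hgN.image R le_rfl) := by
    refine mem_centralizerIn.2 ⟨hkN c hcN, ?_⟩
    rintro _ ⟨x, hx, rfl⟩
    have hxN := hPN x (Subgroup.mem_sup_left hx)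
    show k (f x) * k c = k c * k (f x)
    rw [← hk.map_mul hxN hcN, ← hk.map_mul hcN hxN, hcc _ (hf.apply_mem (Subgroup.mem_sup_left hx))]
  obtain ⟨r, hr, hre⟩ := hR.2 _ (hgN.isIso).isConj hkc
  have hrN := hPN r (Subgroup.mem_sup_left hr)
  rw [← hk.injOn hrN hcN hre]
  exact hf.apply_mem (Subgroup.mem_sup_left hr)

/-- Normalizer systems of section-free systems are section-free. -/
theorem sectionFree_normalizer {H : Type*} [Group H] (hS : IsPGroup p S) (hF : F.IsSaturated p)
    (hfree : F.IsSectionFree p H) (hQ : F.IsFullyNormalized Q)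
    {N : FusionSystem (normalizerIn S Q)} (hN : F.IsNormalizerSystem Q N) : N.IsSectionFree p H := by
  intro R hRn hRc M hM L _ ι hL hinv
  have : Finite (normalizerIn S Q) := finite_of_le normalizerIn_le
  set P := R ⊔ Q
  have hQS := hQ.1
  have hQN : Q ≤ normalizerIn S Q := le_normalizerIn hQS
  have hRS : R ≤ S := hRc.1.trans normalizerIn_le
  have hPc : F.IsCentric P := centric_sup_of_normalizer hS hF hQ hN hRc
  have hPQ : P ≤ normalizerIn S Q := sup_le hRc.1 hQN
  have hT : normalizerIn (normalizerIn S Q) R ≤ normalizerIn S P := fun a ha =>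
    ⟨ha.1.1, mem_normalizer_sup hRS hQS ha.2 ha.1.2⟩
  obtain ⟨P', hconj, hP'⟩ := exists_fullyNormalized (F := F) hPc.1
  obtain ⟨N', hN', L', hL'g, ι', hL'⟩ := exists_normalizer_model hS hF hP' (isCentric_of_isConj hPc hconj)
  obtain ⟨φ, hφ⟩ := exists_embedding (R := R) (Q := Q) hS hF hT hPc le_sup_left le_sup_right
    (fun a ha => ha.1.2) (le_normalizerIn hRc.1) (isNormal_normalizerSystem hRc.1 hM)
    (isCentric_normalizerSystem hRc hM) hL
    (fun A f hf => by
      obtain ⟨-, -, k₁, hk₁, hk₁e, hk₁R⟩ := (isMor_normalizer_iff hM).1 hf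
      obtain ⟨-, -, k₂, hk₂, hk₂e, hk₂Q⟩ := (isMor_normalizer_iff hN).1 hk₁
      rw [sup_assoc] at hk₂
      have hR₂ : IsIso F R R k₂ := (hk₂.restrict (le_sup_left.trans le_sup_right)).isIso_self fun x hx => by
        rw [hk₂e x (Subgroup.mem_sup_right hx)]
        exact hk₁R.apply_mem hx
      refine ⟨k₂, hk₂, fun x hx => ?_, (hk₂.restrict le_sup_right).isIso_self fun x hx => ?_, hR₂, hk₂Q⟩
      · rw [hk₂e x (Subgroup.mem_sup_left hx), hk₁e x hx]
      · exact (hk₂.restrict le_sup_right).apply_mem_sup (fun y hy => Subgroup.mem_sup_left (hR₂.apply_mem hy))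
          (fun y hy => Subgroup.mem_sup_right (hk₂Q.apply_mem hy)) hx)
    (fun f hfP hfQ hfR => by
      have hfN : IsMor N P f := (isMor_normalizer_iff hN).2
        ⟨hPQ, fun x hx => hPQ (hfP.apply_mem hx), f,
          by rw [sup_eq_left.2 (le_sup_right : Q ≤ P)]; exact hfP.1, fun _ _ => rfl, hfQ⟩
      obtain ⟨z, hz, -, hze⟩ := exists_twist_of_eqOn_centric (hS.to_le normalizerIn_le)
        (normalizerSystem_saturated hS hF hQ hN) hRc le_sup_left (isMor_id (F := N) hPQ) hfN
        fun x hx => (hfR x hx).symm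
      exact ⟨z, hz, hze⟩)
    (fun c hc => by
      obtain ⟨hcS, hcc⟩ := mem_centralizerIn.1 hc
      refine hRc.2 R (isConj_refl hRc.1) (mem_centralizerIn.2 ⟨?_, fun x hx => hcc x (Subgroup.mem_sup_left hx)⟩)
      exact centralizerIn_le_normalizerIn (mem_centralizerIn.2 ⟨hcS, fun x hx => hcc x (Subgroup.mem_sup_right hx)⟩))
    hconj hP' hN' hL'
  exact hfree P' hP' (isCentric_of_isConj hPc hconj) N' hN' L' ι' hL' (involves_of_injective φ hφ hinv)

/-- In a model whose core is a centric subgroup, that subgroup is radical, and conversely. -/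
theorem modelCore_eq_of_radical (hS : IsPGroup p S) (hQc : F.IsCentric Q) (hQr : F.IsRadical p Q)
    {E : FusionSystem (normalizerIn S Q)} (hE : F.IsNormalizerSystem Q E)
    {L : Type*} [Group L] {ι : normalizerIn S Q →* L} (hL : E.IsModel p L ι) :
    modelCore p ι = Q := by
  have : Finite (normalizerIn S Q) := finite_of_le normalizerIn_le
  have := hL.1
  have hQS := hQc.1
  have hEn := isNormal_normalizerSystem hQS hE
  have nc := normCent_of_model (hS.to_le normalizerIn_le) hL hEn (isCentric_normalizerSystem hQc hE)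
  have hCn := isNormal_of_norm hL.2.1 modelCore_le (modelCore_norm hL)
  have hQle : Q ≤ modelCore p ι := fun x hx =>
    (mem_modelCore (x := (⟨x, le_normalizerIn hQS hx⟩ : normalizerIn S Q))).2
      (le_pCore_mImg (hS.to_le normalizerIn_le) nc.norm ⟨_, hx, rfl⟩)
  refine le_antisymm (fun x hx => ?_) hQle
  set M := modelCore p ι
  have hMS : M ≤ S := modelCore_le.trans normalizerIn_le
  have hMN : M ≤ Subgroup.normalizer (Q : Set Ω) := fun y hy => (modelCore_le hy).2
  -- the automorphisms induced by the core form a normal `p`-subgroup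
  have hle : autInducedBy M Q ≤ F.autGroup Q :=
    (autInducedBy_mono hMS).trans (autInducedBy_le_autGroup hQS)
  have hnorm : ((autInducedBy M Q).subgroupOf (F.autGroup Q)).Normal := ⟨fun α hα γ => by
    obtain ⟨a, ha, haN, hax⟩ := mem_autInducedBy.1 (Subgroup.mem_subgroupOf.1 hα)
    have hγm := isMor_of_mem_autGroup hQS γ.2
    have hγE : IsMor E Q (autFun (γ : MulAut Q)) := (isMor_normalizer_iff hE).2
      ⟨le_normalizerIn hQS, fun y hy => le_normalizerIn hQS (autFun_mem _ hy), _,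
        by rw [sup_idem]; exact hγm, fun _ _ => rfl, isIso_autFun hQS γ.2⟩
    obtain ⟨g, hg⟩ := realized_exists_conj hL.2.1 hγE
    obtain ⟨b, hb, hbe⟩ := modelCore_norm hL g ⟨a, modelCore_le ha⟩ ha
    refine Subgroup.mem_subgroupOf.2 (mem_autInducedBy.2 ⟨b, hb, hMN hb, fun q => ?_⟩)
    set q₀ : Q := (γ : MulAut Q)⁻¹ q
    have hq : (γ : MulAut Q) q₀ = q := MulAut.apply_inv_self _ _ _
    let lift : Q → normalizerIn S Q := fun y => ⟨y, le_normalizerIn hQS y.2⟩
    have e1 : ι (lift q) = g * ι (lift q₀) * g⁻¹ := hg _ _ q₀.2 (by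
      rw [autFun_coe, hq])
    have e2 : ι (lift ((γ : MulAut Q) ((α : MulAut Q) q₀))) =
        g * ι (lift ((α : MulAut Q) q₀)) * g⁻¹ := hg _ _ ((α : MulAut Q) q₀).2 (autFun_coe _ _).symm
    have e3 : lift ((α : MulAut Q) q₀) = ⟨a, modelCore_le ha⟩ * lift q₀ * ⟨a, modelCore_le ha⟩⁻¹ :=
      Subtype.ext (hax q₀)
    rw [e3, map_mul, map_mul, map_inv] at e2
    have e4 : lift ((γ : MulAut Q) ((α : MulAut Q) q₀)) = b * lift q * b⁻¹ := hL.2.1.1 (by
      rw [e2, map_mul, map_mul, map_inv, ← hbe, e1]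
      group)
    exact congrArg Subtype.val e4⟩
  have hpg : IsPGroup p ((autInducedBy M Q).subgroupOf (F.autGroup Q)) :=
    ((isPGroup_autInducedBy hS Q).to_le (autInducedBy_mono hMS)).comap_of_injective
      (F.autGroup Q).subtype Subtype.val_injective
  let cx : MulAut Q := autOf ((isMor_conj (F := F) hQS (hMS hx)).isIso_self fun y hy =>
    conj_mem_of_mem_normalizer (hMN hx) hy)
  have hcx : cx ∈ F.autGroup Q := autOf_mem _
  have hmem : (⟨cx, hcx⟩ : F.autGroup Q) ∈ pCore p (F.autGroup Q) := by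
    have := hnorm
    exact Solv.le_pCore hpg (mem_autInducedBy.2 ⟨x, hx, hMN hx, fun q => rfl⟩ : cx ∈ autInducedBy M Q)
  have hinn : cx ∈ Inn Q := by
    rw [← hQr.2]
    exact ⟨_, hmem, rfl⟩
  obtain ⟨q₁, hq₁⟩ := hinn
  have hcent : q₁⁻¹ * x ∈ centralizerIn S Q := by
    refine mem_centralizerIn.2 ⟨mul_mem (inv_mem (hQS q₁.2)) (hMS hx), fun y hy => ?_⟩
    have e : (q₁ : Ω) * y * (q₁ : Ω)⁻¹ = x * y * x⁻¹ :=
      congrArg (fun β : MulAut Q => ((β ⟨y, hy⟩ : Q) : Ω)) hq₁
    calc y * ((q₁ : Ω)⁻¹ * x) = (q₁ : Ω)⁻¹ * ((q₁ : Ω) * y * (q₁ : Ω)⁻¹) * x := by group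
      _ = (q₁ : Ω)⁻¹ * x * y := by rw [e]; group
  have h := mul_mem q₁.2 (centralizerIn_le_of_isCentric hQc hcent)
  simpa using h

theorem exists_involves_larger {H : Type*} [Group H] (hS : IsPGroup p S) (hF : F.IsSaturated p)
    (hQn : F.IsFullyNormalized Q) (hQc : F.IsCentric Q) (hQr : ¬ F.IsRadical p Q)
    {E : FusionSystem (normalizerIn S Q)} (hE : F.IsNormalizerSystem Q E)
    {L : Type v} [Group L] {ι : normalizerIn S Q →* L} (hL : E.IsModel p L ι) (hinv : Involves H L) :
    ∃ P : Subgroup Ω, Nat.card Q < Nat.card P ∧ F.IsFullyNormalized P ∧ F.IsCentric P ∧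
      ∃ (N : FusionSystem (normalizerIn S P)) (_ : F.IsNormalizerSystem P N) (L' : Type v) (_ : Group L')
        (ι' : normalizerIn S P →* L'), N.IsModel p L' ι' ∧ Involves H L' := by
  have : Finite (normalizerIn S Q) := finite_of_le normalizerIn_le
  have := hL.1
  have hQS := hQc.1
  have hS' := hS.to_le (normalizerIn_le : normalizerIn S Q ≤ S)
  have hEn := isNormal_normalizerSystem hQS hE
  have hEc := isCentric_normalizerSystem hQc hE
  have nc := normCent_of_model hS' hL hEn hEc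
  set M := modelCore p ι
  have hMn : E.IsNormal M := isNormal_of_norm hL.2.1 modelCore_le (modelCore_norm hL)
  have hQle : Q ≤ M := fun x hx =>
    (mem_modelCore (x := (⟨x, le_normalizerIn hQS hx⟩ : normalizerIn S Q))).2
      (le_pCore_mImg hS' nc.norm ⟨_, hx, rfl⟩)
  have hMS : M ≤ S := modelCore_le.trans normalizerIn_le
  have hlt : Q < M := by
    refine lt_of_le_of_ne hQle fun h => hQr ⟨hQS, le_antisymm ?_ ?_⟩
    · -- an element of the core of the automizer lifts to the core of the model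
      rintro _ ⟨α, hα, rfl⟩
      have hαE : IsMor E Q (autFun (α : MulAut Q)) := (isMor_normalizer_iff hE).2
        ⟨le_normalizerIn hQS, fun y hy => le_normalizerIn hQS (autFun_mem _ hy), _,
          by rw [sup_idem]; exact isMor_of_mem_autGroup hQS α.2, fun _ _ => rfl, isIso_autFun hQS α.2⟩
      obtain ⟨g, hg⟩ := realized_exists_conj hL.2.1 hαE
      let lift : Q → normalizerIn S Q := fun y => ⟨y, le_normalizerIn hQS y.2⟩
      let D : Subgroup L :=
        { carrier := {g | ∃ α : F.autGroup Q, α ∈ pCore p (F.autGroup Q) ∧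
            ∀ q : Q, g * ι (lift q) * g⁻¹ = ι (lift ((α : MulAut Q) q))}
          one_mem' := ⟨1, one_mem _, fun q => by simp⟩
          mul_mem' := fun {g g'} ⟨α, hα, ha⟩ ⟨β, hβ, hb⟩ => ⟨α * β, mul_mem hα hβ, fun q => by
            rw [show g * g' * ι (lift q) * (g * g')⁻¹ = g * (g' * ι (lift q) * g'⁻¹) * g⁻¹ by group, hb, ha]
            rfl⟩
          inv_mem' := fun {g} ⟨α, hα, ha⟩ => ⟨α⁻¹, inv_mem hα, fun q => by
            have h := ha (((α⁻¹ : F.autGroup Q) : MulAut Q) q)
            rw [Subgroup.coe_inv, MulAut.apply_inv_self] at h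
            rw [← h, Subgroup.coe_inv, inv_inv]
            group⟩ }
      have hDn : D.Normal := ⟨fun g hg' l => by
        obtain ⟨β, hβ, hb⟩ := hg'
        have hex : ∃ γ : F.autGroup Q, ∀ q : Q, l * ι (lift q) * l⁻¹ = ι (lift ((γ : MulAut Q) q)) := by
          obtain ⟨f, hf, hfl⟩ := realized_exists_mor hL.2.1 (le_normalizerIn hQS) l fun x hx => by
            obtain ⟨y, -, he⟩ := nc.norm l x hx
            exact ⟨y, he.symm⟩
          have hiso := (isMor_of_normalizer hE hf).isIso_self fun x hx => by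
            obtain ⟨y, hy, he⟩ := nc.norm l ⟨x, le_normalizerIn hQS hx⟩ hx
            have e := hfl ⟨x, le_normalizerIn hQS hx⟩ ⟨f x, hf.mem hx⟩ hx rfl
            rw [he] at e
            rw [show f x = (y : Ω) from congrArg Subtype.val (hL.2.1.1 e)]
            exact hy
          exact ⟨⟨autOf hiso, autOf_mem hiso⟩, fun q => (hfl (lift q) _ q.2 (autOf_apply hiso q)).symm⟩
        obtain ⟨γ, hγ⟩ := hex
        have := Solv.pCore_characteristic p (F.autGroup Q)
        refine ⟨γ * β * γ⁻¹, (inferInstance : (pCore p (F.autGroup Q)).Normal).conj_mem β hβ γ, fun q => ?_⟩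
        have h1 := hγ (((γ⁻¹ : F.autGroup Q) : MulAut Q) q)
        rw [Subgroup.coe_inv, MulAut.apply_inv_self] at h1
        calc l * g * l⁻¹ * ι (lift q) * (l * g * l⁻¹)⁻¹
            = l * (g * (l⁻¹ * ι (lift q) * l) * g⁻¹) * l⁻¹ := by group
          _ = l * (g * ι (lift ((γ : MulAut Q)⁻¹ q)) * g⁻¹) * l⁻¹ := by rw [← h1]; group
          _ = _ := by rw [hb, hγ]; rfl⟩
      have hgD : g ∈ D := ⟨α, hα, fun q => (hg (lift q) (lift _) q.2 (autFun_coe _ q).symm).symm⟩
      -- `D` is a `p`-group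
      have hcore := Solv.isPGroup_pCore p (F.autGroup Q)
      have hDp : IsPGroup p D := by
        intro d
        obtain ⟨β, hβ, hb⟩ := d.2
        obtain ⟨k, hk⟩ := hcore ⟨β, hβ⟩
        have hk' : β ^ p ^ k = 1 := congrArg Subtype.val hk
        have hpow : ∀ (n : ℕ) (q : Q), (d : L) ^ n * ι (lift q) * ((d : L) ^ n)⁻¹ =
            ι (lift (((β ^ n : F.autGroup Q) : MulAut Q) q)) := by
          intro n
          induction n with
          | zero => intro q; simp
          | succ n ih =>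
            intro q
            rw [pow_succ', show (d : L) * (d : L) ^ n * ι (lift q) * ((d : L) * (d : L) ^ n)⁻¹ =
              (d : L) * ((d : L) ^ n * ι (lift q) * ((d : L) ^ n)⁻¹) * (d : L)⁻¹ by group, ih, hb, pow_succ']
            rfl
        obtain ⟨z, hz, hze⟩ := nc.cent ((d : L) ^ p ^ k) fun x hx => by
          have := hpow (p ^ k) ⟨x, hx⟩
          rw [hk'] at this
          exact this
        obtain ⟨j, hj⟩ := hS' z
        refine ⟨k + j, Subtype.ext ?_⟩
        rw [pow_add, pow_mul, SubmonoidClass.coe_pow, SubmonoidClass.coe_pow, ← hze, ← map_pow, hj, map_one]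
        rfl
      obtain ⟨y, hy, hye⟩ := exists_preimage_pCore hL (Solv.le_pCore hDp hgD)
      have hyQ : (y : Ω) ∈ Q := h.ge hy
      refine ⟨⟨y, hyQ⟩, MulEquiv.ext fun q => Subtype.ext ?_⟩
      have e := hg (lift q) (lift ((α : MulAut Q) q)) q.2 (autFun_coe _ q).symm
      rw [← hye, ← map_inv, ← map_mul, ← map_mul] at e
      exact (congrArg Subtype.val (hL.2.1.1 e)).symm
    · intro β hβ
      obtain ⟨q, rfl⟩ := hβ
      refine ⟨⟨_, inn_le_autGroup hQS ⟨q, rfl⟩⟩, ?_, rfl⟩
      have hn : ((Inn Q).subgroupOf (F.autGroup Q)).Normal := ⟨fun β hβ γ => by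
        obtain ⟨q, hq⟩ := Subgroup.mem_subgroupOf.1 hβ
        refine Subgroup.mem_subgroupOf.2 ⟨(γ : MulAut Q) q, MulEquiv.ext fun x => ?_⟩
        show (γ : MulAut Q) q * x * ((γ : MulAut Q) q)⁻¹ = (γ : MulAut Q) ((β : MulAut Q) ((γ : MulAut Q)⁻¹ x))
        rw [← hq]
        show _ = (γ : MulAut Q) (q * (γ : MulAut Q)⁻¹ x * q⁻¹)
        rw [map_mul, map_mul, map_inv, MulAut.apply_inv_self]⟩
      have hp : IsPGroup p ((Inn Q).subgroupOf (F.autGroup Q)) :=
        ((isPGroup_autInducedBy hS Q).to_le (inn_le_autInducedBy hQS)).comap_of_injective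
          (F.autGroup Q).subtype Subtype.val_injective
      exact Solv.le_pCore hp ⟨q, rfl⟩
  have hMc : F.IsCentric M := isCentric_of_ge hQc hQle hMS
  have hT : normalizerIn S Q ≤ normalizerIn S M := fun a ha => ⟨ha.1, normal_le_normalizer hMn ha⟩
  obtain ⟨P', hconj, hP'⟩ := exists_fullyNormalized (F := F) hMS
  have hPc := isCentric_of_isConj hMc hconj
  obtain ⟨N', hN', L', hL'g, ι', hL'⟩ := exists_normalizer_model hS hF hP' hPc
  obtain ⟨φ, hφ⟩ := exists_embedding (R := Q) (Q := Q) hS hF hT hMc hQle hQle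
    (fun a ha => ha.2) (le_normalizerIn hQS) hEn hEc hL
    (fun A f hf => by
      obtain ⟨ψ, hψ, hψe, hψM⟩ := (isNormal_iff.1 hMn).2 A f hf
      have hψQ : IsIso E Q Q ψ := normal_isIso hEn hψ (hQle.trans le_sup_right)
      exact ⟨ψ, isMor_of_normalizer hE hψ, hψe, ⟨isMor_of_normalizer hE hψM.1, hψM.2⟩,
        ⟨isMor_of_normalizer hE hψQ.1, hψQ.2⟩, ⟨isMor_of_normalizer hE hψQ.1, hψQ.2⟩⟩)
    (fun f hfP _ hfR => by
      obtain ⟨z, hz, -, hze⟩ := exists_twist_of_eqOn_centric hS hF hQc hQle (isMor_id (F := F) hMS) hfP.1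
        fun x hx => (hfR x hx).symm
      exact ⟨z, hz, hze⟩)
    (fun c hc => centralizerIn_le_of_isCentric hQc (mem_centralizerIn.2
      ⟨(mem_centralizerIn.1 hc).1, fun x hx => (mem_centralizerIn.1 hc).2 x (hQle hx)⟩))
    hconj hP' hN' hL'
  refine ⟨P', ?_, hP', hPc, N', hN', L', hL'g, ι', hL', involves_of_injective φ hφ hinv⟩
  obtain ⟨u, hu⟩ := isConj_iff_exists_isIso.1 hconj
  rw [hu.card_eq]
  exact card_lt_of_lt hMS hlt

/-- Section-freeness need only be tested on centric radical subgroups. -/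
theorem sectionFree_of_radical {H : Type*} [Group H] (hS : IsPGroup p S) (hF : F.IsSaturated p)
    (h : ∀ Q : Subgroup Ω, F.IsFullyNormalized Q → F.IsCentric Q → F.IsRadical p Q →
      ∀ N : FusionSystem (normalizerIn S Q), F.IsNormalizerSystem Q N →
        ∀ (L : Type v) [Group L] (ι : normalizerIn S Q →* L), N.IsModel p L ι → ¬ Involves H L) :
    F.IsSectionFree p H := by
  intro Q hQn hQc N hN L _ ι hL hinv
  induction hn : Nat.card S - Nat.card Q using Nat.strong_induction_on generalizing Q L with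
  | _ n ih =>
  subst hn
  by_cases hr : F.IsRadical p Q
  · exact h Q hQn hQc hr N hN L ι hL hinv
  obtain ⟨P, hlt, hPn, hPc, N', hN', L', hL'g, ι', hL', hinv'⟩ :=
    exists_involves_larger hS hF hQn hQc hr hN hL hinv
  have hle : Nat.card P ≤ Nat.card S :=
    Nat.card_le_card_of_injective (Subgroup.inclusion hPn.1) (Subgroup.inclusion_injective _)
  exact ih _ (by omega) P hPn hPc N' hN' L' ι' hL' hinv' rfl

end Cfsg.Agent.Fusion
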