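import Mathlib
import Cfsg.Agent.Lib.Local.InvolvesSymFour
import Cfsg.Agent.Lib.Fusion.SectionFree
import Cfsg.Agent.Lib.Fusion.FactorClosed

/-!
Factor systems of section-free systems are section-free.
-/

set_option autoImplicit false

universe v

namespace Cfsg.Agent.Fusion

open Cfsg Cfsg.FusionSystem

/-- A normal subgroup with a central Sylow subgroup `Z` is `Z` times elements of the `p'`-core. -/
theorem exists_mem_pPrimeCore_mul {G : Type*} [Group G] [Finite G] {p : ℕ} [Fact p.Prime]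
    (C : Subgroup G) [C.Normal] (P : Sylow p C)
    (hP : ∀ z ∈ (P : Subgroup C), ∀ c : C, z * c = c * z) {c : G} (hc : c ∈ C) :
    ∃ z : C, z ∈ (P : Subgroup C) ∧ (z : G)⁻¹ * c ∈ pPrimeCore p G := by
  have hPc : Subgroup.normalizer ((P : Subgroup C) : Set C) ≤
      Subgroup.centralizer ((P : Subgroup C) : Set C) :=
    fun x _ => Subgroup.mem_centralizer_iff.2 fun z hz => hP z hz x
  have hcomp := MonoidHom.ker_transferSylow_isComplement' P hPc
  set K := (MonoidHom.transferSylow P hPc).ker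
  have hK : K ≤ pPrimeCore p C := Solv.le_pPrimeCore
    ((Nat.Prime.coprime_iff_not_dvd (Fact.out : p.Prime)).2
      (MonoidHom.not_dvd_card_ker_transferSylow P hPc)).symm
  obtain ⟨⟨⟨k, hk⟩, ⟨z, hz⟩⟩, he⟩ := hcomp.existsUnique ⟨c, hc⟩ |>.exists
  refine ⟨z, hz, ?_⟩
  have h2 : (z : G)⁻¹ * c = ((z⁻¹ * (k * z) : C) : G) := by
    have he' : k * z = ⟨c, hc⟩ := he
    rw [he']
    rfl
  rw [h2]
  have hkz : z⁻¹ * (k * z) = k := by
    have e := hP z hz k
    calc z⁻¹ * (k * z) = z⁻¹ * (z * k) := by rw [e]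
      _ = k := by group
  rw [hkz]
  have := (Solv.pPrimeCore_map_subtype p C).le ⟨k, hK hk, rfl⟩
  exact this.1

variable {Ω : Type v} [Group Ω] {S : Subgroup Ω} [Finite S] {F : FusionSystem S} {p : ℕ} [Fact p.Prime]
  {Q R : Subgroup Ω} {Ω' : Type*} [Group Ω'] {S' : Subgroup Ω'} {θ : S →* Ω'} {E : FusionSystem S'}

/-- The preimage of a centric subgroup of a factor system is centric, with centric image of each
conjugate. -/
theorem preimage_centric (hQ : F.StronglyClosed Q) (hE : F.IsFactorSystem Q θ E)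
    {R' : Subgroup Ω'} (hR' : E.IsCentric R') :
    F.IsCentric (preimageAlong θ R') ∧ ∀ R₁, F.IsConj (preimageAlong θ R') R₁ →
      Q ≤ R₁ ∧ preimageAlong θ (imageAlong θ R₁) = R₁ ∧ E.IsCentric (imageAlong θ R₁) := by
  have hQR : Q ≤ preimageAlong θ R' := le_preimageAlong hQ.1 hE.2.1
  have key : ∀ R₁, F.IsConj (preimageAlong θ R') R₁ →
      Q ≤ R₁ ∧ preimageAlong θ (imageAlong θ R₁) = R₁ ∧ E.IsCentric (imageAlong θ R₁) := by
    intro R₁ hR₁
    obtain ⟨f, hf⟩ := isConj_iff_exists_isIso.1 hR₁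
    have hQR₁ : Q ≤ R₁ := fun q hq => by
      obtain ⟨x, hx, rfl⟩ := (stronglyClosed_isIso hQ hf.1 hQR).exists_apply hq
      exact hf.apply_mem (hQR hx)
    have hpre : preimageAlong θ (imageAlong θ R₁) = R₁ := by
      rw [preimage_imageAlong hQ.1 hE.2.1 hf.le', sup_eq_left.2 hQR₁]
    obtain ⟨f', hf', hi⟩ := factor_push hE hQ hR'.1 hf.1
    have him : imageAlong θ R₁ ≤ S' := imageAlong_le hE.2.2.1
    have hiso : IsIso E R' (imageAlong θ R₁) f' :=
      hi.isIso hQ hE hR'.1 hf' (by rw [hpre]; exact hf) him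
    exact ⟨hQR₁, hpre, isCentric_of_isConj hR' hiso.isConj⟩
  refine ⟨⟨preimageAlong_le, fun R₁ hR₁ => ?_⟩, key⟩
  obtain ⟨-, hpre, hc⟩ := key R₁ hR₁
  intro c hc'
  obtain ⟨hcS, hcc⟩ := mem_centralizerIn.1 hc'
  rw [← hpre]
  refine mem_preimageAlong.2 ⟨hcS, centralizerIn_le_of_isCentric hc (mem_centralizerIn.2
    ⟨qfun_mem_range hE.2.2.1 hcS, fun y hy => ?_⟩)⟩
  obtain ⟨x, hx, hxS, rfl⟩ := mem_imageAlong.1 hy
  rw [← qfun_mul θ hxS hcS, ← qfun_mul θ hcS hxS, hcc x hx]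

/-- Factor systems of section-free systems are section-free. -/
theorem sectionFree_factor {H : Type*} [Group H] (hS : IsPGroup p S) (hF : F.IsSaturated p)
    (hQ : F.StronglyClosed Q) (hfree : F.IsSectionFree p H) (hE : F.IsFactorSystem Q θ E) :
    E.IsSectionFree p H := by
  classical
  intro R' hR'n hR'c N hN L' _ ι hL hinv
  have hr := hE.2.2.1
  have hR'S := hR'c.1
  obtain ⟨hRc, hconj'⟩ := preimage_centric hQ hE hR'c
  set R := preimageAlong θ R' with hRdef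
  have hRS : R ≤ S := preimageAlong_le
  obtain ⟨Rs, hconj, hRsn⟩ := exists_fullyNormalized (F := F) hRS
  obtain ⟨hQRs, hpreRs, hRsc'⟩ := hconj' Rs hconj
  obtain ⟨Ns, hNs, L, hLg, κs, hLs⟩ := exists_normalizer_model hS hF hRsn (isCentric_of_isConj hRc hconj)
  have hRsS : Rs ≤ S := hRsn.1
  have : Finite (normalizerIn S Rs) := finite_of_le normalizerIn_le
  have : Finite S' := hr ▸ Finite.of_surjective _ θ.rangeRestrict_surjective
  have : Finite (normalizerIn S' R') := finite_of_le normalizerIn_le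
  have := hLs.1
  have := hL.1
  have hSs : IsPGroup p (normalizerIn S Rs) := hS.to_le normalizerIn_le
  have hRsN : Rs ≤ normalizerIn S Rs := le_normalizerIn hRsS
  have hQN : Q ≤ normalizerIn S Rs := hQRs.trans hRsN
  have nc := normCent_of_model hSs hLs (isNormal_normalizerSystem hRsS hNs)
    (isCentric_normalizerSystem (isCentric_of_isConj hRc hconj) hNs)
  -- the image of `Q` is normal
  have hQnorm : ∀ (g : L) (x : normalizerIn S Rs), (x : Ω) ∈ Q →
      ∃ y : normalizerIn S Rs, (y : Ω) ∈ Q ∧ g * κs x * g⁻¹ = κs y := by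
    intro g x hx
    obtain ⟨f, hf, hfg⟩ := realized_exists_mor hLs.2.1 hRsN g fun a ha => by
      obtain ⟨b, -, he⟩ := nc.norm g a ha
      exact ⟨b, he.symm⟩
    have hfF := isMor_of_normalizer hNs hf
    have hfx : f x ∈ Q := stronglyClosed_apply hQ hfF (hQRs hx) hx
    exact ⟨⟨f x, hQN hfx⟩, hfx, (hfg x ⟨f x, hQN hfx⟩ (hQRs hx) rfl).symm⟩
  let QI := mImg κs Q
  have hQIn : QI.Normal := ⟨fun _ hy g => by
    obtain ⟨x, hx, rfl⟩ := hy
    obtain ⟨y, hy, he⟩ := hQnorm g x hx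
    exact ⟨y, hy, he.symm⟩⟩
  let Lb := L ⧸ QI
  let σ : normalizerIn S Rs →* Lb := (QuotientGroup.mk' QI).comp κs
  have hσ1 : ∀ x, σ x = 1 → (x : Ω) ∈ Q := fun x hx => by
    obtain ⟨y, hy, he⟩ := (QuotientGroup.eq_one_iff _).1 hx
    rwa [hLs.2.1.1 he] at hy
  let Rb := mImg σ Rs
  have hRbn : Rb.Normal := ⟨fun _ hy g => by
    obtain ⟨x, hx, rfl⟩ := hy
    obtain ⟨l, rfl⟩ := QuotientGroup.mk'_surjective QI g
    obtain ⟨y, hy, he⟩ := nc.norm l x hx
    refine ⟨y, hy, ?_⟩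
    show QuotientGroup.mk' QI (κs y) = QuotientGroup.mk' QI l * QuotientGroup.mk' QI (κs x) * _
    rw [← he, map_mul, map_mul, map_inv]⟩
  let Cb := Subgroup.centralizer (Rb : Set Lb)
  have hCbn : Cb.Normal := ⟨fun c hc g => Subgroup.mem_centralizer_iff.2 fun y hy => by
    have h := Subgroup.mem_centralizer_iff.1 hc (g⁻¹ * y * g) (by
      have h := hRbn.conj_mem y hy g⁻¹
      rwa [inv_inv] at h)
    calc y * (g * c * g⁻¹) = g * (g⁻¹ * y * g * c) * g⁻¹ := by group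
      _ = g * (c * (g⁻¹ * y * g)) * g⁻¹ := by rw [h]
      _ = g * c * g⁻¹ * y := by group⟩
  -- the Sylow subgroup of `Cb` lies in `Rb`
  have hCσ : ∀ x, σ x ∈ Cb → (x : Ω) ∈ Rs := by
    intro x hx
    refine hpreRs.le (mem_preimageAlong.2 ⟨x.2.1, centralizerIn_le_of_isCentric hRsc' (mem_centralizerIn.2
      ⟨qfun_mem_range hr x.2.1, fun y hy => ?_⟩)⟩)
    obtain ⟨r, hr', hrS, rfl⟩ := mem_imageAlong.1 hy
    have h := Subgroup.mem_centralizer_iff.1 hx (σ ⟨r, hRsN hr'⟩) ⟨_, hr', rfl⟩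
    rw [← map_mul, ← map_mul] at h
    have h2 : ((⟨r, hRsN hr'⟩ * x)⁻¹ * (x * ⟨r, hRsN hr'⟩) : normalizerIn S Rs).1 ∈ Q :=
      hσ1 _ (by rw [map_mul, map_inv, h, inv_mul_cancel])
    rw [← qfun_mul θ hrS x.2.1, ← qfun_mul θ x.2.1 hrS,
      qfun_eq_iff hE.2.1 (mul_mem hrS x.2.1) (mul_mem x.2.1 hrS)]
    exact h2
  obtain ⟨T, hT⟩ := hLs.2.2.1
  obtain ⟨P, hP⟩ : ∃ P : Sylow p Cb, ∀ z ∈ (P : Subgroup Cb), ((z : Cb) : Lb) ∈ Rb := by
    let Tb := T.mapSurjective (QuotientGroup.mk'_surjective QI)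
    obtain ⟨P, hPT⟩ := exists_sylow_of_normal Tb Cb
    refine ⟨P, fun z hz => ?_⟩
    have h : (z : Lb) ∈ (Tb : Subgroup Lb) := by
      rw [hPT] at hz
      exact hz
    rw [Sylow.coe_mapSurjective] at h
    obtain ⟨t, ht, htz⟩ := h
    obtain ⟨x, rfl⟩ := (SetLike.ext_iff.1 hT t).1 ht
    refine ⟨x, hCσ x ?_, htz⟩
    show QuotientGroup.mk' QI (κs x) ∈ Cb
    rw [htz]
    exact z.2
  -- the target group
  let D := pPrimeCore p Lb
  have hDn : D.Normal := by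
    have := Solv.pPrimeCore_characteristic p Lb
    infer_instance
  let G₂ := Lb ⧸ D
  let σ₂ : normalizerIn S Rs →* G₂ := (QuotientGroup.mk' D).comp σ
  have hDp : ∀ x, σ x ∈ D → (x : Ω) ∈ Q := fun x hx => by
    refine hσ1 x (orderOf_eq_one_iff.1 ?_)
    obtain ⟨k, hk⟩ := IsPGroup.iff_orderOf.1 hSs x
    have h1 : orderOf (σ x) ∣ p ^ k := hk ▸ orderOf_map_dvd σ x
    have h2 : orderOf (σ x) ∣ Nat.card D := by
      have := orderOf_dvd_natCard (⟨σ x, hx⟩ : D)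
      rwa [Subgroup.orderOf_mk] at this
    exact Nat.eq_one_of_dvd_coprimes ((Solv.card_pPrimeCore_coprime p Lb).pow_right k) h2 h1
  -- transfer to `N_{S'}(R')`
  obtain ⟨k₀, k, hk₀, hk, hke, hkN⟩ := exists_iso_to_fullyNormalized hS hF hconj hRsn
  have hkR : IsIso F R Rs k := hk₀.congr hke
  obtain ⟨φk, -, hφk⟩ := id hk
  let κ : normalizerIn S R →* G₂ := σ₂.comp (φk.codRestrict (normalizerIn S Rs) fun x => by
    rw [hφk]; exact hkN x x.2)
  have hκe : ∀ (x : normalizerIn S R) (y : normalizerIn S Rs), (y : Ω) = k x → κ x = σ₂ y := by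
    intro x y hy
    show σ₂ _ = σ₂ y
    congr 1
    exact Subtype.ext ((hφk x).trans hy.symm)
  have hQR : Q ≤ R := le_preimageAlong hQ.1 hE.2.1
  have hRN : R ≤ normalizerIn S R := le_normalizerIn hRS
  have hkQ : IsIso F Q Q k := stronglyClosed_isIso hQ hk (hQR.trans hRN)
  have hκ1 : ∀ x : normalizerIn S R, (x : Ω) ∈ Q → κ x = 1 := fun x hx => by
    rw [hκe x ⟨k x, hkN x x.2⟩ rfl]
    show QuotientGroup.mk' D (QuotientGroup.mk' QI (κs ⟨k x, hkN x x.2⟩)) = 1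
    rw [show QuotientGroup.mk' QI (κs ⟨k x, hkN x x.2⟩) = 1 from
      (QuotientGroup.eq_one_iff _).2 ⟨_, hkQ.apply_mem hx, rfl⟩, map_one]
  have hκ1' : ∀ x : normalizerIn S R, κ x = 1 → (x : Ω) ∈ Q := fun x hx => by
    rw [hκe x ⟨k x, hkN x x.2⟩ rfl] at hx
    obtain ⟨q, hq, hqe⟩ := hkQ.exists_apply (hDp _ ((QuotientGroup.eq_one_iff _).1 hx))
    rw [← hk.injOn (hQR.trans hRN hq) x.2 hqe]
    exact hq
  have hsec : ∀ y : normalizerIn S' R', ∃ x : normalizerIn S R, qfun θ x = y := by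
    rintro ⟨y, hyS, hyN⟩
    obtain ⟨s, rfl⟩ : y ∈ θ.range := hr.symm ▸ hyS
    refine ⟨⟨s, s.2, mem_normalizer_of_conj_mem hRS fun r hr' => ?_⟩, qfun_coe θ s⟩
    obtain ⟨hrS, hrR⟩ := mem_preimageAlong.1 hr'
    refine mem_preimageAlong.2 ⟨mul_mem (mul_mem s.2 hrS) (inv_mem s.2), ?_⟩
    rw [conj_mem_preimage s.2 hrS, qfun_coe]
    exact conj_mem_of_mem_normalizer hyN hrR
  choose sec hsec using hsec
  have hκθ : ∀ a b : normalizerIn S R, qfun θ a = qfun θ b → κ a = κ b := fun a b h => by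
    have h1 : (((a⁻¹ * b : normalizerIn S R)) : Ω) ∈ Q := (qfun_eq_iff hE.2.1 a.2.1 b.2.1).1 h
    exact inv_mul_eq_one.1 (by rw [← map_inv, ← map_mul, hκ1 _ h1])
  let ι₂ : normalizerIn S' R' →* G₂ := MonoidHom.mk' (fun y => κ (sec y)) fun a b => by
    rw [← map_mul]
    refine hκθ _ _ ?_
    rw [hsec]
    show (a : Ω') * b = qfun θ ((sec a : Ω) * sec b)
    rw [qfun_mul θ (sec a).2.1 (sec b).2.1, hsec, hsec]
  have hι₂e : ∀ (y : normalizerIn S' R') (x : normalizerIn S R), qfun θ x = y → ι₂ y = κ x := fun y x hx =>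
    hκθ _ _ ((hsec y).trans hx.symm)
  have hι₂i : Function.Injective ι₂ := (injective_iff_map_eq_one ι₂).2 fun y hy => by
    refine Subtype.ext ?_
    rw [← hsec y, Subgroup.coe_one, qfun_apply θ (sec y).2.1]
    exact (hE.2.1 _).2 (hκ1' _ hy)
  have hreal : ∀ A f, IsMor N A f → ∃ g : G₂, ∀ x y : normalizerIn S' R',
      (x : Ω') ∈ A → (y : Ω') = f x → ι₂ y = g * ι₂ x * g⁻¹ := by
    intro A f hf
    obtain ⟨hA, -, f₁, hf₁, hf₁e, hf₁R⟩ := (isMor_normalizer_iff hN).1 hf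
    obtain ⟨hBS, g₁, hg₁, hi⟩ := hf₁.factor_lift hE
    set B := preimageAlong θ (A ⊔ R')
    have hRB : R ≤ B := fun x hx => by
      obtain ⟨h1, h2⟩ := mem_preimageAlong.1 hx
      exact mem_preimageAlong.2 ⟨h1, Subgroup.mem_sup_right h2⟩
    have hgR : IsIso F R R g₁ := (hg₁.restrict hRB).isIso_self fun x hx => by
      refine mem_preimageAlong.2 ⟨hg₁.mem (hRB hx), ?_⟩
      rw [← hi x (hRB hx)]
      exact hf₁R.apply_mem (mem_preimageAlong.1 hx).2
    have hsupN : A ⊔ R' ≤ normalizerIn S' R' := sup_le hA (le_normalizerIn hR'S)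
    have hBN : B ≤ normalizerIn S R := fun x hx => by
      obtain ⟨hxS, hxB⟩ := mem_preimageAlong.1 hx
      refine ⟨hxS, mem_normalizer_of_conj_mem hRS fun r hr' => ?_⟩
      obtain ⟨hrS, hrR⟩ := mem_preimageAlong.1 hr'
      refine mem_preimageAlong.2 ⟨mul_mem (mul_mem hxS hrS) (inv_mem hxS), ?_⟩
      rw [conj_mem_preimage hxS hrS]
      exact conj_mem_of_mem_normalizer (hsupN hxB).2 hrR
    have hgN : ∀ x ∈ B, g₁ x ∈ normalizerIn S R := fun x hx =>
      hg₁.apply_mem_normalizerIn hRB hgR hx (hBN hx).2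
    have hks := (hk.restrict hBN).isIso
    obtain ⟨ki, hki, hkil, -⟩ := hks.exists_symm
    have hkp : Rs ≤ (hk.restrict hBN).image B le_rfl := fun y hy => by
      obtain ⟨x, hx, rfl⟩ := hkR.exists_apply hy
      exact ⟨x, hRB hx, rfl⟩
    have hcomp : IsMor F ((hk.restrict hBN).image B le_rfl) (k ∘ g₁ ∘ ki) :=
      (hki.1.comp hg₁ fun y hy => hki.apply_mem hy).comp hk fun y hy => hgN _ (hki.apply_mem hy)
    have hmor' : IsMor Ns ((hk.restrict hBN).image B le_rfl) (k ∘ g₁ ∘ ki) := by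
      refine (isMor_normalizer_iff hNs).2 ⟨?_, fun y hy => hkN _ (hgN _ (hki.apply_mem hy)), _,
        by rwa [sup_eq_left.2 hkp], fun _ _ => rfl, (hcomp.restrict hkp).isIso_self fun y hy => ?_⟩
      · rintro _ ⟨x, hx, rfl⟩
        exact hkN x (hBN hx)
      · obtain ⟨x, hx, rfl⟩ := hkR.exists_apply hy
        show k (g₁ (ki (k x))) ∈ Rs
        rw [hkil x (hRB hx)]
        exact hkR.apply_mem (hgR.apply_mem hx)
    obtain ⟨g, hg⟩ := realized_exists_conj hLs.2.1 hmor'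
    refine ⟨QuotientGroup.mk' D (QuotientGroup.mk' QI g), fun x y hx hy => ?_⟩
    have hxB : ((sec x : normalizerIn S R) : Ω) ∈ B :=
      mem_preimageAlong.2 ⟨(sec x).2.1, by rw [hsec]; exact Subgroup.mem_sup_left hx⟩
    rw [hι₂e y ⟨g₁ (sec x), hgN _ hxB⟩ (by
      show qfun θ (g₁ (sec x)) = y
      rw [← hi _ hxB, hsec, hf₁e _ hx, hy]), hι₂e x (sec x) (hsec x),
      hκe _ ⟨k (g₁ (sec x)), hkN _ (hgN _ hxB)⟩ rfl, hκe _ ⟨k (sec x), hkN _ (sec x).2⟩ rfl]
    show QuotientGroup.mk' D (QuotientGroup.mk' QI (κs _)) = _ *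
      QuotientGroup.mk' D (QuotientGroup.mk' QI (κs _)) * _
    rw [← map_inv (QuotientGroup.mk' D), ← map_inv (QuotientGroup.mk' QI), ← map_mul, ← map_mul,
      ← map_mul, ← map_mul]
    congr 2
    refine hg _ _ ⟨sec x, hxB, rfl⟩ ?_
    show k (g₁ (sec x)) = k (g₁ (ki (k (sec x))))
    rw [hkil _ hxB]
  -- the image of `R'`
  have himg : ∀ z : G₂, z ∈ mImg ι₂ R' ↔ z ∈ Rb.map (QuotientGroup.mk' D) := by
    intro z
    constructor
    · rintro ⟨y, hy, rfl⟩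
      have hR : ((sec y : normalizerIn S R) : Ω) ∈ R :=
        mem_preimageAlong.2 ⟨(sec y).2.1, by rw [hsec]; exact hy⟩
      exact ⟨σ ⟨k (sec y), hkN _ (sec y).2⟩, ⟨_, hkR.apply_mem hR, rfl⟩,
        (hκe (sec y) ⟨k (sec y), hkN _ (sec y).2⟩ rfl).symm⟩
    · rintro ⟨_, ⟨x, hx, rfl⟩, rfl⟩
      obtain ⟨r, hr', hrx⟩ := hkR.exists_apply hx
      have hr2 := (mem_preimageAlong.1 hr').2
      exact ⟨⟨_, le_normalizerIn hR'S hr2⟩, hr2,
        (hι₂e ⟨_, le_normalizerIn hR'S hr2⟩ ⟨r, hRN hr'⟩ rfl).trans (hκe _ x hrx.symm)⟩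
  have hn₂ : NormCent ι₂ R' := by
    have hn : (Rb.map (QuotientGroup.mk' D)).Normal := hRbn.map _ (QuotientGroup.mk'_surjective D)
    refine ⟨fun g x hx => ?_, fun g hg => ?_⟩
    · obtain ⟨y, hy, he⟩ := (himg _).2 (hn.conj_mem _ ((himg _).1 ⟨x, hx, rfl⟩) g)
      exact ⟨y, hy, he.symm⟩
    · obtain ⟨l, rfl⟩ := QuotientGroup.mk'_surjective D g
      have hlC : l ∈ Cb := Subgroup.mem_centralizer_iff.2 fun y hy => by
        obtain ⟨z, hz, hze⟩ := (himg _).2 ⟨y, hy, rfl⟩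
        have h := hg z hz
        rw [hze, ← map_inv, ← map_mul, ← map_mul] at h
        have h1 : y⁻¹ * (l * y * l⁻¹) ∈ D := QuotientGroup.eq.1 h.symm
        have h2 : y⁻¹ * (l * y * l⁻¹) ∈ Rb := mul_mem (inv_mem hy) (hRbn.conj_mem y hy l)
        obtain ⟨x, hx, hxe⟩ := h2
        have h3 : y⁻¹ * (l * y * l⁻¹) = 1 := by
          rw [← hxe] at h1 ⊢
          exact (QuotientGroup.eq_one_iff _).2 ⟨x, hDp x h1, rfl⟩
        calc y * l = y * (y⁻¹ * (l * y * l⁻¹)) * l := by rw [h3, mul_one]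
          _ = l * y := by group
      obtain ⟨z, hz, hzl⟩ := exists_mem_pPrimeCore_mul Cb P (fun w hw c => by
        refine Subtype.ext ?_
        exact Subgroup.mem_centralizer_iff.1 c.2 _ (hP w hw)) hlC
      obtain ⟨y, hy, hye⟩ := (himg _).2 ⟨_, hP z hz, rfl⟩
      exact ⟨y, hy, hye.trans (QuotientGroup.eq.2 hzl)⟩
  obtain ⟨φ, hφ, -⟩ := exists_hom_extending (Q := R') (ι₂ := ι₂)
    ((isPGroup_image hS hr).to_le normalizerIn_le) hL.2.1 hι₂i hreal hL.2.2.1 (le_normalizerIn hR'S)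
    (normCent_of_model ((isPGroup_image hS hr).to_le normalizerIn_le) hL
      (isNormal_normalizerSystem hR'S hN) (isCentric_normalizerSystem hR'c hN)) hn₂
  exact hfree Rs hRsn (isCentric_of_isConj hRc hconj) Ns hNs L κs hLs
    (Local.involves_of_surjective (QuotientGroup.mk' QI) (QuotientGroup.mk'_surjective QI)
      (Local.involves_of_surjective (QuotientGroup.mk' D) (QuotientGroup.mk'_surjective D)
        (Local.involves_of_injective φ hφ hinv)))
where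
  isPGroup_image {S' : Subgroup Ω'} {θ : S →* Ω'} (hS : IsPGroup p S) (hr : θ.range = S') :
      IsPGroup p S' := by
    rw [← hr, MonoidHom.range_eq_map]
    exact (hS.to_subgroup _).map θ

end Cfsg.Agent.Fusion
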