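import Cfsg.Agent.Lib.Fusion.FunctorReduction
import Cfsg.Agent.Lib.Fusion.SectionFree
import Cfsg.Agent.Lib.Fusion.SectionFactor

/-!
Reduction of normalizer criteria with a family of functors for inner fusion systems, keeping track of
freeness of `S₄` at the prime two.
-/

set_option autoImplicit false

universe v

namespace Cfsg.Agent.Fusion

open Cfsg Cfsg.FusionSystem

variable {Ω : Type v} [Group Ω] {S : Subgroup Ω} {F : FusionSystem S} {p : ℕ}
  {A B P Q U : Subgroup Ω} {f : Ω → Ω}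

/-- Free of `S₄` at the prime `2`. -/
def Free (p : ℕ) (F : FusionSystem S) : Prop := p ≠ 2 ∨ F.IsSectionFree p (Equiv.Perm (Fin 4))

/-- The group theoretic input for a family. -/
def FamilyCriterion (p : ℕ) {ι₀ : Type} (W : ι₀ → SubFunctor.{v} p) : Prop :=
  ∀ (L : Type v) [Group L] [Finite L] (T : Sylow p L),
    Subgroup.centralizer (pCore p L : Set L) ≤ pCore p L →
    (p ≠ 2 ∨ ¬ Involves (Equiv.Perm (Fin 4)) L) →
    (∀ i, HasNormalPComplement p (Subgroup.normalizer (((W i).W (T : Subgroup L) : Subgroup L) : Set L))) →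
    HasNormalPComplement p L

variable [Finite S] [Fact p.Prime]

omit [Fact p.Prime] in
theorem exists_system_top_free {T : Subgroup Ω} (h : T = S) (E : FusionSystem T) :
    ∃ E' : FusionSystem S, (E.IsSaturated p → E'.IsSaturated p) ∧ (Free p E → Free p E') ∧
      (∀ (L : Type v) [Group L] (ι : S →* L), E'.IsModel p L ι →
        (∀ ι₀ : T →* L, E.IsModel p L ι₀ → ¬ Involves (Equiv.Perm (Fin 4)) L) →
        ¬ Involves (Equiv.Perm (Fin 4)) L) ∧
      ∀ A f, IsMor E' A f ↔ IsMor E A f := by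
  subst h
  exact ⟨E, id, id, fun _ _ ι hm h => h ι hm, fun _ _ => Iff.rfl⟩

theorem exists_normalizer_top_free (hS : IsPGroup p S) (hF : F.IsSaturated p) (hQS : Q ≤ S)
    (hSQ : S ≤ Subgroup.normalizer (Q : Set Ω)) (hfree : Free p F) :
    ∃ E : FusionSystem S, Free p E ∧ (∀ (L : Type v) [Group L] (ι : S →* L), F.IsCentric Q → E.IsModel p L ι →
        p ≠ 2 ∨ ¬ Involves (Equiv.Perm (Fin 4)) L) ∧ E.IsSaturated p ∧ E ≤ F ∧ E.IsNormal Q ∧
      ∀ A f, IsMor E A f ↔ A ≤ S ∧ ∃ k, IsMor F (A ⊔ Q) k ∧ (∀ x ∈ A, k x = f x) ∧ IsIso F Q Q k := by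
  have hT : normalizerIn S Q = S := inf_eq_left.2 hSQ
  have hQn : F.IsFullyNormalized Q := ⟨hQS, fun R _ => by
    rw [hT]
    exact Nat.card_le_card_of_injective (Subgroup.inclusion normalizerIn_le) (Subgroup.inclusion_injective _)⟩
  obtain ⟨E₀, hE₀⟩ := exists_normalizerSystem F hQS
  obtain ⟨E, hsat, hfr, hmod, hiff⟩ := exists_system_top_free (p := p) hT E₀
  have key : ∀ A f, IsMor E A f ↔
      A ≤ S ∧ ∃ k, IsMor F (A ⊔ Q) k ∧ (∀ x ∈ A, k x = f x) ∧ IsIso F Q Q k := by
    intro A f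
    rw [hiff, isMor_normalizer_iff hE₀]
    constructor
    · rintro ⟨hA, -, h⟩
      exact ⟨hA.trans hT.le, h⟩
    · rintro ⟨hA, k, hk, hke, hkQ⟩
      refine ⟨hA.trans hT.ge, fun x hx => hT.ge ?_, k, hk, hke, hkQ⟩
      rw [← hke x hx]
      exact hk.mem (Subgroup.mem_sup_left hx)
  refine ⟨E, hfr (hfree.imp id fun h => sectionFree_normalizer hS hF h hQn hE₀), fun L _ ι hQc hm => hfree.imp id fun h => hmod L ι hm (fun ι₀ h₀ => h Q hQn hQc E₀ hE₀ L ι₀ h₀), hsat (normalizerSystem_saturated hS hF hQn hE₀), le_iff_isMor.2 fun A f hf => ?_,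
    isNormal_iff.2 ⟨hQS, fun A f hf => ?_⟩, key⟩
  · obtain ⟨-, k, hk, hke, -⟩ := (key A f).1 hf
    exact (hk.restrict le_sup_left).congr fun x hx => (hke x hx).symm
  · obtain ⟨hA, k, hk, hke, hkQ⟩ := (key A f).1 hf
    have hkm : IsMor E (A ⊔ Q) k := (key _ _).2
      ⟨sup_le hA hQS, k, by rwa [sup_assoc, sup_idem], fun _ _ => rfl, hkQ⟩
    exact ⟨k, hkm, hke, (hkm.restrict le_sup_right).isIso_self fun x hx => hkQ.apply_mem hx⟩

/-- The constrained case, by the model. -/
theorem inner_of_model {ι₀ : Type} (hS : IsPGroup p S) (W : ι₀ → SubFunctor.{v} p)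
    (hG : FamilyCriterion p W) {L : Type v} [Group L] {ι : S →* L} (hL : F.IsModel p L ι)
    (hfree : p ≠ 2 ∨ ¬ Involves (Equiv.Perm (Fin 4)) L)
    (hN : ∀ i, NormInner F ((W i).W S)) : F = innerFusionSystem S := by
  have := hL.1
  obtain ⟨T, hT⟩ := hL.2.2.1
  have hi := hL.2.1.1
  have hWS : ∀ i, (W i).W S ≤ S := fun i => (W i).le S
  have hSW : ∀ i, S ≤ Subgroup.normalizer ((W i).W S : Set Ω) := fun i a ha =>
    (W i).mem_normalizer le_rfl ha (Subgroup.le_normalizer ha)
  have hWimg : ∀ i, (W i).W (T : Subgroup L) = mImg ι ((W i).W S) := by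
    intro i
    rw [hT, ← (W i).map S ι hi]
    ext y
    constructor
    · rintro ⟨x, hx, rfl⟩
      exact ⟨x, hx, rfl⟩
    · rintro ⟨x, hx, rfl⟩
      exact ⟨x, hx, rfl⟩
  have hmemT : ∀ y, y ∈ (T : Subgroup L) ↔ ∃ x : S, ι x = y := fun y => by rw [hT]; rfl
  have hnpc : HasNormalPComplement p L := by
    refine hG L T hL.2.2.2 hfree fun i => ?_
    let N := Subgroup.normalizer (((W i).W (T : Subgroup L) : Subgroup L) : Set L)
    have hTN : (T : Subgroup L) ≤ N := by
      intro y hy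
      obtain ⟨a, rfl⟩ := (hmemT y).1 hy
      show ι a ∈ Subgroup.normalizer _
      rw [(hWimg i)]
      refine mImg_conj_eq (fun x hx => ⟨a * x * a⁻¹, conj_mem_of_mem_normalizer ((hSW i) a.2) hx, by simp⟩)
        fun y hy => ⟨a⁻¹ * y * a, ?_, by simp [mul_assoc]⟩
      have := conj_mem_of_mem_normalizer (inv_mem ((hSW i) a.2)) hy
      rwa [inv_inv] at this
    let TN : Sylow p N := T.subtype hTN
    refine Solv.hasNormalPComplement_of_fusion TN fun u hu g hgu => ?_
    obtain ⟨x, hx⟩ := (hmemT _).1 (show (u : L) ∈ (T : Subgroup L) from hu)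
    obtain ⟨y, hy⟩ := (hmemT _).1 (show ((g * u * g⁻¹ : N) : L) ∈ (T : Subgroup L) from hgu)
    have hgW : ∀ a : S, (a : Ω) ∈ ((W i).W S) → ∃ b : S, (b : Ω) ∈ ((W i).W S) ∧ (g : L) * ι a * (g : L)⁻¹ = ι b := by
      intro a ha
      have hgN : (g : L) ∈ Subgroup.normalizer ((mImg ι (((W i).W S)) : Subgroup L) : Set L) :=
        (congrArg (fun X : Subgroup L => Subgroup.normalizer (X : Set L)) (hWimg i)).le g.2
      obtain ⟨b, hb, hbe⟩ := (Subgroup.mem_normalizer_iff.1 hgN (ι a)).1 ⟨a, ha, rfl⟩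
      exact ⟨b, hb, hbe.symm⟩
    obtain ⟨f, hf, hfg⟩ := realized_exists_mor hL.2.1
      (sup_le (Subgroup.zpowers_le.2 x.2) (hWS i) : Subgroup.zpowers (x : Ω) ⊔ ((W i).W S) ≤ S) (g : L)
      (conj_mem_range_of_sup (Subgroup.zpowers_le.2 x.2) (hWS i) (fun a ha => by
        obtain ⟨n, hn⟩ := Subgroup.mem_zpowers_iff.1 ha
        obtain rfl : a = x ^ n := Subtype.ext (by rw [← hn]; rfl)
        refine ⟨y ^ n, ?_⟩
        rw [map_zpow, map_zpow, hy, hx, Subgroup.coe_mul, Subgroup.coe_mul, Subgroup.coe_inv, conj_zpow])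
        fun a ha => by
          obtain ⟨b, -, hbe⟩ := hgW a ha
          exact ⟨b, hbe.symm⟩)
    have hfW : IsIso F (((W i).W S)) (((W i).W S)) f := (hf.restrict le_sup_right).isIso_self fun a ha => by
      obtain ⟨b, hb, hbe⟩ := hgW ⟨a, (hWS i) ha⟩ ha
      have e := hfg ⟨a, (hWS i) ha⟩ ⟨f a, hf.mem (Subgroup.mem_sup_right ha)⟩ (Subgroup.mem_sup_right ha) rfl
      rw [hbe] at e
      rw [show f a = (b : Ω) from congrArg Subtype.val (hi e)]
      exact hb
    obtain ⟨a, ha, hax⟩ := hN i _ f hf hfW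
      (Subgroup.zpowers_le.2 ⟨x.2, (hSW i) x.2⟩)
    have hxm : (x : Ω) ∈ Subgroup.zpowers (x : Ω) ⊔ ((W i).W S) := Subgroup.mem_sup_left (Subgroup.mem_zpowers _)
    refine ⟨⟨ι ⟨a, ha.1⟩, hTN ((hmemT _).2 ⟨_, rfl⟩)⟩, (hmemT _).2 ⟨_, rfl⟩, Subtype.ext ?_⟩
    have e := hfg x (⟨a, ha.1⟩ * x * ⟨a, ha.1⟩⁻¹) hxm (hax x (Subgroup.mem_zpowers _)).symm
    rw [map_mul, map_mul, map_inv, hx] at e
    exact e
  -- a group with a normal complement and self-centralizing core is a `p`-group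
  obtain ⟨P₀, N, hNn, hNc⟩ := hnpc
  have hN1 : N = ⊥ := by
    have hcop : (Nat.card N).Coprime p := by
      rw [← hNc.index_eq_card]
      exact ((Fact.out : p.Prime).coprime_iff_not_dvd.2 P₀.not_dvd_index).symm
    have := Solv.pCore_characteristic p L
    have h1 : N ≤ Subgroup.centralizer (pCore p L : Set L) := by
      refine fun n hn => Subgroup.mem_centralizer_iff.2 fun c hc => ?_
      have h2 : c * n * c⁻¹ * n⁻¹ ∈ N ⊓ pCore p L := by
        refine ⟨mul_mem (hNn.conj_mem n hn c) (N.inv_mem hn), ?_⟩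
        rw [show c * n * c⁻¹ * n⁻¹ = c * (n * c⁻¹ * n⁻¹) by group]
        exact mul_mem hc ((inferInstance : (pCore p L).Normal).conj_mem _ ((pCore p L).inv_mem hc) n)
      have hbot : N ⊓ pCore p L = ⊥ := by
        rw [inf_comm]; exact Solv.inf_eq_bot_of_isPGroup (Solv.isPGroup_pCore p L) hcop
      rw [hbot, Subgroup.mem_bot, mul_inv_eq_one, mul_inv_eq_iff_eq_mul] at h2
      exact h2
    have h2 : IsPGroup p N := (Solv.isPGroup_pCore p L).to_le (h1.trans hL.2.2.2)
    obtain ⟨k, hk⟩ := IsPGroup.iff_card.1 h2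
    refine Subgroup.eq_bot_of_card_eq N ?_
    exact Nat.eq_one_of_dvd_coprimes (hcop.pow_right k) dvd_rfl (hk ▸ dvd_rfl)
  subst hN1
  have hPtop : (P₀ : Subgroup L) = ⊤ := Subgroup.isComplement'_bot_left.1 hNc
  have hTtop : (T : Subgroup L) = ⊤ := by
    refine Subgroup.eq_top_of_card_eq _ ?_
    rw [T.card_eq_multiplicity, ← P₀.card_eq_multiplicity, hPtop, Subgroup.card_top]
  refine fusionSystem_ext fun A => hom_eq_of_isMor_iff A fun f => ⟨fun hf => ?_, fun hf => ?_⟩
  · obtain ⟨g, hg⟩ := realized_exists_conj hL.2.1 hf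
    obtain ⟨a, rfl⟩ := (hmemT g).1 (hTtop ▸ Subgroup.mem_top g)
    refine isMor_inner.2 ⟨hf.le, a, a.2, fun x hx => ?_⟩
    have e := hg ⟨x, hf.le hx⟩ ⟨f x, hf.mem hx⟩ hx rfl
    rw [← map_inv, ← map_mul, ← map_mul] at e
    exact congrArg Subtype.val (hi e)
  · obtain ⟨hA, a, ha, hax⟩ := isMor_inner.1 hf
    exact (isMor_conj (F := F) hA ha).congr hax

/-- Inner normalizer systems of all members of the family force an inner system. -/
theorem eq_inner_of_family {ι₀ : Type} [Nonempty ι₀] (W : ι₀ → SubFunctor.{v} p) (hG : FamilyCriterion p W) :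
    ∀ (n : ℕ) {Ω : Type v} [Group Ω] {S : Subgroup Ω} [Finite S] {F : FusionSystem S},
      Nat.card S = n → IsPGroup p S → F.IsSaturated p → Free p F → S ≠ ⊥ →
      (∀ i, NormInner F ((W i).W S)) → F = innerFusionSystem S := by
  intro n
  induction n using Nat.strong_induction_on with
  | _ n ih =>
  intro Ω _ S _ F hn hS hF hfree hS1 hN
  subst hn
  by_contra hne
  -- some normal subgroup has a noninner normalizer system
  have hex : ∃ Q : Subgroup Ω, Q ≤ S ∧ S ≤ Subgroup.normalizer (Q : Set Ω) ∧ Q ≠ ⊥ ∧ ¬ NormInner F Q := by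
    obtain ⟨P₀, hP₀, hP₀1, hP₀p⟩ := exists_not_pGroup_aut hS hF hne
    obtain ⟨P, ⟨hPn, hP1, hPi⟩, hmax⟩ := ((setOf_le_finite S).subset
      (fun P (h : P ∈ {P | F.IsFullyNormalized P ∧ P ≠ ⊥ ∧ ¬ NormInner F P}) => h.1.1)).exists_maximalFor
      (fun P => Nat.card (normalizerIn S P)) _
      ⟨P₀, hP₀, hP₀1, fun h => hP₀p (normInner_pGroup hS hP₀.1 h)⟩
    by_cases hT : normalizerIn S P = S
    · exact ⟨P, hPn.1, fun a ha => (hT.ge ha).2, hP1, hPi⟩
    exfalso
    set T := normalizerIn S P with hTdef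
    have hTS : T < S := lt_of_le_of_ne normalizerIn_le hT
    have : Finite T := finite_of_le normalizerIn_le
    obtain ⟨E, hE⟩ := exists_normalizerSystem F hPn.1
    have hEs := normalizerSystem_saturated hS hF hPn hE
    have hPT : P ≤ T := le_normalizerIn hPn.1
    have hT1 : T ≠ ⊥ := fun h => hP1 (le_bot_iff.1 (hPT.trans h.le))
    -- the functor subgroups of `T`
    have hWi : ∀ i, NormInner E ((W i).W T) := by
      intro i
      set V := (W i).W T
      have hVT : V ≤ T := (W i).le _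
      have hV1 : V ≠ ⊥ := (W i).ne _ (hS.to_le normalizerIn_le) hT1
      have hNT : normalizerIn S T ≤ normalizerIn S V := fun a ha =>
        ⟨ha.1, (W i).mem_normalizer normalizerIn_le ha.1 ha.2⟩
      obtain ⟨U, hcU, hU⟩ := exists_fullyNormalized (F := F) (hVT.trans normalizerIn_le)
      obtain ⟨u₀, k, hu₀, hk, hke, hkN⟩ := exists_iso_to_fullyNormalized hS hF hcU hU
      have hUinner : NormInner F U := by
        by_contra hUi
        have hU1 : U ≠ ⊥ := fun h => hV1 (eq_bot_iff.2 fun x hx => by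
          have h1 := hu₀.apply_mem hx
          rw [h, Subgroup.mem_bot] at h1
          exact Subgroup.mem_bot.2 (hu₀.1.eq_one hx h1))
        have h1 := hmax ⟨hU, hU1, hUi⟩
        have h2 : Nat.card T < Nat.card (normalizerIn S U) := by
          refine lt_of_lt_of_le (card_lt_of_lt normalizerIn_le (normalizerIn_self_lt hS hTS)) ?_
          have : Finite (normalizerIn S U) := finite_of_le normalizerIn_le
          refine le_trans (Nat.card_le_card_of_injective (fun a : normalizerIn S T =>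
            (⟨k a, hkN a (hNT a.2)⟩ : normalizerIn S U)) fun a b hab => ?_) le_rfl
          exact Subtype.ext (hk.injOn (hNT a.2) (hNT b.2) (congrArg Subtype.val hab))
        exact absurd (h1 h2.le) (not_le.2 h2)
      -- the automizers in the normalizer of `V` in `E` are `p`-groups
      have hTV : normalizerIn T V = T := inf_eq_left.2 fun a ha =>
        (hNT ⟨ha.1, Subgroup.le_normalizer ha⟩).2
      have hVfn : E.IsFullyNormalized V := ⟨hVT, fun R _ => by
        rw [hTV]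
        exact Nat.card_le_card_of_injective (Subgroup.inclusion normalizerIn_le) (Subgroup.inclusion_injective _)⟩
      show NormInner E V
      obtain ⟨M, hM⟩ := exists_normalizerSystem E hVT
      have hMs := normalizerSystem_saturated (hS.to_le normalizerIn_le) hEs hVfn hM
      have : Finite (normalizerIn T V) := finite_of_le normalizerIn_le
      refine normInner_of_forall hVT fun M' hM' A => ?_
      rw [show M' = M from fusionSystem_ext fun B => (hM' B).trans (hM B).symm]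
      have hMi : M = innerFusionSystem (normalizerIn T V) := by
        refine eq_innerFusionSystem_of_autGroup_pGroup ((hS.to_le normalizerIn_le).to_le normalizerIn_le)
          hMs fun A hA => ?_
        have hAN : A ≤ normalizerIn S V := fun x hx =>
          ⟨normalizerIn_le (normalizerIn_le (hA hx)), (hA hx).2⟩
        have hkA := hk.isIso_image A hAN
        refine ((isPGroup_autInducedBy hS _).comap_of_injective (MulAut.congr hkA.toMulEquiv).toMonoidHom
          (MulAut.congr hkA.toMulEquiv).injective).to_le fun α hα => Subgroup.mem_comap.2 ?_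
        obtain ⟨-, -, g, hg, hge, hgV⟩ := (isMor_normalizer_iff hM).1 (isMor_of_mem_autGroup hA hα)
        have hgF := isMor_of_normalizer hE hg
        have hgVF : IsIso F V V g := ⟨isMor_of_normalizer hE hgV.1, hgV.2⟩
        have hsup : A ⊔ V ≤ normalizerIn S V := sup_le hAN (le_normalizerIn (hVT.trans normalizerIn_le))
        have hgN : ∀ x ∈ A ⊔ V, g x ∈ normalizerIn S V := fun x hx =>
          hgF.apply_mem_normalizerIn le_sup_right hgVF hx (hsup hx).2
        have hks := (hk.restrict hsup).isIso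
        obtain ⟨ki, hki, hkil, -⟩ := hks.exists_symm
        have hkV : IsIso F V U k := hu₀.congr hke
        set A' := hk.image A hAN
        have hle : A' ⊔ U ≤ (hk.restrict hsup).image (A ⊔ V) le_rfl := sup_le
          (fun y ⟨x, hx, he⟩ => ⟨x, Subgroup.mem_sup_left hx, he⟩) fun y hy => by
            obtain ⟨x, hx, he⟩ := hkV.exists_apply hy
            exact ⟨x, Subgroup.mem_sup_right hx, he⟩
        have hcomp : IsMor F (A' ⊔ U) (k ∘ g ∘ ki) :=
          ((hki.1.comp hgF fun y hy => hki.apply_mem hy).comp hk fun y hy => hgN _ (hki.apply_mem hy)).restrict hle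
        have hcU' : IsIso F U U (k ∘ g ∘ ki) := (hcomp.restrict le_sup_right).isIso_self fun y hy => by
          obtain ⟨x, hx, rfl⟩ := hkV.exists_apply hy
          show k (g (ki (k x))) ∈ U
          rw [hkil x (Subgroup.mem_sup_right hx)]
          exact hkV.apply_mem (hgVF.apply_mem hx)
        obtain ⟨a, ha, hax⟩ := hUinner A' _ hcomp hcU' (by
          rintro _ ⟨x, hx, rfl⟩
          exact hkN x (hAN hx))
        have key : ∀ y : A', (((MulAut.congr hkA.toMulEquiv) α y : A') : Ω) = a * y * a⁻¹ := by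
          intro y
          obtain ⟨x, rfl⟩ := hkA.toMulEquiv.surjective y
          show ((hkA.toMulEquiv (α (hkA.toMulEquiv.symm (hkA.toMulEquiv x))) : A') : Ω) = _
          rw [MulEquiv.symm_apply_apply, show ∀ z : A, ((hkA.toMulEquiv z : A') : Ω) = k z from hkA.toMulEquiv_apply,
            show ∀ z : A, ((hkA.toMulEquiv z : A') : Ω) = k z from hkA.toMulEquiv_apply,
            ← hax _ ⟨x, x.2, rfl⟩]
          show k ((α x : A) : Ω) = k (g (ki (k x)))
          rw [hkil _ (Subgroup.mem_sup_left x.2), hge _ x.2, autFun_coe]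
        exact mem_autInducedBy.2 ⟨a, ha.1, mem_normalizer_of_conj_mem hkA.le' fun y hy => by
          rw [← key ⟨y, hy⟩]; exact Subtype.prop _, key⟩
      rw [hMi]
    have hEi := ih (Nat.card T) (card_lt_of_lt le_rfl hTS) rfl (hS.to_le normalizerIn_le) hEs
      (hfree.imp id fun h => sectionFree_normalizer hS hF h hPn hE) hT1 hWi
    exact hPi (normInner_of_forall hPn.1 fun N hN' B => by
      rw [show N = E from fusionSystem_ext fun C => (hN' C).trans (hE C).symm, hEi])
  obtain ⟨Q, ⟨hQS, hSQ, hQ1, hQi⟩, hmax⟩ := ((setOf_le_finite S).subset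
    (fun Q (h : Q ∈ {Q | Q ≤ S ∧ S ≤ Subgroup.normalizer (Q : Set Ω) ∧ Q ≠ ⊥ ∧ ¬ NormInner F Q}) =>
      h.1)).exists_maximalFor (fun Q : Subgroup Ω => Nat.card Q)
      {Q | Q ≤ S ∧ S ≤ Subgroup.normalizer (Q : Set Ω) ∧ Q ≠ ⊥ ∧ ¬ NormInner F Q} hex
  obtain ⟨E, hEfree, hEmod, hEs, hEF, hQn, hEiff⟩ := exists_normalizer_top_free hS hF hQS hSQ hfree
  have hEne : E ≠ innerFusionSystem S := fun h => hQi fun A k hk hkQ hA => by
    have hm : IsMor E A k := (hEiff A k).2 ⟨hA.trans normalizerIn_le, k, hk, fun _ _ => rfl, hkQ⟩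
    rw [h] at hm
    obtain ⟨-, a, ha, hax⟩ := isMor_inner.1 hm
    exact ⟨a, ⟨ha, hSQ ha⟩, hax⟩
  have hEN : ∀ i, NormInner E ((W i).W S) := fun i A k hk hkW hA =>
    hN i A k (hk.of_le hEF) (hkW.of_le hEF) hA
  obtain ⟨hR0c, hR0n⟩ := centric_sup_centralizer hS hF hQS hSQ
  set R0 := Q ⊔ centralizerIn S Q
  by_cases hR0 : R0 = Q
  · obtain ⟨L, hLg, ιL, hL⟩ := exists_model hS hEs hQn (isCentric_of_sub hEF (hR0 ▸ hR0c))
    exact hEne (inner_of_model hS W hG hL (hEmod L ιL (hR0 ▸ hR0c) hL) hEN)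
  have hlt : Q < R0 := lt_of_le_of_ne le_sup_left (Ne.symm hR0)
  have hR0S : R0 ≤ S := hR0c.1
  have hR0i : NormInner F R0 := by
    by_contra h
    have h1 := hmax ⟨hR0S, hR0n, fun h0 => hQ1 (le_bot_iff.1 (h0 ▸ hlt.le)), h⟩
    have h2 := card_lt_of_lt hR0S hlt
    exact absurd (h1 h2.le) (not_le.2 h2)
  have hAutQ : IsPGroup p (E.autGroup Q) := by
    refine (isPGroup_autInducedBy hS Q).to_le fun α hα => ?_
    have hαi := isIso_autFun hQS hα
    obtain ⟨k, hk, hke⟩ := exists_extension_centralizer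
      (fullyNormalized_receptive hS hF ⟨hQS, fun R _ => by
        rw [show normalizerIn S Q = S from inf_eq_left.2 hSQ]
        exact Nat.card_le_card_of_injective (Subgroup.inclusion normalizerIn_le)
          (Subgroup.inclusion_injective _)⟩).2 (hαi.of_le hEF)
    have hkR : IsIso F R0 R0 k := hk.isIso_self fun x hx => hk.apply_mem_sup
      (fun y hy => Subgroup.mem_sup_left (by rw [hke y hy]; exact autFun_mem _ hy))
      (fun y hy => Subgroup.mem_sup_right (hk.apply_mem_centralizerIn le_sup_left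
        ((hαi.of_le hEF).congr hke) (Subgroup.mem_sup_right hy) hy)) hx
    obtain ⟨a, ha, hax⟩ := hR0i R0 k (by rw [sup_idem]; exact hk) hkR (le_normalizerIn hR0S)
    exact mem_autInducedBy.2 ⟨a, ha.1, hSQ ha.1, fun x => by
      rw [← autFun_coe, ← hke x x.2, hax _ (Subgroup.mem_sup_left x.2)]⟩
  have hQS' : ¬ S ≤ Q := fun h => hR0 (le_antisymm (hR0S.trans h) le_sup_left)
  -- pass to the factor system
  set Qs := Q.subgroupOf S
  have hQsn : Qs.Normal := ⟨fun x hx a =>
    show ((a * x * a⁻¹ : S) : Ω) ∈ Q from conj_mem_of_mem_normalizer (hSQ a.2) hx⟩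
  let θ : S →* S ⧸ Qs := QuotientGroup.mk' Qs
  have hθ : ∀ s : S, θ s = 1 ↔ (s : Ω) ∈ Q := fun s => QuotientGroup.eq_one_iff s
  have hθr : θ.range = (⊤ : Subgroup (S ⧸ Qs)) := MonoidHom.range_eq_top.2 (QuotientGroup.mk'_surjective _)
  have hQsc := normal_stronglyClosed hQn
  obtain ⟨E', hE'⟩ := exists_factor (F := E) hθ hθr hQsc
  have hE's := factor_saturated hS hEs hQsc hE'
  have hE'ne : E' ≠ innerFusionSystem ⊤ := fun h => hEne (inner_of_factor_inner hS hEs hQn hAutQ hE' h)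
  have hlt' : Nat.card (⊤ : Subgroup (S ⧸ Qs)) < Nat.card S := by
    rw [Subgroup.card_top, Subgroup.card_eq_card_quotient_mul_card_subgroup Qs]
    refine lt_mul_of_one_lt_right Nat.card_pos ((Subgroup.one_lt_card_iff_ne_bot _).2 fun h0 => hQ1 ?_)
    refine eq_bot_iff.2 fun x hx => ?_
    have hxm : (⟨x, hQS hx⟩ : S) ∈ Qs := hx
    rw [h0, Subgroup.mem_bot] at hxm
    exact congrArg Subtype.val hxm
  have hS'1 : (⊤ : Subgroup (S ⧸ Qs)) ≠ ⊥ := fun h0 => hQS' fun x hx => by
    have hm : θ ⟨x, hx⟩ ∈ (⊤ : Subgroup (S ⧸ Qs)) := Subgroup.mem_top _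
    rw [h0, Subgroup.mem_bot, hθ] at hm
    exact hm
  refine hE'ne (ih _ hlt' rfl ((hS.to_quotient Qs).to_subgroup ⊤) hE's
    (hEfree.imp id fun h => sectionFree_factor hS hEs hQsc h hE') hS'1 fun i => ?_)
  set U := preimageAlong θ ((W i).W (⊤ : Subgroup (S ⧸ Qs)))
  have hQU : Q ≤ U := le_preimageAlong hQS hθ
  have hWtop : (W i).W (⊤ : Subgroup (S ⧸ Qs)) ≤ (⊤ : Subgroup (S ⧸ Qs)) := le_top
  have : Finite (S ⧸ Qs) := inferInstance
  have hpQ : IsPGroup p (⊤ : Subgroup (S ⧸ Qs)) := (hS.to_quotient Qs).to_subgroup ⊤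
  have hUS : U ≤ S := preimageAlong_le
  have hSU : S ≤ Subgroup.normalizer (U : Set Ω) := fun a ha =>
    mem_normalizer_of_conj_mem hUS fun x hx => by
      obtain ⟨hxS, hxW⟩ := mem_preimageAlong.1 hx
      refine mem_preimageAlong.2 ⟨mul_mem (mul_mem ha hxS) (inv_mem ha), ?_⟩
      rw [conj_mem_preimage ha hxS]
      exact conj_mem_of_mem_normalizer ((W i).mem_normalizer (S := (⊤ : Subgroup (S ⧸ Qs))) le_top
        (Subgroup.mem_top _) (Subgroup.le_normalizer (Subgroup.mem_top _))) hxW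
  have hQU' : Q < U := by
    refine lt_of_le_of_ne hQU fun h => ?_
    refine (W i).ne _ hpQ hS'1 (eq_bot_iff.2 fun y hy => ?_)
    obtain ⟨x, hx, rfl⟩ := exists_qfun_eq hθr hWtop hy
    rw [Subgroup.mem_bot, qfun_apply θ (preimageAlong_le hx), hθ]
    exact h.ge hx
  have hUi : NormInner F U := by
    by_contra h
    have h1 := hmax ⟨hUS, hSU, fun h0 => hQ1 (le_bot_iff.1 (h0 ▸ hQU)), h⟩
    have h2 := card_lt_of_lt hUS hQU'
    exact absurd (h1 h2.le) (not_le.2 h2)
  intro A k hk hkW hA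
  obtain ⟨hAW, g, hg, hi⟩ := hk.factor_lift hE'
  set B := preimageAlong θ (A ⊔ (W i).W (⊤ : Subgroup (S ⧸ Qs)))
  have hUB : U ≤ B := fun x hx =>
    mem_preimageAlong.2 ⟨hUS hx, Subgroup.mem_sup_right (mem_preimageAlong.1 hx).2⟩
  have hgU : IsIso F U U g := ((hg.restrict hUB).of_le hEF).isIso_self fun x hx => by
    refine mem_preimageAlong.2 ⟨hg.mem (hUB hx), ?_⟩
    rw [← hi x (hUB hx)]
    exact hkW.apply_mem (mem_preimageAlong.1 hx).2
  obtain ⟨a, ha, hax⟩ := hUi B g (by rw [sup_eq_left.2 hUB]; exact hg.of_le hEF) hgU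
    fun x hx => ⟨preimageAlong_le hx, hSU (preimageAlong_le hx)⟩
  refine ⟨θ ⟨a, ha.1⟩, ⟨Subgroup.mem_top _, ?_⟩, fun y hy => ?_⟩
  · exact (W i).mem_normalizer (S := (⊤ : Subgroup (S ⧸ Qs))) le_top (Subgroup.mem_top _)
      (Subgroup.le_normalizer (Subgroup.mem_top _))
  · obtain ⟨x, hx, rfl⟩ := exists_qfun_eq hθr le_top hy
    have hxB : x ∈ B := mem_preimageAlong.2 ⟨preimageAlong_le hx, Subgroup.mem_sup_left hy⟩
    rw [hi x hxB, hax x hxB, conj_mem_preimage ha.1 (preimageAlong_le hxB), qfun_apply θ ha.1]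

end Cfsg.Agent.Fusion
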