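import Mathlib

/-!
An abelian `2`-group acting faithfully on an abelian group of odd order, inside a group acting on an
elementary abelian `2`-group with no element of order `3` inverted on a submodule, is not an offender.
-/

set_option autoImplicit false
set_option linter.style.haveILetI false

namespace Cfsg.Agent.Fusion.Offender

variable {X W : Type*} [Group X] [Finite X] [CommGroup W] [Finite W] [MulDistribMulAction X W]

/-- The fixed points of a subgroup. -/
def fix (A : Subgroup X) : Subgroup W where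
  carrier := {w | ∀ a ∈ A, a • w = w}
  one_mem' := fun a _ => smul_one a
  mul_mem' := fun {u v} hu hv a ha => by rw [smul_mul', hu a ha, hv a ha]
  inv_mem' := fun {u} hu a ha => by rw [smul_inv', hu a ha]

theorem mem_fix {A : Subgroup X} {w : W} : w ∈ fix A ↔ ∀ a ∈ A, a • w = w := Iff.rfl

/-- No element of order `3` on an invariant subgroup is inverted there. -/
def NoInverted (X W : Type*) [Group X] [CommGroup W] [MulDistribMulAction X W] : Prop :=
  ∀ (U : Subgroup W) (y a : X), (∀ u ∈ U, y • u ∈ U) → (∀ u ∈ U, a • u ∈ U) →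
    (∀ u ∈ U, y ^ 3 • u = u) → (∀ u ∈ U, a • a • u = u) → a * y * a⁻¹ = y⁻¹ →
    ∀ u ∈ U, y • u = u

theorem pow_smul_of_mul {y : X} {u c : W} (h : y • u = u * c) (hc : y • c = c) (n : ℕ) :
    y ^ n • u = u * c ^ n := by
  induction n with
  | zero => simp
  | succ n ih => rw [pow_succ', mul_smul, ih, smul_mul', smul_pow', h, hc, pow_succ, mul_comm (c ^ n), mul_assoc]

theorem eq_one_of_odd {c : W} (hsq : c * c = 1) {n : ℕ} (hn : Odd n) (h : c ^ n = 1) : c = 1 := by
  obtain ⟨k, rfl⟩ := hn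
  rwa [pow_succ, pow_mul, pow_two, hsq, one_pow, one_mul] at h

theorem inv_eq_self (hW : ∀ w : W, w * w = 1) (w : W) : w⁻¹ = w := inv_eq_of_mul_eq_one_right (hW w)

theorem eq_of_mul_eq_one (hW : ∀ w : W, w * w = 1) {u v : W} (h : u * v = 1) : v = u := by
  rw [← inv_eq_self hW u]
  exact eq_inv_of_mul_eq_one_right h

/-- An element of odd order commuting with a `2`-group and trivial on its fixed points is trivial. -/
theorem smul_eq_self_of_fix (hW : ∀ w : W, w * w = 1) (B : Subgroup X) (hB : IsPGroup 2 B) {y : X}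
    (hy : Odd (orderOf y)) (hyB : ∀ b ∈ B, b * y = y * b) (h : ∀ w ∈ fix (W := W) B, y • w = w) (w : W) :
    y • w = w := by
  classical
  haveI : Fact (Nat.Prime 2) := ⟨Nat.prime_two⟩
  set n := orderOf y
  let e : W →* W :=
    { toFun := fun v => ∏ i ∈ Finset.range n, y ^ i • v
      map_one' := by simp
      map_mul' := fun u v => by rw [← Finset.prod_mul_distrib]; simp only [smul_mul'] }
  have hfix : ∀ v, y • v = v → e v = v := fun v hv => by
    have hi : ∀ i : ℕ, y ^ i • v = v := fun i => by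
      induction i with
      | zero => simp
      | succ i ih => rw [pow_succ', mul_smul, ih, hv]
    show ∏ i ∈ Finset.range n, y ^ i • v = v
    simp only [hi, Finset.prod_const, Finset.card_range]
    obtain ⟨k, hk⟩ := hy
    rw [hk, pow_succ, pow_mul, pow_two, hW, one_pow, one_mul]
  have hye : ∀ v, y • e v = e v := fun v => by
    show y • ∏ i ∈ Finset.range n, y ^ i • v = ∏ i ∈ Finset.range n, y ^ i • v
    rw [Finset.smul_prod']
    have h1 := Finset.prod_range_succ' (fun i => y ^ i • v) n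
    have h2 := Finset.prod_range_succ (fun i => y ^ i • v) n
    rw [h1] at h2
    simp only [pow_orderOf_eq_one, n, pow_zero, mul_right_cancel_iff] at h2
    simpa [pow_succ', mul_smul] using h2
  have hbe : ∀ b ∈ B, ∀ v, b • e v = e (b • v) := fun b hb v => by
    show b • ∏ i ∈ Finset.range n, y ^ i • v = ∏ i ∈ Finset.range n, y ^ i • (b • v)
    rw [Finset.smul_prod']
    refine Finset.prod_congr rfl fun i _ => ?_
    rw [← mul_smul, ← mul_smul, ((show Commute b y from hyB b hb).pow_right i).eq]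
  by_contra hne
  -- the kernel of the norm is a nontrivial `B`-invariant `2`-group
  letI : MulAction B e.ker :=
    { smul := fun b v => ⟨(b : X) • (v : W), by
        rw [MonoidHom.mem_ker, ← hbe b b.2, MonoidHom.mem_ker.1 v.2, smul_one]⟩
      one_smul := fun v => Subtype.ext (one_smul X (v : W))
      mul_smul := fun a b v => Subtype.ext (mul_smul (a : X) b (v : W)) }
  have hker : w * e w ∈ e.ker := by
    rw [MonoidHom.mem_ker, map_mul, hfix _ (hye w), hW]
  have hnt : Nontrivial e.ker := by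
    refine ⟨⟨⟨w * e w, hker⟩, 1, fun h1 => hne ?_⟩⟩
    have h2 : w * e w = 1 := congrArg Subtype.val h1
    have h3 : w = e w := eq_of_mul_eq_one hW (show e w * w = 1 by rwa [mul_comm])
    exact (congrArg (y • ·) h3).trans ((hye w).trans h3.symm)
  have h2 : 2 ∣ Nat.card e.ker := by
    obtain ⟨v, hv⟩ := exists_ne (1 : e.ker)
    have hv2 : orderOf v = 2 := orderOf_eq_prime (by rw [pow_two]; exact Subtype.ext (hW v)) hv
    exact hv2 ▸ orderOf_dvd_natCard v
  have h1mem : (1 : e.ker) ∈ MulAction.fixedPoints B e.ker := fun b => Subtype.ext (smul_one (b : X))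
  obtain ⟨v, hv, hv1⟩ := hB.exists_fixed_point_of_prime_dvd_card_of_fixed_point e.ker h2 h1mem
  have hvB : (v : W) ∈ fix B := fun b hb => congrArg Subtype.val (hv ⟨b, hb⟩)
  refine hv1 (Subtype.ext ?_)
  rw [OneMemClass.coe_one, ← hfix _ (h _ hvB)]
  exact (MonoidHom.mem_ker.1 v.2).symm

/-- Orbits of length at most three. -/
theorem pow_six_smul {y : X} {D : Finset W} (hD : D.card ≤ 3) (hinv : ∀ d ∈ D, y • d ∈ D) {d : W}
    (hd : d ∈ D) : y ^ 6 • d = d := by
  classical
  let f : D → D := fun x => ⟨y • (x : W), hinv x x.2⟩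
  have hf : Function.Injective f := fun a b h => Subtype.ext (smul_left_cancel y (congrArg Subtype.val h))
  let σ : Equiv.Perm D := Equiv.ofBijective f (Finite.injective_iff_bijective.1 hf)
  have hσ : σ ^ 6 = 1 := by
    refine orderOf_dvd_iff_pow_eq_one.1 (orderOf_dvd_natCard σ |>.trans ?_)
    rw [Nat.card_perm, Nat.card_eq_fintype_card, Fintype.card_coe]
    exact Nat.factorial_dvd_factorial hD
  have hpow : ∀ i : ℕ, (((σ ^ i) ⟨d, hd⟩ : D) : W) = y ^ i • d := fun i => by
    induction i with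
    | zero => simp
    | succ i ih =>
      rw [pow_succ', pow_succ', Equiv.Perm.mul_apply, mul_smul, ← ih]
      rfl
  have h := hpow 6
  rw [hσ] at h
  simpa using h.symm

/-- An involution inverting a nontrivial element of odd order moves a submodule by index at least `4`. -/
theorem four_mul_le (hW : ∀ w : W, w * w = 1) (hX : NoInverted X W) (U : Subgroup W) {y a : X}
    (hy : Odd (orderOf y)) (hyU : ∀ u ∈ U, y • u ∈ U) (haU : ∀ u ∈ U, a • u ∈ U)
    (ha : ∀ u ∈ U, a • a • u = u) (hay : a * y * a⁻¹ = y⁻¹) (hne : ∃ u ∈ U, y • u ≠ u) :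
    4 * Nat.card ↥(U ⊓ fix (W := W) (Subgroup.zpowers a)) ≤ Nat.card U := by
  classical
  set F := U ⊓ fix (W := W) (Subgroup.zpowers a) with hF
  have hmemF : ∀ u ∈ U, a • u = u → u ∈ F := fun u hu h => ⟨hu, by
    have hle : Subgroup.zpowers a ≤ MulAction.stabilizer X u := Subgroup.zpowers_le.2 h
    exact fun b hb => hle hb⟩
  by_contra hlt
  push Not at hlt
  -- the commutators with `a` take at most one nontrivial value
  let c : U →* W :=
    { toFun := fun u => (u : W) * a • (u : W)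
      map_one' := by simp
      map_mul' := fun u v => by simp only [Subgroup.coe_mul, smul_mul']; ac_rfl }
  have hker : Nat.card c.ker = Nat.card F := Nat.card_congr
    { toFun := fun u => ⟨((u : U) : W), hmemF _ (u : U).2 (eq_of_mul_eq_one hW u.2)⟩
      invFun := fun u => ⟨⟨u, u.2.1⟩, show (u : W) * a • (u : W) = 1 by
        rw [u.2.2 a (Subgroup.mem_zpowers a), hW]⟩
      left_inv := fun _ => rfl
      right_inv := fun _ => rfl }
  have hrange : Nat.card c.range ≤ 2 := by
    have h1 := c.ker.card_mul_index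
    rw [Subgroup.index_ker, hker] at h1
    have h2 : Nat.card c.range ∣ Nat.card U := Dvd.intro_left _ h1
    by_contra h3
    push Not at h3
    have hsq : ∀ u : c.range, u ^ 2 = 1 := fun u => Subtype.ext (by rw [SubmonoidClass.coe_pow, pow_two]; exact hW u)
    haveI : Fact (Nat.Prime 2) := ⟨Nat.prime_two⟩
    obtain ⟨k, hk⟩ := IsPGroup.iff_card.1 (fun u => ⟨1, by rw [pow_one]; exact hsq u⟩ : IsPGroup 2 c.range)
    have hk2 : 2 ≤ k := by
      by_contra hk2
      interval_cases k <;> omega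
    have h4 : 4 ≤ Nat.card c.range := by
      rw [hk]
      calc 4 = 2 ^ 2 := by norm_num
        _ ≤ 2 ^ k := Nat.pow_le_pow_right (by norm_num) hk2
    rw [← h1] at hlt
    exact absurd (Nat.mul_le_mul_left (Nat.card F) h4) (by rw [mul_comm _ 4]; exact not_le.2 hlt)
  obtain ⟨d, hdU, hd⟩ : ∃ d ∈ U, ∀ u ∈ U, a • u = u ∨ a • u = u * d := by
    by_cases h0 : ∀ u ∈ U, a • u = u
    · exact ⟨1, U.one_mem, fun u hu => Or.inl (h0 u hu)⟩
    push Not at h0
    obtain ⟨v, hv, hav⟩ := h0
    refine ⟨v * a • v, U.mul_mem hv (haU v hv), fun u hu => ?_⟩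
    by_contra hcon
    push Not at hcon
    let S : Finset c.range := {1, ⟨c ⟨v, hv⟩, ⟨_, rfl⟩⟩, ⟨c ⟨u, hu⟩, ⟨_, rfl⟩⟩}
    have hcard : S.card = 3 := by
      refine Finset.card_eq_three.2 ⟨_, _, _, fun h => hav ?_, fun h => hcon.1 ?_, fun h => hcon.2 ?_, rfl⟩
      · exact eq_of_mul_eq_one hW (congrArg Subtype.val h).symm
      · exact eq_of_mul_eq_one hW (congrArg Subtype.val h).symm
      · have h' : v * a • v = u * a • u := congrArg Subtype.val h
        rw [h', ← mul_assoc, hW, one_mul]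
    haveI : Fintype c.range := Fintype.ofFinite _
    have := S.card_le_univ
    rw [← Nat.card_eq_fintype_card] at this
    omega
  -- `y ^ 2` is trivial modulo a set of four elements
  set a' := y * a⁻¹ * y⁻¹ with ha'
  have haU' : ∀ u ∈ U, a⁻¹ • u = a • u := fun u hu => by
    rw [inv_smul_eq_iff]; exact (ha u hu).symm
  have hyU' : ∀ u ∈ U, y⁻¹ • u ∈ U := fun u hu => by
    have hle : ∀ i : ℕ, y ^ i • u ∈ U := fun i => by
      induction i with
      | zero => simpa using hu
      | succ i ih => rw [pow_succ', mul_smul]; exact hyU _ ih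
    rw [show y⁻¹ = y ^ (orderOf y - 1) from by
      rw [inv_eq_iff_mul_eq_one, ← pow_succ', Nat.sub_add_cancel (orderOf_pos y), pow_orderOf_eq_one]]
    exact hle _
  set D : Finset W := ({d, y • d, d * y • d} : Finset W).erase 1 with hD
  have hD2 : ∀ u ∈ U, ∃ e, (e = 1 ∨ e ∈ D) ∧ (y ^ 2)⁻¹ • u = u * e := by
    intro u hu
    have hz : (y ^ 2)⁻¹ = a * a' := by
      rw [ha', ← mul_assoc, ← mul_assoc, hay, pow_two, mul_inv_rev]
    have hu' := hyU' u hu
    have hcases : a' • u = u ∨ a' • u = u * y • d := by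
      rcases hd _ hu' with h | h
      · left
        rw [ha', mul_smul, mul_smul, haU' _ hu', h, smul_inv_smul]
      · right
        rw [ha', mul_smul, mul_smul, haU' _ hu', h, smul_mul', smul_inv_smul]
    have hmemD : ∀ e, (e = d ∨ e = y • d ∨ e = d * y • d) → e = 1 ∨ e ∈ D := fun e he => by
      by_cases h1 : e = 1
      · exact Or.inl h1
      · exact Or.inr (Finset.mem_erase.2 ⟨h1, by simpa using he⟩)
    rw [hz, mul_smul]
    rcases hcases with h | h
    · rw [h]
      rcases hd u hu with h' | h'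
      · exact ⟨1, Or.inl rfl, by rw [h', mul_one]⟩
      · exact ⟨d, hmemD d (Or.inl rfl), h'⟩
    · rw [h, smul_mul']
      rcases hd u hu with h' | h' <;> rcases hd _ (hyU d hdU) with h'' | h'' <;> rw [h', h'']
      · exact ⟨_, hmemD _ (Or.inr (Or.inl rfl)), rfl⟩
      · exact ⟨_, hmemD _ (Or.inr (Or.inr rfl)), by rw [mul_comm (y • d) d]⟩
      · exact ⟨_, hmemD _ (Or.inr (Or.inr rfl)), by rw [mul_assoc]⟩
      · exact ⟨_, hmemD _ (Or.inr (Or.inl rfl)),
          by rw [mul_assoc, mul_comm (y • d) d, ← mul_assoc d, hW, one_mul]⟩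
  have hDU : ∀ e ∈ D, e ∈ U := fun e he => by
    obtain ⟨-, he'⟩ := Finset.mem_erase.1 he
    simp only [Finset.mem_insert, Finset.mem_singleton] at he'
    rcases he' with rfl | rfl | rfl
    · exact hdU
    · exact hyU _ hdU
    · exact U.mul_mem hdU (hyU _ hdU)
  have hDcard : D.card ≤ 3 := (Finset.card_erase_le).trans Finset.card_le_three
  have hDinv : ∀ e ∈ D, (y ^ 2)⁻¹ • e ∈ D := fun e he => by
    obtain ⟨f, hf, hef⟩ := hD2 e (hDU e he)
    obtain ⟨he1, he'⟩ := Finset.mem_erase.1 he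
    refine Finset.mem_erase.2 ⟨fun h => he1 (by rwa [inv_smul_eq_iff, smul_one] at h), ?_⟩
    rw [hef]
    rcases hf with rfl | hf
    · rwa [mul_one]
    obtain ⟨hf1, hf'⟩ := Finset.mem_erase.1 hf
    have h1 : e * f ≠ 1 := fun h => he1 (by
      rwa [h, inv_smul_eq_iff, smul_one] at hef)
    simp only [Finset.mem_insert, Finset.mem_singleton] at he' hf' ⊢
    rcases he' with rfl | rfl | rfl <;> rcases hf' with rfl | rfl | rfl
    all_goals first
      | exact absurd (hW _) h1
      | (left; rw [mul_comm, mul_assoc, hW, mul_one])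
      | (left; rw [mul_assoc, hW, mul_one])
      | (right; left; rw [← mul_assoc, hW, one_mul])
      | (right; left; rw [mul_comm d, mul_assoc, hW, mul_one])
      | (right; right; rfl)
      | (right; left; rw [mul_comm, ← mul_assoc, hW, one_mul])
      | (right; right; exact mul_comm _ _)
  -- so `y ^ 3` is trivial on `U`
  have hy12 : ∀ u ∈ U, ((y ^ 2)⁻¹) ^ 6 • u = u := by
    set z := (y ^ 2)⁻¹ with hz
    have hzU : ∀ u ∈ U, z • u ∈ U := fun u hu => by
      rw [hz, pow_two, mul_inv_rev, mul_smul]; exact hyU' _ (hyU' _ hu)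
    intro u hu
    obtain ⟨e, hcom, hef⟩ : ∃ e, z ^ 6 • e = e ∧ z ^ 6 • u = u * e := by
      have key : ∀ i : ℕ, ∃ e, z ^ i • u = u * e ∧ z ^ 6 • e = e := fun i => by
        induction i with
        | zero => exact ⟨1, by simp, smul_one _⟩
        | succ i ih =>
          obtain ⟨e, he, he'⟩ := ih
          obtain ⟨f, hf, hf'⟩ := hD2 u hu
          refine ⟨f * z • e, ?_, ?_⟩
          · rw [pow_succ', mul_smul, he, smul_mul', hf', mul_assoc]
          · rw [smul_mul', ← mul_smul, ← pow_succ, show z ^ (6 + 1) = z * z ^ 6 from pow_succ' z 6, mul_smul, he']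
            congr 1
            rcases hf with rfl | hf
            · exact smul_one _
            · exact pow_six_smul hDcard hDinv hf
      obtain ⟨e, he, he'⟩ := key 6
      exact ⟨e, he', he⟩
    have h := pow_smul_of_mul hef hcom (orderOf y)
    rw [← pow_mul, show z ^ (6 * orderOf y) = 1 from by
      rw [hz, inv_pow, ← pow_mul, show 2 * (6 * orderOf y) = orderOf y * 12 by ring, pow_mul,
        pow_orderOf_eq_one, one_pow, inv_one], one_smul] at h
    rw [hef, eq_one_of_odd (hW e) hy (mul_eq_left.1 h.symm), mul_one]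
  have hy3 : ∀ u ∈ U, y ^ 3 • u = u := by
    intro u hu
    obtain ⟨k, hk⟩ := hy
    have h12 : ∀ m : ℕ, y ^ (12 * m) • u = u := fun m => by
      have h1 : y ^ 12 • u = u := by
        have := hy12 u hu
        rw [inv_pow, inv_smul_eq_iff, ← pow_mul] at this
        exact this.symm
      induction m with
      | zero => simp
      | succ m ih => rw [Nat.mul_succ, pow_add, mul_smul, h1, ih]
    -- an odd number `n` has a multiple of `3` congruent to `3` modulo `12`
    have hn : ∀ m : ℕ, y ^ (orderOf y * m) = 1 := fun m => by rw [pow_mul, pow_orderOf_eq_one, one_pow]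
    rcases Nat.even_or_odd' k with ⟨j, rfl | rfl⟩
    · have h := h12 (3 * j + 1)
      rw [show 12 * (3 * j + 1) = 3 + orderOf y * 9 by rw [hk]; ring, pow_add, hn, mul_one] at h
      exact h
    · have h := h12 (j + 1)
      rw [show 12 * (j + 1) = 3 + orderOf y * 3 by rw [hk]; ring, pow_add, hn, mul_one] at h
      exact h
  obtain ⟨u, hu, hyu⟩ := hne
  exact hyu (hX U y a hyU haU hy3 ha hay u hu)

/-- Strictness along the powers of an element of `2`-power order. -/
theorem fix_eq_of_sq (hW : ∀ w : W, w * w = 1) {U : Subgroup W} {b : X} (hbU : ∀ u ∈ U, b • u ∈ U)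
    (h : ∀ u ∈ U, b ^ 2 • u = u → b • u = u) :
    ∀ j : ℕ, ∀ u ∈ U, b ^ 2 ^ j • u = u → b • u = u := by
  intro j
  induction j using Nat.strong_induction_on with
  | _ j ih =>
  intro u hu hju
  match j with
  | 0 => simpa using hju
  | 1 => exact h u hu (by simpa using hju)
  | (i + 2) =>
    have hUpow : ∀ (n : ℕ) (x : W), x ∈ U → b ^ n • x ∈ U := fun n x hx => by
      induction n with
      | zero => simpa using hx
      | succ n hn => rw [pow_succ', mul_smul]; exact hbU _ hn
    have hfix : ∀ (n : ℕ) (x : W), b • x = x → b ^ n • x = x := fun n x hx => by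
      induction n with
      | zero => simp
      | succ n hn => rw [pow_succ', mul_smul, hn, hx]
    -- `v = u · b^{2^{i+1}} u` is fixed by `b`
    have hv : b • (u * b ^ 2 ^ (i + 1) • u) = u * b ^ 2 ^ (i + 1) • u := by
      refine ih (i + 1) (by omega) _ (U.mul_mem hu (hUpow _ _ hu)) ?_
      rw [smul_mul', ← mul_smul, ← pow_add, ← two_mul, ← pow_succ', hju, mul_comm]
    have hw : b ^ 2 ^ (i + 1) • (u * b ^ 2 ^ i • u) = u * b ^ 2 ^ i • u := by
      have hv' := hfix (2 ^ i) _ hv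
      rw [smul_mul', ← mul_smul, ← pow_add] at hv'
      rw [smul_mul', ← mul_smul, ← pow_add, show 2 ^ (i + 1) + 2 ^ i = 2 ^ i + 2 ^ (i + 1) by ring]
      refine eq_of_mul_eq_one hW ?_
      calc u * b ^ 2 ^ i • u * (b ^ 2 ^ (i + 1) • u * b ^ (2 ^ i + 2 ^ (i + 1)) • u)
          = (u * b ^ 2 ^ (i + 1) • u) * (b ^ 2 ^ i • u * b ^ (2 ^ i + 2 ^ (i + 1)) • u) := by ac_rfl
        _ = 1 := by rw [hv', hW]
    have hw1 := ih (i + 1) (by omega) _ (U.mul_mem hu (hUpow _ _ hu)) hw
    have hw2 := hfix (2 ^ i) _ hw1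
    rw [smul_mul', ← mul_smul, ← pow_add, ← two_mul, ← pow_succ', mul_comm] at hw2
    exact ih (i + 1) (by omega) u hu (mul_right_cancel hw2)

theorem exists_orderOf_eq {Q : Type*} [Group Q] (hQ : IsPGroup 2 Q) (a : Q) :
    ∃ m, orderOf a = 2 ^ m := by
  obtain ⟨k, hk⟩ := hQ a
  obtain ⟨m, -, hm⟩ := (Nat.dvd_prime_pow Nat.prime_two).1 (orderOf_dvd_of_pow_eq_one hk)
  exact ⟨m, hm⟩

/-- An abelian `2`-group with at most one involution is cyclic. -/
theorem exists_generator {Q : Type*} [CommGroup Q] [Finite Q] (hQ : IsPGroup 2 Q)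
    (h : ∀ x z : Q, x ≠ 1 → x ^ 2 = 1 → z ≠ 1 → z ^ 2 = 1 → x = z) :
    ∃ a : Q, ∀ z : Q, z ∈ Subgroup.zpowers a := by
  obtain ⟨a, -, hmax⟩ := Set.exists_max_image (Set.univ : Set Q) orderOf (Set.toFinite _) ⟨1, trivial⟩
  refine ⟨a, ?_⟩
  by_contra hcon
  push Not at hcon
  obtain ⟨z₀, hz₀⟩ := hcon
  -- an element outside with square inside
  obtain ⟨z, hz, hz2⟩ : ∃ z, z ∉ Subgroup.zpowers a ∧ z ^ 2 ∈ Subgroup.zpowers a := by
    obtain ⟨k, hk⟩ := hQ z₀
    suffices ∀ (k : ℕ) (z : Q), z ^ 2 ^ k ∈ Subgroup.zpowers a → z ∉ Subgroup.zpowers a →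
        ∃ z, z ∉ Subgroup.zpowers a ∧ z ^ 2 ∈ Subgroup.zpowers a from
      this k z₀ (hk ▸ one_mem _) hz₀
    intro k
    induction k with
    | zero => intro z h1 h2; exact absurd (by simpa using h1) h2
    | succ k ih =>
      intro z h1 h2
      by_cases h3 : z ^ 2 ∈ Subgroup.zpowers a
      · exact ⟨z, h2, h3⟩
      · exact ih (z ^ 2) (by rwa [← pow_mul, ← pow_succ']) h3
  rw [← mem_powers_iff_mem_zpowers, Submonoid.mem_powers_iff] at hz2
  obtain ⟨j, hj⟩ := hz2
  obtain ⟨m, hm⟩ := exists_orderOf_eq hQ a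
  rcases Nat.even_or_odd' j with ⟨i, rfl | rfl⟩
  · -- `z a^{-i}` is an involution
    set t := z * (a ^ i)⁻¹ with ht
    have ht2 : t ^ 2 = 1 := by rw [ht, mul_pow, inv_pow, ← pow_mul, mul_comm i 2, hj, mul_inv_cancel]
    have ht1 : t ≠ 1 := fun h => hz (by
      rw [mul_inv_eq_one] at h; rw [h]; exact Subgroup.pow_mem _ (Subgroup.mem_zpowers a) i)
    rcases m with _ | m
    · have ha : a = 1 := orderOf_eq_one_iff.1 (by simpa using hm)
      have hle := hmax t trivial
      rw [ha, orderOf_one] at hle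
      exact ht1 (orderOf_eq_one_iff.1 (le_antisymm hle (orderOf_pos t)))
    · have hs : t = a ^ 2 ^ m := h _ _ ht1 ht2
        (fun h' => by
          have h1 := orderOf_dvd_of_pow_eq_one h'
          rw [hm] at h1
          have h2 := Nat.le_of_dvd (by positivity) h1
          rw [pow_succ] at h2
          have : 0 < 2 ^ m := by positivity
          omega)
        (by rw [← pow_mul, ← pow_succ, ← hm, pow_orderOf_eq_one])
      refine hz ?_
      rw [show z = a ^ 2 ^ m * a ^ i from eq_mul_of_mul_inv_eq hs]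
      exact mul_mem (Subgroup.pow_mem _ (Subgroup.mem_zpowers a) _) (Subgroup.pow_mem _ (Subgroup.mem_zpowers a) _)
  · -- `z` has larger order than `a`
    have hord : orderOf (z ^ 2) = orderOf a := by
      rw [← hj, orderOf_pow' _ (by omega), hm, Nat.Coprime.gcd_eq_one
        ((Nat.coprime_two_left.2 (odd_two_mul_add_one i)).pow_left m), Nat.div_one]
    have hle := hmax z trivial
    have hzpos := orderOf_pos z
    rw [orderOf_pow' _ two_ne_zero] at hord
    obtain ⟨r, hr⟩ := exists_orderOf_eq hQ z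
    rcases r with _ | r
    · exact hz (by rw [show z = 1 from orderOf_eq_one_iff.1 (by simpa using hr)]; exact one_mem _)
    rw [hr, Nat.gcd_eq_right (dvd_pow_self 2 (Nat.succ_ne_zero r)), pow_succ, Nat.mul_div_cancel _ two_pos] at hord
    rw [hr, ← hord, pow_succ] at hle
    have : 0 < 2 ^ r := by positivity
    omega

/-- The main inequality. -/
theorem not_offender (hW : ∀ w : W, w * w = 1) [FaithfulSMul X W] (hX : NoInverted X W) (K : Subgroup X)
    (hKab : ∀ x ∈ K, ∀ z ∈ K, x * z = z * x) (hK : Odd (Nat.card K)) :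
    ∀ A : Subgroup X, IsPGroup 2 A → (∀ x ∈ A, ∀ z ∈ A, x * z = z * x) →
      A ≤ Subgroup.normalizer (K : Set X) → (∀ a ∈ A, (∀ k ∈ K, a * k = k * a) → a = 1) → A ≠ ⊥ →
      2 * (Nat.card A * Nat.card (fix (W := W) A)) ≤ Nat.card W := by
  classical
  intro A
  induction hn : Nat.card A using Nat.strong_induction_on generalizing A with
  | _ n ih =>
  intro hA2 hAc hAK hAf hA1
  subst hn
  haveI : Fact (Nat.Prime 2) := ⟨Nat.prime_two⟩
  let P : Subgroup X → Prop := fun B => B ≤ A ∧ ∃ k ∈ K, (∀ b ∈ B, b * k = k * b) ∧ ∃ a ∈ A, a * k ≠ k * a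
  have hbot : P ⊥ := by
    refine ⟨bot_le, ?_⟩
    by_contra hcon
    push Not at hcon
    refine hA1 ((Subgroup.eq_bot_iff_forall A).2 fun a ha => hAf a ha fun k hk => ?_)
    exact hcon k hk (fun b hb => by rw [Subgroup.mem_bot.1 hb, one_mul, mul_one]) a ha
  obtain ⟨B, ⟨hBA, k, hk, hkB, a₀, ha₀, ha₀k⟩, hBmax⟩ :=
    Set.exists_max_image {B | P B} (fun B : Subgroup X => Nat.card B) (Set.toFinite _) ⟨⊥, hbot⟩
  have hcomA : ∀ {a : X}, a ∈ A → ∀ b ∈ B, b * a = a * b := fun ha b hb => hAc b (hBA hb) _ ha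
  have hnew : ∀ x ∈ A, x ∉ B → ∀ k' ∈ K, (∀ b ∈ B, b * k' = k' * b) → (∃ a ∈ A, a * k' ≠ k' * a) →
      x * k' ≠ k' * x := by
    intro x hx hxB k' hk' hk'B hk'A hxk
    have hle : B ⊔ Subgroup.zpowers x ≤ A := sup_le hBA (Subgroup.zpowers_le.2 hx)
    have hcen : B ⊔ Subgroup.zpowers x ≤ Subgroup.centralizer ({k'} : Set X) :=
      sup_le (fun b hb => Subgroup.mem_centralizer_singleton_iff.2 (hk'B b hb))
        (Subgroup.zpowers_le.2 (Subgroup.mem_centralizer_singleton_iff.2 hxk))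
    have h1 : Nat.card ↥(B ⊔ Subgroup.zpowers x) ≤ Nat.card B := hBmax _ ⟨hle, k', hk',
      fun b hb => Subgroup.mem_centralizer_singleton_iff.1 (hcen hb), hk'A⟩
    have heq := Subgroup.eq_of_le_of_card_ge (le_sup_left : B ≤ B ⊔ Subgroup.zpowers x) h1
    exact hxB (heq ▸ Subgroup.mem_sup_right (Subgroup.mem_zpowers x))
  -- the inverted elements
  have hcomm : ∀ x ∈ A, x ^ 2 ∈ B → ∀ k' ∈ K, (∀ b ∈ B, b * k' = k' * b) →
      x * k' * x⁻¹ * k'⁻¹ ∈ K ∧ (∀ b ∈ B, b * (x * k' * x⁻¹ * k'⁻¹) = (x * k' * x⁻¹ * k'⁻¹) * b) ∧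
        x * (x * k' * x⁻¹ * k'⁻¹) * x⁻¹ = (x * k' * x⁻¹ * k'⁻¹)⁻¹ := by
    intro x hx hx2 k' hk' hk'B
    refine ⟨K.mul_mem ((Subgroup.mem_normalizer_iff.1 (hAK hx) k').1 hk') (K.inv_mem hk'), fun b hb => ?_, ?_⟩
    · have h1 : Commute b x := hcomA hx b hb
      have h2 : Commute b k' := hk'B b hb
      exact (((h1.mul_right h2).mul_right h1.inv_right).mul_right h2.inv_right).eq
    · have h1 : x ^ 2 * k' = k' * x ^ 2 := hk'B _ hx2
      calc x * (x * k' * x⁻¹ * k'⁻¹) * x⁻¹ = x ^ 2 * k' * (x ^ 2)⁻¹ * (x * k'⁻¹ * x⁻¹) := by simp only [pow_two]; group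
        _ = k' * (x * k'⁻¹ * x⁻¹) := by rw [h1, mul_inv_cancel_right]
        _ = _ := by group
  have hoddK : ∀ y ∈ K, Odd (orderOf y) := fun y hy =>
    Odd.of_dvd_nat hK (by simpa using orderOf_dvd_natCard (⟨y, hy⟩ : K))
  have hne1 : ∀ y ∈ K, y⁻¹ = y → y = 1 := fun y hy h => by
    have h2 : y ^ 2 = 1 := by rw [pow_two]; nth_rewrite 1 [← h]; exact inv_mul_cancel y
    exact orderOf_eq_one_iff.1 (Nat.eq_one_of_dvd_coprimes
      (Nat.coprime_two_left.2 (hoddK y hy)) (orderOf_dvd_of_pow_eq_one h2) dvd_rfl)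
  -- the quotient is cyclic
  set BA := B.subgroupOf A with hBAdef
  haveI : BA.Normal := ⟨fun b hb a => by
    have h : (a : X) * (b : X) * (a : X)⁻¹ ∈ B := by
      rw [← hcomA a.2 (b : X) hb, mul_inv_cancel_right]; exact hb
    exact h⟩
  letI : CommGroup (A ⧸ BA) := { (inferInstance : Group (A ⧸ BA)) with
    mul_comm := fun u v => by
      obtain ⟨u, rfl⟩ := QuotientGroup.mk_surjective u
      obtain ⟨v, rfl⟩ := QuotientGroup.mk_surjective v
      rw [← QuotientGroup.mk_mul, ← QuotientGroup.mk_mul, show u * v = v * u from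
        Subtype.ext (hAc _ u.2 _ v.2)] }
  obtain ⟨ā, hā⟩ := exists_generator (hA2.to_quotient BA) (by
    intro qu qv hu1 hu2 hv1 hv2
    obtain ⟨u, rfl⟩ := QuotientGroup.mk_surjective qu
    obtain ⟨v, rfl⟩ := QuotientGroup.mk_surjective qv
    rw [Ne, QuotientGroup.eq_one_iff] at hu1 hv1
    rw [← QuotientGroup.mk_pow, QuotientGroup.eq_one_iff] at hu2 hv2
    obtain ⟨hyK, hyB, hyu⟩ := hcomm u u.2 hu2 k hk hkB
    set y := (u : X) * k * (u : X)⁻¹ * k⁻¹ with hydef
    have hy1 : y ≠ 1 := fun h => hnew u u.2 hu1 k hk hkB ⟨a₀, ha₀, ha₀k⟩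
      (mul_inv_eq_iff_eq_mul.1 (mul_inv_eq_one.1 h))
    have hyA : ∃ a ∈ A, a * y ≠ y * a := ⟨u, u.2, fun h => hy1 (hne1 y hyK (by
      rw [← hyu, h, mul_inv_cancel_right]))⟩
    clear_value y
    obtain ⟨hy'K, hy'B, hy'v⟩ := hcomm v v.2 hv2 y hyK hyB
    set y' := (v : X) * y * (v : X)⁻¹ * y⁻¹
    have hy'1 : y' ≠ 1 := fun h => hnew v v.2 hv1 y hyK hyB hyA
      (mul_inv_eq_iff_eq_mul.1 (mul_inv_eq_one.1 h))
    have hy'u : (u : X) * y' * (u : X)⁻¹ = y'⁻¹ := by
      have huv : Commute (u : X) v := hAc _ u.2 _ v.2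
      calc (u : X) * y' * (u : X)⁻¹ = ((u : X) * v) * y * ((u : X) * v)⁻¹ * ((u : X) * y⁻¹ * (u : X)⁻¹) := by
            show (u : X) * ((v : X) * y * (v : X)⁻¹ * y⁻¹) * (u : X)⁻¹ = _
            group
        _ = (v : X) * ((u : X) * y * (u : X)⁻¹) * (v : X)⁻¹ * ((u : X) * y * (u : X)⁻¹)⁻¹ := by
            rw [huv.eq]; group
        _ = (v : X) * y⁻¹ * (v : X)⁻¹ * y := by rw [hyu, inv_inv]
        _ = y'⁻¹ := by
            have hvy : (v : X) * y * (v : X)⁻¹ ∈ K := (Subgroup.mem_normalizer_iff.1 (hAK v.2) y).1 hyK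
            show _ = ((v : X) * y * (v : X)⁻¹ * y⁻¹)⁻¹
            rw [mul_inv_rev, inv_inv, hKab y hyK _ (K.inv_mem hvy)]
            group
    rw [QuotientGroup.eq]
    by_contra hmem
    have hA' : (u : X)⁻¹ * v ∈ A := mul_mem (inv_mem u.2) v.2
    refine hnew _ hA' hmem y' hy'K hy'B ⟨u, u.2, fun h => hy'1 (hne1 y' hy'K (by
      rw [← hy'u, h, mul_inv_cancel_right]))⟩ ?_
    clear_value y'
    have e1 : (v : X) * y' = y'⁻¹ * v := mul_inv_eq_iff_eq_mul.1 hy'v
    have e2 : (u : X)⁻¹ * y'⁻¹ = y' * (u : X)⁻¹ := by rw [← hy'u]; group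
    calc (u : X)⁻¹ * v * y' = (u : X)⁻¹ * (y'⁻¹ * v) := by rw [mul_assoc, e1]
      _ = y' * ((u : X)⁻¹ * v) := by rw [← mul_assoc, e2, mul_assoc]
    )
  obtain ⟨a, rfl⟩ := QuotientGroup.mk_surjective ā
  obtain ⟨m, hm⟩ := exists_orderOf_eq (hA2.to_quotient BA) (QuotientGroup.mk a : A ⧸ BA)
  have hAB : ∀ z ∈ A, ∃ (j : ℤ) (b : X), b ∈ B ∧ z = (a : X) ^ j * b := by
    intro z hz
    obtain ⟨j, hj⟩ := Subgroup.mem_zpowers_iff.1 (hā (QuotientGroup.mk (⟨z, hz⟩ : A)))
    rw [← QuotientGroup.mk_zpow, QuotientGroup.eq] at hj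
    exact ⟨j, ((a : X) ^ j)⁻¹ * z, hj, (mul_inv_cancel_left _ _).symm⟩
  rcases m with _ | m
  · exfalso
    rw [pow_zero, orderOf_eq_one_iff, QuotientGroup.eq_one_iff] at hm
    have hBeq : A ≤ B := fun z hz => by
      obtain ⟨j, b, hb, rfl⟩ := hAB z hz
      exact mul_mem (B.zpow_mem hm j) hb
    exact ha₀k (hkB a₀ (hBeq ha₀))
  have hidx : Nat.card A = Nat.card B * 2 ^ (m + 1) := by
    have h1 := BA.card_mul_index
    rw [Subgroup.index_eq_card, Nat.card_congr (Subgroup.subgroupOfEquivOfLe hBA).toEquiv] at h1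
    rw [← h1, ← hm, ← Nat.card_zpowers,
      show Subgroup.zpowers (QuotientGroup.mk a : A ⧸ BA) = ⊤ from top_le_iff.1 fun z _ => hā z,
      Subgroup.card_top]
  have hBW : Nat.card B * Nat.card (fix (W := W) B) ≤ Nat.card W := by
    by_cases hB1 : B = ⊥
    · subst hB1
      rw [Subgroup.card_bot, one_mul]
      exact Subgroup.card_le_card_group _
    · have hlt : Nat.card B < Nat.card A := by
        rw [hidx, pow_succ]
        have : 0 < Nat.card B := Nat.card_pos
        have : 0 < 2 ^ m := by positivity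
        nlinarith
      have := ih _ hlt B rfl (hA2.to_le hBA) (fun x hx z hz => hAc x (hBA hx) z (hBA hz))
        (hBA.trans hAK) (fun b hb => hAf b (hBA hb)) hB1
      omega
  -- the chain of fixed points
  set U := fix (W := W) B with hU
  have hAU : ∀ x ∈ A, ∀ u ∈ U, x • u ∈ U := fun x hx u hu b hb => by
    rw [← mul_smul, hcomA hx b hb, mul_smul, hu b hb]
  let Ui : ℕ → Subgroup W := fun i => U ⊓ fix (W := W) (Subgroup.zpowers ((a : X) ^ 2 ^ i))
  have hmemUi : ∀ i u, u ∈ U → (a : X) ^ 2 ^ i • u = u → u ∈ Ui i := fun i u hu h => ⟨hu, by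
    have hle : Subgroup.zpowers ((a : X) ^ 2 ^ i) ≤ MulAction.stabilizer X u := Subgroup.zpowers_le.2 h
    exact fun b hb => hle hb⟩
  have hUi_fix : ∀ i u, u ∈ Ui i → (a : X) ^ 2 ^ i • u = u := fun i u hu =>
    hu.2 _ (Subgroup.mem_zpowers _)
  have hmB : (a : X) ^ 2 ^ (m + 1) ∈ B := by
    have h := pow_orderOf_eq_one (QuotientGroup.mk a : A ⧸ BA)
    rw [hm, ← QuotientGroup.mk_pow, QuotientGroup.eq_one_iff] at h
    exact h
  set x := (a : X) ^ 2 ^ m with hxdef
  have hxA : x ∈ A := A.pow_mem a.2 _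
  have hxB : x ∉ B := fun h => by
    have h' : (QuotientGroup.mk a : A ⧸ BA) ^ 2 ^ m = 1 := by
      rw [← QuotientGroup.mk_pow, QuotientGroup.eq_one_iff]; exact h
    have h1 := orderOf_dvd_of_pow_eq_one h'
    rw [hm] at h1
    have h2 := Nat.le_of_dvd (by positivity) h1
    rw [pow_succ] at h2
    have : 0 < 2 ^ m := by positivity
    omega
  have hx2 : x ^ 2 ∈ B := by rw [hxdef, ← pow_mul, ← pow_succ]; exact hmB
  obtain ⟨hyK, hyB, hyx⟩ := hcomm x hxA hx2 k hk hkB
  set y := x * k * x⁻¹ * k⁻¹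
  have hy1 : y ≠ 1 := fun h => hnew x hxA hxB k hk hkB ⟨a₀, ha₀, ha₀k⟩
    (mul_inv_eq_iff_eq_mul.1 (mul_inv_eq_one.1 h))
  have hyU : ∀ u ∈ U, y • u ∈ U := fun u hu b hb => by rw [← mul_smul, hyB b hb, mul_smul, hu b hb]
  have hyne : ∃ u ∈ U, y • u ≠ u := by
    by_contra hcon
    push Not at hcon
    exact hy1 (FaithfulSMul.eq_of_smul_eq_smul fun w : W => by
      rw [one_smul]; exact smul_eq_self_of_fix hW B (hA2.to_le hBA) (hoddK y hyK) hyB hcon w)
  have h4 : 4 * Nat.card (Ui m) ≤ Nat.card U :=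
    four_mul_le hW hX U (hoddK y hyK) hyU (hAU x hxA) (fun u hu => by
      rw [← mul_smul, ← pow_two]; exact hu _ hx2) hyx hyne
  have hstep : ∀ i, i < m → 2 * Nat.card (Ui i) ≤ Nat.card (Ui (i + 1)) := by
    intro i hi
    have hle : Ui i ≤ Ui (i + 1) := fun u hu => hmemUi _ u hu.1 (by
      rw [pow_succ, pow_mul, pow_two, mul_smul, hUi_fix i u hu, hUi_fix i u hu])
    have hne : Ui i ≠ Ui (i + 1) := by
      intro heq
      set b := (a : X) ^ 2 ^ i with hb
      have hall := fix_eq_of_sq hW (b := b) (hAU b (A.pow_mem a.2 _)) fun u hu h2 => by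
        have hmem : u ∈ Ui (i + 1) := hmemUi _ u hu (by rw [pow_succ, pow_mul]; exact h2)
        exact hUi_fix i u (heq.ge hmem)
      obtain ⟨u, hu, hyu⟩ := hyne
      -- then `x` is trivial on `U`
      have hxU : ∀ v ∈ U, x • v = v := by
        intro v hv
        have h1 : b • v = v := hall (m + 1 - i) v hv (by
          rw [hb, ← pow_mul, ← pow_add, show i + (m + 1 - i) = m + 1 by omega]
          exact hv _ hmB)
        have hpw : ∀ n : ℕ, b ^ n • v = v := fun n => by
          induction n with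
          | zero => simp
          | succ n hn => rw [pow_succ', mul_smul, hn, h1]
        have hxb : x = b ^ 2 ^ (m - i) := by
          rw [hxdef, hb, ← pow_mul, ← pow_add, show i + (m - i) = m by omega]
        rw [hxb]
        exact hpw _
      have hinv : y⁻¹ • u = y • u := by
        have hxinv : x⁻¹ • u = u := inv_smul_eq_iff.2 (hxU u hu).symm
        rw [← hyx, mul_smul, mul_smul, hxinv, hxU _ (hyU u hu)]
      have hsq : y ^ 2 • u = u := by
        rw [pow_two, mul_smul, ← hinv, smul_inv_smul]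
      obtain ⟨r, hr⟩ := hoddK y hyK
      have hpw : ∀ n : ℕ, y ^ (2 * n) • u = u := fun n => by
        induction n with
        | zero => simp
        | succ n hn => rw [Nat.mul_succ, pow_add, mul_smul, hsq, hn]
      have h1 := pow_orderOf_eq_one y
      rw [hr] at h1
      refine hyu ?_
      have h2 := hpw (r + 1)
      rw [show 2 * (r + 1) = (2 * r + 1) + 1 by ring, pow_succ, h1, one_mul] at h2
      exact h2
    have hdvd : Nat.card (Ui i) ∣ Nat.card (Ui (i + 1)) := Subgroup.card_dvd_of_le hle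
    obtain ⟨c, hc⟩ := hdvd
    have hpos : 0 < Nat.card (Ui (i + 1)) := Nat.card_pos
    rcases c with _ | _ | c
    · omega
    · exact absurd (Subgroup.eq_of_le_of_card_ge hle (by omega)) hne
    · rw [hc]; nlinarith
  have hchain : ∀ i, i ≤ m → 2 ^ i * Nat.card (Ui 0) ≤ Nat.card (Ui i) := by
    intro i
    induction i with
    | zero => simp
    | succ i hi =>
      intro hle
      have h1 := hi (by omega)
      have h2 := hstep i (by omega)
      rw [pow_succ]
      nlinarith
  have hfixA : fix (W := W) A ≤ Ui 0 := fun u hu =>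
    ⟨fun b hb => hu b (hBA hb), fun b hb => hu b ((Subgroup.zpowers_le.2 (A.pow_mem a.2 _)) hb)⟩
  have hAle : Nat.card (fix (W := W) A) ≤ Nat.card (Ui 0) :=
    Nat.le_of_dvd Nat.card_pos (Subgroup.card_dvd_of_le hfixA)
  rw [hidx]
  have h5 := hchain m le_rfl
  calc 2 * (Nat.card B * 2 ^ (m + 1) * Nat.card (fix (W := W) A))
      = Nat.card B * (4 * (2 ^ m * Nat.card (fix (W := W) A))) := by ring
    _ ≤ Nat.card B * (4 * (2 ^ m * Nat.card (Ui 0))) := by gcongr
    _ ≤ Nat.card B * (4 * Nat.card (Ui m)) := by gcongr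
    _ ≤ Nat.card B * Nat.card U := by gcongr
    _ ≤ Nat.card W := hBW

end Cfsg.Agent.Fusion.Offender
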