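import Mathlib
import Cfsg.Agent.Lib.Solv.Misc

/-!
A coprime automorphism fixing the elements of order `p` (and `4`) is trivial.
-/

set_option autoImplicit false

open scoped commutatorElement

namespace Cfsg.Agent.Fusion

universe u

theorem eq_of_coprime_fix {H : Type u} [Group H] [Finite H] {p : ℕ} [Fact p.Prime] (hH : IsPGroup p H)
    (α : MulAut H) {n : ℕ} (hn : α ^ n = 1) (hpn : ¬ p ∣ n)
    (hfix : ∀ x : H, x ^ p = 1 ∨ (p = 2 ∧ x ^ 4 = 1) → α x = x) (x : H) : α x = x := by
  induction hc : Nat.card H using Nat.strong_induction_on generalizing H with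
  | _ c ih =>
  subst hc
  rcases subsingleton_or_nontrivial H with hs | hne
  · exact Subsingleton.elim _ _
  -- invariant proper subgroups are fixed
  have hsub : ∀ U : Subgroup H, U ≠ ⊤ → (∀ u ∈ U, α u ∈ U) → ∀ u ∈ U, α u = u := by
    intro U hU hinv u hu
    have hmap : U.map α.toMonoidHom = U := by
      refine Subgroup.eq_of_le_of_card_ge ?_ (Nat.card_congr (U.equivMapOfInjective _ α.injective).toEquiv).le
      rintro _ ⟨v, hv, rfl⟩
      exact hinv v hv
    let β : MulAut U := (α.subgroupMap U).trans (MulEquiv.subgroupCongr hmap)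
    have hβ : ∀ v : U, ((β v : U) : H) = α v := fun v => rfl
    have hpow : ∀ (k : ℕ) (v : U), (((β ^ k : MulAut U) v : U) : H) = (α ^ k) v := by
      intro k
      induction k with
      | zero => intro v; rfl
      | succ k ihk => intro v; rw [pow_succ', pow_succ', MulAut.mul_apply, MulAut.mul_apply, hβ, ihk]
    have hlt : Nat.card U < Nat.card H := by
      refine lt_of_le_of_ne (Nat.card_le_card_of_injective _ U.subtype_injective) fun h => hU ?_
      exact Subgroup.eq_top_of_card_eq U h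
    have := ih (Nat.card U) hlt (H := U) (hH.to_subgroup U) β (MulEquiv.ext fun v => Subtype.ext (by
      rw [hpow, hn]; rfl)) (fun v hv => Subtype.ext ((hβ v).trans (hfix v (by
        rcases hv with h | ⟨h2, h⟩
        · exact Or.inl (by rw [← Subgroup.coe_pow, h]; rfl)
        · exact Or.inr ⟨h2, by rw [← Subgroup.coe_pow, h]; rfl⟩)))) ⟨u, hu⟩ rfl
    exact congrArg Subtype.val this
  -- a proper characteristic subgroup containing commutators and powers
  set gens : Set H := Set.range (fun q : H × H => ⁅q.1, q.2⁆) ∪ Set.range (fun a : H => a ^ p)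
  set M := Subgroup.closure gens with hM
  have hMne : M ≠ ⊤ := by
    obtain ⟨Y, hY, -⟩ := (eq_top_or_exists_le_coatom (⊥ : Subgroup H)).resolve_left bot_ne_top
    have hnil : Group.IsNilpotent H := hH.isNilpotent
    have := Solv.coatom_normal_of_isNilpotent hnil Y hY
    have hq : Y.index.Prime := Solv.prime_index_of_coatom_normal Y hY
    have hqp : Y.index = p := by
      obtain ⟨k, hk⟩ := IsPGroup.iff_card.1 hH
      obtain ⟨j, -, hj⟩ := (Nat.dvd_prime_pow (Fact.out : p.Prime)).1 (hk ▸ Y.index_dvd_card)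
      rw [hj] at hq ⊢
      rw [Nat.Prime.eq_one_of_pow hq, pow_one]
    intro htop
    refine hY.1 (eq_top_iff.2 (htop ▸ (Subgroup.closure_le _).2 ?_))
    have := Fact.mk hq
    have : IsCyclic (H ⧸ Y) := isCyclic_of_prime_card (p := Y.index) (Subgroup.index_eq_card Y).symm
    rintro _ (⟨⟨a, b⟩, rfl⟩ | ⟨a, rfl⟩)
    · rw [SetLike.mem_coe, ← QuotientGroup.eq_one_iff]
      show QuotientGroup.mk' Y ⁅a, b⁆ = 1
      rw [map_commutatorElement, commutatorElement_eq_one_iff_mul_comm]
      exact IsMulCommutative.is_comm.comm _ _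
    · rw [SetLike.mem_coe, ← QuotientGroup.eq_one_iff, QuotientGroup.mk_pow, ← hqp, Subgroup.index_eq_card]
      exact pow_card_eq_one'
  have hMinv : ∀ u ∈ M, α u ∈ M := fun u hu => by
    have hle : M ≤ M.comap α.toMonoidHom := (Subgroup.closure_le _).2 (by
      rintro _ (⟨⟨a, b⟩, rfl⟩ | ⟨a, rfl⟩)
      · exact Subgroup.subset_closure (Or.inl ⟨(α a, α b), (map_commutatorElement α.toMonoidHom a b).symm⟩)
      · exact Subgroup.subset_closure (Or.inr ⟨α a, (map_pow α a p).symm⟩))
    exact hle hu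
  have hMfix := hsub M hMne hMinv
  have hcM : ∀ a b : H, ⁅a, b⁆ ∈ M := fun a b => Subgroup.subset_closure (Or.inl ⟨(a, b), rfl⟩)
  have hpM : ∀ a : H, a ^ p ∈ M := fun a => Subgroup.subset_closure (Or.inr ⟨a, rfl⟩)
  -- the displacement subgroup
  set D := Subgroup.closure (Set.range fun a : H => a⁻¹ * α a) with hD
  have hDinv : ∀ u ∈ D, α u ∈ D := fun u hu => by
    have hle : D ≤ D.comap α.toMonoidHom := (Subgroup.closure_le _).2 (by
      rintro _ ⟨a, rfl⟩
      exact Subgroup.subset_closure ⟨α a, by show _ = α (a⁻¹ * α a); rw [map_mul, map_inv]⟩)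
    exact hle hu
  have key : (∀ a : H, α (a⁻¹ * α a) = a⁻¹ * α a) → α x = x := by
    intro h
    set a := x⁻¹ * α x with ha
    have hx : α x = x * a := by rw [ha, mul_inv_cancel_left]
    have hfa : α a = a := h x
    have hk : ∀ k : ℕ, (α ^ k) x = x * a ^ k := by
      intro k
      induction k with
      | zero => simp
      | succ k ihk => rw [pow_succ', MulAut.mul_apply, ihk, map_mul, map_pow, hfa, hx, mul_assoc, ← pow_succ']
    have h1 := hk n
    rw [hn, MulAut.one_apply, left_eq_mul] at h1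
    obtain ⟨i, hi⟩ := hH a
    have hd := Nat.dvd_gcd (orderOf_dvd_iff_pow_eq_one.2 h1) (orderOf_dvd_iff_pow_eq_one.2 hi)
    rw [Nat.Coprime.gcd_eq_one ((((Fact.out : p.Prime).coprime_iff_not_dvd.2 hpn).symm).pow_right i),
      Nat.dvd_one, orderOf_eq_one_iff] at hd
    rw [hx, hd, mul_one]
  by_cases hDt : D = ⊤
  swap
  · exact key fun a => hsub D hDt hDinv _ (Subgroup.subset_closure ⟨a, rfl⟩)
  -- `M` is central
  have hMZ : ∀ z ∈ M, ∀ h : H, h * z = z * h := by
    intro z hz
    have hle : D ≤ Subgroup.centralizer ({z} : Set H) := (Subgroup.closure_le _).2 (by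
      rintro _ ⟨a, rfl⟩
      refine Subgroup.mem_centralizer_singleton_iff.2 ?_
      have h1 := hMfix _ (hcM a z)
      rw [show α ⁅a, z⁆ = ⁅α a, α z⁆ from map_commutatorElement α.toMonoidHom a z, hMfix z hz,
        commutatorElement_def, commutatorElement_def] at h1
      have h2 : α a * z * (α a)⁻¹ = a * z * a⁻¹ := mul_right_cancel h1
      have h3 : (a⁻¹ * α a) * z * (a⁻¹ * α a)⁻¹ = z := by
        calc (a⁻¹ * α a) * z * (a⁻¹ * α a)⁻¹ = a⁻¹ * (α a * z * (α a)⁻¹) * a := by group
          _ = z := by rw [h2]; group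
      exact mul_inv_eq_iff_eq_mul.1 h3)
    intro h
    exact Subgroup.mem_centralizer_singleton_iff.1 (hle (hDt.symm ▸ Subgroup.mem_top h))
  have hcp : ∀ u v : H, ⁅u, v⁆ ^ p = 1 := by
    intro u v
    have hc : ∀ k : ℕ, ⁅u ^ k, v⁆ = ⁅u, v⁆ ^ k := by
      intro k
      induction k with
      | zero => simp
      | succ k ihk =>
        have e : ⁅u ^ (k + 1), v⁆ = u * ⁅u ^ k, v⁆ * u⁻¹ * ⁅u, v⁆ := by
          simp [commutatorElement_def, pow_succ', mul_assoc]
        rw [e, ihk, hMZ _ (pow_mem (hcM u v) k) u, mul_inv_cancel_right, pow_succ]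
    rw [← hc, commutatorElement_eq_one_iff_mul_comm]
    exact (hMZ _ (hpM u) v).symm
  refine key fun a => hfix _ ?_
  set b := α a with hb
  set c : H := ⁅a⁻¹, b⁆ with hcdef
  have hswap : a⁻¹ * b = c * (b * a⁻¹) := by rw [hcdef, commutatorElement_def]; group
  have hcZ : ∀ h : H, h * c = c * h := hMZ c (hcM _ _)
  have hap : a⁻¹ ^ p * b ^ p = 1 := by
    rw [hb, ← map_pow, hMfix _ (hpM a), inv_pow, inv_mul_cancel]
  have hpow : ∀ k : ℕ, (a⁻¹ * b) ^ k * c ^ (k.choose 2) = a⁻¹ ^ k * b ^ k := by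
    intro k
    induction k with
    | zero => simp
    | succ k ihk =>
      have hmove : ∀ j : ℕ, a⁻¹ * b ^ j = c ^ j * (b ^ j * a⁻¹) := by
        intro j
        induction j with
        | zero => simp
        | succ j ihj =>
          calc a⁻¹ * b ^ (j + 1) = a⁻¹ * b ^ j * b := by rw [pow_succ, mul_assoc]
            _ = c ^ j * b ^ j * (a⁻¹ * b) := by rw [ihj]; group
            _ = c ^ j * (b ^ j * c) * (b * a⁻¹) := by rw [hswap]; group
            _ = c ^ (j + 1) * (b ^ (j + 1) * a⁻¹) := by rw [hcZ (b ^ j), pow_succ, pow_succ]; group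
      have hcc : ∀ (j : ℕ) (h : H), h * c ^ j = c ^ j * h := fun j h => ((Commute.pow_right (hcZ h) j)).eq
      calc (a⁻¹ * b) ^ (k + 1) * c ^ ((k + 1).choose 2)
          = (a⁻¹ * b) ^ k * ((a⁻¹ * b) * c ^ (k.choose 2)) * c ^ k := by
            rw [pow_succ, show (k + 1).choose 2 = k.choose 2 + k by
              rw [Nat.choose_succ_succ', Nat.choose_one_right, add_comm], pow_add]
            group
        _ = (a⁻¹ * b) ^ k * c ^ (k.choose 2) * (a⁻¹ * b) * c ^ k := by rw [hcc _ (a⁻¹ * b)]; group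
        _ = a⁻¹ ^ k * b ^ k * (a⁻¹ * b) * c ^ k := by rw [ihk]
        _ = a⁻¹ ^ k * (b ^ k * a⁻¹) * (b * c ^ k) := by group
        _ = a⁻¹ ^ k * (c ^ k * (b ^ k * a⁻¹)) * b := by rw [hcc k b, ← hcc k (b ^ k * a⁻¹)]; group
        _ = a⁻¹ ^ (k + 1) * b ^ (k + 1) := by rw [← hmove, pow_succ, pow_succ]; group
  have h2 := hpow p
  rw [hap] at h2
  by_cases hp2 : p = 2
  · subst hp2
    refine Or.inr ⟨rfl, ?_⟩
    rw [show (4 : ℕ) = 2 * 2 from rfl, pow_mul, show (a⁻¹ * b) ^ 2 = c⁻¹ from eq_inv_of_mul_eq_one_left (by simpa using h2),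
      inv_pow, hcp, inv_one]
  · refine Or.inl ?_
    obtain ⟨t, ht⟩ : p ∣ p.choose 2 :=
      (Fact.out : p.Prime).dvd_choose_self two_ne_zero
        (lt_of_le_of_ne (Fact.out : p.Prime).two_le (Ne.symm hp2))
    rwa [ht, pow_mul, hcp, one_pow, mul_one] at h2

end Cfsg.Agent.Fusion
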