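import Mathlib
import Cfsg.Agent.S0013
import Cfsg.Agent.S0121
import Cfsg.Agent.Lib.Fusion.FixOmega

/-!
Critical subgroups and a characteristic subgroup of small exponent detecting coprime automorphisms.
-/

set_option autoImplicit false

open scoped commutatorElement

namespace Cfsg.Agent.Fusion

variable {P : Type*} [Group P] [Finite P] {p : ℕ} [Fact p.Prime]

/-- Existence of a critical subgroup. -/
theorem exists_critical (hP : IsPGroup p P) :
    ∃ H : Subgroup P, H.Characteristic ∧ (∀ a ∈ H, ∀ b ∈ H, a ^ p * b = b * a ^ p) ∧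
      (∀ a ∈ H, ∀ g : P, ⁅a, g⁆ ∈ H ∧ ∀ b ∈ H, ⁅a, g⁆ * b = b * ⁅a, g⁆) ∧
      Subgroup.centralizer (H : Set P) ≤ H := by
  set 𝒞 := {H : Subgroup P | H.Characteristic ∧ (∀ a ∈ H, ∀ b ∈ H, a ^ p * b = b * a ^ p) ∧
      ∀ a ∈ H, ∀ g : P, ⁅a, g⁆ ∈ H ∧ ∀ b ∈ H, ⁅a, g⁆ * b = b * ⁅a, g⁆}
  have hbot : (⊥ : Subgroup P) ∈ 𝒞 := ⟨inferInstance, fun a ha b hb => by
    rw [Subgroup.mem_bot.1 ha, Subgroup.mem_bot.1 hb]; simp, fun a ha g => by
    rw [Subgroup.mem_bot.1 ha]; simp⟩
  obtain ⟨C, ⟨hC1, hC2, hC3⟩, hmax⟩ := (Set.toFinite 𝒞).exists_maximal ⟨⊥, hbot⟩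
  refine ⟨C, hC1, hC2, hC3, ?_⟩
  by_contra hle
  set Z := C ⊓ Subgroup.centralizer (C : Set P) with hZ
  set D := Subgroup.centralizer (C : Set P)
  have hCn : C.Normal := inferInstance
  have hDch : D.Characteristic := by
    rw [Subgroup.characteristic_iff_le_comap]
    intro e x hx
    refine Subgroup.mem_centralizer_iff.2 fun c hc => ?_
    have h1 := Subgroup.mem_centralizer_iff.1 hx _ (Subgroup.characteristic_iff_le_comap.1 hC1 e.symm hc)
    have h2 := congrArg e h1
    rw [map_mul, map_mul] at h2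
    simpa using h2
  have hZch : Z.Characteristic := by
    rw [Subgroup.characteristic_iff_le_comap]
    intro e x hx
    exact ⟨Subgroup.characteristic_iff_le_comap.1 hC1 e hx.1, Subgroup.characteristic_iff_le_comap.1 hDch e hx.2⟩
  -- elements of `D` of order `p` and central modulo `Z`
  set X : Set P := {x | x ∈ D ∧ x ^ p ∈ Z ∧ ∀ g : P, ⁅x, g⁆ ∈ Z}
  have hXinv : ∀ e : P ≃* P, ∀ x ∈ X, e x ∈ X := by
    intro e x ⟨h1, h2, h3⟩
    refine ⟨Subgroup.characteristic_iff_le_comap.1 hDch e h1, ?_, fun g => ?_⟩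
    · rw [← map_pow]; exact Subgroup.characteristic_iff_le_comap.1 hZch e h2
    · have := Subgroup.characteristic_iff_le_comap.1 hZch e (h3 (e.symm g))
      rwa [Subgroup.mem_comap, MulEquiv.coe_toMonoidHom, map_commutatorElement, e.apply_symm_apply] at this
  obtain ⟨x₀, hx₀, hx₀C⟩ : ∃ x ∈ X, x ∉ C := by
    have hZn : Z.Normal := inferInstance
    have hq : IsPGroup p (P ⧸ Z) := hP.to_quotient Z
    have hDn : D.Normal := inferInstance
    have hne : D.map (QuotientGroup.mk' Z) ≠ ⊥ := by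
      intro h
      rw [Subgroup.map_eq_bot_iff, QuotientGroup.ker_mk'] at h
      exact hle (h.trans inf_le_left)
    have hmn : (D.map (QuotientGroup.mk' Z)).Normal :=
      hDn.map _ (QuotientGroup.mk'_surjective Z)
    have hnil : Group.IsNilpotent (P ⧸ Z) := hq.isNilpotent
    have hint := Solv.inf_center_ne_bot (D.map (QuotientGroup.mk' Z)) hne
    set I := D.map (QuotientGroup.mk' Z) ⊓ Subgroup.center (P ⧸ Z)
    have hIp : IsPGroup p I := hq.to_subgroup I
    have : Nontrivial I := (Subgroup.nontrivial_iff_ne_bot I).2 hint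
    obtain ⟨k, hk⟩ := IsPGroup.iff_card.1 hIp
    have hdvd : p ∣ Nat.card I := by
      rcases Nat.eq_zero_or_pos k with h0 | h0
      · rw [h0, pow_zero] at hk
        exact absurd hk (Finite.one_lt_card).ne'
      · rw [hk]; exact dvd_pow_self p h0.ne'
    obtain ⟨y, hy⟩ := exists_prime_orderOf_dvd_card' p hdvd
    obtain ⟨⟨x, hx, hxy⟩, hyc⟩ := y.2
    have hne1 : (y : P ⧸ Z) ≠ 1 := fun h => by
      have : y = 1 := Subtype.ext h
      rw [this, orderOf_one] at hy
      exact (Fact.out : p.Prime).one_lt.ne hy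
    refine ⟨x, ⟨hx, ?_, fun g => ?_⟩, fun hxC => hne1 ?_⟩
    · rw [← QuotientGroup.eq_one_iff, QuotientGroup.mk_pow]
      have h1 : (y : P ⧸ Z) ^ p = 1 := by
        rw [← Subgroup.coe_pow, ← hy, pow_orderOf_eq_one]; rfl
      rwa [← hxy] at h1
    · rw [← QuotientGroup.eq_one_iff]
      show QuotientGroup.mk' Z ⁅x, g⁆ = 1
      rw [map_commutatorElement, hxy, commutatorElement_eq_one_iff_mul_comm]
      exact (Subgroup.mem_center_iff.1 hyc _).symm
    · rw [← hxy, QuotientGroup.mk'_apply, QuotientGroup.eq_one_iff]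
      exact ⟨hxC, hx⟩
  set C' := C ⊔ Subgroup.closure X with hC'
  have hcomX : ∀ x ∈ Subgroup.closure X, x ∈ D := fun x hx =>
    (Subgroup.closure_le D).2 (fun y hy => hy.1) hx
  have hZall : ∀ z ∈ Z, ∀ b ∈ C', z * b = b * z := by
    intro z hz b hb
    have h : C' ≤ Subgroup.centralizer ({z} : Set P) := sup_le
      (fun c hc => Subgroup.mem_centralizer_singleton_iff.2 (Subgroup.mem_centralizer_iff.1 hz.2 c hc))
      ((Subgroup.closure_le _).2 fun w hw =>
        Subgroup.mem_centralizer_singleton_iff.2 ((Subgroup.mem_centralizer_iff.1 hw.1 z hz.1).symm))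
    exact (Subgroup.mem_centralizer_singleton_iff.1 (h hb)).symm
  have hCcomm : ∀ a ∈ C', ∀ g : P, ⁅a, g⁆ ∈ Z := by
    have h : C' ≤ (Subgroup.center (P ⧸ Z)).comap (QuotientGroup.mk' Z) := by
      have key : ∀ a, (∀ g : P, ⁅a, g⁆ ∈ Z) → QuotientGroup.mk' Z a ∈ Subgroup.center (P ⧸ Z) := by
        intro a ha
        refine Subgroup.mem_center_iff.2 fun q => ?_
        obtain ⟨g, rfl⟩ := QuotientGroup.mk'_surjective Z q
        refine (commutatorElement_eq_one_iff_mul_comm.1 ?_).symm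
        rw [← map_commutatorElement, QuotientGroup.mk'_apply, QuotientGroup.eq_one_iff]
        exact ha g
      refine sup_le (fun c hc => key c fun g => ⟨(hC3 c hc g).1, Subgroup.mem_centralizer_iff.2 fun b hb =>
        ((hC3 c hc g).2 b hb).symm⟩) ((Subgroup.closure_le _).2 fun w hw => key w hw.2.2)
    intro a ha g
    rw [← QuotientGroup.eq_one_iff]
    show QuotientGroup.mk' Z ⁅a, g⁆ = 1
    rw [map_commutatorElement, commutatorElement_eq_one_iff_mul_comm]
    exact (Subgroup.mem_center_iff.1 (h ha) _).symm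
  have hCpow : ∀ a ∈ C', a ^ p ∈ Z := by
    intro a ha
    have hZn : Z.Normal := inferInstance
    let W : Subgroup P :=
      { carrier := {a | a ∈ C' ∧ a ^ p ∈ Z}
        one_mem' := ⟨one_mem _, by rw [one_pow]; exact one_mem _⟩
        inv_mem' := fun h => ⟨inv_mem h.1, by rw [inv_pow]; exact inv_mem h.2⟩
        mul_mem' := by
          rintro u v ⟨hu, hu'⟩ ⟨hv, hv'⟩
          refine ⟨mul_mem hu hv, ?_⟩
          rw [← QuotientGroup.eq_one_iff, QuotientGroup.mk_pow, QuotientGroup.mk_mul]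
          have hcm : Commute (u : P ⧸ Z) (v : P ⧸ Z) := by
            refine commutatorElement_eq_one_iff_mul_comm.1 ?_
            show ⁅QuotientGroup.mk' Z u, QuotientGroup.mk' Z v⁆ = 1
            rw [← map_commutatorElement, QuotientGroup.mk'_apply, QuotientGroup.eq_one_iff]
            exact hCcomm u hu v
          rw [hcm.mul_pow, ← QuotientGroup.mk_pow, ← QuotientGroup.mk_pow,
            (QuotientGroup.eq_one_iff _).2 hu', (QuotientGroup.eq_one_iff _).2 hv', one_mul] }
    have h : C' ≤ W := sup_le (fun c hc => ⟨Subgroup.mem_sup_left hc, pow_mem hc p,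
        Subgroup.mem_centralizer_iff.2 fun b hb => (hC2 c hc b hb).symm⟩)
      ((Subgroup.closure_le _).2 fun w hw => ⟨Subgroup.mem_sup_right (Subgroup.subset_closure hw), hw.2.1⟩)
    exact (h ha).2
  have hC'ch : C'.Characteristic := by
    rw [Subgroup.characteristic_iff_le_comap]
    intro e
    exact sup_le (fun c hc => Subgroup.mem_sup_left (Subgroup.characteristic_iff_le_comap.1 hC1 e hc))
      ((Subgroup.closure_le _).2 fun w hw => Subgroup.mem_sup_right (Subgroup.subset_closure (hXinv e w hw)))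
  have hmem : C' ∈ 𝒞 := ⟨hC'ch, fun a ha b hb => hZall _ (hCpow a ha) b hb, fun a ha g =>
    ⟨Subgroup.mem_sup_left (hCcomm a ha g).1, hZall _ (hCcomm a ha g)⟩⟩
  exact hx₀C (hmax hmem le_sup_left (Subgroup.mem_sup_right (Subgroup.subset_closure hx₀)))

theorem frattini_le_centralizer (hP : IsPGroup p P) {H : Subgroup P}
    (h1 : ∀ a ∈ H, ∀ b ∈ H, a ^ p * b = b * a ^ p)
    (h2 : ∀ a ∈ H, ∀ g : P, ⁅a, g⁆ ∈ H ∧ ∀ b ∈ H, ⁅a, g⁆ * b = b * ⁅a, g⁆) :
    (frattini H).map H.subtype ≤ Subgroup.centralizer (H : Set P) := by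
  have hcomm : commutator H ≤ Subgroup.center H := by
    rw [commutator_def, Subgroup.commutator_le]
    intro a _ b _
    refine Subgroup.mem_center_iff.2 fun c => Subtype.ext ?_
    exact ((h2 a a.2 b).2 c c.2).symm
  have := S0013.result p (hP.to_subgroup H) (Subgroup.center H) hcomm fun x =>
    Subgroup.mem_center_iff.2 fun c => Subtype.ext (h1 x x.2 c c.2).symm
  rintro _ ⟨x, hx, rfl⟩
  exact Subgroup.mem_centralizer_iff.2 fun c hc =>
    congrArg Subtype.val (Subgroup.mem_center_iff.1 (this hx) ⟨c, hc⟩)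

/-- A characteristic subgroup of small exponent on which coprime automorphisms act faithfully. -/
theorem exists_small_faithful (hP : IsPGroup p P) :
    ∃ D : Subgroup P, D.Characteristic ∧ (∀ x ∈ D, x ^ p = 1 ∨ (p = 2 ∧ x ^ 4 = 1)) ∧
      ∀ α : MulAut P, Nat.Coprime (orderOf α) p → (∀ x ∈ D, α x = x) → α = 1 := by
  obtain ⟨C, hC1, hC2, hC3, hC4⟩ := exists_critical hP
  have hcom : ∀ a ∈ C, ∀ b ∈ C, ∀ k : ℕ, ⁅a ^ k, b⁆ = ⁅a, b⁆ ^ k := by
    intro a ha b hb k
    induction k with
    | zero => simp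
    | succ k ihk =>
      have e : ⁅a ^ (k + 1), b⁆ = a * ⁅a ^ k, b⁆ * a⁻¹ * ⁅a, b⁆ := by
        simp [commutatorElement_def, pow_succ', mul_assoc]
      have hc : Commute a (⁅a, b⁆ ^ k) := (show Commute a ⁅a, b⁆ from ((hC3 a ha b).2 a ha).symm).pow_right k
      rw [e, ihk, hc.eq, mul_inv_cancel_right, pow_succ]
  have hcp : ∀ a ∈ C, ∀ b ∈ C, ⁅a, b⁆ ^ p = 1 := fun a ha b hb => by
    rw [← hcom a ha b hb, commutatorElement_eq_one_iff_mul_comm]
    exact hC2 a ha b hb
  set e : ℕ := if p = 2 then 4 else p with he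
  have hep : p ∣ e.choose 2 := by
    rw [he]
    split_ifs with h
    · subst h; exact ⟨3, rfl⟩
    · exact (Fact.out : p.Prime).dvd_choose_self two_ne_zero
        (lt_of_le_of_ne (Fact.out : p.Prime).two_le (Ne.symm h))
  have hmul : ∀ a ∈ C, ∀ b ∈ C, (a * b) ^ e = a ^ e * b ^ e := by
    intro a ha b hb
    set c := ⁅a, b⁆ with hc
    have hcZ : ∀ h ∈ C, ∀ j : ℕ, h * c ^ j = c ^ j * h := fun h hh j =>
      ((show Commute h c from ((hC3 a ha b).2 h hh).symm).pow_right j).eq
    have hmove : ∀ j : ℕ, a * b ^ j = c ^ j * (b ^ j * a) := by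
      intro j
      induction j with
      | zero => simp
      | succ j ihj =>
        calc a * b ^ (j + 1) = a * b ^ j * b := by rw [pow_succ, mul_assoc]
          _ = c ^ j * b ^ j * (a * b) := by rw [ihj]; group
          _ = c ^ j * (b ^ j * c ^ 1) * (b * a) := by rw [hc, pow_one, commutatorElement_def]; group
          _ = c ^ (j + 1) * (b ^ (j + 1) * a) := by
              rw [hcZ _ (pow_mem hb j) 1, pow_one, pow_succ, pow_succ]; group
    have hpow : ∀ k : ℕ, (a * b) ^ k * c ^ (k.choose 2) = a ^ k * b ^ k := by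
      intro k
      induction k with
      | zero => simp
      | succ k ihk =>
        calc (a * b) ^ (k + 1) * c ^ ((k + 1).choose 2)
            = (a * b) ^ k * ((a * b) * c ^ (k.choose 2)) * c ^ k := by
              rw [pow_succ, show (k + 1).choose 2 = k.choose 2 + k by
                rw [Nat.choose_succ_succ', Nat.choose_one_right, add_comm], pow_add]
              group
          _ = (a * b) ^ k * c ^ (k.choose 2) * (a * b) * c ^ k := by rw [hcZ _ (C.mul_mem ha hb)]; group
          _ = a ^ k * b ^ k * (a * b) * c ^ k := by rw [ihk]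
          _ = a ^ k * (b ^ k * a) * (b * c ^ k) := by group
          _ = a ^ k * (c ^ k * (b ^ k * a)) * b := by
              rw [hcZ b hb k, ← hcZ _ (C.mul_mem (pow_mem hb k) ha) k]; group
          _ = a ^ (k + 1) * b ^ (k + 1) := by rw [← hmove, pow_succ, pow_succ]; group
    obtain ⟨t, ht⟩ := hep
    have := hpow e
    rwa [ht, pow_mul, hcp a ha b hb, one_pow, mul_one] at this
  let D : Subgroup P :=
    { carrier := {x | x ∈ C ∧ x ^ e = 1}
      one_mem' := ⟨one_mem _, one_pow _⟩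
      inv_mem' := fun h => ⟨inv_mem h.1, by rw [inv_pow, h.2, inv_one]⟩
      mul_mem' := fun {x y} hx hy => ⟨mul_mem hx.1 hy.1, by rw [hmul x hx.1 y hy.1, hx.2, hy.2, one_mul]⟩ }
  refine ⟨D, ?_, ?_, ?_⟩
  · rw [Subgroup.characteristic_iff_le_comap]
    intro α x hx
    exact ⟨Subgroup.characteristic_iff_le_comap.1 hC1 α hx.1, by
      show (α x) ^ e = 1
      rw [← map_pow, hx.2, map_one]⟩
  · intro x hx
    have h1 := hx.2
    rw [he] at h1
    split_ifs at h1 with h
    · exact Or.inr ⟨h, h1⟩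
    · exact Or.inl h1
  · intro α hα hfix
    refine S0121.result hP C hC1 (frattini_le_centralizer hP hC2 hC3) ?_ hC4 α hα fun x hx => ?_
    · rw [Subgroup.commutator_le]
      exact fun a ha g _ => ⟨(hC3 a ha g).1, Subgroup.mem_centralizer_iff.2 fun b hb => ((hC3 a ha g).2 b hb).symm⟩
    have hmap : C.map α.toMonoidHom = C := Subgroup.characteristic_iff_map_eq.1 hC1 α
    let β : MulAut C := (α.subgroupMap C).trans (MulEquiv.subgroupCongr hmap)
    have hβ : ∀ v : C, ((β v : C) : P) = α v := fun v => rfl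
    have hpw : ∀ (k : ℕ) (v : C), (((β ^ k : MulAut C) v : C) : P) = (α ^ k) v := by
      intro k
      induction k with
      | zero => intro v; rfl
      | succ k ihk => intro v; rw [pow_succ', pow_succ', MulAut.mul_apply, MulAut.mul_apply, hβ, ihk]
    have := eq_of_coprime_fix (hP.to_subgroup C) β (n := orderOf α)
      (MulEquiv.ext fun v => Subtype.ext (by rw [hpw, pow_orderOf_eq_one]; rfl))
      ((Fact.out : p.Prime).coprime_iff_not_dvd.1 hα.symm) (fun v hv => Subtype.ext ((hβ v).trans (hfix v ⟨v.2, by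
        rw [he]
        rcases hv with h | ⟨h2, h⟩
        · split_ifs with hp2
          · rw [← Subgroup.coe_pow, show (4 : ℕ) = p * 2 by rw [hp2], pow_mul, h, one_pow]; rfl
          · rw [← Subgroup.coe_pow, h]; rfl
        · rw [if_pos h2, ← Subgroup.coe_pow, h]; rfl⟩))) ⟨x, hx⟩
    exact congrArg Subtype.val this

end Cfsg.Agent.Fusion
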