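import Mathlib
import Cfsg.Agent.Lib.Fusion.NormalCriteria
import Cfsg.Agent.Lib.Fusion.Hyperfocal
import Cfsg.Agent.Lib.Fusion.Critical

/-!
Control of a saturated fusion system by the elements of order `p` (and `4`).
-/

set_option autoImplicit false

open scoped commutatorElement

namespace Cfsg.Agent.Fusion

open Cfsg Cfsg.FusionSystem

universe u

variable {Ω : Type u} [Group Ω] {S : Subgroup Ω} {F : FusionSystem S} {P Q T D : Subgroup Ω}
  {f : Ω → Ω} {p : ℕ}

/-- Restriction of an automorphism to an invariant subgroup. -/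
theorem exists_restrict [Finite S] (hP : P ≤ S) (hTP : T ≤ P) (α : MulAut P)
    (h : ∀ x ∈ T, autFun α x ∈ T) :
    ∃ β : MulAut T, (∀ x : T, ((β x : T) : Ω) = autFun α x) ∧ orderOf β ∣ orderOf α := by
  have := finite_of_le (hTP.trans hP)
  let g : T →* T := MonoidHom.mk' (fun x => ⟨autFun α x, h x x.2⟩) fun a b => Subtype.ext (by
    show autFun α _ = _
    rw [autFun_apply α (hTP (a * b).2)]
    show _ = autFun α (a : Ω) * autFun α (b : Ω)
    rw [autFun_apply α (hTP a.2), autFun_apply α (hTP b.2), ← Subgroup.coe_mul, ← map_mul]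
    rfl)
  have hinj : Function.Injective g := fun a b hab => by
    have e : autFun α (a : Ω) = autFun α (b : Ω) := congrArg Subtype.val hab
    rw [autFun_apply α (hTP a.2), autFun_apply α (hTP b.2)] at e
    exact Subtype.ext (congrArg (fun z : P => (z : Ω)) (α.injective (Subtype.ext e)) : _)
  let β : MulAut T := MulEquiv.ofBijective g (Finite.injective_iff_bijective.1 hinj)
  have hβ : ∀ x : T, ((β x : T) : Ω) = autFun α x := fun _ => rfl
  have hpw : ∀ (k : ℕ) (x : T), (((β ^ k : MulAut T) x : T) : Ω) = autFun (α ^ k) x := by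
    intro k
    induction k with
    | zero => intro x; rw [autFun_apply _ (hTP x.2), pow_zero, pow_zero]; rfl
    | succ k ihk =>
      intro x
      rw [pow_succ', pow_succ', MulAut.mul_apply, hβ, ihk, autFun_mul _ _ (hTP x.2)]
  refine ⟨β, hβ, orderOf_dvd_of_pow_eq_one (MulEquiv.ext fun x => Subtype.ext ?_)⟩
  rw [hpw, pow_orderOf_eq_one, autFun_apply _ (hTP x.2)]
  rfl

/-- A small subgroup on which the coprime automorphisms act faithfully, inside `Ω`. -/
theorem exists_small_faithful_in [Finite S] [Fact p.Prime] (hS : IsPGroup p S) (hP : P ≤ S) (hTP : T ≤ P) :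
    ∃ D ≤ T, (∀ x ∈ D, x ^ p = 1 ∨ (p = 2 ∧ x ^ 4 = 1)) ∧
      (∀ α : MulAut P, (∀ x ∈ T, autFun α x ∈ T) → ∀ x ∈ D, autFun α x ∈ D) ∧
      (∀ α : MulAut P, (∀ x ∈ T, autFun α x ∈ T) → Nat.Coprime (orderOf α) p →
        (∀ x ∈ D, autFun α x = x) → ∀ x ∈ T, autFun α x = x) := by
  have := finite_of_le (hTP.trans hP)
  obtain ⟨D₀, hch, hsm, hfa⟩ := exists_small_faithful (hS.to_le (hTP.trans hP))
  refine ⟨D₀.map T.subtype, Subgroup.map_subtype_le _, ?_, ?_, ?_⟩
  · rintro _ ⟨x, hx, rfl⟩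
    rcases hsm x hx with h | ⟨h2, h⟩
    · exact Or.inl (by rw [← map_pow, h, map_one])
    · exact Or.inr ⟨h2, by rw [← map_pow, h, map_one]⟩
  · rintro α hT _ ⟨x, hx, rfl⟩
    obtain ⟨β, hβ, -⟩ := exists_restrict hP hTP α hT
    exact ⟨β x, Subgroup.characteristic_iff_le_comap.1 hch β hx, hβ x⟩
  · intro α hT hα hfix x hx
    obtain ⟨β, hβ, hd⟩ := exists_restrict hP hTP α hT
    have h1 := hfa β (hα.coprime_dvd_left hd) fun y hy => Subtype.ext
      ((hβ y).trans (hfix _ ⟨y, hy, rfl⟩))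
    have h2 := hβ ⟨x, hx⟩
    rw [h1] at h2
    exact h2.symm

/-- A coprime automorphism stabilizing a chain up to `D` fixes `D`. -/
theorem fix_of_stabilizes [Finite S] [Fact p.Prime] (hS : IsPGroup p S) (hP : P ≤ S) (hDP : D ≤ P)
    (α : MulAut P) (hα : Nat.Coprime (orderOf α) p) (hD : ∀ x ∈ D, autFun α x ∈ D) {m : ℕ}
    (K : ℕ → Subgroup Ω) (h0 : K 0 = ⊥) (hm : K m = D) (hmono : ∀ i < m, K i ≤ K (i + 1))
    (hstab : ∀ i < m, ∀ x ∈ K (i + 1), x⁻¹ * autFun α x ∈ K i) : ∀ x ∈ D, autFun α x = x := by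
  have := finite_of_le (hDP.trans hP)
  obtain ⟨β, hβ, hd⟩ := exists_restrict hP hDP α hD
  obtain ⟨k, hk⟩ := exists_pow_eq_one_of_stabilizes (hS.to_le (hDP.trans hP)) (fun i => (K i).subgroupOf D)
    (α := β) (by simp [h0]) (by simp [hm]) (fun i hi x hx => hmono i hi hx) fun i hi x hx => by
      rw [Subgroup.mem_subgroupOf, Subgroup.coe_mul, Subgroup.coe_inv, hβ]
      exact hstab i hi x hx
  have h1 : orderOf β = 1 := Nat.eq_one_of_dvd_coprimes ((hα.coprime_dvd_left hd).pow_right k) dvd_rfl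
    (orderOf_dvd_of_pow_eq_one hk)
  rw [orderOf_eq_one_iff] at h1
  intro x hx
  have h2 := hβ ⟨x, hx⟩
  rw [h1] at h2
  exact h2.symm

/-- A coprime automorphism centralizing `T` and `P/T` is trivial. -/
theorem eq_one_of_fix [Finite S] [Fact p.Prime] (hS : IsPGroup p S) (hP : P ≤ S) (hTP : T ≤ P)
    (α : MulAut P) (hα : Nat.Coprime (orderOf α) p) (hfix : ∀ x ∈ T, autFun α x = x)
    (hdisp : ∀ x ∈ P, x⁻¹ * autFun α x ∈ T) : α = 1 := by
  have h := fix_of_stabilizes hS hP le_rfl α hα (fun x hx => autFun_mem α hx) (m := 2)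
    (fun i => if i = 0 then ⊥ else if i = 1 then T else P) rfl rfl (by
      intro i hi
      rcases i with _ | _ | i
      · simp
      · simpa using hTP
      · omega) (by
      intro i hi x hx
      rcases i with _ | _ | i
      · have hx' : x ∈ T := by simpa using hx
        simp [hfix x hx']
      · simpa using hdisp x (by simpa using hx)
      · omega)
  refine autFun_injOn fun x hx => ?_
  rw [h x hx, autFun_one hx]

theorem disp_mem_hyperfocal [Finite S] [Fact p.Prime] (hP : P ≤ S) {α : MulAut P} (hα : α ∈ F.autGroup P)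
    (hc : Nat.Coprime (orderOf α) p) {x : Ω} (hx : x ∈ P) :
    x⁻¹ * autFun α x ∈ F.hyperfocalSubgroup p := by
  refine Subgroup.subset_closure ⟨P, ⟨α, hα⟩, ⟨x, hx⟩, hP, ?_, by rw [autFun_apply α hx]⟩
  refine Solv.mem_pResidual ?_
  rwa [← Subgroup.orderOf_coe]

theorem isPGroup_of_forall_coprime {G : Type*} [Group G] [Finite G] [Fact p.Prime]
    (h : ∀ g : G, Nat.Coprime (orderOf g) p → g = 1) : IsPGroup p G := by
  intro g
  obtain ⟨a, m, hm, he⟩ := Nat.exists_eq_pow_mul_and_not_dvd (orderOf_pos g).ne' p (Fact.out : p.Prime).one_lt.ne'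
  refine ⟨a, h _ ?_⟩
  refine Nat.Coprime.coprime_dvd_left (orderOf_dvd_of_pow_eq_one ?_)
    ((Fact.out : p.Prime).coprime_iff_not_dvd.2 hm).symm
  rw [← pow_mul, ← he, pow_orderOf_eq_one]

section Saturated

variable [Finite S] [Fact p.Prime] (hS : IsPGroup p S) (hF : F.IsSaturated p)
include hS hF

/-- No subgroup is essential whose Sylow group of automorphisms stabilizes an invariant chain on a
small subgroup detecting the coprime automorphisms. -/
theorem not_isEssential_of_stabilizes (hP : F.IsEssential p P) (hTP : T ≤ P)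
    (hT : ∀ α ∈ F.autGroup P, ∀ x ∈ T, autFun α x ∈ T)
    (hdisp : ∀ α ∈ F.autGroup P, Nat.Coprime (orderOf α) p → ∀ x ∈ P, x⁻¹ * autFun α x ∈ T)
    (hchain : ∀ D ≤ T, (∀ x ∈ D, x ^ p = 1 ∨ (p = 2 ∧ x ^ 4 = 1)) →
      (∀ α ∈ F.autGroup P, ∀ x ∈ D, autFun α x ∈ D) → ∃ (m : ℕ) (K : ℕ → Subgroup Ω),
        K 0 = ⊥ ∧ K m = D ∧ (∀ i ≤ m, K i ≤ D) ∧ (∀ i < m, K i ≤ K (i + 1)) ∧
        (∀ i ≤ m, ∀ α ∈ F.autGroup P, ∀ x ∈ K i, autFun α x ∈ K i) ∧
        ∀ i < m, ∀ a ∈ S, a ∈ Subgroup.normalizer (P : Set Ω) →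
          ∀ x ∈ K (i + 1), x⁻¹ * (a * x * a⁻¹) ∈ K i) : False := by
  have hPS := lt_of_isEssential hS hF hP
  have := finite_autGroup (F := F) hPS.le
  obtain ⟨D, hDT, hsm, hDinv, hDfaith⟩ := exists_small_faithful_in hS hPS.le hTP
  have hD : ∀ α ∈ F.autGroup P, ∀ x ∈ D, autFun α x ∈ D := fun α hα => hDinv α (hT α hα)
  obtain ⟨m, K, h0, hm, hKD, hmono, hinv, hstab⟩ := hchain D hDT hsm hD
  have hKP : ∀ i ≤ m, K i ≤ P := fun i hi => (hKD i hi).trans (hDT.trans hTP)
  let St : Subgroup (F.autGroup P) :=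
    { carrier := {α | ∀ i < m, ∀ x ∈ K (i + 1), x⁻¹ * autFun (α : MulAut P) x ∈ K i}
      one_mem' := fun i hi x hx => by
        rw [Subgroup.coe_one, autFun_one (hKP _ hi hx)]
        simp
      mul_mem' := by
        intro α β hα hβ i hi x hx
        have hxP := hKP _ hi hx
        rw [Subgroup.coe_mul, autFun_mul _ _ hxP]
        have h1 := hα i hi _ (hinv _ hi _ β.2 x hx)
        have h2 := hβ i hi x hx
        have := mul_mem h2 h1
        simpa [mul_assoc] using this
      inv_mem' := by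
        intro α hα i hi x hx
        have hy : autFun (↑α⁻¹ : MulAut P) x ∈ K (i + 1) := hinv _ hi _ (α⁻¹).2 x hx
        have h1 := inv_mem (hα i hi _ hy)
        rw [← autFun_mul _ _ (hKP _ hi hx), ← Subgroup.coe_mul, mul_inv_cancel, Subgroup.coe_one,
          autFun_one (hKP _ hi hx), mul_inv_rev, inv_inv] at h1
        exact h1 }
  have hStn : St.Normal := ⟨by
    intro α hα γ i hi x hx
    have hxP := hKP _ hi hx
    have hy : autFun (↑γ⁻¹ : MulAut P) x ∈ K (i + 1) := hinv _ hi _ (γ⁻¹).2 x hx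
    have hy' := hKP _ hi hy
    have h1 := hinv i (le_of_lt hi) _ γ.2 _ (hα i hi _ hy)
    have hm : IsMor F P (autFun (γ : MulAut P)) := isMor_of_mem_autGroup hPS.le γ.2
    have e : autFun (γ : MulAut P) (autFun (↑γ⁻¹ : MulAut P) x) = x := by
      rw [← autFun_mul _ _ hxP, ← Subgroup.coe_mul, mul_inv_cancel, Subgroup.coe_one, autFun_one hxP]
    rw [hm.map_mul (inv_mem hy') (autFun_mem _ hy'), hm.map_inv hy', e] at h1
    rw [Subgroup.coe_mul, Subgroup.coe_mul, autFun_mul _ _ hxP, autFun_mul _ _ (autFun_mem _ hxP)]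
    exact h1⟩
  have hStp : IsPGroup p St := isPGroup_of_forall_coprime fun ⟨⟨α, hαm⟩, hα⟩ hc => by
    rw [← Subgroup.orderOf_coe, ← Subgroup.orderOf_coe] at hc
    have hfD := fix_of_stabilizes hS hPS.le (hDT.trans hTP) α hc (hD α hαm) K h0 hm hmono hα
    exact Subtype.ext (Subtype.ext (eq_one_of_fix hS hPS.le hTP α hc
      (hDfaith α (hT α hαm) hc hfD) (hdisp α hαm hc)))
  refine sylow_out_ne_bot (F := F) hS hPS (centralizerIn_le_of_isCentric hP.1) ?_
  rw [Subgroup.map_eq_bot_iff, QuotientGroup.ker_mk']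
  intro α hα
  obtain ⟨a, ha, han, hax⟩ := mem_autInducedBy.1 (Subgroup.mem_subgroupOf.1 hα)
  have hmem : α ∈ St := fun i hi x hx => by
    rw [autFun_apply _ (hKP _ hi hx), hax ⟨x, hKP _ hi hx⟩]
    exact hstab i hi a ha han x hx
  show (α : MulAut P) ∈ Inn P
  rw [← (isRadical_of_isEssential hS hF hP).2]
  exact ⟨α, Solv.le_pCore (hN := hStn) hStp hmem, rfl⟩

omit hS hF [Fact p.Prime] in
/-- Automorphisms of `S` preserve the upper central series. -/
theorem centralSeries_invariant (β : MulAut S) {i : ℕ} {x : Ω} (hx : x ∈ centralSeriesOf S i) :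
    autFun β x ∈ centralSeriesOf S i := by
  have hxS := centralSeriesOf_le S i hx
  rw [autFun_apply β hxS]
  exact Subgroup.characteristic_iff_le_comap.1 (centralSeriesOf_characteristic S i) β
    (show (⟨x, hxS⟩ : S) ∈ (centralSeriesOf S i).subgroupOf S from hx)

omit hS hF in
theorem card_zpowers_of_small {x : Ω} (h : x ^ p = 1 ∨ (p = 2 ∧ x ^ 4 = 1)) (hx : x ≠ 1) :
    Nat.card (Subgroup.zpowers x) = p ∨ Nat.card (Subgroup.zpowers x) = 4 := by
  rw [Nat.card_zpowers]
  by_cases h1 : x ^ p = 1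
  · exact Or.inl (orderOf_eq_prime h1 hx)
  · obtain ⟨h2, h4⟩ := h.resolve_left h1
    subst h2
    exact Or.inr (orderOf_eq_prime_pow (p := 2) (n := 1) (by simpa using h1) (by simpa using h4))

/-- The maps on small elements of the hyperfocal subgroup extend to `S`: then no subgroup is essential. -/
theorem not_isEssential_of_small
    (h : ∀ A B : Subgroup Ω, A ≤ F.hyperfocalSubgroup p → B ≤ F.hyperfocalSubgroup p →
      IsCyclic A → (Nat.card A = p ∨ Nat.card A = 4) → IsCyclic B → (Nat.card B = p ∨ Nat.card B = 4) →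
      F.homSet A B ⊆ F.normalizerHom S A) (hP : F.IsEssential p P) : False := by
  have hL := hyperfocal_stronglyClosed hS hF
  have hPS := (lt_of_isEssential hS hF hP).le
  have := hS.isNilpotent
  refine not_isEssential_of_stabilizes hS hF hP (T := P ⊓ F.hyperfocalSubgroup p) inf_le_left
    (fun α hα x hx => ⟨autFun_mem α hx.1, stronglyClosed_apply hL (isMor_of_mem_autGroup hPS hα) hx.1 hx.2⟩)
    (fun α hα hc x hx => ⟨P.mul_mem (P.inv_mem hx) (autFun_mem α hx), disp_mem_hyperfocal hPS hα hc hx⟩) ?_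
  intro D hDT hsm hD
  have hDP : D ≤ P := hDT.trans inf_le_left
  have hDL : D ≤ F.hyperfocalSubgroup p := hDT.trans inf_le_right
  refine ⟨Group.nilpotencyClass S, fun i => D ⊓ centralSeriesOf S i, ?_, ?_, fun _ _ => inf_le_left,
    fun i _ => inf_le_inf_left D (centralSeriesOf_mono S (Nat.le_succ i)), ?_, ?_⟩
  · simp [centralSeriesOf, Subgroup.upperCentralSeries_zero]
  · simp [centralSeriesOf, Subgroup.upperCentralSeries_nilpotencyClass, ← MonoidHom.range_eq_map,
      hDP.trans hPS]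
  · intro i _ α hα x hx
    refine ⟨hD α hα x hx.1, ?_⟩
    by_cases hx1 : x = 1
    · rw [hx1, (isMor_of_mem_autGroup hPS hα).map_one]
      exact one_mem _
    have hf := isMor_of_mem_autGroup hPS hα
    have hy := hD α hα x hx.1
    have hy1 : autFun α x ≠ 1 := fun e => hx1 (hf.eq_one (hDP hx.1) e)
    obtain ⟨φ, hφ, he⟩ := hf.restrict (Subgroup.zpowers_le.2 (hDP hx.1))
    have hhom : φ ∈ F.homSet (Subgroup.zpowers x) (Subgroup.zpowers (autFun α x)) := by
      refine ⟨hφ, ?_⟩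
      rintro ⟨_, k, rfl⟩
      refine ⟨k, ?_⟩
      show autFun α x ^ k = φ ((⟨x, Subgroup.mem_zpowers x⟩ : Subgroup.zpowers x) ^ k)
      rw [map_zpow, he]
    obtain ⟨-, -, -, ψ, hψ, hψe, -⟩ := h _ _ (Subgroup.zpowers_le.2 (hDL hx.1))
      (Subgroup.zpowers_le.2 (hDL hy)) inferInstance (card_zpowers_of_small (hsm x hx.1) hx1) inferInstance
      (card_zpowers_of_small (hsm _ hy) hy1) hhom
    have hk := ((isMor_extFun hψ).restrict (le_sup_right (a := Subgroup.zpowers x))).isIso_self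
      fun z hz => (isMor_extFun hψ).mem (Subgroup.mem_sup_right hz)
    have h1 := centralSeries_invariant (autOf hk) hx.2
    have h2 : extFun ψ x = autFun α x := by
      rw [← he ⟨x, Subgroup.mem_zpowers x⟩, ← hψe ⟨x, Subgroup.mem_zpowers x⟩]
      exact extFun_apply ψ _
    rwa [autFun_apply _ (centralSeriesOf_le S i hx.2), autOf_apply hk, h2] at h1
  · intro i _ a ha han x hx
    obtain ⟨h1, h2⟩ := conjAut_mem (F := F) hPS (show a ∈ normalizerIn S P from ⟨ha, han⟩)
    refine ⟨D.mul_mem (D.inv_mem hx.1) ?_, ?_⟩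
    · have := hD _ h2 x hx.1
      rwa [autFun_apply _ (hDP hx.1)] at this
    · have := commutator_centralSeriesOf S i
        (Subgroup.commutator_mem_commutator (inv_mem hx.2) ha)
      simpa [commutatorElement_def, mul_assoc] using this

end Saturated

end Cfsg.Agent.Fusion
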