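import Mathlib
import Cfsg.Agent.Lib.Fusion.ModelSection
import Cfsg.Agent.Lib.Fusion.FactorClosed
import Cfsg.Agent.Lib.Fusion.Inner
import Cfsg.Agent.Lib.Fusion.SmallElements
import Cfsg.Agent.Lib.Solv.NormalPComplement
import Cfsg.Agent.Lib.Local.PGroup

/-!
Reduction of normalizer criteria for inner fusion systems to constrained groups, by models.
-/

set_option autoImplicit false

universe v

namespace Cfsg.Agent.Fusion

open Cfsg Cfsg.FusionSystem

variable {Ω : Type v} [Group Ω] {S : Subgroup Ω} {F : FusionSystem S} {p : ℕ}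
  {A B D P Q U : Subgroup Ω} {f : Ω → Ω}

/-- The maps of `N_F(Q)` are conjugations by elements of `N_S(Q)`. -/
def NormInner (F : FusionSystem S) (Q : Subgroup Ω) : Prop :=
  ∀ (A : Subgroup Ω) (k : Ω → Ω), IsMor F (A ⊔ Q) k → IsIso F Q Q k → A ≤ normalizerIn S Q →
    ∃ a ∈ normalizerIn S Q, ∀ x ∈ A, k x = a * x * a⁻¹

theorem normInner_of_forall [Finite S] (hQ : Q ≤ S)
    (h : ∀ N : FusionSystem (normalizerIn S Q), F.IsNormalizerSystem Q N →
      ∀ P : Subgroup Ω, N.Hom P = (innerFusionSystem (normalizerIn S Q)).Hom P) : NormInner F Q := by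
  intro A k hk hkQ hA
  obtain ⟨N, hN⟩ := exists_normalizerSystem F hQ
  have hm : IsMor N A k := (isMor_normalizer_iff hN).2
    ⟨hA, fun x hx => hk.apply_mem_normalizerIn le_sup_right hkQ (Subgroup.mem_sup_left hx) (hA hx).2, k, hk,
      fun _ _ => rfl, hkQ⟩
  rw [show N = innerFusionSystem _ from fusionSystem_ext (h N hN)] at hm
  exact (isMor_inner.1 hm).2

theorem normalizerSystem_eq_inner_of_inner (hQ : Q ≤ S) (hF : ∀ P : Subgroup Ω, F.Hom P = (innerFusionSystem S).Hom P)
    [Finite S] {N : FusionSystem (normalizerIn S Q)} (hN : F.IsNormalizerSystem Q N) (P : Subgroup Ω) :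
    N.Hom P = (innerFusionSystem (normalizerIn S Q)).Hom P := by
  have hFi : F = innerFusionSystem S := fusionSystem_ext hF
  refine hom_eq_of_isMor_iff P fun f => ⟨fun hf => ?_, fun hf => ?_⟩
  · obtain ⟨hP, -, k, hk, hke, hkQ⟩ := (isMor_normalizer_iff hN).1 hf
    rw [hFi] at hk
    obtain ⟨hle, a, ha, hak⟩ := isMor_inner.1 hk
    refine isMor_inner.2 ⟨hP, a, ⟨ha, mem_normalizer_of_conj_mem hQ fun x hx => ?_⟩, fun x hx => ?_⟩
    · rw [← hak x (Subgroup.mem_sup_right hx)]
      exact hkQ.apply_mem hx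
    · rw [← hke x hx, hak x (Subgroup.mem_sup_left hx)]
  · obtain ⟨hP, a, ha, hax⟩ := isMor_inner.1 hf
    exact (isMor_conj (F := N) hP ha).congr hax

/-- A functor of subgroups compatible with injective homomorphisms. -/
structure SubFunctor (p : ℕ) where
  W : ∀ {G : Type v} [Group G], Subgroup G → Subgroup G
  le : ∀ {G : Type v} [Group G] (P : Subgroup G), W P ≤ P
  ne : ∀ {G : Type v} [Group G] (P : Subgroup G) [Finite P], IsPGroup p P → P ≠ ⊥ → W P ≠ ⊥
  map : ∀ {G H : Type v} [Group G] [Group H] (P : Subgroup G) [Finite P] (f : P →* H),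
    Function.Injective f → ((W P).subgroupOf P).map f = W f.range

theorem SubFunctor.normalizer_le [Finite S] (W : SubFunctor.{v} p) (hD : D ≤ S) {f : Ω → Ω}
    (hf : IsIso F D B f) : IsIso F (W.W D) (W.W B) f := by
  obtain ⟨φ, hφ, hx⟩ := id hf.1
  have := finite_of_le hD
  have hr : φ.range = B := by
    ext y
    rw [hf.2, MonoidHom.mem_range]
    exact ⟨fun ⟨x, e⟩ => ⟨x, x.2, (hx x).symm.trans e⟩, fun ⟨x, hxD, e⟩ => ⟨⟨x, hxD⟩, (hx ⟨x, hxD⟩).trans e⟩⟩
  have hmap := W.map D φ (F.injective_of_mem hφ)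
  rw [hr] at hmap
  refine ⟨hf.1.restrict (W.le D), fun y => ?_⟩
  rw [← hmap]
  exact ⟨fun ⟨x, hxW, e⟩ => ⟨x, hxW, (hx x).symm.trans e⟩,
    fun ⟨x, hxW, e⟩ => ⟨⟨x, W.le D hxW⟩, hxW, (hx _).trans e⟩⟩

theorem SubFunctor.mem_normalizer [Finite S] (W : SubFunctor.{v} p) (hD : D ≤ S) {a : Ω} (ha : a ∈ S)
    (hn : a ∈ Subgroup.normalizer (D : Set Ω)) : a ∈ Subgroup.normalizer (W.W D : Set Ω) := by
  have hi : IsIso (innerFusionSystem S) D D (fun x => a * x * a⁻¹) :=
    (isMor_conj hD ha).isIso_self fun x hx => conj_mem_of_mem_normalizer hn hx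
  exact mem_normalizer_of_conj_mem ((W.le D).trans hD) fun x hx => (W.normalizer_le hD hi).apply_mem hx

/-- The group theoretic input. -/
def GroupCriterion (p : ℕ) (W : SubFunctor.{v} p) : Prop :=
  ∀ (L : Type v) [Group L] [Finite L] (T : Sylow p L) (D : Subgroup L), D ≤ (T : Subgroup L) → D ≠ ⊥ →
    (∀ x ∈ D, ∀ g : L, g * x * g⁻¹ ∈ (T : Subgroup L) → g * x * g⁻¹ ∈ D) →
    Subgroup.centralizer (pCore p L : Set L) ≤ pCore p L →
    HasNormalPComplement p (Subgroup.normalizer ((W.W D : Subgroup L) : Set L)) →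
    HasNormalPComplement p L

variable [Finite S] [Fact p.Prime]

omit [Fact p.Prime] in
/-- A saturated system of the normalizer maps, read on `S`, when `Q` is normal in `S`. -/
theorem exists_system_top {T : Subgroup Ω} (h : T = S) (E : FusionSystem T) :
    ∃ E' : FusionSystem S, (E.IsSaturated p → E'.IsSaturated p) ∧ ∀ A f, IsMor E' A f ↔ IsMor E A f := by
  subst h
  exact ⟨E, id, fun _ _ => Iff.rfl⟩

theorem exists_normalizer_top (hS : IsPGroup p S) (hF : F.IsSaturated p) (hQS : Q ≤ S)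
    (hSQ : S ≤ Subgroup.normalizer (Q : Set Ω)) :
    ∃ E : FusionSystem S, E.IsSaturated p ∧ E ≤ F ∧ E.IsNormal Q ∧
      ∀ A f, IsMor E A f ↔ A ≤ S ∧ ∃ k, IsMor F (A ⊔ Q) k ∧ (∀ x ∈ A, k x = f x) ∧ IsIso F Q Q k := by
  have hT : normalizerIn S Q = S := inf_eq_left.2 hSQ
  have hQn : F.IsFullyNormalized Q := ⟨hQS, fun R _ => by
    rw [hT]
    exact Nat.card_le_card_of_injective (Subgroup.inclusion normalizerIn_le) (Subgroup.inclusion_injective _)⟩
  obtain ⟨E₀, hE₀⟩ := exists_normalizerSystem F hQS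
  obtain ⟨E, hsat, hiff⟩ := exists_system_top (p := p) hT E₀
  have key : ∀ A f, IsMor E A f ↔
      A ≤ S ∧ ∃ k, IsMor F (A ⊔ Q) k ∧ (∀ x ∈ A, k x = f x) ∧ IsIso F Q Q k := by
    intro A f
    rw [hiff, isMor_normalizer_iff hE₀]
    constructor
    · rintro ⟨hA, -, h⟩
      exact ⟨hA.trans hT.le, h⟩
    · rintro ⟨hA, k, hk, hke, hkQ⟩
      refine ⟨hA.trans hT.ge, fun x hx => hT.ge ?_, k, hk, hke, hkQ⟩
      rw [← hke x hx]
      exact hk.mem (Subgroup.mem_sup_left hx)
  refine ⟨E, hsat (normalizerSystem_saturated hS hF hQn hE₀), le_iff_isMor.2 fun A f hf => ?_,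
    isNormal_iff.2 ⟨hQS, fun A f hf => ?_⟩, key⟩
  · obtain ⟨-, k, hk, hke, -⟩ := (key A f).1 hf
    exact (hk.restrict le_sup_left).congr fun x hx => (hke x hx).symm
  · obtain ⟨hA, k, hk, hke, hkQ⟩ := (key A f).1 hf
    have hkm : IsMor E (A ⊔ Q) k := (key _ _).2
      ⟨sup_le hA hQS, k, by rwa [sup_assoc, sup_idem], fun _ _ => rfl, hkQ⟩
    exact ⟨k, hkm, hke, (hkm.restrict le_sup_right).isIso_self fun x hx => hkQ.apply_mem hx⟩

theorem exists_not_pGroup_aut (hS : IsPGroup p S) (hF : F.IsSaturated p) (h : F ≠ innerFusionSystem S) :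
    ∃ P : Subgroup Ω, F.IsFullyNormalized P ∧ P ≠ ⊥ ∧ ¬ IsPGroup p (F.autGroup P) := by
  by_contra hne
  refine h (eq_innerFusionSystem_of_autGroup_pGroup hS hF fun P hP => ?_)
  obtain ⟨R, hc, hR⟩ := exists_fullyNormalized (F := F) hP
  obtain ⟨u, hu⟩ := isConj_iff_exists_isIso.1 hc
  have hRp : IsPGroup p (F.autGroup R) := by
    by_cases hR0 : R = ⊥
    · intro α
      refine ⟨0, ?_⟩
      rw [pow_zero, pow_one]
      refine Subtype.ext (MulEquiv.ext fun x => Subtype.ext ?_)
      rw [Subgroup.mem_bot.1 (hR0.le (((α : MulAut R) x).2)),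
        Subgroup.mem_bot.1 (hR0.le ((((1 : F.autGroup R) : MulAut R) x).2))]
    · by_contra hp
      exact hne ⟨R, hR, hR0, hp⟩
  rw [← autGroup_map_congr hu] at hRp
  exact hRp.of_equiv ((F.autGroup P).equivMapOfInjective _ (MulAut.congr hu.toMulEquiv).injective).symm

theorem normInner_pGroup (hS : IsPGroup p S) (hQ : Q ≤ S) (h : NormInner F Q) :
    IsPGroup p (F.autGroup Q) := by
  refine (isPGroup_autInducedBy hS Q).to_le fun α hα => ?_
  have hi := isIso_autFun hQ hα
  obtain ⟨a, ha, hax⟩ := h Q _ (by rw [sup_idem]; exact hi.1) hi (le_normalizerIn hQ)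
  exact mem_autInducedBy.2 ⟨a, ha.1, ha.2, fun x => (autFun_coe α x).symm.trans (hax x x.2)⟩

omit [Fact p.Prime] in
theorem stronglyClosed_factor {T : Subgroup Ω} {Ω' : Type*} [Group Ω'] {S' : Subgroup Ω'}
    {θ : S →* Ω'} {E : FusionSystem S'} (hD : F.StronglyClosed D) (hE : F.IsFactorSystem T θ E) :
    E.StronglyClosed (imageAlong θ D) := by
  refine stronglyClosed_of_apply_mem (imageAlong_le hE.2.2.1) fun R' f' hR' hf' y hy => ?_
  obtain ⟨hRS, f, hf, hi⟩ := hf'.factor_lift hE
  obtain ⟨d, hd, hdS, rfl⟩ := mem_imageAlong.1 (hR' hy)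
  have hdp : d ∈ preimageAlong θ R' := mem_preimageAlong.2 ⟨hdS, hy⟩
  rw [hi d hdp]
  exact imageAlong_mem hD.1 (stronglyClosed_apply hD hf hdp hd)

omit [Finite S] [Fact p.Prime] in
theorem isPGroup_of_range {Ω' : Type*} [Group Ω'] {S' : Subgroup Ω'} {θ : S →* Ω'} (hS : IsPGroup p S)
    (hr : θ.range = S') : IsPGroup p S' := by
  rw [← hr, MonoidHom.range_eq_map]
  exact (hS.to_subgroup _).map θ

/-- With trivial action on `Q` and an inner factor system, the system is inner. -/
theorem inner_of_factor_inner (hS : IsPGroup p S) (hF : F.IsSaturated p) (hQ : F.IsNormal Q)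
    (hAutQ : IsPGroup p (F.autGroup Q)) {Ω' : Type*} [Group Ω'] {S' : Subgroup Ω'} {θ : S →* Ω'}
    {E : FusionSystem S'} (hE : F.IsFactorSystem Q θ E) (hEi : E = innerFusionSystem S') :
    F = innerFusionSystem S := by
  refine eq_innerFusionSystem_of_autGroup_pGroup hS hF fun A hA => ?_
  have hQS := hQ.1
  have hQsc := normal_stronglyClosed hQ
  set B := A ⊔ Q with hB
  have hBS : B ≤ S := sup_le hA hQS
  have hBp : IsPGroup p (F.autGroup B) := by
    have := finite_autGroup (F := F) hBS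
    refine isPGroup_of_forall_coprime fun β hβ => ?_
    have hm := isMor_of_mem_autGroup hBS β.2
    -- trivial on `Q`
    have hres : IsIso F Q Q (autFun (β : MulAut B)) :=
      stronglyClosed_isIso hQsc hm le_sup_right
    have hfix : ∀ q ∈ Q, autFun (β : MulAut B) q = q := by
      have hn : ∀ (n : ℕ) (q : Ω) (hq : q ∈ Q),
          ((autOf hres ^ n) ⟨q, hq⟩ : Q) = autFun ((β : MulAut B) ^ n) q := by
        intro n q hq
        rw [← autFun_coe]
        exact (autFun_pow_restrict (α := autOf hres) (β := (β : MulAut B)) le_sup_right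
          (fun x hx => by rw [autFun_apply (autOf hres) hx, autOf_apply]) n q hq).symm
      have h1 : autOf hres = 1 := by
        have hpow : autOf hres ^ orderOf β = 1 := MulEquiv.ext fun x => Subtype.ext (by
          rw [show (x : Q) = ⟨(x : Ω), x.2⟩ from rfl, hn, ← SubmonoidClass.coe_pow, pow_orderOf_eq_one,
            Subgroup.coe_one, autFun_one (Subgroup.mem_sup_right x.2)]
          rfl)
        obtain ⟨j, hj⟩ := hAutQ ⟨_, autOf_mem hres⟩
        have hj' : autOf hres ^ p ^ j = 1 := congrArg Subtype.val hj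
        rw [← orderOf_eq_one_iff]
        exact Nat.eq_one_of_dvd_coprimes (hβ.pow_right j) (orderOf_dvd_of_pow_eq_one hpow)
          (orderOf_dvd_of_pow_eq_one hj')
      intro q hq
      have := congrArg (fun γ : MulAut Q => ((γ ⟨q, hq⟩ : Q) : Ω)) h1
      simpa [autOf_apply] using this
    -- trivial modulo `Q`
    have hpre : preimageAlong θ (imageAlong θ B) = B := by
      rw [preimage_imageAlong hQS hE.2.1 hBS, sup_eq_left.2 le_sup_right]
    have himg : imageAlong θ B ≤ S' := imageAlong_le hE.2.2.1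
    obtain ⟨ρ, -, hρ⟩ := factor_autHom hQsc hE himg
    have hiso' : IsIso F (preimageAlong θ (imageAlong θ B)) (preimageAlong θ (imageAlong θ B))
        (autFun (β : MulAut B)) := by
      rw [hpre]; exact isIso_autFun hBS β.2
    set β' : F.autGroup (preimageAlong θ (imageAlong θ B)) := ⟨autOf hiso', autOf_mem _⟩ with hβ'
    have hval : ∀ x ∈ B, autFun (autOf hiso') x = autFun (β : MulAut B) x := fun x hx => by
      rw [autFun_apply _ (hpre.ge hx), autOf_apply]
    have hpowB : ∀ (n : ℕ) (x : Ω), x ∈ B →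
        autFun ((autOf hiso') ^ n) x = autFun ((β : MulAut B) ^ n) x :=
      fun n x hx => autFun_pow_restrict hpre.ge hval n x hx
    have hord : ρ β' = 1 := by
      have h1 : β' ^ orderOf β = 1 := Subtype.ext (MulEquiv.ext fun x => Subtype.ext (by
        have hx : (x : Ω) ∈ B := hpre.le x.2
        rw [SubmonoidClass.coe_pow, show (β' : MulAut _) = autOf hiso' from rfl, ← autFun_coe, hpowB _ _ hx,
          ← SubmonoidClass.coe_pow, pow_orderOf_eq_one,
          Subgroup.coe_one, autFun_one hx]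
        rfl))
      have hEp : IsPGroup p (E.autGroup (imageAlong θ B)) := by
        refine ((isPGroup_autInducedBy (isPGroup_of_range hS hE.2.2.1) _).to_le fun α hα => ?_)
        have hαm := isMor_of_mem_autGroup himg hα
        rw [hEi] at hαm
        obtain ⟨-, a, ha, hax⟩ := isMor_inner.1 hαm
        have : Finite S' := hE.2.2.1 ▸ Finite.of_surjective _ θ.rangeRestrict_surjective
        refine mem_autInducedBy.2 ⟨a, ha, mem_normalizer_of_conj_mem himg fun x hx => ?_, fun x => ?_⟩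
        · rw [← hax x hx]; exact autFun_mem _ hx
        · exact (autFun_coe _ x).symm.trans (hax x x.2)
      obtain ⟨j, hj⟩ := hEp (ρ β')
      rw [← orderOf_eq_one_iff]
      exact Nat.eq_one_of_dvd_coprimes (hβ.pow_right j)
        (orderOf_dvd_of_pow_eq_one (by rw [← map_pow, h1, map_one]))
        (orderOf_dvd_of_pow_eq_one hj)
    have hmod : ∀ x : B, (((x : B)⁻¹ * (β : MulAut B) x : B) : Ω) ∈ Q := by
      intro x
      have h := hρ β' x (hpre.ge x.2)
      rw [hord, Subgroup.coe_one, autFun_one (imageAlong_mem hBS x.2),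
        show (β' : MulAut _) = autOf hiso' from rfl, hval x x.2] at h
      rw [Subgroup.coe_mul, Subgroup.coe_inv, ← autFun_coe]
      exact (qfun_eq_iff hE.2.1 (hBS x.2) (hm.mem x.2)).1 h
    have : Finite B := finite_of_le hBS
    obtain ⟨j, hj⟩ := exists_pow_eq_one_of_stabilizes (p := p) (m := 2) (α := (β : MulAut B)) (hS.to_le hBS)
      (fun i => if i = 0 then ⊥ else if i = 1 then Q.subgroupOf B else ⊤) (by simp) (by simp) (by
        intro i hi
        rcases i with _ | _ | i
        · simp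
        · simp
        · omega) (by
        intro i hi x hx
        rcases i with _ | _ | i
        · simp only [zero_add, one_ne_zero, ↓reduceIte] at hx ⊢
          rw [Subgroup.mem_bot]
          have e : (β : MulAut B) x = x := Subtype.ext (by rw [← autFun_coe]; exact hfix x hx)
          rw [e, inv_mul_cancel]
        · simp only [zero_add, one_ne_zero, ↓reduceIte]
          exact hmod x
        · omega)
    rw [← orderOf_eq_one_iff]
    exact Nat.eq_one_of_dvd_coprimes (hβ.pow_right j) dvd_rfl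
      (orderOf_dvd_of_pow_eq_one (Subtype.ext hj))
  intro α
  have hαm := isMor_of_mem_autGroup hA α.2
  obtain ⟨k, hk, hke, hkQ⟩ := (isNormal_iff.1 hQ).2 A _ hαm
  have hiso : IsIso F B B k := hk.isIso_self fun x hx => hk.apply_mem_sup
    (fun y hy => Subgroup.mem_sup_left (by rw [hke y hy]; exact autFun_mem _ hy))
    (fun y hy => Subgroup.mem_sup_right (hkQ.apply_mem hy)) hx
  obtain ⟨j, hj⟩ := hBp ⟨autOf hiso, autOf_mem hiso⟩
  refine ⟨j, Subtype.ext (MulEquiv.ext fun x => Subtype.ext ?_)⟩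
  rw [SubmonoidClass.coe_pow, ← autFun_coe, ← autFun_pow_restrict (β := autOf hiso) le_sup_left
    (fun y hy => by rw [autFun_apply (autOf hiso) (Subgroup.mem_sup_left hy), autOf_apply, hke y hy]) _ x x.2]
  have hj' : autOf hiso ^ p ^ j = 1 := congrArg Subtype.val hj
  rw [hj', autFun_one (Subgroup.mem_sup_left x.2)]
  rfl

/-- A system with a normal subgroup `Q` is either constrained by `Q`, or `Q C_S(Q)` is larger. -/
theorem centric_sup_centralizer (hS : IsPGroup p S) (hF : F.IsSaturated p) (hQS : Q ≤ S)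
    (hSQ : S ≤ Subgroup.normalizer (Q : Set Ω)) :
    F.IsCentric (Q ⊔ centralizerIn S Q) ∧ S ≤ Subgroup.normalizer ((Q ⊔ centralizerIn S Q : Subgroup Ω) : Set Ω) := by
  have hle : Q ⊔ centralizerIn S Q ≤ S := sup_le hQS centralizerIn_le
  have hn : S ≤ Subgroup.normalizer ((Q ⊔ centralizerIn S Q : Subgroup Ω) : Set Ω) := fun a ha =>
    mem_normalizer_sup hQS centralizerIn_le (hSQ ha) (mem_normalizer_of_conj_mem centralizerIn_le fun c hc => by
      obtain ⟨hcS, hcc⟩ := mem_centralizerIn.1 hc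
      refine mem_centralizerIn.2 ⟨mul_mem (mul_mem ha hcS) (inv_mem ha), fun y hy => ?_⟩
      have hy' : a⁻¹ * y * a ∈ Q := by
        have := conj_mem_of_mem_normalizer (inv_mem (hSQ ha)) hy
        rwa [inv_inv] at this
      have h := hcc _ hy'
      calc y * (a * c * a⁻¹) = a * (a⁻¹ * y * a * c) * a⁻¹ := by group
        _ = a * (c * (a⁻¹ * y * a)) * a⁻¹ := by rw [h]
        _ = a * c * a⁻¹ * y := by group)
  have hfn : F.IsFullyNormalized (Q ⊔ centralizerIn S Q) := ⟨hle, fun R _ => by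
    rw [show normalizerIn S (Q ⊔ centralizerIn S Q) = S from inf_eq_left.2 hn]
    exact Nat.card_le_card_of_injective (Subgroup.inclusion normalizerIn_le) (Subgroup.inclusion_injective _)⟩
  refine ⟨isCentric_of_fullyCentralized hS hF (fullyNormalized_fullyCentralized hS hF hfn) ?_, hn⟩
  intro c hc
  obtain ⟨hcS, hcc⟩ := mem_centralizerIn.1 hc
  exact Subgroup.mem_sup_right (mem_centralizerIn.2 ⟨hcS, fun y hy => hcc y (Subgroup.mem_sup_left hy)⟩)

/-- The constrained case, by the model. -/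
theorem inner_of_constrained (hS : IsPGroup p S) (hF : F.IsSaturated p) (hQn : F.IsNormal Q)
    (hQc : F.IsCentric Q) (W : SubFunctor.{v} p) (hG : GroupCriterion p W) (hD : F.StronglyClosed D)
    (hD1 : D ≠ ⊥) (hN : NormInner F (W.W D)) : F = innerFusionSystem S := by
  obtain ⟨L, hLg, ι, hL⟩ := exists_model hS hF hQn hQc
  have := hL.1
  obtain ⟨T, hT⟩ := hL.2.2.1
  have hi := hL.2.1.1
  have := finite_of_le hD.1
  set D' := mImg ι D
  set j : D →* L := ι.comp (Subgroup.inclusion hD.1)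
  have hj : Function.Injective j := hi.comp (Subgroup.inclusion_injective _)
  have hjr : j.range = D' := by
    ext y
    constructor
    · rintro ⟨x, rfl⟩
      exact ⟨Subgroup.inclusion hD.1 x, x.2, rfl⟩
    · rintro ⟨x, hx, rfl⟩
      exact ⟨⟨x, hx⟩, rfl⟩
  have hWS : W.W D ≤ S := (W.le D).trans hD.1
  have hSW : S ≤ Subgroup.normalizer (W.W D : Set Ω) := fun a ha =>
    W.mem_normalizer hD.1 ha (le_normalizer_of_stronglyClosed hD ha)
  have hWimg : W.W D' = mImg ι (W.W D) := by
    rw [← hjr, ← W.map D j hj]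
    ext y
    constructor
    · rintro ⟨x, hx, rfl⟩
      exact ⟨Subgroup.inclusion hD.1 x, hx, rfl⟩
    · rintro ⟨x, hx, rfl⟩
      exact ⟨⟨x, W.le D hx⟩, hx, rfl⟩
  have hmemT : ∀ y, y ∈ (T : Subgroup L) ↔ ∃ x : S, ι x = y := fun y => by rw [hT]; rfl
  have hnpc : HasNormalPComplement p L := by
    refine hG L T D' ?_ ?_ ?_ hL.2.2.2 ?_
    · rintro _ ⟨x, -, rfl⟩
      exact (hmemT _).2 ⟨x, rfl⟩
    · intro h
      refine hD1 (eq_bot_iff.2 fun x hx => ?_)
      have hm : ι ⟨x, hD.1 hx⟩ ∈ D' := ⟨_, hx, rfl⟩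
      rw [h, Subgroup.mem_bot, map_eq_one_iff ι hi] at hm
      exact congrArg Subtype.val hm
    · rintro _ ⟨x, hx, rfl⟩ g hg
      obtain ⟨y, hy⟩ := (hmemT _).1 hg
      obtain ⟨f, hf, hfg⟩ := realized_exists_mor hL.2.1 (P := Subgroup.zpowers (x : Ω))
        (Subgroup.zpowers_le.2 x.2) g fun a ha => by
          obtain ⟨n, hn⟩ := Subgroup.mem_zpowers_iff.1 ha
          obtain rfl : a = x ^ n := Subtype.ext (by rw [← hn]; rfl)
          refine ⟨y ^ n, ?_⟩
          rw [map_zpow, map_zpow, hy, conj_zpow]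
      have hmem : (x : Ω) ∈ Subgroup.zpowers (x : Ω) := Subgroup.mem_zpowers _
      have h1 := hfg x ⟨f x, hf.mem hmem⟩ hmem rfl
      refine ⟨⟨f x, hf.mem hmem⟩, stronglyClosed_apply hD hf hmem hx, ?_⟩
      exact h1
    · let N := Subgroup.normalizer ((W.W D' : Subgroup L) : Set L)
      have hTN : (T : Subgroup L) ≤ N := by
        intro y hy
        obtain ⟨a, rfl⟩ := (hmemT y).1 hy
        show ι a ∈ Subgroup.normalizer _
        rw [hWimg]
        refine mImg_conj_eq (fun x hx => ⟨a * x * a⁻¹, conj_mem_of_mem_normalizer (hSW a.2) hx, by simp⟩)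
          fun y hy => ⟨a⁻¹ * y * a, ?_, by simp [mul_assoc]⟩
        have := conj_mem_of_mem_normalizer (inv_mem (hSW a.2)) hy
        rwa [inv_inv] at this
      let TN : Sylow p N := T.subtype hTN
      refine Solv.hasNormalPComplement_of_fusion TN fun u hu g hgu => ?_
      obtain ⟨x, hx⟩ := (hmemT _).1 (show (u : L) ∈ (T : Subgroup L) from hu)
      obtain ⟨y, hy⟩ := (hmemT _).1 (show ((g * u * g⁻¹ : N) : L) ∈ (T : Subgroup L) from hgu)
      have hgW : ∀ a : S, (a : Ω) ∈ W.W D → ∃ b : S, (b : Ω) ∈ W.W D ∧ (g : L) * ι a * (g : L)⁻¹ = ι b := by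
        intro a ha
        have hgN : (g : L) ∈ Subgroup.normalizer ((mImg ι (W.W D) : Subgroup L) : Set L) :=
          (congrArg (fun X : Subgroup L => Subgroup.normalizer (X : Set L)) hWimg).le g.2
        obtain ⟨b, hb, hbe⟩ := (Subgroup.mem_normalizer_iff.1 hgN (ι a)).1 ⟨a, ha, rfl⟩
        exact ⟨b, hb, hbe.symm⟩
      obtain ⟨f, hf, hfg⟩ := realized_exists_mor hL.2.1
        (sup_le (Subgroup.zpowers_le.2 x.2) hWS : Subgroup.zpowers (x : Ω) ⊔ W.W D ≤ S) (g : L)
        (conj_mem_range_of_sup (Subgroup.zpowers_le.2 x.2) hWS (fun a ha => by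
          obtain ⟨n, hn⟩ := Subgroup.mem_zpowers_iff.1 ha
          obtain rfl : a = x ^ n := Subtype.ext (by rw [← hn]; rfl)
          refine ⟨y ^ n, ?_⟩
          rw [map_zpow, map_zpow, hy, hx, Subgroup.coe_mul, Subgroup.coe_mul, Subgroup.coe_inv, conj_zpow])
          fun a ha => by
            obtain ⟨b, -, hbe⟩ := hgW a ha
            exact ⟨b, hbe.symm⟩)
      have hfW : IsIso F (W.W D) (W.W D) f := (hf.restrict le_sup_right).isIso_self fun a ha => by
        obtain ⟨b, hb, hbe⟩ := hgW ⟨a, hWS ha⟩ ha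
        have e := hfg ⟨a, hWS ha⟩ ⟨f a, hf.mem (Subgroup.mem_sup_right ha)⟩ (Subgroup.mem_sup_right ha) rfl
        rw [hbe] at e
        rw [show f a = (b : Ω) from congrArg Subtype.val (hi e)]
        exact hb
      obtain ⟨a, ha, hax⟩ := hN _ f hf hfW
        (Subgroup.zpowers_le.2 ⟨x.2, hSW x.2⟩)
      have hxm : (x : Ω) ∈ Subgroup.zpowers (x : Ω) ⊔ W.W D := Subgroup.mem_sup_left (Subgroup.mem_zpowers _)
      refine ⟨⟨ι ⟨a, ha.1⟩, hTN ((hmemT _).2 ⟨_, rfl⟩)⟩, (hmemT _).2 ⟨_, rfl⟩, Subtype.ext ?_⟩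
      have e := hfg x (⟨a, ha.1⟩ * x * ⟨a, ha.1⟩⁻¹) hxm (hax x (Subgroup.mem_zpowers _)).symm
      rw [map_mul, map_mul, map_inv, hx] at e
      exact e
  -- a group with a normal complement and self-centralizing core is a `p`-group
  obtain ⟨P₀, N, hNn, hNc⟩ := hnpc
  have hN1 : N = ⊥ := by
    have hcop : (Nat.card N).Coprime p := by
      rw [← hNc.index_eq_card]
      exact ((Fact.out : p.Prime).coprime_iff_not_dvd.2 P₀.not_dvd_index).symm
    have := Solv.pCore_characteristic p L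
    have h1 : N ≤ Subgroup.centralizer (pCore p L : Set L) := by
      refine fun n hn => Subgroup.mem_centralizer_iff.2 fun c hc => ?_
      have h2 : c * n * c⁻¹ * n⁻¹ ∈ N ⊓ pCore p L := by
        refine ⟨mul_mem (hNn.conj_mem n hn c) (N.inv_mem hn), ?_⟩
        rw [show c * n * c⁻¹ * n⁻¹ = c * (n * c⁻¹ * n⁻¹) by group]
        exact mul_mem hc ((inferInstance : (pCore p L).Normal).conj_mem _ ((pCore p L).inv_mem hc) n)
      have hbot : N ⊓ pCore p L = ⊥ := by
        rw [inf_comm]; exact Solv.inf_eq_bot_of_isPGroup (Solv.isPGroup_pCore p L) hcop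
      rw [hbot, Subgroup.mem_bot, mul_inv_eq_one, mul_inv_eq_iff_eq_mul] at h2
      exact h2
    have h2 : IsPGroup p N := (Solv.isPGroup_pCore p L).to_le (h1.trans hL.2.2.2)
    obtain ⟨k, hk⟩ := IsPGroup.iff_card.1 h2
    refine Subgroup.eq_bot_of_card_eq N ?_
    exact Nat.eq_one_of_dvd_coprimes (hcop.pow_right k) dvd_rfl (hk ▸ dvd_rfl)
  subst hN1
  have hPtop : (P₀ : Subgroup L) = ⊤ := Subgroup.isComplement'_bot_left.1 hNc
  have hTtop : (T : Subgroup L) = ⊤ := by
    refine Subgroup.eq_top_of_card_eq _ ?_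
    rw [T.card_eq_multiplicity, ← P₀.card_eq_multiplicity, hPtop, Subgroup.card_top]
  refine fusionSystem_ext fun A => hom_eq_of_isMor_iff A fun f => ⟨fun hf => ?_, fun hf => ?_⟩
  · obtain ⟨g, hg⟩ := realized_exists_conj hL.2.1 hf
    obtain ⟨a, rfl⟩ := (hmemT g).1 (hTtop ▸ Subgroup.mem_top g)
    refine isMor_inner.2 ⟨hf.le, a, a.2, fun x hx => ?_⟩
    have e := hg ⟨x, hf.le hx⟩ ⟨f x, hf.mem hx⟩ hx rfl
    rw [← map_inv, ← map_mul, ← map_mul] at e
    exact congrArg Subtype.val (hi e)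
  · obtain ⟨hA, a, ha, hax⟩ := isMor_inner.1 hf
    exact (isMor_conj (F := F) hA ha).congr hax

/-- An inner normalizer system of `W(D)` forces an inner system. -/
theorem eq_inner_of_functor (W : SubFunctor.{v} p) (hG : GroupCriterion p W) :
    ∀ (n : ℕ) {Ω : Type v} [Group Ω] {S : Subgroup Ω} [Finite S] {F : FusionSystem S} {D : Subgroup Ω},
      Nat.card S = n → IsPGroup p S → F.IsSaturated p → F.StronglyClosed D → D ≠ ⊥ →
      NormInner F (W.W D) → F = innerFusionSystem S := by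
  intro n
  induction n using Nat.strong_induction_on with
  | _ n ih =>
  intro Ω _ S _ F D hn hS hF hD hD1 hN
  subst hn
  by_contra hne
  have hDS := hD.1
  -- some normal subgroup has a noninner normalizer system
  have hex : ∃ Q : Subgroup Ω, Q ≤ S ∧ S ≤ Subgroup.normalizer (Q : Set Ω) ∧ Q ≠ ⊥ ∧ ¬ NormInner F Q := by
    obtain ⟨P₀, hP₀, hP₀1, hP₀p⟩ := exists_not_pGroup_aut hS hF hne
    obtain ⟨P, ⟨hPn, hP1, hPi⟩, hmax⟩ := ((setOf_le_finite S).subset
      (fun P (h : P ∈ {P | F.IsFullyNormalized P ∧ P ≠ ⊥ ∧ ¬ NormInner F P}) => h.1.1)).exists_maximalFor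
      (fun P => Nat.card (normalizerIn S P)) _
      ⟨P₀, hP₀, hP₀1, fun h => hP₀p (normInner_pGroup hS hP₀.1 h)⟩
    by_cases hT : normalizerIn S P = S
    · exact ⟨P, hPn.1, fun a ha => (hT.ge ha).2, hP1, hPi⟩
    exfalso
    set T := normalizerIn S P with hTdef
    have hTS : T < S := lt_of_le_of_ne normalizerIn_le hT
    have : Finite T := finite_of_le normalizerIn_le
    obtain ⟨E, hE⟩ := exists_normalizerSystem F hPn.1
    have hEs := normalizerSystem_saturated hS hF hPn hE
    have hPT : P ≤ T := le_normalizerIn hPn.1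
    have hDT : E.StronglyClosed (D ⊓ T) := by
      refine stronglyClosed_of_apply_mem inf_le_right fun R f hR hf x hx => ⟨?_, hf.mem hx⟩
      exact stronglyClosed_apply hD (isMor_of_normalizer hE hf) hx (hR hx).1
    have hDT1 : D ⊓ T ≠ ⊥ := by
      intro h
      refine hD1 ?_
      have hDn : (D.subgroupOf S).Normal := ⟨fun x hx a =>
        show ((a * x * a⁻¹ : S) : Ω) ∈ D from
          conj_mem_of_mem_normalizer (le_normalizer_of_stronglyClosed hD a.2) hx⟩
      have h2 : D.subgroupOf S ⊓ Subgroup.center S = ⊥ := by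
        refine eq_bot_iff.2 fun x hx => ?_
        have hxT : (x : Ω) ∈ D ⊓ T := ⟨hx.1, x.2, mem_normalizer_of_conj_mem hPn.1 fun y hy => by
          have e : (x : Ω) * y * (x : Ω)⁻¹ = y := by
            have := congrArg Subtype.val (Subgroup.mem_center_iff.1 hx.2 ⟨y, hPn.1 hy⟩)
            rw [show (x : Ω) * y = y * x from this.symm, mul_inv_cancel_right]
          rw [e]; exact hy⟩
        rw [h] at hxT
        exact Subtype.ext (Subgroup.mem_bot.1 hxT)
      by_contra hD0
      have hnt : Nontrivial (D.subgroupOf S) := by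
        refine (Subgroup.nontrivial_iff_ne_bot _).2 fun h0 => hD0 (eq_bot_iff.2 fun x hx => ?_)
        have hxm : (⟨x, hDS hx⟩ : S) ∈ D.subgroupOf S := hx
        rw [h0, Subgroup.mem_bot] at hxm
        exact congrArg Subtype.val hxm
      exact Local.inf_center_ne_bot hS (D.subgroupOf S) ((Subgroup.nontrivial_iff_ne_bot _).1 hnt) h2
    -- the functor subgroup of `D ∩ T`
    set V := W.W (D ⊓ T)
    have hVT : V ≤ T := (W.le _).trans inf_le_right
    have : Finite (D ⊓ T : Subgroup Ω) := finite_of_le (inf_le_right.trans normalizerIn_le)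
    have hV1 : V ≠ ⊥ := W.ne _ ((hS.to_le normalizerIn_le).to_le inf_le_right) hDT1
    have hNT : normalizerIn S T ≤ normalizerIn S V := fun a ha => by
      refine ⟨ha.1, W.mem_normalizer (inf_le_right.trans normalizerIn_le) ha.1 ?_⟩
      refine mem_normalizer_of_conj_mem (inf_le_right.trans normalizerIn_le) fun x hx =>
        ⟨conj_mem_of_mem_normalizer (le_normalizer_of_stronglyClosed hD ha.1) hx.1,
          conj_mem_of_mem_normalizer ha.2 hx.2⟩
    obtain ⟨U, hcU, hU⟩ := exists_fullyNormalized (F := F) (hVT.trans normalizerIn_le)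
    obtain ⟨u₀, k, hu₀, hk, hke, hkN⟩ := exists_iso_to_fullyNormalized hS hF hcU hU
    have hUinner : NormInner F U := by
      by_contra hUi
      have hU1 : U ≠ ⊥ := fun h => hV1 (eq_bot_iff.2 fun x hx => by
        have h1 := hu₀.apply_mem hx
        rw [h, Subgroup.mem_bot] at h1
        exact Subgroup.mem_bot.2 (hu₀.1.eq_one hx h1))
      have h1 := hmax ⟨hU, hU1, hUi⟩
      have h2 : Nat.card T < Nat.card (normalizerIn S U) := by
        refine lt_of_lt_of_le (card_lt_of_lt normalizerIn_le (normalizerIn_self_lt hS hTS)) ?_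
        have : Finite (normalizerIn S U) := finite_of_le normalizerIn_le
        refine le_trans (Nat.card_le_card_of_injective (fun a : normalizerIn S T =>
          (⟨k a, hkN a (hNT a.2)⟩ : normalizerIn S U)) fun a b hab => ?_) le_rfl
        exact Subtype.ext (hk.injOn (hNT a.2) (hNT b.2) (congrArg Subtype.val hab))
      exact absurd (h1 h2.le) (not_le.2 h2)
    -- the automizers in the normalizer of `V` in `E` are `p`-groups
    have hTV : normalizerIn T V = T := inf_eq_left.2 fun a ha =>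
      (hNT ⟨ha.1, Subgroup.le_normalizer ha⟩).2
    have hVfn : E.IsFullyNormalized V := ⟨hVT, fun R _ => by
      rw [hTV]
      exact Nat.card_le_card_of_injective (Subgroup.inclusion normalizerIn_le) (Subgroup.inclusion_injective _)⟩
    have hEV : NormInner E V := by
      obtain ⟨M, hM⟩ := exists_normalizerSystem E hVT
      have hMs := normalizerSystem_saturated (hS.to_le normalizerIn_le) hEs hVfn hM
      have : Finite (normalizerIn T V) := finite_of_le normalizerIn_le
      refine normInner_of_forall hVT fun M' hM' A => ?_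
      rw [show M' = M from fusionSystem_ext fun B => (hM' B).trans (hM B).symm]
      have hMi : M = innerFusionSystem (normalizerIn T V) := by
        refine eq_innerFusionSystem_of_autGroup_pGroup ((hS.to_le normalizerIn_le).to_le normalizerIn_le)
          hMs fun A hA => ?_
        have hAN : A ≤ normalizerIn S V := fun x hx =>
          ⟨normalizerIn_le (normalizerIn_le (hA hx)), (hA hx).2⟩
        have hkA := hk.isIso_image A hAN
        refine ((isPGroup_autInducedBy hS _).comap_of_injective (MulAut.congr hkA.toMulEquiv).toMonoidHom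
          (MulAut.congr hkA.toMulEquiv).injective).to_le fun α hα => Subgroup.mem_comap.2 ?_
        obtain ⟨-, -, g, hg, hge, hgV⟩ := (isMor_normalizer_iff hM).1 (isMor_of_mem_autGroup hA hα)
        have hgF := isMor_of_normalizer hE hg
        have hgVF : IsIso F V V g := ⟨isMor_of_normalizer hE hgV.1, hgV.2⟩
        have hsup : A ⊔ V ≤ normalizerIn S V := sup_le hAN (le_normalizerIn (hVT.trans normalizerIn_le))
        have hgN : ∀ x ∈ A ⊔ V, g x ∈ normalizerIn S V := fun x hx =>
          hgF.apply_mem_normalizerIn le_sup_right hgVF hx (hsup hx).2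
        have hks := (hk.restrict hsup).isIso
        obtain ⟨ki, hki, hkil, -⟩ := hks.exists_symm
        have hkV : IsIso F V U k := hu₀.congr hke
        set A' := hk.image A hAN
        have hle : A' ⊔ U ≤ (hk.restrict hsup).image (A ⊔ V) le_rfl := sup_le
          (fun y ⟨x, hx, he⟩ => ⟨x, Subgroup.mem_sup_left hx, he⟩) fun y hy => by
            obtain ⟨x, hx, he⟩ := hkV.exists_apply hy
            exact ⟨x, Subgroup.mem_sup_right hx, he⟩
        have hcomp : IsMor F (A' ⊔ U) (k ∘ g ∘ ki) :=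
          ((hki.1.comp hgF fun y hy => hki.apply_mem hy).comp hk fun y hy => hgN _ (hki.apply_mem hy)).restrict hle
        have hcU' : IsIso F U U (k ∘ g ∘ ki) := (hcomp.restrict le_sup_right).isIso_self fun y hy => by
          obtain ⟨x, hx, rfl⟩ := hkV.exists_apply hy
          show k (g (ki (k x))) ∈ U
          rw [hkil x (Subgroup.mem_sup_right hx)]
          exact hkV.apply_mem (hgVF.apply_mem hx)
        obtain ⟨a, ha, hax⟩ := hUinner A' _ hcomp hcU' (by
          rintro _ ⟨x, hx, rfl⟩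
          exact hkN x (hAN hx))
        have key : ∀ y : A', (((MulAut.congr hkA.toMulEquiv) α y : A') : Ω) = a * y * a⁻¹ := by
          intro y
          obtain ⟨x, rfl⟩ := hkA.toMulEquiv.surjective y
          show ((hkA.toMulEquiv (α (hkA.toMulEquiv.symm (hkA.toMulEquiv x))) : A') : Ω) = _
          rw [MulEquiv.symm_apply_apply, show ∀ z : A, ((hkA.toMulEquiv z : A') : Ω) = k z from hkA.toMulEquiv_apply,
            show ∀ z : A, ((hkA.toMulEquiv z : A') : Ω) = k z from hkA.toMulEquiv_apply,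
            ← hax _ ⟨x, x.2, rfl⟩]
          show k ((α x : A) : Ω) = k (g (ki (k x)))
          rw [hkil _ (Subgroup.mem_sup_left x.2), hge _ x.2, autFun_coe]
        exact mem_autInducedBy.2 ⟨a, ha.1, mem_normalizer_of_conj_mem hkA.le' fun y hy => by
          rw [← key ⟨y, hy⟩]; exact Subtype.prop _, key⟩
      rw [hMi]
    have hEi := ih (Nat.card T) (card_lt_of_lt le_rfl hTS) rfl (hS.to_le normalizerIn_le) hEs hDT hDT1 hEV
    exact hPi (normInner_of_forall hPn.1 fun N hN' B => by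
      rw [show N = E from fusionSystem_ext fun C => (hN' C).trans (hE C).symm, hEi])
  obtain ⟨Q, ⟨hQS, hSQ, hQ1, hQi⟩, hmax⟩ := ((setOf_le_finite S).subset
    (fun Q (h : Q ∈ {Q | Q ≤ S ∧ S ≤ Subgroup.normalizer (Q : Set Ω) ∧ Q ≠ ⊥ ∧ ¬ NormInner F Q}) =>
      h.1)).exists_maximalFor (fun Q : Subgroup Ω => Nat.card Q)
      {Q | Q ≤ S ∧ S ≤ Subgroup.normalizer (Q : Set Ω) ∧ Q ≠ ⊥ ∧ ¬ NormInner F Q} hex
  obtain ⟨E, hEs, hEF, hQn, hEiff⟩ := exists_normalizer_top hS hF hQS hSQ
  have hEne : E ≠ innerFusionSystem S := fun h => hQi fun A k hk hkQ hA => by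
    have hm : IsMor E A k := (hEiff A k).2 ⟨hA.trans normalizerIn_le, k, hk, fun _ _ => rfl, hkQ⟩
    rw [h] at hm
    obtain ⟨-, a, ha, hax⟩ := isMor_inner.1 hm
    exact ⟨a, ⟨ha, hSQ ha⟩, hax⟩
  have hED : E.StronglyClosed D := stronglyClosed_of_apply_mem hDS fun R f hR hf x hx =>
    stronglyClosed_apply hD (hf.of_le hEF) hx (hR hx)
  have hEN : NormInner E (W.W D) := fun A k hk hkW hA =>
    hN A k (hk.of_le hEF) (hkW.of_le hEF) hA
  obtain ⟨hR0c, hR0n⟩ := centric_sup_centralizer hS hF hQS hSQ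
  set R0 := Q ⊔ centralizerIn S Q
  by_cases hR0 : R0 = Q
  · exact hEne (inner_of_constrained hS hEs hQn (isCentric_of_sub hEF (hR0 ▸ hR0c)) W hG hED hD1 hEN)
  have hlt : Q < R0 := lt_of_le_of_ne le_sup_left (Ne.symm hR0)
  have hR0S : R0 ≤ S := hR0c.1
  have hR0i : NormInner F R0 := by
    by_contra h
    have h1 := hmax ⟨hR0S, hR0n, fun h0 => hQ1 (le_bot_iff.1 (h0 ▸ hlt.le)), h⟩
    have h2 := card_lt_of_lt hR0S hlt
    exact absurd (h1 h2.le) (not_le.2 h2)
  have hAutQ : IsPGroup p (E.autGroup Q) := by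
    refine (isPGroup_autInducedBy hS Q).to_le fun α hα => ?_
    have hαi := isIso_autFun hQS hα
    obtain ⟨k, hk, hke⟩ := exists_extension_centralizer
      (fullyNormalized_receptive hS hF ⟨hQS, fun R _ => by
        rw [show normalizerIn S Q = S from inf_eq_left.2 hSQ]
        exact Nat.card_le_card_of_injective (Subgroup.inclusion normalizerIn_le)
          (Subgroup.inclusion_injective _)⟩).2 (hαi.of_le hEF)
    have hkR : IsIso F R0 R0 k := hk.isIso_self fun x hx => hk.apply_mem_sup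
      (fun y hy => Subgroup.mem_sup_left (by rw [hke y hy]; exact autFun_mem _ hy))
      (fun y hy => Subgroup.mem_sup_right (hk.apply_mem_centralizerIn le_sup_left
        ((hαi.of_le hEF).congr hke) (Subgroup.mem_sup_right hy) hy)) hx
    obtain ⟨a, ha, hax⟩ := hR0i R0 k (by rw [sup_idem]; exact hk) hkR (le_normalizerIn hR0S)
    exact mem_autInducedBy.2 ⟨a, ha.1, hSQ ha.1, fun x => by
      rw [← autFun_coe, ← hke x x.2, hax _ (Subgroup.mem_sup_left x.2)]⟩
  -- `D` is not inside `Q`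
  by_cases hDQ : D ≤ Q
  · refine hEne (eq_of_le_of_le (le_iff_isMor.2 fun A f hf => ?_) (le_iff_isMor.2 fun A f hf => ?_))
    · obtain ⟨k, hk, hke, hkQ⟩ := (isNormal_iff.1 hQn).2 A f hf
      have hkD := stronglyClosed_isIso hED hk (hDQ.trans le_sup_right)
      have hkW := W.normalizer_le hDS hkD
      obtain ⟨a, ha, hax⟩ := hEN A k (hk.restrict (sup_le_sup_left ((W.le D).trans hDQ) A)) hkW
        fun x hx => ⟨hf.le hx, W.mem_normalizer hDS (hf.le hx) (le_normalizer_of_stronglyClosed hD (hf.le hx))⟩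
      exact isMor_inner.2 ⟨hf.le, a, ha.1, fun x hx => (hke x hx).symm.trans (hax x hx)⟩
    · obtain ⟨hA, a, ha, hax⟩ := isMor_inner.1 hf
      exact (isMor_conj (F := E) hA ha).congr hax
  -- pass to the factor system
  set Qs := Q.subgroupOf S
  have hQsn : Qs.Normal := ⟨fun x hx a =>
    show ((a * x * a⁻¹ : S) : Ω) ∈ Q from conj_mem_of_mem_normalizer (hSQ a.2) hx⟩
  let θ : S →* S ⧸ Qs := QuotientGroup.mk' Qs
  have hθ : ∀ s : S, θ s = 1 ↔ (s : Ω) ∈ Q := fun s => QuotientGroup.eq_one_iff s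
  have hθr : θ.range = (⊤ : Subgroup (S ⧸ Qs)) := MonoidHom.range_eq_top.2 (QuotientGroup.mk'_surjective _)
  have hQsc := normal_stronglyClosed hQn
  obtain ⟨E', hE'⟩ := exists_factor (F := E) hθ hθr hQsc
  have hE's := factor_saturated hS hEs hQsc hE'
  have hE'ne : E' ≠ innerFusionSystem ⊤ := fun h => hEne (inner_of_factor_inner hS hEs hQn hAutQ hE' h)
  have hlt' : Nat.card (⊤ : Subgroup (S ⧸ Qs)) < Nat.card S := by
    rw [Subgroup.card_top, Subgroup.card_eq_card_quotient_mul_card_subgroup Qs]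
    refine lt_mul_of_one_lt_right Nat.card_pos ((Subgroup.one_lt_card_iff_ne_bot _).2 fun h0 => hQ1 ?_)
    refine eq_bot_iff.2 fun x hx => ?_
    have hxm : (⟨x, hQS hx⟩ : S) ∈ Qs := hx
    rw [h0, Subgroup.mem_bot] at hxm
    exact congrArg Subtype.val hxm
  set D' := imageAlong θ D
  have hD'sc : E'.StronglyClosed D' := stronglyClosed_factor hED hE'
  have hD'1 : D' ≠ ⊥ := fun h0 => hDQ fun x hx => by
    have hm : qfun θ x ∈ D' := imageAlong_mem hDS hx
    rw [h0, Subgroup.mem_bot, qfun_apply θ (hDS hx), hθ] at hm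
    exact hm
  set U := preimageAlong θ (W.W D')
  have hQU : Q ≤ U := le_preimageAlong hQS hθ
  have hWtop : W.W D' ≤ (⊤ : Subgroup (S ⧸ Qs)) := le_top
  have : Finite (S ⧸ Qs) := inferInstance
  have hpQ : IsPGroup p (⊤ : Subgroup (S ⧸ Qs)) := (hS.to_quotient Qs).to_subgroup ⊤
  have hUS : U ≤ S := preimageAlong_le
  have hSU : S ≤ Subgroup.normalizer (U : Set Ω) := fun a ha =>
    mem_normalizer_of_conj_mem hUS fun x hx => by
      obtain ⟨hxS, hxW⟩ := mem_preimageAlong.1 hx
      refine mem_preimageAlong.2 ⟨mul_mem (mul_mem ha hxS) (inv_mem ha), ?_⟩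
      rw [conj_mem_preimage ha hxS]
      exact conj_mem_of_mem_normalizer (W.mem_normalizer (S := (⊤ : Subgroup (S ⧸ Qs))) le_top
        (Subgroup.mem_top _) (le_normalizer_of_stronglyClosed hD'sc (Subgroup.mem_top _))) hxW
  have hQU' : Q < U := by
    refine lt_of_le_of_ne hQU fun h => ?_
    refine W.ne D' ((hS.to_quotient Qs).to_subgroup D') hD'1 (eq_bot_iff.2 fun y hy => ?_)
    obtain ⟨x, hx, rfl⟩ := exists_qfun_eq hθr hWtop hy
    rw [Subgroup.mem_bot, qfun_apply θ (preimageAlong_le hx), hθ]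
    exact h.ge hx
  have hUi : NormInner F U := by
    by_contra h
    have h1 := hmax ⟨hUS, hSU, fun h0 => hQ1 (le_bot_iff.1 (h0 ▸ hQU)), h⟩
    have h2 := card_lt_of_lt hUS hQU'
    exact absurd (h1 h2.le) (not_le.2 h2)
  refine hE'ne (ih _ hlt' rfl hpQ hE's hD'sc hD'1 ?_)
  intro A k hk hkW hA
  obtain ⟨hAW, g, hg, hi⟩ := hk.factor_lift hE'
  set B := preimageAlong θ (A ⊔ W.W D')
  have hUB : U ≤ B := fun x hx =>
    mem_preimageAlong.2 ⟨hUS hx, Subgroup.mem_sup_right (mem_preimageAlong.1 hx).2⟩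
  have hgU : IsIso F U U g := ((hg.restrict hUB).of_le hEF).isIso_self fun x hx => by
    refine mem_preimageAlong.2 ⟨hg.mem (hUB hx), ?_⟩
    rw [← hi x (hUB hx)]
    exact hkW.apply_mem (mem_preimageAlong.1 hx).2
  obtain ⟨a, ha, hax⟩ := hUi B g (by rw [sup_eq_left.2 hUB]; exact hg.of_le hEF) hgU
    fun x hx => ⟨preimageAlong_le hx, hSU (preimageAlong_le hx)⟩
  refine ⟨θ ⟨a, ha.1⟩, ⟨Subgroup.mem_top _, ?_⟩, fun y hy => ?_⟩
  · exact W.mem_normalizer (S := (⊤ : Subgroup (S ⧸ Qs))) le_top (Subgroup.mem_top _)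
      (le_normalizer_of_stronglyClosed hD'sc (Subgroup.mem_top _))
  · obtain ⟨x, hx, rfl⟩ := exists_qfun_eq hθr le_top hy
    have hxB : x ∈ B := mem_preimageAlong.2 ⟨preimageAlong_le hx, Subgroup.mem_sup_left hy⟩
    rw [hi x hxB, hax x hxB, conj_mem_preimage ha.1 (preimageAlong_le hxB), qfun_apply θ ha.1]

end Cfsg.Agent.Fusion
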