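import Cfsg.Agent.Lib.Fusion.ZJStrong
import Cfsg.Agent.Lib.Fusion.FunctorReduction
import Cfsg.Agent.Lib.Solv.ThompsonComplement
import Cfsg.Agent.Lib.Solv.QuadraticStable

/-!
The functor `Z(J)` and the normal `p`-complement criterion for constrained groups with a strongly
closed subgroup, `p` odd.
-/

set_option autoImplicit false
set_option linter.style.haveILetI false
set_option linter.unusedSectionVars false

universe v

namespace Cfsg.Agent.Fusion.ZJC

open Cfsg Subgroup
open Cfsg.Agent.Solv
open scoped commutatorElement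

variable {G : Type v} [Group G] {p : ℕ}

theorem zj_eq_map (P : Subgroup G) [Finite P] :
    ZJ.zj 0 P = (ZJ.zj 0 (⊤ : Subgroup P)).map P.subtype := by
  rw [← ZJ.zj_map P.subtype P.subtype_injective, ← MonoidHom.range_eq_map, range_subtype]

theorem jf_top [Finite G] : ZJ.jf 0 (⊤ : Subgroup G) = thompsonSubgroupA G := by
  refine congrArg sSup (Set.ext fun A => ⟨fun h => ?_, fun h => ?_⟩)
  · exact ⟨h.2.1.1, fun B hB => h.2.2 B le_top ⟨hB, fun a _ => pow_zero a⟩⟩
  · exact ⟨le_top, ⟨h.1, fun a _ => pow_zero a⟩, fun B _ hB => h.2 B hB.1⟩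

theorem zj_top [Finite G] :
    ZJ.zj 0 (⊤ : Subgroup G) = thompsonSubgroupA G ⊓ centralizer (thompsonSubgroupA G : Set G) := by
  rw [← jf_top]
  apply le_antisymm
  · obtain ⟨A, hA⟩ := ZJ.exists_fam 0 (⊤ : Subgroup G)
    refine le_inf ((ZJ.zj_le_mem hA).trans (le_sSup hA)) ?_
    rw [le_centralizer_iff]
    refine sSup_le fun X hX a ha => mem_centralizer_iff.mpr fun z hz => ?_
    exact hX.2.1.comm (ZJ.zj_le_mem hX hz) ha
  · rintro x ⟨-, hxc⟩
    refine ⟨mem_top x, mem_sInf.mpr fun A hA => ?_⟩
    have hcen : ∀ a ∈ A, a * x = x * a := fun a ha => hxc a (le_sSup hA ha)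
    have hcl : A ⊔ zpowers x = Subgroup.closure ((A : Set G) ∪ {x}) := by
      rw [Subgroup.closure_union, Subgroup.closure_eq, zpowers_eq_closure]
    have hc : IsMulCommutative (A ⊔ zpowers x : Subgroup G) := hcl ▸ isMulCommutative_closure (by
      rintro u (hu | hu) v (hv | hv)
      · exact hA.2.1.comm hu hv
      · rw [Set.mem_singleton_iff] at hv; subst hv; exact hcen u hu
      · rw [Set.mem_singleton_iff] at hu; subst hu; exact (hcen v hv).symm
      · rw [Set.mem_singleton_iff] at hu hv; rw [hu, hv])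
    have heq := eq_of_le_of_card_ge (le_sup_left : A ≤ A ⊔ zpowers x)
      (hA.2.2 _ le_top ⟨hc, fun a _ => pow_zero a⟩)
    rw [heq]
    exact mem_sup_right (mem_zpowers x)

theorem centerThompsonAOf_eq (P : Subgroup G) [Finite P] : centerThompsonAOf P = ZJ.zj 0 P := by
  rw [zj_eq_map, zj_top, centerThompsonAOf, thompsonSubgroupAOf]
  refine le_antisymm ?_ ?_
  · rintro x ⟨⟨y, hy, rfl⟩, hx⟩
    exact ⟨y, ⟨hy, fun z hz => Subtype.ext (hx (z : G) ⟨z, hz, rfl⟩)⟩, rfl⟩
  · rintro _ ⟨y, ⟨hy, hc⟩, rfl⟩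
    refine ⟨⟨y, hy, rfl⟩, ?_⟩
    rintro _ ⟨z, hz, rfl⟩
    exact congrArg Subtype.val (hc z hz)

/-- The functor `Z(J)`. -/
def zjFunctor (p : ℕ) [Fact p.Prime] : SubFunctor.{v} p where
  W P := ZJ.zj 0 P
  le P := ZJ.zj_le 0 P
  ne := by
    intro G _ P _ hP h1 h0
    rw [zj_eq_map] at h0
    refine ZJ.zj_ne_bot_aux (Q := (⊤ : Subgroup P)) (hP.to_subgroup ⊤) (dvd_zero p) ?_
      ((map_eq_bot_iff_of_injective _ P.subtype_injective).1 h0)
    exact fun h => h1 (by
      rw [← range_subtype P, MonoidHom.range_eq_map, h, Subgroup.map_bot])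
  map := by
    intro G H _ _ P _ f hf
    have h : (ZJ.zj 0 P).subgroupOf P = ZJ.zj 0 (⊤ : Subgroup P) := by
      rw [zj_eq_map]
      exact comap_map_eq_self_of_injective P.subtype_injective _
    show ((ZJ.zj 0 P).subgroupOf P).map f = ZJ.zj 0 f.range
    rw [h, ← ZJ.zj_map f hf, MonoidHom.range_eq_map]

theorem zjFunctor_apply [Fact p.Prime] (P : Subgroup G) [Finite P] :
    (zjFunctor.{v} p).W P = centerThompsonAOf P :=
  (centerThompsonAOf_eq P).symm

/-- A constrained group with a normal `p`-complement is a `p`-group. -/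
theorem isPGroup_of_npc [Finite G] [Fact p.Prime] (hc : centralizer (pCore p G : Set G) ≤ pCore p G)
    (h : HasNormalPComplement p G) : IsPGroup p G := by
  have h1 : pPrimeCore p G = ⊥ := by
    have h2 : pPrimeCore p G ≤ centralizer (pCore p G : Set G) :=
      commutator_eq_bot_iff_le_centralizer.mp (by
        rw [commutator_comm]; exact commutator_pCore_pPrimeCore p)
    have h3 := pCore_inf_pPrimeCore (G := G) p
    rwa [inf_eq_right.mpr (h2.trans hc)] at h3
  obtain ⟨k, hk⟩ := hasNormalPComplement_iff_index.mp h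
  rw [h1, index_bot] at hk
  exact IsPGroup.of_card hk

theorem npc_of_closed_aux [Fact p.Prime] (hp2 : p ≠ 2) : ∀ (n : ℕ) (L : Type v) [Group L] [Finite L],
    Nat.card L ≤ n → ∀ (T : Sylow p L) (D : Subgroup L), IsStronglyClosed D (T : Subgroup L) →
    centralizer (pCore p L : Set L) ≤ pCore p L →
    HasNormalPComplement p (normalizer (ZJ.zj 0 D : Set L)) → HasNormalPComplement p L := by
  intro n
  induction n with
  | zero => intro L _ _ hn; exact absurd hn (not_le.mpr Nat.card_pos)
  | succ n ih =>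
    intro L _ _ hn T D hD hc hN
    by_contra hgoal
    -- constrainedness of the overgroups
    have hcH : ∀ H : Subgroup L, (T : Subgroup L) ≤ H →
        centralizer (pCore p H : Set H) ≤ pCore p H := by
      intro H hTH
      have hO : (pCore p L).subgroupOf H ≤ pCore p H :=
        le_pCore (IsPGroup.comap_subtype (isPGroup_pCore p L))
      intro x hx
      refine hO (hc fun y hy => ?_)
      exact congrArg Subtype.val (hx ⟨y, hTH (pCore_le_sylow T hy)⟩ (hO hy))
    have hTN : (T : Subgroup L) ≤ normalizer (ZJ.zj 0 D : Set L) := fun a ha =>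
      ZJ.normalizer_le_zj D (ZJ.le_normalizer_closed T hD ha)
    -- `T` is a maximal subgroup
    have hmax : ∀ H : Subgroup L, (T : Subgroup L) ≤ H → H ≠ ⊤ → H = T := by
      intro H hTH hH
      have hlt : Nat.card H < Nat.card L := lt_of_le_of_ne (card_le_card_group H) fun h =>
        hH (eq_top_of_card_eq H h)
      have hD' : IsStronglyClosed (D.subgroupOf H) ((T.subtype hTH : Sylow p H) : Subgroup H) :=
        ⟨fun x hx => hD.1 hx, fun x hx g hg => hD.2 (x : L) hx (g : L) hg⟩
      have hmap : (ZJ.zj 0 (D.subgroupOf H)).map H.subtype = ZJ.zj 0 D := by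
        rw [← ZJ.zj_map H.subtype H.subtype_injective, map_subgroupOf_eq_of_le (hD.1.trans hTH)]
      have hN' : HasNormalPComplement p (normalizer (ZJ.zj 0 (D.subgroupOf H) : Set H)) := by
        refine hasNormalPComplement_of_injective
          ((H.subtype.comp (normalizer (ZJ.zj 0 (D.subgroupOf H) : Set H)).subtype).codRestrict
            (normalizer (ZJ.zj 0 D : Set L))
            fun x => map_normalizer_le_of_eq H.subtype hmap ⟨x, x.2, rfl⟩) ?_ hN
        intro a b hab
        exact Subtype.ext (Subtype.ext (Subtype.ext_iff.mp hab :))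
      have hpH := isPGroup_of_npc (hcH H hTH) (ih H (by omega) (T.subtype hTH) _ hD' (hcH H hTH) hN')
      exact (T.is_maximal' hpH hTH)
    -- `Z(J(D))` is not normal
    have hnn : ¬ (ZJ.zj 0 D).Normal := fun h => hgoal (by
      rw [normalizer_eq_top (ZJ.zj 0 D)] at hN
      exact hasNormalPComplement_of_mulEquiv topEquiv hN)
    have hTne : ¬ (T : Subgroup L).Normal := fun h => hnn (by
      rw [← normalizer_eq_top_iff, eq_top_iff]
      intro g _
      have hg := ZJ.normalizer_closed_inf T hD ⊤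
      rw [inf_top_eq, inf_top_eq] at hg
      exact ZJ.normalizer_le_zj D (hg (by rw [normalizer_eq_top]; trivial)))
    -- the quotient modulo the core
    set O := pCore p L with hOdef
    set π := QuotientGroup.mk' O
    have hπ : Function.Surjective π := QuotientGroup.mk'_surjective O
    set T' := T.mapSurjective hπ with hT'
    have hT'eq : (T' : Subgroup (L ⧸ O)) = (T : Subgroup L).map π := rfl
    have hOT : O ≤ (T : Subgroup L) := pCore_le_sylow T
    have hcomap : ((T' : Subgroup (L ⧸ O))).comap π = T := by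
      rw [hT'eq, comap_map_eq, QuotientGroup.ker_mk', sup_eq_left.mpr hOT]
    have hmax' : ∀ X : Subgroup (L ⧸ O), (T' : Subgroup (L ⧸ O)) ≤ X → X ≠ ⊤ → X = T' := by
      intro X hX hXt
      have h := hmax (X.comap π) (hcomap.ge.trans (comap_mono hX)) fun h => hXt (by
        rw [← map_comap_eq_self_of_surjective hπ X, h, map_top_of_surjective π hπ])
      rw [← map_comap_eq_self_of_surjective hπ X, h, hT'eq]
    have hT'1 : (T' : Subgroup (L ⧸ O)) ≠ ⊥ := fun h => hTne (by
      rw [← hcomap, h]
      infer_instance)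
    have hcore : pCore p (L ⧸ O) = ⊥ := pCore_quotient_pCore p L
    have hpne : ∀ X : Subgroup (L ⧸ O), X ≤ (T' : Subgroup (L ⧸ O)) → X.Normal → X = ⊥ := by
      intro X hX hXn
      haveI := hXn
      exact le_bot_iff.mp ((le_pCore (T'.isPGroup'.to_le hX)).trans hcore.le)
    have hJT : thompsonSubgroupOf p (T' : Subgroup (L ⧸ O)) ≤ T' := map_subtype_le _
    have hJ1 : thompsonSubgroupOf p (T' : Subgroup (L ⧸ O)) ≠ ⊥ := fun h => by
      refine ZJ.zj_ne_bot_aux T'.isPGroup' (dvd_refl p) hT'1 (le_bot_iff.mp ?_)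
      rw [ZJ.zj_prime, ← h]
      exact map_mono ((closure_le _).mpr fun x hx => hx.1.1)
    have hJnp : HasNormalPComplement p
        (normalizer (thompsonSubgroupOf p (T' : Subgroup (L ⧸ O)) : Set (L ⧸ O))) := by
      have hle : (T' : Subgroup (L ⧸ O)) ≤
          normalizer (thompsonSubgroupOf p (T' : Subgroup (L ⧸ O)) : Set (L ⧸ O)) := by
        intro a ha
        rw [mem_normalizer_iff_map_conj_eq, thompsonOf_map _ _ (by
          rw [(MonoidHom.ker_eq_bot_iff _).mpr (MulAut.conj a).injective, inf_bot_eq]),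
          mem_normalizer_iff_map_conj_eq.mp (le_normalizer ha)]
      rw [hmax' _ hle fun h => hJ1 (hpne _ hJT (normalizer_eq_top_iff.mp h))]
      exact hasNormalPComplement_of_isPGroup T'.isPGroup'
    set Z := (T' : Subgroup (L ⧸ O)) ⊓ centralizer ((T' : Subgroup (L ⧸ O)) : Set (L ⧸ O)) with hZ
    have hZ1 : Z ≠ ⊥ := fun h => by
      haveI : Nontrivial (T' : Subgroup (L ⧸ O)) := (nontrivial_iff_ne_bot _).mpr hT'1
      haveI := T'.isPGroup'.center_nontrivial
      obtain ⟨z, hz⟩ := exists_ne (1 : center (T' : Subgroup (L ⧸ O)))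
      refine hz (Subtype.ext (Subtype.ext ?_))
      have hmem : ((z : (T' : Subgroup (L ⧸ O))) : L ⧸ O) ∈ Z :=
        ⟨(z : (T' : Subgroup (L ⧸ O))).2, fun y hy =>
          congrArg Subtype.val (mem_center_iff.mp z.2 ⟨y, hy⟩)⟩
      rw [h, mem_bot] at hmem
      exact hmem
    have hCnp : HasNormalPComplement p (centralizer (Z : Set (L ⧸ O))) := by
      have hle : (T' : Subgroup (L ⧸ O)) ≤ centralizer (Z : Set (L ⧸ O)) := fun a ha z hz =>
        (hz.2 a ha).symm
      rw [hmax' _ hle fun h => hZ1 (hpne _ inf_le_left ⟨fun z hz g => by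
        have hg : g ∈ centralizer (Z : Set (L ⧸ O)) := h ▸ mem_top g
        rwa [← hg z hz, mul_inv_cancel_right]⟩)]
      exact hasNormalPComplement_of_isPGroup T'.isPGroup'
    have hQ := thompson_complement hp2 T' hJnp hCnp
    -- the complement is abelian
    set K := pPrimeCore p (L ⧸ O) with hK
    have hKT := isComplement'_pPrimeCore hQ T'
    have hcardK : Nat.card K * Nat.card (T' : Subgroup (L ⧸ O)) = Nat.card (L ⧸ O) := hKT.card_mul
    have hKc : (Nat.card K).Coprime p := card_pPrimeCore_coprime p _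
    have hcop : (Nat.card (T' : Subgroup (L ⧸ O))).Coprime (Nat.card K) :=
      coprime_card_of_isPGroup T'.isPGroup' hKc
    have hK1 : Nat.card K ≠ 1 := fun h => hgoal (hasNormalPComplement_of_isPGroup (by
      have hidx : Nat.card (T' : Subgroup (L ⧸ O)) = Nat.card (L ⧸ O) := by
        rw [← hcardK, h, one_mul]
      have htop : (T : Subgroup L) = ⊤ := by
        rw [← hcomap, eq_top_of_card_eq _ hidx, comap_top]
      exact (htop ▸ T.isPGroup' : IsPGroup p (⊤ : Subgroup L)).of_equiv topEquiv))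
    obtain ⟨q, hq, hqK⟩ := Nat.exists_prime_and_dvd hK1
    haveI : Fact q.Prime := ⟨hq⟩
    haveI : K.Normal := inferInstance
    haveI : Group.IsNilpotent (T' : Subgroup (L ⧸ O)) := T'.isPGroup'.isNilpotent
    obtain ⟨Q, hQT⟩ := exists_invariant_sylow (T' : Subgroup (L ⧸ O)) K
      (by rw [normalizer_eq_top]; exact le_top) hcop (Or.inl inferInstance) q
    set Q' := (Q : Subgroup K).map K.subtype with hQ'
    have hsmall : ∀ X : Subgroup (L ⧸ O), X ≤ K → (T' : Subgroup (L ⧸ O)) ≤ normalizer (X : Set (L ⧸ O)) →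
        Nat.card X < Nat.card K → X = ⊥ := by
      intro X hXK hXn hlt
      have hd := card_sup_dvd X (T' : Subgroup (L ⧸ O)) hXn
      have hne : X ⊔ (T' : Subgroup (L ⧸ O)) ≠ ⊤ := fun h => by
        rw [h, card_top, ← hcardK] at hd
        have h' := Nat.le_of_dvd (Nat.mul_pos Nat.card_pos Nat.card_pos) hd
        exact absurd (Nat.le_of_mul_le_mul_right h' Nat.card_pos) (not_le.mpr hlt)
      have hle := (hmax' _ le_sup_right hne).le
      exact le_bot_iff.mp ((le_inf (le_sup_left.trans hle) hXK).trans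
        (inf_eq_bot_of_coprime_card _ _ hcop).le)
    have hQK : (Q : Subgroup K) = ⊤ := by
      by_contra h
      have hlt : Nat.card Q' < Nat.card K := by
        rw [hQ', card_map_subtype]
        exact lt_of_le_of_ne (card_le_card_group _) fun he => h (eq_top_of_card_eq _ he)
      have h0 := hsmall Q' (map_subtype_le _) hQT hlt
      rw [hQ', map_eq_bot_iff_of_injective _ K.subtype_injective] at h0
      exact Q.ne_bot_of_dvd_card hqK h0
    have hKq : IsPGroup q K :=
      (hQK ▸ Q.isPGroup' : IsPGroup q (⊤ : Subgroup K)).of_equiv topEquiv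
    have hKab : ⁅K, K⁆ = ⊥ := by
      haveI := hKq.isNilpotent
      haveI : Nontrivial K := Finite.one_lt_card_iff_nontrivial.mp
        (lt_of_le_of_ne Nat.card_pos (Ne.symm hK1))
      refine hsmall _ (commutator_le_left K K) (by rw [normalizer_eq_top]; exact le_top) ?_
      rw [← Subgroup.map_subtype_commutator, card_map_subtype]
      exact lt_of_le_of_ne (card_le_card_group _) fun he =>
        (Group.IsSolvable.commutator_lt_top_of_nontrivial K).ne (eq_top_of_card_eq _ he)
    -- no section `SL(2, p)`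
    have hfree : ¬ Quad.InvSL p L := fun h => by
      obtain ⟨U⟩ : Nonempty (Sylow 2 L) := inferInstance
      refine h.not_comm_sylow hp2 U ⟨⟨fun a b => Subtype.ext ?_⟩⟩
      have hUO : (U : Subgroup L) ⊓ O = ⊥ := by
        rw [inf_comm]
        refine inf_eq_bot_of_isPGroup (isPGroup_pCore p L) ?_
        obtain ⟨k, hk⟩ := IsPGroup.iff_card.mp U.isPGroup'
        rw [hk]
        exact Nat.Coprime.pow_left k ((Nat.coprime_primes Nat.prime_two (Fact.out : p.Prime)).mpr hp2.symm)
      have hUK : (U : Subgroup L).map π ≤ K := by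
        obtain ⟨k, hk⟩ := hasNormalPComplement_iff_index.mp hQ
        obtain ⟨j, hj⟩ := IsPGroup.iff_card.mp (U.isPGroup'.map π)
        refine le_of_coprime_index K ?_
        rw [hj, hk]
        exact Nat.Coprime.pow _ _ ((Nat.coprime_primes Nat.prime_two (Fact.out : p.Prime)).mpr hp2.symm)
      have h1 : ⁅(a : L), (b : L)⁆ ∈ (U : Subgroup L) ⊓ O := by
        refine ⟨?_, ?_⟩
        · show ⁅(a : L), (b : L)⁆ ∈ (U : Subgroup L)
          rw [commutatorElement_def]
          exact mul_mem (mul_mem (mul_mem a.2 b.2) (inv_mem a.2)) (inv_mem b.2)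
        · show ⁅(a : L), (b : L)⁆ ∈ O
          rw [← QuotientGroup.eq_one_iff]
          show π ⁅(a : L), (b : L)⁆ = 1
          rw [map_commutatorElement]
          have := commutator_mem_commutator (hUK ⟨a, a.2, rfl⟩) (hUK ⟨b, b.2, rfl⟩)
          rwa [hKab, mem_bot] at this
      rw [hUO, mem_bot, commutatorElement_eq_one_iff_mul_comm] at h1
      exact h1
    exact hnn (ZJ.zj_normal_of_closed hp2 (ZJ.stab_of_isPStableOn fun B _ hB =>
      Quad.isPStableOn_of_free hp2 hfree B hB) hc T hD)

theorem groupCriterion_zj [Fact p.Prime] (hp2 : p ≠ 2) :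
    GroupCriterion.{v} p (zjFunctor p) := fun L _ _ T D hDT _ hsc hc hN =>
  npc_of_closed_aux hp2 _ L le_rfl T D ⟨hDT, hsc⟩ hc hN

end Cfsg.Agent.Fusion.ZJC
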