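import Cfsg.Agent.Lib.Solv.ThompsonComplement
import Cfsg.Agent.Lib.Solv.QuadraticStable
import Cfsg.Agent.Lib.Fusion.ZJCriterion
import Cfsg.Agent.Lib.Fusion.OffenderEven
import Cfsg.Agent.Lib.Local.ClassTwoFactorization

/-!
Thompson's normal `p`-complement theorem for the abelian version of the Thompson subgroup, `p` odd or
the group free of `S₄`.
-/

set_option autoImplicit false
set_option linter.style.haveILetI false

namespace Cfsg.Agent.Fusion.ThompsonA

open Cfsg Subgroup
open Cfsg.Agent.Solv
open scoped Pointwise commutatorElement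

universe u

variable {p : ℕ}

theorem map_maxAbelian {H H' : Type*} [Group H] [Group H'] (g : H ≃* H') {A : Subgroup H}
    (hA : A ∈ maxAbelianSubgroups H) : A.map g.toMonoidHom ∈ maxAbelianSubgroups H' := by
  haveI := hA.1
  refine ⟨map_isMulCommutative _ _, fun B hB => ?_⟩
  haveI := hB
  rw [card_map_of_injective g.injective,
    ← card_map_of_injective (K := B) (f := g.symm.toMonoidHom) g.symm.injective]
  exact hA.2 _ (map_isMulCommutative _ _)

theorem thompsonA_map_equiv {G G' : Type*} [Group G] [Group G'] (e : G ≃* G') :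
    (thompsonSubgroupA G).map e.toMonoidHom = thompsonSubgroupA G' := by
  refine le_antisymm ?_ (sSup_le fun B hB => ?_)
  · rw [map_le_iff_le_comap]
    exact sSup_le fun A hA => map_le_iff_le_comap.mp (le_sSup (map_maxAbelian e hA))
  · intro x hx
    exact ⟨e.symm x, le_sSup (map_maxAbelian e.symm hB) ⟨x, hx, rfl⟩, e.apply_symm_apply x⟩

theorem thompsonAOf_map {G : Type*} {G' : Type*} [Group G] [Group G'] (f : G →* G') (P : Subgroup G)
    (h : P ⊓ f.ker = ⊥) : (thompsonSubgroupAOf P).map f = thompsonSubgroupAOf (P.map f) := by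
  have hinj : Function.Injective (f.subgroupMap P) := by
    rw [← MonoidHom.ker_eq_bot_iff, eq_bot_iff]
    intro x hx
    have : (x : G) ∈ P ⊓ f.ker := ⟨x.2, congrArg Subtype.val (hx : f.subgroupMap P x = 1)⟩
    rw [h, mem_bot] at this
    exact mem_bot.mpr (Subtype.ext this)
  let e := MulEquiv.ofBijective _ ⟨hinj, f.subgroupMap_surjective P⟩
  rw [thompsonSubgroupAOf, thompsonSubgroupAOf, ← thompsonA_map_equiv e, map_map, map_map]
  rfl

theorem exists_maxAbelian (G : Type*) [Group G] [Finite G] : ∃ A, A ∈ maxAbelianSubgroups G := by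
  obtain ⟨A, hA, hmax⟩ := Set.exists_max_image {A : Subgroup G | IsMulCommutative A}
    (fun A => Nat.card A) (Set.toFinite _) ⟨⊥, show IsMulCommutative (⊥ : Subgroup G) from inferInstance⟩
  exact ⟨A, hA, hmax⟩

theorem thompsonA_ne_bot {G : Type*} [Group G] (P : Subgroup G) [Finite P] (hP : P ≠ ⊥) :
    thompsonSubgroupAOf P ≠ ⊥ := by
  intro h
  rw [thompsonSubgroupAOf, map_eq_bot_iff_of_injective _ P.subtype_injective] at h
  obtain ⟨A, hA⟩ := exists_maxAbelian P
  obtain ⟨x, hx⟩ := (bot_or_exists_ne_one P).resolve_left hP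
  have hA0 : A = ⊥ := le_bot_iff.mp ((le_sSup hA).trans h.le)
  have h2 := hA.2 (zpowers (⟨x, hx.1⟩ : P)) inferInstance
  rw [hA0, card_bot, Nat.card_zpowers] at h2
  have h3 : orderOf (⟨x, hx.1⟩ : P) = 1 := le_antisymm h2 (orderOf_pos _)
  exact hx.2 (congrArg Subtype.val (orderOf_eq_one_iff.mp h3))

/-- A central element of `P` lies in every abelian subgroup of largest order. -/
theorem center_le_zj {G : Type*} [Group G] (P : Subgroup G) [Finite P] :
    P ⊓ centralizer (P : Set G) ≤ ZJ.zj 0 P := by
  rintro x ⟨hx, hxc⟩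
  rw [ZJC.zj_eq_map]
  refine ⟨⟨x, hx⟩, ?_, rfl⟩
  rw [ZJC.zj_top]
  have hc : ∀ y : P, y * ⟨x, hx⟩ = ⟨x, hx⟩ * y := fun y => Subtype.ext (hxc y y.2)
  obtain ⟨A, hA⟩ := exists_maxAbelian P
  refine ⟨le_sSup hA ?_, fun y _ => hc y⟩
  haveI := hA.1
  have hcl : A ⊔ zpowers (⟨x, hx⟩ : P) = Subgroup.closure ((A : Set P) ∪ {⟨x, hx⟩}) := by
    rw [Subgroup.closure_union, Subgroup.closure_eq, zpowers_eq_closure]
  have hab : IsMulCommutative (A ⊔ zpowers (⟨x, hx⟩ : P) : Subgroup P) :=
    hcl ▸ isMulCommutative_closure (by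
      rintro u (hu | hu) v (hv | hv)
      · exact congrArg Subtype.val (hA.1.is_comm.comm (⟨u, hu⟩ : A) ⟨v, hv⟩)
      · rw [Set.mem_singleton_iff] at hv; rw [hv]; exact hc u
      · rw [Set.mem_singleton_iff] at hu; rw [hu]; exact (hc v).symm
      · rw [Set.mem_singleton_iff] at hu hv; rw [hu, hv])
  have heq := eq_of_le_of_card_ge (le_sup_left : A ≤ A ⊔ zpowers (⟨x, hx⟩ : P)) (hA.2 _ hab)
  rw [heq]
  exact mem_sup_right (mem_zpowers _)

/-- The hypothesis. -/
def AHyp (p : ℕ) {G : Type*} [Group G] (P : Subgroup G) : Prop :=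
  HasNormalPComplement p (normalizer (thompsonSubgroupAOf P : Set G)) ∧
    HasNormalPComplement p (centralizer ((P ⊓ centralizer (P : Set G) : Subgroup G) : Set G))

theorem AHyp.comap [Fact p.Prime] {G : Type*} {H : Type*} [Group G] [Group H] [Finite G]
    [Finite H] {P : Subgroup G} (h : AHyp p P) (f : H →* G) (hf : Function.Injective f)
    {Q : Subgroup H} (hQ : Q.map f = P) : AHyp p Q := by
  have hk : Q ⊓ f.ker = ⊥ := by rw [(MonoidHom.ker_eq_bot_iff f).mpr hf, inf_bot_eq]
  constructor
  · refine hasNormalPComplement_of_injective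
      ((f.comp (normalizer (thompsonSubgroupAOf Q : Set H)).subtype).codRestrict
        (normalizer (thompsonSubgroupAOf P : Set G)) fun x => ?_) ?_ h.1
    · exact map_normalizer_le_of_eq f (by rw [thompsonAOf_map f Q hk, hQ]) (mem_map_of_mem f x.2)
    · exact fun x y hxy => Subtype.ext (hf (congrArg Subtype.val hxy))
  · refine hasNormalPComplement_of_injective
      ((f.comp (centralizer ((Q ⊓ centralizer (Q : Set H) : Subgroup H) : Set H)).subtype).codRestrict
        (centralizer ((P ⊓ centralizer (P : Set G) : Subgroup G) : Set G)) fun x => ?_) ?_ h.2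
    · rw [← hQ, ← center_map f Q hk]
      rintro _ ⟨z, hz, rfl⟩
      simp only [MonoidHom.coe_comp, Function.comp_apply, coe_subtype]
      rw [← map_mul, ← map_mul, x.2 z hz]
    · exact fun x y hxy => Subtype.ext (hf (congrArg Subtype.val hxy))

theorem AHyp.conj [Fact p.Prime] {G : Type*} [Group G] [Finite G] {P : Subgroup G}
    (h : AHyp p P) (g : G) : AHyp p (MulAut.conj g • P) := by
  refine h.comap (MulAut.conj g⁻¹).toMonoidHom (MulAut.conj g⁻¹).injective ?_
  change (MulAut.conj g⁻¹) • (MulAut.conj g • P) = P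
  rw [conj_smul_conj_smul, inv_mul_cancel, map_one, one_smul]

theorem free_subgroup {G : Type u} [Group G] (h : p ≠ 2 ∨ ¬ Involves (Equiv.Perm (Fin 4)) G)
    (H : Subgroup G) : p ≠ 2 ∨ ¬ Involves (Equiv.Perm (Fin 4)) H :=
  h.imp id fun h h' => h (Local.involves_of_injective H.subtype H.subtype_injective h')

theorem free_quotient {G : Type u} [Group G] (h : p ≠ 2 ∨ ¬ Involves (Equiv.Perm (Fin 4)) G)
    (N : Subgroup G) [N.Normal] : p ≠ 2 ∨ ¬ Involves (Equiv.Perm (Fin 4)) (G ⧸ N) :=
  h.imp id fun h h' => h (Local.involves_of_surjective _ (QuotientGroup.mk'_surjective N) h')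

theorem thompson_abelian_aux [hp : Fact p.Prime] : ∀ (n : ℕ) (G : Type u)
    [Group G] [Finite G], Nat.card G ≤ n → (p ≠ 2 ∨ ¬ Involves (Equiv.Perm (Fin 4)) G) →
    ∀ P : Sylow p G, AHyp p (P : Subgroup G) →
    HasNormalPComplement p G := by
  classical
  intro n
  induction n with
  | zero => intro G _ _ hn; exact absurd hn (not_le.mpr Nat.card_pos)
  | succ n ih =>
    intro G _ _ hn hfree P hyp
    by_contra hcontra
    set pf : Subgroup G → ℕ := fun X => (Nat.card X).factorization p with hpf
    have hPp : IsPGroup p ↥(P : Subgroup G) := P.isPGroup'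
    -- `O_{p'}(G) = 1`
    have hN1 : pPrimeCore p G = ⊥ := by
      by_contra hne
      set N := pPrimeCore p G with hN
      set f := QuotientGroup.mk' N with hf
      have hlt : Nat.card (G ⧸ N) < Nat.card G := by
        rw [card_eq_card_quotient_mul_card_subgroup N]
        exact lt_mul_of_one_lt_right Nat.card_pos ((one_lt_card_iff_ne_bot N).mpr hne)
      have hk : (P : Subgroup G) ⊓ f.ker = ⊥ := by
        rw [hf, QuotientGroup.ker_mk']
        exact inf_eq_bot_of_isPGroup hPp (card_pPrimeCore_coprime p G)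
      have hPb := Sylow.coe_mapSurjective (QuotientGroup.mk'_surjective N) P
      refine hcontra (hasNormalPComplement_of_normal_coprime N (card_pPrimeCore_coprime p G)
        (ih _ (by omega) (free_quotient hfree N) (P.mapSurjective (QuotientGroup.mk'_surjective N)) ?_))
      rw [hPb]
      have himg : ∀ X : Subgroup G, X ≤ (P : Subgroup G) →
          normalizer ((X.map f : Subgroup (G ⧸ N)) : Set (G ⧸ N)) ≤
            (normalizer (X : Set G)).map f := by
        intro X hX y hy
        obtain ⟨g, rfl⟩ := QuotientGroup.mk'_surjective N y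
        haveI := (hPp.to_le hX).isNilpotent
        obtain ⟨m, hm, hmg⟩ := exists_mul_of_map_eq N X inferInstance
          (coprime_card_of_isPGroup (hPp.to_le hX) (card_pPrimeCore_coprime p G)) hy
        refine ⟨_, hmg, ?_⟩
        have hfm : f m = 1 := (QuotientGroup.eq_one_iff m).mpr hm
        rw [map_mul, map_inv, hfm, inv_one, one_mul]
      constructor
      · rw [← thompsonAOf_map f _ hk]
        refine hasNormalPComplement_of_le (himg _ (map_subtype_le _)) ?_
        exact hasNormalPComplement_of_surjective _ (f.subgroupMap_surjective _) hyp.1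
      · rw [← center_map f _ hk]
        set Z := (P : Subgroup G) ⊓ centralizer ((P : Subgroup G) : Set G) with hZ
        refine hasNormalPComplement_of_le (L := (centralizer (Z : Set G)).map f) ?_
          (hasNormalPComplement_of_surjective _ (f.subgroupMap_surjective _) hyp.2)
        intro y hy
        obtain ⟨g, hg, rfl⟩ := himg Z inf_le_left (centralizer_le_normalizer _ hy)
        refine mem_map_of_mem f ?_
        intro z hz
        have h1 : ⁅z, g⁆ ∈ (P : Subgroup G) ⊓ f.ker := by
          refine ⟨(?_ : ⁅z, g⁆ ∈ (P : Subgroup G)), (?_ : ⁅z, g⁆ ∈ f.ker)⟩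
          · rw [commutatorElement_def]
            have := mul_mem (inf_le_left (b := centralizer ((P : Subgroup G) : Set G)) hz)
              (inf_le_left (b := centralizer ((P : Subgroup G) : Set G))
                ((mem_normalizer_iff.mp hg _).mp (inv_mem hz)))
            simpa [mul_assoc] using this
          · rw [MonoidHom.mem_ker, map_commutatorElement, commutatorElement_eq_one_iff_mul_comm]
            exact hy (f z) (mem_map_of_mem f hz)
        rw [hk, mem_bot, commutatorElement_eq_one_iff_mul_comm] at h1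
        exact h1
    -- proper subgroups containing a Sylow subgroup
    have hsub : ∀ H : Subgroup G, H ≠ ⊤ → ∀ P' : Sylow p G, (P' : Subgroup G) ≤ H →
        HasNormalPComplement p H := by
      intro H hH P' hle
      have hlt : Nat.card H < Nat.card G :=
        lt_of_le_of_ne (card_le_card_group _) fun h' => hH (eq_top_of_card_eq _ h')
      obtain ⟨g, hg⟩ := MulAction.exists_smul_eq G P P'
      refine ih H (by omega) (free_subgroup hfree H) (P'.subtype hle) ?_
      refine AHyp.comap (hyp.conj g) H.subtype H.subtype_injective ?_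
      rw [Sylow.coe_subtype, map_subgroupOf_eq_of_le hle, ← hg, Sylow.coe_subgroup_smul]
    -- `O_p(G) ≠ 1`
    have hU1 : pCore p G ≠ ⊥ := by
      intro hbot
      set S := {X : Subgroup G | IsPGroup p X ∧ X ≠ ⊥ ∧
        ¬ HasNormalPComplement p (normalizer (X : Set G))} with hS
      have hne : S.Nonempty := by
        by_contra hempty
        refine hcontra (hasNormalPComplement_iff_normalizer.mpr fun X hX hX1 => ?_)
        by_contra hX2
        exact hempty ⟨X, hX, hX1, hX2⟩
      obtain ⟨U, ⟨hUp, hU1, hUb⟩, hmax⟩ :=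
        Set.exists_max_image S (fun X => pf (normalizer (X : Set G))) (Set.toFinite _) hne
      set H := normalizer (U : Set G) with hH
      have hHne : H ≠ ⊤ := fun h => hU1 (le_bot_iff.mp (hbot ▸
        (haveI := normalizer_eq_top_iff.mp h; le_pCore hUp)))
      obtain ⟨R⟩ : Nonempty (Sylow p H) := inferInstance
      set R0 := (R : Subgroup H).map H.subtype with hR0
      have hR0p : IsPGroup p R0 := R.isPGroup'.map _
      obtain ⟨P', hP'⟩ := hR0p.exists_le_sylow
      have hUR : U ≤ R0 := by
        haveI : (U.subgroupOf H).Normal := normal_subgroupOf_of_le_normalizer le_rfl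
        exact (map_subgroupOf_eq_of_le le_normalizer).ge.trans
          (map_mono (IsPGroup.le_sylow_of_normal (N := U.subgroupOf H) hUp.comap_subtype R))
      rcases eq_or_lt_of_le hP' with heq | hlt
      · exact hUb (hsub H hHne P' (heq ▸ map_subtype_le _))
      have hnc : normalizer (R0.subgroupOf (P' : Subgroup G) : Set ↥(P' : Subgroup G)) ≠
          R0.subgroupOf (P' : Subgroup G) := by
        haveI := P'.isPGroup'.isNilpotent
        refine (Group.normalizerCondition_of_isNilpotent _ ?_).ne'
        rw [lt_top_iff_ne_top, ne_eq, subgroupOf_eq_top]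
        exact fun h => hlt.not_ge h
      set R1 := (P' : Subgroup G) ⊓ normalizer (R0 : Set G) with hR1
      have hR1lt : R0 < R1 := by
        refine lt_of_le_of_ne (le_inf hP' le_normalizer) fun h => hnc ?_
        rw [← subgroupOf_normalizer_eq hP']
        conv_rhs => rw [h, hR1, inf_subgroupOf_left]
      have hRc : pf H = pf R0 := by
        simp only [hpf]
        rw [hR0, card_map_subtype, R.card_eq_multiplicity, hp.out.factorization_pow,
          Finsupp.single_eq_same]
      have hbig : ∀ X : Subgroup G, IsPGroup p X → X ≠ ⊥ →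
          normalizer (R0 : Set G) ≤ normalizer (X : Set G) →
          HasNormalPComplement p (normalizer (X : Set G)) := by
        intro X hXp hX1 hle
        by_contra hb
        have h1 : pf (normalizer (X : Set G)) ≤ pf H := hmax X ⟨hXp, hX1, hb⟩
        obtain ⟨k, hk⟩ := IsPGroup.iff_card.mp (P'.isPGroup'.to_le (inf_le_left : R1 ≤ P'))
        obtain ⟨j, hj⟩ := IsPGroup.iff_card.mp hR0p
        have h2 : k ≤ pf (normalizer (X : Set G)) :=
          (hp.out.pow_dvd_iff_le_factorization Nat.card_pos.ne').mp
            (hk ▸ card_dvd_of_le ((inf_le_right : R1 ≤ normalizer (R0 : Set G)).trans hle))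
        have h3 : Nat.card R0 < Nat.card R1 :=
          lt_of_le_of_ne (card_le_of_le hR1lt.le)
            fun h => hR1lt.ne (eq_of_le_of_card_ge hR1lt.le h.ge)
        rw [hk, hj, Nat.pow_lt_pow_iff_right hp.out.one_lt] at h3
        have h4 : pf R0 = j := by
          simp only [hpf]
          rw [hj, hp.out.factorization_pow, Finsupp.single_eq_same]
        omega
      have hR0ne : R0 ≠ ⊥ := fun h => hU1 (le_bot_iff.mp (h ▸ hUR))
      have hRdvd : p ∣ Nat.card R0 := by
        obtain ⟨j, hj⟩ := IsPGroup.iff_card.mp hR0p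
        rcases j with _ | j
        · exact absurd (Subgroup.card_eq_one.mp (by rw [hj, pow_zero])) hR0ne
        · rw [hj]; exact dvd_pow_self p j.succ_ne_zero
      set JR := thompsonSubgroupAOf R0 with hJR
      set ZR := R0 ⊓ centralizer (R0 : Set G) with hZR
      have hchar : ∀ g ∈ normalizer (R0 : Set G),
          MulAut.conj g • JR = JR ∧ MulAut.conj g • ZR = ZR := by
        intro g hg
        have hk : R0 ⊓ (MulAut.conj g).toMonoidHom.ker = ⊥ := by
          rw [(MonoidHom.ker_eq_bot_iff _).mpr (MulAut.conj g).injective, inf_bot_eq]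
        have he : R0.map (MulAut.conj g).toMonoidHom = R0 :=
          conj_smul_eq_self_of_mem_normalizer hg
        constructor
        · change JR.map (MulAut.conj g).toMonoidHom = JR
          rw [hJR, thompsonAOf_map _ _ hk, he]
        · change ZR.map (MulAut.conj g).toMonoidHom = ZR
          rw [hZR, center_map _ _ hk, he]
      have hJ : HasNormalPComplement p (normalizer (JR : Set G)) := by
        refine hbig _ (hR0p.to_le (map_subtype_le _)) (fun h => ?_)
          fun g hg => mem_normalizer_of_conj_le (hchar g hg).1.le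
        exact thompsonA_ne_bot R0 hR0ne h
      have hZ : HasNormalPComplement p (normalizer (ZR : Set G)) := by
        refine hbig _ (hR0p.to_le inf_le_left) (fun h => ?_)
          fun g hg => mem_normalizer_of_conj_le (hchar g hg).2.le
        haveI : Nontrivial R0 := (nontrivial_iff_ne_bot _).mpr hR0ne
        haveI : Nontrivial (center R0) := IsPGroup.center_nontrivial hR0p
        obtain ⟨z, hz⟩ := exists_ne (1 : center R0)
        refine hz (Subtype.ext (Subtype.ext ?_))
        rw [OneMemClass.coe_one, OneMemClass.coe_one, ← mem_bot, ← h]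
        exact ⟨(z : R0).2, fun w hw => congrArg Subtype.val (mem_center_iff.mp z.2 ⟨w, hw⟩)⟩
      refine hUb (ih H ?_ (free_subgroup hfree H) R ?_)
      · have : Nat.card H < Nat.card G :=
          lt_of_le_of_ne (card_le_card_group _) fun h' => hHne (eq_top_of_card_eq _ h')
        omega
      refine AHyp.comap (P := R0) ⟨hJ, ?_⟩ H.subtype H.subtype_injective rfl
      exact hasNormalPComplement_of_le (centralizer_le_normalizer _) hZ
    set U := pCore p G with hUdef
    have hUP : U ≤ (P : Subgroup G) := pCore_le_sylow P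
    set f := QuotientGroup.mk' U with hf
    have hf1 : ∀ x, f x = 1 ↔ x ∈ U := fun x => QuotientGroup.eq_one_iff x
    set Pb := P.mapSurjective (QuotientGroup.mk'_surjective U) with hPbdef
    have hPb : (Pb : Subgroup (G ⧸ U)) = (P : Subgroup G).map f :=
      Sylow.coe_mapSurjective _ _
    have hOp : pCore p (G ⧸ U) = ⊥ := pCore_quotient_pCore p G
    have hPU : ¬ (P : Subgroup G) ≤ U := by
      intro h
      have heq : (P : Subgroup G) = U := le_antisymm h hUP
      refine hcontra (hasNormalPComplement_of_injective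
        ((MonoidHom.id G).codRestrict (normalizer (thompsonSubgroupAOf (P : Subgroup G) : Set G))
          fun g => mem_normalizer_of_conj_le (le_of_eq ?_)) (fun a b hab => congrArg Subtype.val hab)
        hyp.1)
      change (thompsonSubgroupAOf (P : Subgroup G)).map (MulAut.conj g).toMonoidHom = _
      rw [thompsonAOf_map _ _ (by
        rw [(MonoidHom.ker_eq_bot_iff _).mpr (MulAut.conj g).injective, inf_bot_eq]), heq]
      congr 1
      exact conj_smul_eq_self_of_mem_normalizer (le_normalizer_of_normal (K := ⊤) (mem_top g))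
    -- preimages of proper subgroups containing the image of `P`
    have hpre : ∀ Y : Subgroup (G ⧸ U), (Pb : Subgroup (G ⧸ U)) ≤ Y → Y ≠ ⊤ →
        HasNormalPComplement p ↥(Y.comap f) := by
      intro Y hY hYtop
      refine hsub _ (fun h => hYtop ?_) P fun x hx => hY (hPb ▸ mem_map_of_mem f hx)
      rw [← map_comap_eq_self_of_surjective (QuotientGroup.mk'_surjective U) Y, ← hf, h,
        map_top_of_surjective _ (QuotientGroup.mk'_surjective U)]
    have hpre' : ∀ Y : Subgroup (G ⧸ U), (Pb : Subgroup (G ⧸ U)) ≤ Y → Y ≠ ⊤ →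
        HasNormalPComplement p Y := fun Y hY hYtop =>
      hasNormalPComplement_of_surjective (f.subgroupComap Y)
        (fun ⟨y, hy⟩ => by
          obtain ⟨x, rfl⟩ := QuotientGroup.mk'_surjective U y
          exact ⟨⟨x, hy⟩, rfl⟩) (hpre Y hY hYtop)
    have hPb1 : (Pb : Subgroup (G ⧸ U)) ≠ ⊥ := by
      rw [hPb, ne_eq, Subgroup.map_eq_bot_iff, hf, QuotientGroup.ker_mk']
      exact hPU
    have hQnpc : HasNormalPComplement p (G ⧸ U) := by
      have hlt : Nat.card (G ⧸ U) < Nat.card G := by
        rw [card_eq_card_quotient_mul_card_subgroup U]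
        exact lt_mul_of_one_lt_right Nat.card_pos ((one_lt_card_iff_ne_bot U).mpr hU1)
      refine ih _ (by omega) (free_quotient hfree U) Pb ⟨?_, ?_⟩
      · refine hpre' _ ?_ fun h => ?_
        · intro x hx
          refine mem_normalizer_of_conj_le (le_of_eq ?_)
          change (thompsonSubgroupAOf (Pb : Subgroup (G ⧸ U))).map (MulAut.conj x).toMonoidHom = _
          rw [thompsonAOf_map _ _ (by
            rw [(MonoidHom.ker_eq_bot_iff _).mpr (MulAut.conj x).injective, inf_bot_eq])]
          congr 1
          exact conj_smul_eq_self_of_mem hx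
        · haveI := normalizer_eq_top_iff.mp h
          have h1 := le_pCore (Pb.isPGroup'.to_le
            (map_subtype_le (thompsonSubgroupA ↥(Pb : Subgroup (G ⧸ U)))) :
              IsPGroup p ↥(thompsonSubgroupAOf (Pb : Subgroup (G ⧸ U))))
          rw [hOp, le_bot_iff] at h1
          exact thompsonA_ne_bot _ hPb1 h1
      · refine hpre' _ (le_centralizer_iff.mp inf_le_right) fun h => ?_
        set Zb := (Pb : Subgroup (G ⧸ U)) ⊓ centralizer ((Pb : Subgroup (G ⧸ U)) : Set (G ⧸ U))
        haveI : Zb.Normal := normalizer_eq_top_iff.mp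
          (top_le_iff.mp (h ▸ centralizer_le_normalizer (Zb : Set (G ⧸ U))))
        have h1 := le_pCore (N := Zb) (Pb.isPGroup'.to_le inf_le_left)
        rw [hOp, le_bot_iff] at h1
        haveI : Nontrivial ↥(Pb : Subgroup (G ⧸ U)) := (nontrivial_iff_ne_bot _).mpr hPb1
        haveI : Nontrivial (center ↥(Pb : Subgroup (G ⧸ U))) :=
          IsPGroup.center_nontrivial Pb.isPGroup'
        obtain ⟨z, hz⟩ := exists_ne (1 : center ↥(Pb : Subgroup (G ⧸ U)))
        refine hz (Subtype.ext (Subtype.ext ?_))
        rw [OneMemClass.coe_one, OneMemClass.coe_one, ← mem_bot, ← h1]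
        exact ⟨(z : ↥(Pb : Subgroup (G ⧸ U))).2,
          fun w hw => congrArg Subtype.val (mem_center_iff.mp z.2 ⟨w, hw⟩)⟩
    -- `C(U) ≤ U`
    have hsolG : IsPSolvable p G :=
      isPSolvable_of_extension U (isPSolvable_of_isPGroup (isPGroup_pCore p G))
        (isPSolvable_of_extension (pPrimeCore p (G ⧸ U))
          (isPSolvable_of_coprime (card_pPrimeCore_coprime p _))
          (isPSolvable_of_isPGroup (by
            obtain ⟨k, hk⟩ := hasNormalPComplement_iff_index.mp hQnpc
            exact IsPGroup.of_card (n := k) (by rw [← index_eq_card, hk]))))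
    have hCU : centralizer (U : Set G) ≤ U := centralizer_pCore_le_of_isPSolvable hsolG hN1
    have hkill : ∀ Y : Subgroup (G ⧸ U), (Pb : Subgroup (G ⧸ U)) ≤ Y → Y ≠ ⊤ →
        ∀ x ∈ Y, (orderOf x).Coprime p → x = 1 := by
      intro Y hY hYtop x hx hxc
      obtain ⟨y, rfl⟩ := QuotientGroup.mk'_surjective U x
      set X := Y.comap f with hX
      have hUX : U ≤ X := fun u hu => by
        rw [hX, mem_comap, (hf1 u).mpr hu]; exact one_mem _
      obtain ⟨k, hk⟩ := hasNormalPComplement_iff_index.mp (hpre Y hY hYtop)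
      haveI : (U.subgroupOf X).Normal := inferInstance
      set N := pPrimeCore p X with hN
      have hNU : N.map X.subtype ≤ U := by
        refine le_trans ?_ hCU
        rintro _ ⟨m, hm, rfl⟩ u hu
        have hd : U.subgroupOf X ⊓ N = ⊥ :=
          inf_eq_bot_of_isPGroup (isPGroup_pCore p G).comap_subtype (card_pPrimeCore_coprime p _)
        have h1 : ⁅(⟨u, hUX hu⟩ : X), m⁆ ∈ U.subgroupOf X ⊓ N :=
          commutator_le_inf _ _ (commutator_mem_commutator hu hm)
        rw [hd, mem_bot, commutatorElement_eq_one_iff_mul_comm] at h1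
        exact congrArg Subtype.val h1
      have h2 : (⟨y, hx⟩ : X) ^ N.index ∈ N := Subgroup.pow_index_mem N _
      have h3 : y ^ N.index ∈ U := hNU ⟨_, h2, rfl⟩
      have h4 : f y ^ N.index = 1 := by rw [← map_pow]; exact (hf1 _).mpr h3
      rw [hk] at h4
      rw [← orderOf_eq_one_iff]
      exact Nat.eq_one_of_dvd_coprimes (hxc.pow_right k) dvd_rfl (orderOf_dvd_of_pow_eq_one h4)
    -- the complement `K` in the quotient is an abelian group on which `P` acts faithfully
    set K := pPrimeCore p (G ⧸ U) with hK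
    have hKcop : (Nat.card K).Coprime p := card_pPrimeCore_coprime p _
    have hcomp := isComplement'_pPrimeCore hQnpc Pb
    have hPn : (Pb : Subgroup (G ⧸ U)) ≤ normalizer (K : Set (G ⧸ U)) := le_normalizer_of_normal
    haveI := Pb.isPGroup'.isNilpotent
    have hKne : K ≠ ⊥ := fun h => hPb1 (le_bot_iff.mp (hOp ▸ (by
      have htop : (Pb : Subgroup (G ⧸ U)) = ⊤ := by
        rw [← hcomp.sup_eq_top, ← hK, h, bot_sup_eq]
      haveI : (Pb : Subgroup (G ⧸ U)).Normal := htop ▸ inferInstance
      exact le_pCore Pb.isPGroup')))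
    obtain ⟨q, hq, hqd⟩ :=
      Nat.exists_prime_and_dvd (n := Nat.card K) fun h => hKne (Subgroup.card_eq_one.mp h)
    haveI := Fact.mk hq
    have hcopPK : (Nat.card ↥(Pb : Subgroup (G ⧸ U))).Coprime (Nat.card K) :=
      coprime_card_of_isPGroup Pb.isPGroup' hKcop
    obtain ⟨Q, hQ⟩ := exists_invariant_sylow _ K hPn hcopPK (Or.inl inferInstance) q
    set Q1 := (Q : Subgroup K).map K.subtype with hQ1
    have hQ1top : Q1 ⊔ (Pb : Subgroup (G ⧸ U)) = ⊤ := by
      by_contra htop
      obtain ⟨x, hx⟩ := exists_prime_orderOf_dvd_card' q (Q.dvd_card_of_dvd_card hqd)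
      have h1 := hkill _ le_sup_right htop ((x : K) : G ⧸ U)
        (mem_sup_left (mem_map_of_mem _ x.2)) (by
          rw [Subgroup.orderOf_coe, Subgroup.orderOf_coe, hx]
          exact hKcop.coprime_dvd_left hqd)
      rw [show x = 1 from Subtype.ext (Subtype.ext h1), orderOf_one] at hx
      exact hq.one_lt.ne hx
    have hKQ : K = Q1 := by
      refine (eq_of_le_of_card_ge (map_subtype_le _) (Nat.le_of_dvd Nat.card_pos ?_)).symm
      have h1 := card_sup_dvd Q1 (Pb : Subgroup (G ⧸ U)) hQ
      rw [hQ1top, card_top, ← hcomp.card_mul] at h1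
      exact Nat.dvd_of_mul_dvd_mul_right Nat.card_pos h1
    have hKq : IsPGroup q K := hKQ ▸ Q.isPGroup'.map _
    have hKab : ⁅K, K⁆ = ⊥ := by
      have hlt : ⁅K, K⁆ < K :=
        commutator_lt_of_nilpotent hKq.isNilpotent le_rfl le_normalizer hKne
      have htop : ⁅K, K⁆ ⊔ (Pb : Subgroup (G ⧸ U)) ≠ ⊤ := fun h => by
        have h1 := card_sup_dvd_of_normal ⁅K, K⁆ (Pb : Subgroup (G ⧸ U))
        rw [h, card_top, ← hcomp.card_mul] at h1
        have h2 := Nat.le_of_dvd Nat.card_pos (Nat.dvd_of_mul_dvd_mul_right Nat.card_pos h1)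
        exact hlt.ne (eq_of_le_of_card_ge hlt.le h2)
      refine (eq_bot_iff_forall _).mpr fun x hx => hkill _ le_sup_right htop x (mem_sup_left hx) ?_
      exact hKcop.coprime_dvd_left (K.orderOf_dvd_natCard (hlt.le hx))
    haveI : IsMulCommutative K := Subgroup.commutator_self_eq_bot_iff.mp hKab
    have hfaith : (Pb : Subgroup (G ⧸ U)) ⊓ centralizer (K : Set (G ⧸ U)) = ⊥ := by
      set C := (Pb : Subgroup (G ⧸ U)) ⊓ centralizer (K : Set (G ⧸ U)) with hC
      haveI : C.Normal := by
        refine normalizer_eq_top_iff.mp (top_le_iff.mp ?_)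
        rw [← hcomp.sup_eq_top]
        exact sup_le (le_trans (le_centralizer_iff.mp inf_le_right) (centralizer_le_normalizer _))
          (le_normalizer_inf le_normalizer
            le_normalizer_of_normal)
      exact le_bot_iff.mp (hOp ▸ le_pCore (Pb.isPGroup'.to_le inf_le_left))
    -- an abelian subgroup of largest order of `P` outside `U`
    obtain ⟨A0, hA0, hA0U⟩ : ∃ A0 ∈ maxAbelianSubgroups ↥(P : Subgroup G),
        ¬ A0.map (P : Subgroup G).subtype ≤ U := by
      by_contra! hall
      refine hcontra (hasNormalPComplement_of_injective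
        ((MonoidHom.id G).codRestrict
          (normalizer (thompsonSubgroupAOf (P : Subgroup G) : Set G))
          fun g => mem_normalizer_of_conj_le ?_) (fun a b hab => congrArg Subtype.val hab) hyp.1)
      change (thompsonSubgroupAOf (P : Subgroup G)).map (MulAut.conj g).toMonoidHom ≤ _
      rw [thompsonSubgroupAOf, map_map, map_le_iff_le_comap]
      refine sSup_le fun B hB => map_le_iff_le_comap.mp ?_
      rw [← map_map]
      set B' := (B.map (P : Subgroup G).subtype).map (MulAut.conj g).toMonoidHom
      have hBU : B' ≤ U := by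
        refine (map_mono (hall B hB)).trans ?_
        exact (conj_smul_eq_self_of_mem_normalizer
          (le_normalizer_of_normal (K := ⊤) (mem_top g))).le
      rw [← map_subgroupOf_eq_of_le (hBU.trans hUP)]
      haveI := hB.1
      haveI : IsMulCommutative B' := map_isMulCommutative _ _
      refine map_mono (le_sSup ⟨subgroupOf_isMulCommutative _ _, fun C hC => ?_⟩)
      rw [card_subgroupOf (hBU.trans hUP),
        card_map_of_injective (K := B.map (P : Subgroup G).subtype)
          (f := (MulAut.conj g).toMonoidHom) (MulAut.conj g).injective, card_map_subtype]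
      exact hB.2 C hC
    set A := A0.map (P : Subgroup G).subtype with hAdef
    have hAP : A ≤ (P : Subgroup G) := map_subtype_le A0
    haveI hAab : IsMulCommutative A := by
      haveI := hA0.1
      exact map_isMulCommutative _ _
    have hAmax : ∀ B : Subgroup G, B ≤ (P : Subgroup G) → IsMulCommutative B →
        Nat.card B ≤ Nat.card A := fun B hBP hB => by
      rw [hAdef, card_map_subtype, ← card_subgroupOf hBP]
      haveI := hB
      exact hA0.2 _ (subgroupOf_isMulCommutative _ _)
    set ZP := (P : Subgroup G) ⊓ centralizer ((P : Subgroup G) : Set G) with hZP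
    by_cases hp2 : p = 2
    swap
    · -- `Z(J)` is normal
      have hfreeSL : ¬ Quad.InvSL p G := fun h => by
        obtain ⟨T⟩ : Nonempty (Sylow 2 G) := inferInstance
        refine h.not_comm_sylow hp2 T ⟨⟨fun a b => Subtype.ext ?_⟩⟩
        have hTU : (T : Subgroup G) ⊓ U = ⊥ := by
          rw [inf_comm]
          refine inf_eq_bot_of_isPGroup (isPGroup_pCore p G) ?_
          obtain ⟨k, hk⟩ := IsPGroup.iff_card.mp T.isPGroup'
          rw [hk]
          exact Nat.Coprime.pow_left k ((Nat.coprime_primes Nat.prime_two hp.out).mpr (Ne.symm hp2))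
        have hTK : (T : Subgroup G).map f ≤ K := by
          obtain ⟨k, hk⟩ := hasNormalPComplement_iff_index.mp hQnpc
          obtain ⟨j, hj⟩ := IsPGroup.iff_card.mp (T.isPGroup'.map f)
          refine le_of_coprime_index K ?_
          rw [hj, hk]
          exact Nat.Coprime.pow _ _ ((Nat.coprime_primes Nat.prime_two hp.out).mpr (Ne.symm hp2))
        have h1 : ⁅(a : G), (b : G)⁆ ∈ (T : Subgroup G) ⊓ U := by
          refine ⟨?_, ?_⟩
          · show ⁅(a : G), (b : G)⁆ ∈ (T : Subgroup G)
            rw [commutatorElement_def]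
            exact mul_mem (mul_mem (mul_mem a.2 b.2) (inv_mem a.2)) (inv_mem b.2)
          · show ⁅(a : G), (b : G)⁆ ∈ U
            rw [← hf1, map_commutatorElement]
            have := commutator_mem_commutator (hTK ⟨a, a.2, rfl⟩) (hTK ⟨b, b.2, rfl⟩)
            rwa [hKab, mem_bot] at this
        rw [hTU, mem_bot, commutatorElement_eq_one_iff_mul_comm] at h1
        exact h1
      haveI hZn : (ZJ.zj 0 (P : Subgroup G)).Normal :=
        ZJ.zj_normal hp2 (ZJ.stab_of_isPStableOn fun B _ hB => Quad.isPStableOn_of_free hp2 hfreeSL B hB)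
          hCU P
      set C := centralizer (ZJ.zj 0 (P : Subgroup G) : Set G)
      have hCC : C ≤ centralizer (ZP : Set G) := centralizer_le (center_le_zj _)
      have hAC : A ≤ C := fun a ha z hz =>
        (congrArg Subtype.val (hAab.is_comm.comm (⟨a, ha⟩ : A) ⟨z, ZJ.zj_le_mem
          (show A ∈ ZJ.fam 0 (P : Subgroup G) from ⟨hAP, ⟨hAab, fun x _ => pow_zero x⟩,
            fun B hB hBa => hAmax B hB hBa.1⟩) hz⟩)).symm
      refine hA0U (hAC.trans ?_)
      have hCtop : centralizer (ZP : Set G) ≠ ⊤ := fun h => hcontra (hasNormalPComplement_of_injective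
        ((MonoidHom.id G).codRestrict (centralizer (ZP : Set G)) fun g => h ▸ mem_top g)
        (fun a b hab => congrArg Subtype.val hab) hyp.2)
      refine le_pCore ?_
      -- elements of `C` of order prime to `p` lie in `U`
      have hUZ : U ≤ centralizer (ZP : Set G) := le_centralizer_iff.mp
        ((inf_le_right (a := (P : Subgroup G))).trans (centralizer_le hUP))
      refine IsPGroup.to_le ?_ hCC
      have hYtop : (centralizer (ZP : Set G)).map f ≠ ⊤ := by
        intro h
        exact hCtop (by
          rw [← comap_map_eq_self (f := f) (H := centralizer (ZP : Set G))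
            (by rw [hf, QuotientGroup.ker_mk']; exact hUZ), h, comap_top])
      intro x
      obtain ⟨m, r, hr, hm⟩ := Nat.exists_eq_pow_mul_and_not_dvd (orderOf_pos (x : G)).ne' p
        hp.out.ne_one
      have hxr : (orderOf ((x : G) ^ p ^ m)).Coprime p := by
        rw [orderOf_pow' _ (pow_ne_zero _ hp.out.ne_zero), hm,
          Nat.gcd_eq_right (dvd_mul_right _ _), Nat.mul_div_cancel_left _ (pow_pos hp.out.pos _)]
        exact (hp.out.coprime_iff_not_dvd.mpr hr).symm
      have h1 : f ((x : G) ^ p ^ m) = 1 := by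
        refine hkill _ ?_ hYtop _ (mem_map_of_mem f (pow_mem x.2 _)) ?_
        · rw [hPb]
          exact map_mono (le_centralizer_iff.mp inf_le_right)
        · exact hxr.coprime_dvd_left (orderOf_map_dvd f _)
      obtain ⟨j, hj⟩ := isPGroup_pCore p G ⟨_, (hf1 _).mp h1⟩
      exact ⟨m + j, Subtype.ext (by
        have := congrArg Subtype.val hj
        rw [pow_add, pow_mul]
        simpa using this)⟩
    -- the prime `2`
    subst hp2
    have hfree' := hfree.resolve_left (by simp)
    set Z0 := U ⊓ centralizer (U : Set G) with hZ0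
    have hZ0c : ∀ a ∈ Z0, ∀ b ∈ Z0, a * b = b * a := fun a ha b hb => hb.2 a ha.1
    haveI : IsMulCommutative Z0 := ⟨⟨fun a b => Subtype.ext (hZ0c a a.2 b b.2)⟩⟩
    obtain ⟨V, hV⟩ := exists_omega 2 Z0 hZ0c
    have hVc : ∀ a ∈ V, ∀ b ∈ V, a * b = b * a := fun a ha b hb =>
      hZ0c a ((hV a).mp ha).1 b ((hV b).mp hb).1
    haveI : Z0.Normal := inferInstance
    haveI hVn : V.Normal := ⟨fun x hx g => (hV _).mpr
      ⟨(inferInstance : Z0.Normal).conj_mem x ((hV x).mp hx).1 g, by
        rw [conj_pow, ((hV x).mp hx).2, mul_one, mul_inv_cancel]⟩⟩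
    have hVU : V ≤ U := fun x hx => ((hV x).mp hx).1.1
    have hUV : ∀ u ∈ U, ∀ v ∈ V, u * v = v * u := fun u hu v hv => ((hV v).mp hv).1.2 u hu
    let c : G →* MulAut V := MulAut.conjNormal
    have hker : U ≤ c.ker := fun u hu => MulEquiv.ext fun v => Subtype.ext (by
      change ((MulAut.conjNormal u v : V) : G) = v
      rw [MulAut.conjNormal_apply, hUV u hu v v.2, mul_inv_cancel_right])
    let φ : G ⧸ U →* MulAut V := QuotientGroup.lift U c hker
    have hφ : ∀ g : G, φ (f g) = c g := fun g => QuotientGroup.lift_mk' U hker g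
    -- the action is faithful
    have hCb : φ.ker = ⊥ := by
      have hCK : φ.ker ⊓ K = ⊥ := by
        refine (eq_bot_iff_forall _).mpr ?_
        rintro x ⟨hx, hxK⟩
        obtain ⟨y, rfl⟩ := QuotientGroup.mk'_surjective U x
        have hcp : (orderOf (f y)).Coprime 2 :=
          hKcop.coprime_dvd_left (K.orderOf_dvd_natCard hxK)
        obtain ⟨j, hj⟩ := IsPGroup.iff_card.mp (isPGroup_pCore 2 G)
        set k := 2 ^ j with hk
        have hyk : f (y ^ k) = f y ^ k := map_pow _ _ _
        have hy' : (orderOf (y ^ k)).Coprime 2 := by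
          have hd : orderOf y ∣ orderOf (f y) * 2 ^ j := by
            refine orderOf_dvd_of_pow_eq_one ?_
            rw [pow_mul]
            have h1 : y ^ orderOf (f y) ∈ U := (hf1 _).mp (by rw [map_pow, pow_orderOf_eq_one])
            have h2 := pow_card_eq_one' (x := (⟨_, h1⟩ : U))
            rw [hj] at h2
            exact congrArg Subtype.val h2
          refine hcp.coprime_dvd_left (orderOf_dvd_of_pow_eq_one ?_)
          rw [← pow_mul, hk, mul_comm]
          exact orderOf_dvd_iff_pow_eq_one.mp hd
        have hyc : c (y ^ k) = 1 := by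
          rw [map_pow, ← hφ, (MonoidHom.mem_ker.mp hx), one_pow]
        have hyZ : zpowers (y ^ k) ≤ centralizer (Z0 : Set G) := by
          refine Cfsg.Agent.S0056.result _ Z0 le_normalizer_of_normal ?_ ?_
          · rw [Nat.card_zpowers]
            obtain ⟨i, hi⟩ := IsPGroup.iff_card.mp ((isPGroup_pCore 2 G).to_le inf_le_left :
              IsPGroup 2 Z0)
            rw [hi]; exact hy'.pow_right i
          · intro v hv hvo a ha
            have hvp : v ^ 2 = 1 := by
              obtain ⟨i, hi⟩ := ((isPGroup_pCore 2 G).to_le inf_le_left : IsPGroup 2 Z0) ⟨v, hv⟩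
              have h1 : v ^ (2 ^ i) = 1 := congrArg Subtype.val hi
              have h2 : orderOf v = 2 := (Nat.prime_dvd_prime_iff_eq hvo hp.out).mp
                (hvo.dvd_of_dvd_pow (orderOf_dvd_of_pow_eq_one h1))
              exact h2 ▸ pow_orderOf_eq_one v
            have h1 : ((c (y ^ k) ⟨v, (hV v).mpr ⟨hv, hvp⟩⟩ : V) : G) = v := by
              rw [hyc]; rfl
            rw [MulAut.conjNormal_apply, mul_inv_eq_iff_eq_mul] at h1
            obtain ⟨i, rfl⟩ := mem_zpowers_iff.mp ha
            exact ((show Commute (y ^ k) v from h1).zpow_left i).eq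
        have hZPle : ZP ≤ Z0 := by
          have h1 : ZP ≤ centralizer (U : Set G) := inf_le_right.trans (centralizer_le hUP)
          exact le_inf (h1.trans hCU) h1
        set Y := (centralizer (ZP : Set G)).map f with hY
        have hUC : U ≤ centralizer (ZP : Set G) := le_centralizer_iff.mp
          (hZPle.trans inf_le_right)
        have hYtop : Y ≠ ⊤ := by
          intro h
          have h1 : centralizer (ZP : Set G) = ⊤ := by
            rw [← comap_map_eq_self (f := f) (H := centralizer (ZP : Set G))
              (by rw [hf, QuotientGroup.ker_mk']; exact hUC), ← hY, h, comap_top]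
          exact hcontra (hasNormalPComplement_of_injective
            ((MonoidHom.id G).codRestrict (centralizer (ZP : Set G)) fun g => h1 ▸ mem_top g)
            (fun a b hab => congrArg Subtype.val hab) hyp.2)
        have h1 : f (y ^ k) = 1 := by
          refine hkill Y ?_ hYtop _ (mem_map_of_mem f ?_) ?_
          · rw [hPb]
            exact map_mono (le_centralizer_iff.mp inf_le_right)
          · exact centralizer_le hZPle (hyZ (mem_zpowers _))
          · rw [hyk]; exact hcp.coprime_dvd_left (orderOf_pow_dvd k)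
        rw [hyk] at h1
        rw [← orderOf_eq_one_iff]
        exact Nat.eq_one_of_dvd_coprimes (hcp.pow_right j) dvd_rfl (orderOf_dvd_of_pow_eq_one h1)
      refine le_bot_iff.mp (hOp ▸ le_pCore fun x => ?_)
      obtain ⟨k, hk⟩ := hasNormalPComplement_iff_index.mp hQnpc
      refine ⟨k, Subtype.ext ?_⟩
      have h1 : (x : G ⧸ U) ^ (2 ^ k) ∈ φ.ker ⊓ K :=
        ⟨pow_mem x.2 _, hk ▸ Subgroup.pow_index_mem K (x : G ⧸ U)⟩
      rw [hCK, mem_bot] at h1
      exact h1
    have hφinj : Function.Injective φ := (MonoidHom.ker_eq_bot_iff φ).mp hCb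
    letI : CommGroup V := { (inferInstance : Group V) with
      mul_comm := fun a b => Subtype.ext (hVc a a.2 b b.2) }
    letI : MulDistribMulAction (G ⧸ U) V := MulDistribMulAction.compHom V φ
    haveI : FaithfulSMul (G ⧸ U) V := ⟨fun {x y} h => hφinj (MulEquiv.ext h)⟩
    have hsq : ∀ v : V, v * v = 1 := fun v => Subtype.ext (by
      have := ((hV v).mp v.2).2
      rwa [pow_two] at this)
    have hact : ∀ (g : G) (v : V), ((f g • v : V) : G) = g * v * g⁻¹ := fun g v => by
      show ((φ (f g) v : V) : G) = _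
      rw [hφ]
      exact MulAut.conjNormal_apply g v
    have hX : Offender.NoInverted (G ⧸ U) V := by
      intro U₁ y a hyU haU hy3 ha2 hay u hu
      by_contra hne
      obtain ⟨y, rfl⟩ := QuotientGroup.mk'_surjective U y
      obtain ⟨a, rfl⟩ := QuotientGroup.mk'_surjective U a
      set V₁ := U₁.map V.subtype
      have hnorm : ∀ g : G, (∀ u ∈ U₁, f g • u ∈ U₁) → g ∈ normalizer (V₁ : Set G) := by
        intro g hg
        refine mem_normalizer_of_conj_le ?_
        rintro _ ⟨_, ⟨v, hv, rfl⟩, rfl⟩
        exact ⟨f g • v, hg v hv, hact g v⟩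
      set N₁ := normalizer (V₁ : Set G)
      haveI : (V₁.subgroupOf N₁).Normal := normal_subgroupOf_of_le_normalizer le_rfl
      have hmem : ∀ w : V₁.subgroupOf N₁, ∃ v ∈ U₁, ((v : V) : G) = ((w : N₁) : G) := by
        rintro ⟨w, ⟨v, hv, hvw⟩⟩
        exact ⟨v, hv, hvw⟩
      have hval : ∀ (g : N₁) (w : V₁.subgroupOf N₁), ((((MulAut.conjNormal g w :
          V₁.subgroupOf N₁)) : N₁) : G) = (g : G) * ((w : N₁) : G) * (g : G)⁻¹ := fun g w => by
        rw [MulAut.conjNormal_apply]; rfl
      set y₁ : N₁ := ⟨y, hnorm y hyU⟩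
      set a₁ : N₁ := ⟨a, hnorm a haU⟩
      refine hfree' (Local.involves_of_injective N₁.subtype N₁.subtype_injective
        (Local.ClassTwo.involves_perm_four_of_action (V₁.subgroupOf N₁) ?_ ?_ y₁ a₁ ?_ ?_ ?_ ?_))
      · intro x hx z hz
        obtain ⟨v, -, hv⟩ := hmem ⟨x, hx⟩
        obtain ⟨w, -, hw⟩ := hmem ⟨z, hz⟩
        exact Subtype.ext (by
          rw [Subgroup.coe_mul, Subgroup.coe_mul, ← hv, ← hw]; exact hVc v v.2 w w.2)
      · intro x hx
        obtain ⟨v, -, hv⟩ := hmem ⟨x, hx⟩
        exact Subtype.ext (by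
          rw [Subgroup.coe_mul, Subgroup.coe_one, ← hv]
          exact congrArg Subtype.val (hsq v))
      · refine MulEquiv.ext fun w => Subtype.ext (Subtype.ext ?_)
        obtain ⟨v, hv, hvw⟩ := hmem w
        rw [← map_pow, hval, MulAut.one_apply, ← hvw, ← hact, Subgroup.coe_pow, map_pow, hy3 v hv]
      · intro h
        obtain ⟨hv, hvu⟩ : (⟨(u : V), (hnorm 1 fun x hx => by rwa [map_one, one_smul]) |> fun _ =>
            (le_normalizer (H := V₁) ⟨u, hu, rfl⟩)⟩ : N₁) ∈ V₁.subgroupOf N₁ ∧ True :=
          ⟨⟨u, hu, rfl⟩, trivial⟩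
        have := congrArg (fun w : V₁.subgroupOf N₁ => ((w : N₁) : G))
          (DFunLike.congr_fun h ⟨_, hv⟩)
        simp only [hval, MulAut.one_apply] at this
        exact hne (Subtype.ext ((hact y u).trans this))
      · refine MulEquiv.ext fun w => Subtype.ext (Subtype.ext ?_)
        obtain ⟨v, hv, hvw⟩ := hmem w
        rw [← map_mul, hval, MulAut.one_apply, ← hvw, ← hact, Subgroup.coe_mul, map_mul, mul_smul,
          ha2 v hv]
      · refine MulEquiv.ext fun w => Subtype.ext (Subtype.ext ?_)
        obtain ⟨v, hv, hvw⟩ := hmem w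
        rw [← map_mul, ← map_mul, ← map_inv, hval, hval, ← hvw, ← hact, ← hact]
        refine congrArg Subtype.val ?_
        have haa : f a • f a • v = v := ha2 v hv
        have hai : (f a)⁻¹ • v = f a • v := inv_smul_eq_iff.mpr haa.symm
        simp only [Subgroup.coe_mul, Subgroup.coe_inv, map_mul, map_inv, y₁, a₁]
        rw [← hay, mul_smul, mul_smul, mul_smul, mul_smul, hai]
    have hAb : A.map f ≤ (Pb : Subgroup (G ⧸ U)) := hPb ▸ map_mono hAP
    have hAne : A.map f ≠ ⊥ := fun h => hA0U (by
      rw [Subgroup.map_eq_bot_iff, hf, QuotientGroup.ker_mk'] at h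
      exact h)
    have key := Offender.not_offender (W := V) hsq hX K
      (fun x hx z hz => congrArg Subtype.val ((inferInstance : IsMulCommutative K).is_comm.comm (⟨x, hx⟩ : K) ⟨z, hz⟩))
      (by
        rw [Nat.odd_iff, ← Nat.two_dvd_ne_zero]
        exact fun h => Nat.Prime.not_coprime_iff_dvd.mpr ⟨2, Nat.prime_two, h, dvd_rfl⟩ hKcop)
      (A.map f) (Pb.isPGroup'.to_le hAb)
      (fun x hx z hz => by
        obtain ⟨x, hx, rfl⟩ := hx
        obtain ⟨z, hz, rfl⟩ := hz
        rw [← map_mul, ← map_mul]
        exact congrArg f (congrArg Subtype.val (hAab.is_comm.comm (⟨x, hx⟩ : A) ⟨z, hz⟩)))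
      (hAb.trans hPn)
      (fun a ha hc => by
        have : a ∈ (Pb : Subgroup (G ⧸ U)) ⊓ centralizer (K : Set (G ⧸ U)) :=
          ⟨hAb ha, fun k hk => (hc k hk).symm⟩
        rwa [hfaith, mem_bot] at this) hAne
    set CVA := V ⊓ centralizer (A : Set G) with hCVA
    have hC : Nat.card CVA ≤ Nat.card (Offender.fix (W := V) (A.map f)) := by
      refine Nat.card_le_card_of_injective (fun x => ⟨⟨x, x.2.1⟩, ?_⟩) fun x z h =>
        Subtype.ext (congrArg (fun t : Offender.fix (W := V) (A.map f) => ((t : V) : G)) h)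
      rintro _ ⟨a, ha, rfl⟩
      refine Subtype.ext ((hact a _).trans ?_)
      rw [show a * (x : G) = x * a from x.2.2 a ha, mul_inv_cancel_right]
    set B := A ⊓ U with hB
    have hBV : B ≤ centralizer (V : Set G) := fun b hb v hv => (hUV b hb.2 v hv).symm
    have hel : IsMulCommutative (B ⊔ V : Subgroup G) := by
      have hcl : B ⊔ V = Subgroup.closure ((B : Set G) ∪ V) := by
        rw [Subgroup.closure_union, Subgroup.closure_eq, Subgroup.closure_eq]
      refine hcl ▸ isMulCommutative_closure ?_
      rintro u (hu | hu) v (hv | hv)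
      · exact congrArg Subtype.val (hAab.is_comm.comm (⟨u, hu.1⟩ : A) ⟨v, hv.1⟩)
      · exact (hBV hu v hv).symm
      · exact hBV hv u hu
      · exact hVc u hu v hv
    have hle : Nat.card ↥(B ⊔ V : Subgroup G) ≤ Nat.card A :=
      hAmax _ (sup_le (inf_le_left.trans hAP) (hVU.trans hUP)) hel
    have hprod := card_sup_mul_card_inf B V ((le_centralizer_iff.mp hBV).trans
      (centralizer_le_normalizer _))
    have hinf : Nat.card ↥(B ⊓ V : Subgroup G) ≤ Nat.card CVA := card_le_of_le fun x hx =>
      ⟨hx.2, fun a ha => congrArg Subtype.val (hAab.is_comm.comm (⟨a, ha⟩ : A) ⟨x, hx.1.1⟩)⟩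
    have hA : Nat.card (A.map f) * Nat.card B = Nat.card A := by
      have e := (f.ker.subgroupOf A).card_mul_index
      rw [← e, mul_comm (Nat.card (A.map f))]
      have hi : (f.ker.subgroupOf A).index = Nat.card (A.map f) := by
        change f.ker.relIndex A = _
        rw [relIndex_ker]
      rw [hi, show f.ker.subgroupOf A = (A ⊓ f.ker).subgroupOf A by
          rw [inf_comm, inf_subgroupOf_right],
        card_subgroupOf inf_le_left, hf, QuotientGroup.ker_mk']
    have hVle : Nat.card V ≤ Nat.card (A.map f) * Nat.card CVA := by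
      refine _root_.le_of_mul_le_mul_left (a := Nat.card B) ?_ Nat.card_pos
      calc Nat.card B * Nat.card V
          = Nat.card ↥(B ⊔ V : Subgroup G) * Nat.card ↥(B ⊓ V : Subgroup G) := hprod.symm
        _ ≤ Nat.card A * Nat.card CVA := Nat.mul_le_mul hle hinf
        _ = Nat.card B * (Nat.card (A.map f) * Nat.card CVA) := by rw [← hA]; ring
    have hpos : 0 < Nat.card (A.map f) * Nat.card CVA := Nat.mul_pos Nat.card_pos Nat.card_pos
    have := Nat.mul_le_mul_left (Nat.card (A.map f)) hC
    omega

/-- Thompson's theorem with the abelian Thompson subgroup. -/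
theorem thompson_abelian [Fact p.Prime] {G : Type u} [Group G] [Finite G]
    (hfree : p ≠ 2 ∨ ¬ Involves (Equiv.Perm (Fin 4)) G) (P : Sylow p G)
    (hC : HasNormalPComplement p (centralizer (((P : Subgroup G) ⊓
      centralizer ((P : Subgroup G) : Set G) : Subgroup G) : Set G)))
    (hN : HasNormalPComplement p (normalizer (thompsonSubgroupAOf (P : Subgroup G) : Set G))) :
    HasNormalPComplement p G :=
  thompson_abelian_aux _ G le_rfl hfree P ⟨hN, hC⟩

end Cfsg.Agent.Fusion.ThompsonA
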