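import Cfsg.Agent.Lib.Fusion.FunctorFamily
import Cfsg.Agent.Lib.Fusion.ThompsonAbelian

/-!
Thompson's normal complement theorem for fusion systems and the criterion with automizers of
characteristic subgroups.
-/

set_option autoImplicit false

universe v

namespace Cfsg.Agent.Fusion

open Cfsg Cfsg.FusionSystem

variable {p : ℕ} [Fact p.Prime]

/-- The abelian Thompson subgroup as a functor. -/
def jaFunctor (p : ℕ) : SubFunctor.{v} p where
  W P := thompsonSubgroupAOf P
  le _ := Subgroup.map_subtype_le _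
  ne P _ _ h := ThompsonA.thompsonA_ne_bot P h
  map := by
    intro G H _ _ P _ f hf
    show ((thompsonSubgroupAOf P).subgroupOf P).map f = thompsonSubgroupAOf f.range
    have h : (thompsonSubgroupAOf P).subgroupOf P = thompsonSubgroupA P :=
      Subgroup.comap_map_eq_self_of_injective P.subtype_injective _
    rw [h, thompsonSubgroupAOf, ← ThompsonA.thompsonA_map_equiv (MonoidHom.ofInjective hf), Subgroup.map_map]
    rfl

/-- The centre as a functor. -/
def centerFunctor (p : ℕ) [Fact p.Prime] : SubFunctor.{v} p where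
  W P := P ⊓ Subgroup.centralizer (P : Set _)
  le _ := inf_le_left
  ne := by
    intro G _ P _ hP h1 h0
    have : Nontrivial P := (Subgroup.nontrivial_iff_ne_bot P).2 h1
    obtain ⟨⟨z, hz⟩, hz1⟩ := @exists_ne _ hP.center_nontrivial 1
    refine hz1 (Subtype.ext (Subtype.ext ?_))
    have hm : (z : G) ∈ P ⊓ Subgroup.centralizer (P : Set G) :=
      ⟨z.2, fun y hy => congrArg Subtype.val (Subgroup.mem_center_iff.1 hz ⟨y, hy⟩)⟩
    rw [h0, Subgroup.mem_bot] at hm
    exact hm
  map := by
    intro G H _ _ P _ f hf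
    ext y
    constructor
    · rintro ⟨x, ⟨-, hx⟩, rfl⟩
      refine ⟨⟨x, rfl⟩, ?_⟩
      rintro _ ⟨z, rfl⟩
      rw [← map_mul, ← map_mul]
      exact congrArg f (Subtype.ext (hx z z.2))
    · rintro ⟨⟨x, rfl⟩, hx⟩
      refine ⟨x, ⟨x.2, fun z hz => ?_⟩, rfl⟩
      have e := hx (f ⟨z, hz⟩) ⟨_, rfl⟩
      rw [← map_mul, ← map_mul] at e
      exact congrArg Subtype.val (hf e)

/-- The family made of the two functors. -/
def thompsonFamily (p : ℕ) [Fact p.Prime] : Bool → SubFunctor.{v} p
  | true => jaFunctor p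
  | false => centerFunctor p

theorem familyCriterion_thompson : FamilyCriterion.{v} p (thompsonFamily.{v} p) := by
  intro L _ _ T _ hfree hN
  exact ThompsonA.thompson_abelian hfree T (Solv.hasNormalPComplement_of_le
    (Subgroup.centralizer_le_normalizer _) (hN false)) (hN true)

variable {Ω : Type v} [Group Ω] {S : Subgroup Ω} [Finite S] {F : FusionSystem S}

theorem eq_inner_of_bot (hS : IsPGroup p S) (hF : F.IsSaturated p) (h1 : S = ⊥) :
    F = innerFusionSystem S := by
  refine eq_innerFusionSystem_of_autGroup_pGroup hS hF fun P hP α => ⟨0, ?_⟩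
  rw [pow_zero, pow_one]
  refine Subtype.ext (MulEquiv.ext fun x => Subtype.ext ?_)
  have h2 := hP ((α : MulAut P) x).2
  have h3 := hP ((1 : MulAut P) x).2
  exact (Subgroup.mem_bot.1 (h1.le h2)).trans (Subgroup.mem_bot.1 (h1.le h3)).symm

/-- Thompson's theorem for fusion systems. -/
theorem eq_inner_of_thompson (hS : IsPGroup p S) (hF : F.IsSaturated p) (hfree : Free p F)
    (hC : NormInner F (S ⊓ Subgroup.centralizer (S : Set Ω)))
    (hN : NormInner F (thompsonSubgroupAOf S)) : F = innerFusionSystem S := by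
  by_cases h1 : S = ⊥
  · exact eq_inner_of_bot hS hF h1
  refine eq_inner_of_family (thompsonFamily.{v} p) familyCriterion_thompson _ rfl hS hF hfree h1 ?_
  intro i
  cases i
  · exact hC
  · exact hN

/-- An inner centralizer system of the centre gives an inner normalizer system, if the normalizer
system of the Thompson subgroup is inner. -/
theorem normInner_center (hS : IsPGroup p S) (hF : F.IsSaturated p)
    (hC : ∀ C : FusionSystem (centralizerIn S (S ⊓ Subgroup.centralizer (S : Set Ω))),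
      F.IsCentralizerSystem (S ⊓ Subgroup.centralizer (S : Set Ω)) C → ∀ P : Subgroup Ω,
      C.Hom P = (innerFusionSystem (centralizerIn S (S ⊓ Subgroup.centralizer (S : Set Ω)))).Hom P)
    (hN : NormInner F (thompsonSubgroupAOf S)) :
    NormInner F (S ⊓ Subgroup.centralizer (S : Set Ω)) := by
  set Z := S ⊓ Subgroup.centralizer (S : Set Ω)
  have hZS : Z ≤ S := inf_le_left
  have hcZ : ∀ a ∈ S, ∀ z ∈ Z, a * z = z * a := fun a ha z hz => hz.2 a ha
  have hSN : S ≤ Subgroup.normalizer (Z : Set Ω) := fun a ha =>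
    mem_normalizer_of_conj_mem hZS fun z hz => by rwa [hcZ a ha z hz, mul_inv_cancel_right]
  have hSC : S ≤ centralizerIn S Z := fun a ha => ⟨ha, fun z hz => (hcZ a ha z hz).symm⟩
  have hZn : F.IsFullyNormalized Z := ⟨hZS, fun R _ => by
    rw [show normalizerIn S Z = S from inf_eq_left.2 hSN]
    exact Nat.card_le_card_of_injective (Subgroup.inclusion normalizerIn_le)
      (Subgroup.inclusion_injective _)⟩
  intro A k hk hkZ hA
  -- `k` fixes `Z`
  have hfix : ∀ z ∈ Z, k z = z := by
    obtain ⟨g, hg, hge⟩ := exists_extension_centralizer (fullyNormalized_receptive hS hF hZn).2 hkZ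
    have hgS : IsMor F S g := hg.restrict (hSC.trans le_sup_right)
    have hgi : IsIso F S S g := hgS.isIso_self fun x hx => hgS.mem hx
    have hJi : IsIso F (thompsonSubgroupAOf S) (thompsonSubgroupAOf S) g :=
      (jaFunctor.{v} p).normalizer_le le_rfl hgi
    obtain ⟨a, ha, hax⟩ := hN S g
      (hgS.restrict (sup_le le_rfl (Subgroup.map_subtype_le _))) hJi
      (fun x hx => ⟨hx, (jaFunctor.{v} p).mem_normalizer le_rfl hx (Subgroup.le_normalizer hx)⟩)
    intro z hz
    rw [← hge z hz, hax z (hZS hz), hcZ a ha.1 z hz, mul_inv_cancel_right]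
  obtain ⟨C, hCs⟩ := exists_centralizerSystem F hZS
  have hAS : A ≤ centralizerIn S Z := (hA.trans normalizerIn_le).trans hSC
  obtain ⟨ψ, hψ, hψe⟩ := id hk
  obtain ⟨φ, hφ, hφe⟩ := hk.restrict (le_sup_left : A ≤ A ⊔ Z)
  have hm : IsMor C A k := by
    refine ⟨φ, ?_, hφe⟩
    rw [hCs A]
    refine ⟨hφ, hAS, fun x => hSC ?_, ψ, hψ, fun x => ?_, fun z => ?_⟩
    · rw [hφe]
      exact hk.mem (Subgroup.mem_sup_left x.2)
    · rw [hψe, hφe, Subgroup.coe_inclusion]
    · rw [hψe, Subgroup.coe_inclusion]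
      exact hfix z z.2
  rw [show C = innerFusionSystem _ from fusionSystem_ext (hC C hCs)] at hm
  obtain ⟨-, a, ha, hax⟩ := isMor_inner.1 hm
  exact ⟨a, ⟨ha.1, hSN ha.1⟩, hax⟩

/-- Automizers of characteristic subgroups are `p`-groups. -/
theorem eq_inner_of_charAut : ∀ (n : ℕ) {Ω : Type v} [Group Ω] {S : Subgroup Ω} [Finite S]
    {F : FusionSystem S}, Nat.card S = n → IsPGroup p S → F.IsSaturated p → Free p F →
    (∀ Q : Subgroup Ω, Q ≤ S → Q ≠ ⊥ → (Q.subgroupOf S).Characteristic → IsPGroup p (F.autGroup Q)) →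
    F = innerFusionSystem S := by
  intro n
  induction n using Nat.strong_induction_on with
  | _ n ih =>
  intro Ω _ S _ F hn hS hF hfree h
  subst hn
  by_cases h1 : S = ⊥
  · exact eq_inner_of_bot hS hF h1
  have key : ∀ Q : Subgroup Ω, Q ≤ S → Q ≠ ⊥ → (Q.subgroupOf S).Characteristic → NormInner F Q := by
    intro Q hQS hQ1 hQc
    set Qs := Q.subgroupOf S with hQsdef
    have hSQ : S ≤ Subgroup.normalizer (Q : Set Ω) := fun a ha =>
      mem_normalizer_of_conj_mem hQS fun x hx =>
        ((inferInstance : Qs.Normal).conj_mem ⟨x, hQS hx⟩ hx ⟨a, ha⟩ :)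
    obtain ⟨E, hEfree, -, hEs, hEF, hQn, hEiff⟩ := exists_normalizer_top_free hS hF hQS hSQ hfree
    have hEaut : ∀ R : Subgroup Ω, R ≤ S → R ≠ ⊥ → (R.subgroupOf S).Characteristic →
        IsPGroup p (E.autGroup R) := fun R hR hR1 hRc =>
      (h R hR hR1 hRc).to_le fun α hα =>
        (mem_autGroup hR).2 (mem_hom_of_isMor ((isMor_of_mem_autGroup hR hα).of_le hEF)
          fun x => (autFun_coe α x).symm)
    suffices hEi : E = innerFusionSystem S by
      intro A k hk hkQ hA
      have hm : IsMor E A k := (hEiff A k).2 ⟨hA.trans normalizerIn_le, k, hk, fun _ _ => rfl, hkQ⟩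
      rw [hEi] at hm
      obtain ⟨-, a, ha, hax⟩ := isMor_inner.1 hm
      exact ⟨a, ⟨ha, hSQ ha⟩, hax⟩
    let θ : S →* S ⧸ Qs := QuotientGroup.mk' Qs
    have hθ : ∀ s : S, θ s = 1 ↔ (s : Ω) ∈ Q := fun s => QuotientGroup.eq_one_iff s
    have hθr : θ.range = (⊤ : Subgroup (S ⧸ Qs)) :=
      MonoidHom.range_eq_top.2 (QuotientGroup.mk'_surjective _)
    have hQsc := normal_stronglyClosed hQn
    obtain ⟨E', hE'⟩ := exists_factor (F := E) hθ hθr hQsc
    have hE's := factor_saturated hS hEs hQsc hE'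
    refine inner_of_factor_inner hS hEs hQn (hEaut Q hQS hQ1 hQc) hE' ?_
    have hlt : Nat.card (⊤ : Subgroup (S ⧸ Qs)) < Nat.card S := by
      rw [Subgroup.card_top, Subgroup.card_eq_card_quotient_mul_card_subgroup Qs]
      refine lt_mul_of_one_lt_right Nat.card_pos ((Subgroup.one_lt_card_iff_ne_bot _).2 fun h0 => hQ1 ?_)
      refine eq_bot_iff.2 fun x hx => ?_
      have hxm : (⟨x, hQS hx⟩ : S) ∈ Qs := hx
      rw [h0, Subgroup.mem_bot] at hxm
      exact congrArg Subtype.val hxm
    refine ih _ hlt rfl ((hS.to_quotient Qs).to_subgroup ⊤) hE's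
      (hEfree.imp id fun h => sectionFree_factor hS hEs hQsc h hE') fun U' _ hU'1 hU'c => ?_
    set U := preimageAlong θ U' with hUdef
    have hUS : U ≤ S := preimageAlong_le
    have hU1 : U ≠ ⊥ := fun h0 => hQ1 (le_bot_iff.1 ((le_preimageAlong hQS hθ).trans h0.le))
    have hUc : (U.subgroupOf S).Characteristic := by
      have e : U.subgroupOf S = U'.comap θ := by
        ext s
        show (s : Ω) ∈ U ↔ θ s ∈ U'
        rw [hUdef, mem_preimageAlong, qfun_apply θ s.2]
        exact and_iff_right s.2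
      rw [e]
      refine Subgroup.characteristic_iff_comap_eq.2 fun φ => ?_
      let ψ : (S ⧸ Qs) ≃* (S ⧸ Qs) :=
        QuotientGroup.congr Qs Qs φ (Subgroup.characteristic_iff_map_eq.1 hQc φ)
      ext s
      show θ (φ s) ∈ U' ↔ θ s ∈ U'
      have e2 := SetLike.ext_iff.1 (Subgroup.characteristic_iff_comap_eq.1 hU'c
        (Subgroup.topEquiv.trans (ψ.trans Subgroup.topEquiv.symm))) ⟨θ s, Subgroup.mem_top _⟩
      exact e2
    intro β
    obtain ⟨hU'le, g, hg, hi⟩ := (isMor_of_mem_autGroup le_top β.2).factor_lift hE'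
    have hgU : IsIso E U U g := hg.isIso_self fun x hx => mem_preimageAlong.2 ⟨hg.mem hx, by
      rw [← hi x hx]
      exact autFun_mem _ (mem_preimageAlong.1 hx).2⟩
    have hαm : hgU.toMulEquiv ∈ E.autGroup U := mem_autGroup_of_isMor hg fun _ => rfl
    obtain ⟨j, hj⟩ := hEaut U hUS hU1 hUc ⟨_, hαm⟩
    refine ⟨j, Subtype.ext ?_⟩
    have hit : ∀ (m : ℕ) (x : U), ∃ hm : qfun θ (x : Ω) ∈ U',
        ((((β : MulAut U') ^ m) ⟨_, hm⟩ : U') : S ⧸ Qs) =
          qfun θ ((((hgU.toMulEquiv : MulAut U) ^ m) x : U) : Ω) := by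
      intro m
      induction m with
      | zero => exact fun x => ⟨(mem_preimageAlong.1 x.2).2, rfl⟩
      | succ m ihm =>
        intro x
        refine ⟨(mem_preimageAlong.1 x.2).2, ?_⟩
        obtain ⟨hm', e⟩ := ihm x
        rw [pow_succ', pow_succ', MulAut.mul_apply, MulAut.mul_apply, ← autFun_coe (β : MulAut U'),
          e, hi _ (Subtype.prop _)]
        rfl
    refine MulEquiv.ext fun y => Subtype.ext ?_
    obtain ⟨x, hx, hxy⟩ := exists_qfun_eq hθr hU'le y.2
    obtain ⟨hm, e⟩ := hit (p ^ j) ⟨x, hx⟩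
    rw [show y = ⟨_, hm⟩ from Subtype.ext hxy.symm]
    show ((((β : MulAut U') ^ (p ^ j)) ⟨_, hm⟩ : U') : S ⧸ Qs) = _
    rw [e, show (hgU.toMulEquiv : MulAut U) ^ (p ^ j) = 1 from congrArg Subtype.val hj]
    rfl
  refine eq_inner_of_thompson hS hF hfree (key _ inf_le_left ((centerFunctor.{v} p).ne S hS h1) ?_)
    (key _ (Subgroup.map_subtype_le _) (ThompsonA.thompsonA_ne_bot S h1) ?_)
  · rw [show (S ⊓ Subgroup.centralizer (S : Set Ω)).subgroupOf S = Subgroup.center S from ?_]
    · infer_instance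
    ext s
    rw [Subgroup.mem_subgroupOf, Subgroup.mem_center_iff]
    exact ⟨fun hs b => Subtype.ext (hs.2 b b.2), fun hs => ⟨s.2, fun y hy =>
      congrArg Subtype.val (hs ⟨y, hy⟩)⟩⟩
  · rw [show (thompsonSubgroupAOf S).subgroupOf S = thompsonSubgroupA S from
      Subgroup.comap_map_eq_self_of_injective S.subtype_injective _]
    exact Subgroup.characteristic_iff_map_eq.2 fun φ => ThompsonA.thompsonA_map_equiv φ

end Cfsg.Agent.Fusion
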