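import Cfsg.Agent.Lib.Fusion.CenterControl
import Cfsg.Agent.Lib.Fusion.CenterControlApps
import Cfsg.Agent.Lib.Fusion.FunctorFamily
import Cfsg.Agent.Lib.Fusion.ThompsonFusion

/-!
Control of the centre by a functor, for elements which are `p`-th powers or systems free of `S₄`.
-/

set_option autoImplicit false

universe v

namespace Cfsg.Agent.Fusion

open Cfsg Cfsg.FusionSystem

/-- The hypothesis on a system and a central element; the first alternative is allowed under `b`. -/
def Hyp (b : Prop) (p : ℕ) {Ω : Type v} [Group Ω] {S : Subgroup Ω} (F : FusionSystem S) (z : Ω) : Prop :=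
  (b ∧ Free p F) ∨ ∃ w ∈ S, (∀ a ∈ S, a * w = w * a) ∧ w ^ p = z

/-- In constrained systems an element of the centre of `S` fixed by the normalizer of `W(S)` is fixed,
under the hypothesis. -/
def FixLocalHyp (b : Prop) (p : ℕ) (W : SubFunctor.{v} p) : Prop :=
  ∀ {Ω : Type v} [Group Ω] (S : Subgroup Ω) [Finite S] (F : FusionSystem S) (R : Subgroup Ω),
    IsPGroup p S → F.IsSaturated p → F.IsNormal R → F.IsCentric R →
    ∀ z ∈ S, (∀ a ∈ S, a * z = z * a) → Hyp b p F z → (∀ k, IsIso F (W.W S) (W.W S) k → k z = z) →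
    ∀ (A : Subgroup Ω) (f : Ω → Ω), IsMor F A f → z ∈ A → f z = z

variable {b : Prop} {p : ℕ} [Fact p.Prime]

section

variable {Ω : Type v} [Group Ω] {S : Subgroup Ω} [Finite S] {F : FusionSystem S} {Q : Subgroup Ω} {z : Ω}

theorem exists_top_hyp (hS : IsPGroup p S) (hF : F.IsSaturated p) (hQS : Q ≤ S)
    (hSQ : S ≤ Subgroup.normalizer (Q : Set Ω)) (hH : Hyp b p F z) :
    ∃ E : FusionSystem S, Hyp b p E z ∧ E.IsSaturated p ∧ E ≤ F ∧ E.IsNormal Q ∧
      ∀ A f, IsMor E A f ↔ A ≤ S ∧ ∃ k, IsMor F (A ⊔ Q) k ∧ (∀ x ∈ A, k x = f x) ∧ IsIso F Q Q k := by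
  rcases hH with ⟨hb, h⟩ | h
  · obtain ⟨E, hE, -, h'⟩ := exists_normalizer_top_free hS hF hQS hSQ h
    exact ⟨E, Or.inl ⟨hb, hE⟩, h'⟩
  · obtain ⟨E, h'⟩ := exists_normalizer_top hS hF hQS hSQ
    exact ⟨E, Or.inr h, h'⟩

theorem hyp_normalizer (hS : IsPGroup p S) (hF : F.IsSaturated p) (hQ : F.IsFullyNormalized Q)
    {E : FusionSystem (normalizerIn S Q)} (hE : F.IsNormalizerSystem Q E) (hH : Hyp b p F z) : Hyp b p E z := by
  rcases hH with ⟨hb, h⟩ | ⟨w, hw, hwc, hwz⟩
  · exact Or.inl ⟨hb, h.imp id fun h => sectionFree_normalizer hS hF h hQ hE⟩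
  · exact Or.inr ⟨w, ⟨hw, mem_normalizer_of_conj_mem hQ.1 fun x hx => by
      rwa [← hwc x (hQ.1 hx), mul_inv_cancel_right]⟩, fun a ha => hwc a ha.1, hwz⟩

theorem exists_model_hyp (hS : IsPGroup p S) (hF : F.IsSaturated p) {R : Subgroup Ω}
    (hRn : F.IsNormal R) (hRc : F.IsCentric R) (hfree : Free p F) :
    ∃ (L : Type v) (_ : Group L) (ι : S →* L), F.IsModel p L ι ∧
      (p ≠ 2 ∨ ¬ Involves (Equiv.Perm (Fin 4)) L) := by
  obtain ⟨E, -, hmod, hEs, hEF, -, hiff⟩ :=
    exists_normalizer_top_free hS hF hRn.1 (normal_le_normalizer hRn) hfree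
  have hEeq : E = F := fusionSystem_ext fun A => hom_eq_of_isMor_iff A fun f => by
    refine ⟨fun hf => ?_, fun hf => ?_⟩
    · obtain ⟨-, k, hk, hke, -⟩ := (hiff A f).1 hf
      exact (hk.restrict le_sup_left).congr fun x hx => (hke x hx).symm
    · obtain ⟨k, hk, hke, hkR⟩ := (isNormal_iff.1 hRn).2 A f hf
      exact (hiff A f).2 ⟨hf.le, k, hk, hke, hkR⟩
  obtain ⟨L, hLg, ι, hL⟩ := exists_model hS hF hRn hRc
  exact ⟨L, hLg, ι, hL, hmod L ι hRc (by rw [hEeq]; exact hL)⟩

end

/-- Reduction to constrained systems. -/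
theorem fixed_of_functor_hyp (W : SubFunctor.{v} p) (hW : CentralIn W) (hL : FixLocalHyp b p W) :
    ∀ (n : ℕ) {Ω : Type v} [Group Ω] {S : Subgroup Ω} [Finite S] {F : FusionSystem S} {z : Ω},
      Nat.card S = n → IsPGroup p S → F.IsSaturated p → z ∈ S → (∀ a ∈ S, a * z = z * a) → Hyp b p F z →
      (∀ k, IsIso F (W.W S) (W.W S) k → k z = z) →
      ∀ (A : Subgroup Ω) (f : Ω → Ω), IsMor F A f → z ∈ A → f z = z := by
  intro n
  induction n using Nat.strong_induction_on with
  | _ n ih =>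
  intro Ω _ S _ F z hn hS hF hzS hzc hH hN
  subst hn
  have hzn : ∀ A : Subgroup Ω, A ≤ S → z ∈ normalizerIn S A := fun A hA =>
    ⟨hzS, mem_normalizer_of_conj_mem hA fun x hx => by
      rwa [← hzc x (hA hx), mul_inv_cancel_right]⟩
  intro A
  induction hm : Nat.card S - Nat.card A using Nat.strong_induction_on generalizing A with
  | _ m ihA =>
  subst hm
  intro f hf hzA
  have hbig : ∀ (Q : Subgroup Ω) (g : Ω → Ω), Nat.card A < Nat.card Q → IsMor F Q g → z ∈ Q → g z = z := by
    intro Q g hQ hg hzQ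
    have := Nat.card_le_card_of_injective (Subgroup.inclusion hg.le) (Subgroup.inclusion_injective _)
    exact ihA _ (by omega) Q rfl g hg hzQ
  rcases eq_or_lt_of_le hf.le with hAS | hAS
  · subst hAS
    have hi := hf.isIso_self fun x hx => hf.mem hx
    exact hN f (W.normalizer_le le_rfl hi)
  have hAlt : ∀ {B : Subgroup Ω}, B ≤ S → Nat.card B = Nat.card A → Nat.card A < Nat.card (normalizerIn S B) := by
    intro B hB hc
    rw [← hc]
    refine card_lt_of_lt normalizerIn_le (normalizerIn_self_lt hS (lt_of_le_of_ne hB fun h => ?_))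
    have := card_lt_of_lt le_rfl hAS
    rw [← hc, h] at this
    exact this.false
  -- the automorphisms of the fully normalized conjugates fix `z`
  obtain ⟨R, hcR, hR⟩ := exists_fullyNormalized (F := F) hAS.le
  obtain ⟨g, g', hg, hg', hge, -⟩ := exists_iso_to_fullyNormalized hS hF hcR hR
  have hgz : g z = z := by
    rw [← hge z hzA]
    exact hbig _ g' (hAlt hAS.le rfl) hg' (hzn A hAS.le)
  have hzR : z ∈ R := hgz ▸ hg.apply_mem hzA
  have hRcard : Nat.card R = Nat.card A := hg.card_eq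
  have hRS : R < S := lt_of_le_of_ne hR.1 fun h => by
    have := card_lt_of_lt le_rfl hAS
    rw [← hRcard, h] at this
    exact this.false
  have key : ∀ α ∈ F.autGroup R, autFun α z = z := by
    intro α hα
    by_cases hC : centralizerIn S R ≤ R
    swap
    · rw [← closure_extSet_eq_of_not_centric (fullyNormalized_receptive hS hF hR).2 hC] at hα
      let K : Subgroup (MulAut R) :=
        { carrier := {β | autFun β z = z}
          one_mem' := autFun_one hzR
          mul_mem' := fun {a b} ha hb => by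
            show autFun (a * b) z = z
            rw [autFun_mul a b hzR, hb]
            exact ha
          inv_mem' := fun {a} ha => by
            show autFun a⁻¹ z = z
            conv_lhs => rw [← ha]
            rw [← autFun_mul a⁻¹ a hzR, inv_mul_cancel, autFun_one hzR] }
      refine (Subgroup.closure_le K).2 (fun β hβ => ?_) hα
      obtain ⟨Q, k, hRQ, hk, hx⟩ := mem_extSet.1 hβ
      show autFun β z = z
      rw [autFun_apply _ hzR, ← hx ⟨z, hzR⟩]
      exact hbig Q k (hRcard ▸ card_lt_of_lt hk.le hRQ) hk (hRQ.le hzR)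
    have hRc : F.IsCentric R :=
      isCentric_of_fullyCentralized hS hF (fullyNormalized_fullyCentralized hS hF hR) hC
    -- descending on the normalizer: maps stabilizing `Y` fix `z`
    have hfix : ∀ (m : ℕ) (Y : Subgroup Ω), Nat.card S - Nat.card (normalizerIn S Y) = m → Y ≤ S → z ∈ Y →
        Nat.card A < Nat.card (normalizerIn S Y) → ∀ k, IsIso F Y Y k → k z = z := by
      intro m
      induction m using Nat.strong_induction_on with
      | _ m ihm =>
      intro Y hm hYS hzY hlt k hk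
      subst hm
      obtain ⟨V, hcV, hV⟩ := exists_fullyNormalized (F := F) hYS
      obtain ⟨u, u', hu, hu', hue, huN⟩ := exists_iso_to_fullyNormalized hS hF hcV hV
      have huz : u z = z := by
        rw [← hue z hzY]
        exact hbig _ u' hlt hu' (hzn Y hYS)
      have hzV : z ∈ V := huz ▸ hu.apply_mem hzY
      obtain ⟨ui, hui, huil, -⟩ := hu.exists_symm
      have hcard : Nat.card (normalizerIn S Y) ≤ Nat.card (normalizerIn S V) := by
        have : Finite (normalizerIn S V) := finite_of_le normalizerIn_le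
        exact Nat.card_le_card_of_injective
          (fun a : normalizerIn S Y => (⟨u' a, huN a a.2⟩ : normalizerIn S V)) fun a b hab =>
            Subtype.ext (hu'.injOn a.2 b.2 (congrArg Subtype.val hab))
      suffices hVfix : ∀ h, IsIso F V V h → h z = z by
        have h1 := hVfix _ ((hui.trans hk).trans hu)
        have h2 : ui z = z := by
          conv_lhs => rw [← huz]
          exact huil z hzY
        simp only [Function.comp_apply, h2] at h1
        refine hu.1.injOn (hk.apply_mem hzY) hzY ?_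
        rw [h1, huz]
      intro h hh
      by_cases hVT : normalizerIn S V = S
      · -- inside the normalizer of `V C_S(V)`
        have hSV : S ≤ Subgroup.normalizer (V : Set Ω) := fun a ha => (hVT.ge ha).2
        obtain ⟨hR0c, hR0n⟩ := centric_sup_centralizer hS hF hV.1 hSV
        obtain ⟨E, hEH, hEs, hEF, hEn, hEiff⟩ := exists_top_hyp hS hF hR0c.1 hR0n hH
        obtain ⟨h', hh', hhe⟩ := exists_extension_centralizer
          (fullyNormalized_receptive hS hF hV).2 hh
        have hh0 : IsIso F (V ⊔ centralizerIn S V) (V ⊔ centralizerIn S V) h' :=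
          hh'.isIso_self fun x hx => hh'.apply_mem_sup
            (fun y hy => Subgroup.mem_sup_left (by rw [hhe y hy]; exact hh.apply_mem hy))
            (fun y hy => Subgroup.mem_sup_right (hh'.apply_mem_centralizerIn le_sup_left
              (hh.congr hhe) (Subgroup.mem_sup_right hy) hy)) hx
        have hE : IsMor E (V ⊔ centralizerIn S V) h' :=
          (hEiff _ _).2 ⟨hR0c.1, h', by rwa [sup_idem], fun _ _ => rfl, hh0⟩
        rw [← hhe z hzV]
        exact hL S E _ hS hEs hEn (isCentric_of_sub hEF hR0c) z hzS hzc hEH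
          (fun k hk => hN k ⟨hk.1.of_le hEF, hk.2⟩) _ h' hE (Subgroup.mem_sup_left hzV)
      -- a smaller system
      have hS' : normalizerIn S V < S := lt_of_le_of_ne normalizerIn_le hVT
      obtain ⟨E, hE⟩ := exists_normalizerSystem F hV.1
      have hEs := normalizerSystem_saturated hS hF hV hE
      have : Finite (normalizerIn S V) := finite_of_le normalizerIn_le
      have hEm : IsMor E V h := (isMor_normalizer_iff hE).2
        ⟨le_normalizerIn hV.1, fun x hx => le_normalizerIn hV.1 (hh.apply_mem hx), h,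
          by rw [sup_idem]; exact hh.1, fun _ _ => rfl, hh⟩
      refine ih _ (card_lt_of_lt le_rfl hS') rfl (hS.to_le normalizerIn_le) hEs (hzn V hV.1)
        (fun a ha => hzc a ha.1) (hyp_normalizer hS hF hV hE hH) (fun k' hk' => ?_) V h hEm hzV
      set W' := W.W (normalizerIn S V)
      have hW'S : W' ≤ S := (W.le _).trans normalizerIn_le
      have hz' : z ∈ W' := hW _ (hS.to_le normalizerIn_le) z (hzn V hV.1) fun a ha => hzc a ha.1
      have hbigger : Nat.card (normalizerIn S V) < Nat.card (normalizerIn S W') := by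
        refine lt_of_lt_of_le (card_lt_of_lt normalizerIn_le (normalizerIn_self_lt hS hS')) ?_
        have : Finite (normalizerIn S W') := finite_of_le normalizerIn_le
        exact Nat.card_le_card_of_injective (Subgroup.inclusion
          (fun a ha => ⟨ha.1, W.mem_normalizer normalizerIn_le ha.1 ha.2⟩ :
            normalizerIn S (normalizerIn S V) ≤ normalizerIn S W')) (Subgroup.inclusion_injective _)
      have h3 : Nat.card (normalizerIn S V) < Nat.card S := card_lt_of_lt le_rfl hS'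
      exact ihm _ (by omega) W' rfl hW'S hz' (by omega) k' ⟨isMor_of_normalizer hE hk'.1, hk'.2⟩
    have hαi := isIso_autFun hR.1 hα
    exact hfix _ R rfl hR.1 hzR (hRcard ▸ hAlt hR.1 hRcard) _ hαi
  -- transport
  obtain ⟨k, k', hk, hk', hke, -⟩ :=
    exists_iso_to_fullyNormalized hS hF (isConj_trans (isConj_symm hf.isIso.isConj) hcR) hR
  have hfc : Nat.card (hf.image A le_rfl) = Nat.card A := hf.isIso.card_eq
  have hk'z : k' z = z := hbig _ k' (hAlt hf.isIso.le' hfc) hk' (hzn _ hf.isIso.le')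
  obtain ⟨gi, hgi, hgl, -⟩ := hg.exists_symm
  have hα : IsIso F R R (k ∘ f ∘ gi) := (hgi.trans hf.isIso).trans hk
  have h1 := key _ (autOf_mem hα)
  rw [autFun_apply _ hzR, autOf_apply] at h1
  have h2 : gi z = z := by
    conv_lhs => rw [← hgz]
    exact hgl z hzA
  simp only [Function.comp_apply, h2] at h1
  rw [← hke _ (hf.isIso.apply_mem hzA)] at h1
  exact hk'.injOn (le_normalizerIn hf.isIso.le' (hf.isIso.apply_mem hzA)) (hzn _ hf.isIso.le')
    (h1.trans hk'z.symm)

/-- The local condition for the abelian Thompson subgroup, from weak closure in groups. -/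
theorem fixLocalHyp_of_groups (V : SubFunctor.{v} p) (hV : CentralIn V)
    (hC : ∀ (L : Type v) [Group L] [Finite L] (P : Sylow p L),
      Subgroup.centralizer (pCore p L : Set L) ≤ pCore p L →
      ∀ z ∈ (P : Subgroup L), (∀ a ∈ (P : Subgroup L), a * z = z * a) →
        ((b ∧ (p ≠ 2 ∨ ¬ Involves (Equiv.Perm (Fin 4)) L)) ∨
          ∃ w ∈ (P : Subgroup L), (∀ a ∈ (P : Subgroup L), a * w = w * a) ∧ w ^ p = z) →
        (∀ g ∈ Subgroup.normalizer (V.W (P : Subgroup L) : Set L), g * z * g⁻¹ = z) →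
        ∀ g : L, g * z * g⁻¹ = z) : FixLocalHyp b p V := by
  intro Ω _ S _ F R hS hF hRn hRc z hzS hzc hH hN A f hf hzA
  obtain ⟨L, hLg, ι, hL, hLH⟩ : ∃ (L : Type v) (_ : Group L) (ι : S →* L), F.IsModel p L ι ∧
      ((b ∧ (p ≠ 2 ∨ ¬ Involves (Equiv.Perm (Fin 4)) L)) ∨ ∃ w ∈ S, (∀ a ∈ S, a * w = w * a) ∧ w ^ p = z) := by
    rcases hH with ⟨hb, h⟩ | h
    · obtain ⟨L, hLg, ι, hL, h'⟩ := exists_model_hyp hS hF hRn hRc h
      exact ⟨L, hLg, ι, hL, Or.inl ⟨hb, h'⟩⟩
    · obtain ⟨L, hLg, ι, hL⟩ := exists_model hS hF hRn hRc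
      exact ⟨L, hLg, ι, hL, Or.inr h⟩
  have := hL.1
  obtain ⟨T, hT⟩ := hL.2.2.1
  have hi := hL.2.1.1
  have hfin : Finite (V.W S) := finite_of_le (V.le S)
  have hVT : V.W (T : Subgroup L) = mImg ι (V.W S) := by
    rw [hT, ← V.map S ι hi]
    ext y
    constructor
    · rintro ⟨x, hx, rfl⟩
      exact ⟨x, hx, rfl⟩
    · rintro ⟨x, hx, rfl⟩
      exact ⟨x, hx, rfl⟩
  have hLH' : (b ∧ (p ≠ 2 ∨ ¬ Involves (Equiv.Perm (Fin 4)) L)) ∨ ∃ w ∈ (T : Subgroup L),
      (∀ a ∈ (T : Subgroup L), a * w = w * a) ∧ w ^ p = ι ⟨z, hzS⟩ := hLH.imp id fun ⟨w, hw, hwc, hwz⟩ =>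
    ⟨ι ⟨w, hw⟩, hT.ge ⟨_, rfl⟩, fun a ha => by
      obtain ⟨b, rfl⟩ := hT.le ha
      rw [← map_mul, ← map_mul]
      exact congrArg ι (Subtype.ext (hwc b b.2)), by
      rw [← map_pow]; exact congrArg ι (Subtype.ext hwz)⟩
  have hcen : ∀ g : L, g * ι ⟨z, hzS⟩ * g⁻¹ = ι ⟨z, hzS⟩ := by
    refine hC L T hL.2.2.2 _ (hT.ge ⟨_, rfl⟩) (fun a ha => ?_) hLH' fun g hg => ?_
    · obtain ⟨b, rfl⟩ := hT.le ha
      rw [← map_mul, ← map_mul]
      exact congrArg ι (Subtype.ext (hzc b b.2))
    · have hg' : g ∈ Subgroup.normalizer ((mImg ι (V.W S) : Subgroup L) : Set L) :=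
        (congrArg (fun X : Subgroup L => Subgroup.normalizer (X : Set L)) hVT).le hg
      have hmem : ∀ x : S, (x : Ω) ∈ V.W S → ∃ y : S, (y : Ω) ∈ V.W S ∧ g * ι x * g⁻¹ = ι y := by
        intro x hx
        obtain ⟨y, hy, he⟩ := (Subgroup.mem_normalizer_iff.1 hg' (ι x)).1 ⟨x, hx, rfl⟩
        exact ⟨y, hy, he.symm⟩
      have hzV : z ∈ V.W S := hV S hS z hzS hzc
      obtain ⟨k, hk, hkg⟩ := realized_exists_mor hL.2.1 (V.le S) g fun x hx => by
        obtain ⟨y, -, hy⟩ := hmem x hx
        exact ⟨y, hy.symm⟩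
      have hkV : IsIso F (V.W S) (V.W S) k := hk.isIso_self fun x hx => by
        obtain ⟨y, hy, he⟩ := hmem ⟨x, V.le S hx⟩ hx
        have e := hkg ⟨x, V.le S hx⟩ ⟨k x, hk.mem hx⟩ hx rfl
        rw [he] at e
        rw [show k x = (y : Ω) from congrArg Subtype.val (hi e)]
        exact hy
      exact (hkg ⟨z, hzS⟩ ⟨z, hzS⟩ hzV (hN k hkV).symm).symm
  obtain ⟨g, hg⟩ := realized_exists_conj hL.2.1 hf
  have e := hg ⟨z, hzS⟩ ⟨f z, hf.mem hzA⟩ hzA rfl
  rw [hcen g] at e
  exact congrArg Subtype.val (hi e)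

/-- The centre of `N_F(W(S))` is the centre of `F`. -/
theorem center_eq_of_fixLocalHyp (V : SubFunctor.{v} p) (hV : CentralIn V) (hL : FixLocalHyp b p V)
    {Ω : Type v} [Group Ω] {S : Subgroup Ω} [Finite S] (hS : IsPGroup p S) {F : FusionSystem S}
    (hF : F.IsSaturated p) {U : Subgroup Ω} (hU : U = V.W S) {N : FusionSystem (normalizerIn S U)}
    (hN : F.IsNormalizerSystem U N) : (∀ z ∈ N.center, (∀ n : ℤ, Hyp b p F (z ^ n)) → z ∈ F.center) ∧
      F.center ≤ N.center := by
  subst hU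
  have hUS : V.W S ≤ S := V.le S
  have hSU : S ≤ Subgroup.normalizer (V.W S : Set Ω) := fun a ha =>
    V.mem_normalizer le_rfl ha (Subgroup.le_normalizer ha)
  have hfn : F.IsFullyNormalized (V.W S) := ⟨hUS, fun R _ => by
    rw [show normalizerIn S (V.W S) = S from inf_eq_left.2 hSU]
    exact Nat.card_le_card_of_injective (Subgroup.inclusion normalizerIn_le)
      (Subgroup.inclusion_injective _)⟩
  have hNs := normalizerSystem_saturated hS hF hfn hN
  have : Finite (normalizerIn S (V.W S)) := finite_of_le normalizerIn_le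
  refine ⟨fun z hz hH => ?_, fun z hz => ?_⟩
  · have hz' := center_le_center N hz
    have hzS : z ∈ S := hz'.1.1
    have hzc : ∀ a ∈ S, a * z = z * a := fun a ha =>
      Subgroup.mem_centralizer_iff.1 hz'.2 a ⟨ha, hSU ha⟩
    refine mem_center_of_forall hS hF hzS fun x hx A f hf hxA => ?_
    have hxc : x ∈ N.center := Subgroup.zpowers_le.2 hz hx
    obtain ⟨n, rfl⟩ := hx
    refine fixed_of_functor_hyp V hV hL _ rfl hS hF (S.zpow_mem hzS n)
      (fun a ha => ((show Commute a z from hzc a ha).zpow_right n).eq) (hH n) (fun k hk => ?_) A f hf hxA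
    have hxV : z ^ n ∈ V.W S := hV S hS _ (S.zpow_mem hzS n) fun a ha =>
      ((show Commute a z from hzc a ha).zpow_right n).eq
    have hkN : IsMor N (V.W S) k := (isMor_normalizer_iff hN).2
      ⟨le_normalizerIn hUS, fun y hy => le_normalizerIn hUS (hk.apply_mem hy), k,
        by rw [sup_idem]; exact hk.1, fun _ _ => rfl, hk⟩
    exact center_fixed hkN hxc hxV
  · obtain ⟨hzS, hzc⟩ := center_le_center F hz
    have hzU : z ∈ V.W S := hV S hS z hzS fun a ha => Subgroup.mem_centralizer_iff.1 hzc a ha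
    refine mem_center_of_fixed (hS.to_le normalizerIn_le) hNs (isNormal_normalizerSystem hUS hN) hzU
      fun α hα => center_fixed (isMor_of_normalizer hN
        (isMor_of_mem_autGroup (le_normalizerIn hUS) hα)) hz hzU

end Cfsg.Agent.Fusion
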