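import Mathlib
import Cfsg.Agent.Lib.Fusion.Model
import Cfsg.Agent.Lib.Fusion.ModelUnique
import Cfsg.Agent.Lib.Fusion.NormalCriteria
import Cfsg.Agent.Lib.Fusion.GroupSystem
import Cfsg.Agent.Lib.Fusion.Factor

/-!
Constrained fusion systems of subnormal subgroups.
-/

set_option autoImplicit false

universe u

namespace Cfsg.Agent.Fusion.ConstrainedSubnormal

open Cfsg Cfsg.FusionSystem Cfsg.Agent.Fusion
open scoped commutatorElement

variable {p : ℕ} [Fact p.Prime]

/-- An element of `S` stabilising the series `Q ≥ R' ≥ 1` lies in the core of the model. -/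
theorem mem_modelCore_of_stab {Ω : Type u} [Group Ω] {S : Subgroup Ω} [Finite S] (hS : IsPGroup p S)
    {F : FusionSystem S} {L : Type*} [Group L] [Finite L] {ι : S →* L} (hM : F.IsModel p L ι)
    (R' : Subgroup Ω)
    (hnorm : ∀ (l : L) (a : S), (a : Ω) ∈ R' → ∃ b : S, (b : Ω) ∈ R' ∧ l * ι a * l⁻¹ = ι b)
    (x : S) (h1 : ∀ a ∈ R', a * (x : Ω) = x * a)
    (h2 : ∀ q ∈ modelCore p ι, (x : Ω) * q * (x : Ω)⁻¹ * q⁻¹ ∈ R') :
    (x : Ω) ∈ modelCore p ι := by
  set Q := modelCore p ι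
  set mR := mImg ι R'
  set mQ := mImg ι Q
  haveI hmRn : mR.Normal := ⟨fun y hy l => by
    obtain ⟨a, ha, rfl⟩ := mem_mImg.1 hy
    obtain ⟨b, hb, he⟩ := hnorm l a ha
    exact mem_mImg.2 ⟨b, hb, he.symm⟩⟩
  haveI hmQn : mQ.Normal := ⟨fun y hy l => by
    obtain ⟨a, ha, rfl⟩ := mem_mImg.1 hy
    obtain ⟨b, hb, he⟩ := modelCore_norm hM l a ha
    exact mem_mImg.2 ⟨b, hb, he.symm⟩⟩
  haveI : (mQ.map (QuotientGroup.mk' mR)).Normal :=
    Subgroup.Normal.map hmQn _ (QuotientGroup.mk'_surjective _)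
  set A := Subgroup.centralizer (mR : Set L) ⊓
    (Subgroup.centralizer (mQ.map (QuotientGroup.mk' mR) : Set (L ⧸ mR))).comap (QuotientGroup.mk' mR)
  haveI : A.Normal := inferInstance
  obtain ⟨k, hk⟩ := IsPGroup.iff_card.1 (hS.to_subgroup (R'.subgroupOf S))
  have hA : IsPGroup p A := by
    rintro ⟨a, haR, haQ⟩
    have hQp : IsPGroup p (pCore p L) := Solv.isPGroup_pCore p L
    have hmem : a ^ p ^ k ∈ pCore p L := by
      refine hM.2.2.2 (Subgroup.mem_centralizer_iff.2 fun y hy => ?_)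
      obtain ⟨q, hq, rfl⟩ := exists_preimage_pCore hM hy
      have hr : a * ι q * a⁻¹ * (ι q)⁻¹ ∈ mR := by
        rw [← QuotientGroup.eq_one_iff]
        have h1 := Subgroup.mem_centralizer_iff.1 haQ _ ⟨ι q, mem_mImg.2 ⟨q, hq, rfl⟩, rfl⟩
        simp only [QuotientGroup.mk'_apply] at h1
        rw [QuotientGroup.mk_mul, QuotientGroup.mk_mul, QuotientGroup.mk_mul, ← h1]
        simp [mul_assoc]
      set r := a * ι q * a⁻¹ * (ι q)⁻¹ with hrdef
      have hra : a * r * a⁻¹ = r := by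
        rw [← Subgroup.mem_centralizer_iff.1 haR r hr, mul_inv_cancel_right]
      have hpow : ∀ i : ℕ, a ^ i * ι q * (a ^ i)⁻¹ = r ^ i * ι q := by
        intro i
        induction i with
        | zero => simp
        | succ i ih =>
          calc a ^ (i + 1) * ι q * (a ^ (i + 1))⁻¹ = a * (a ^ i * ι q * (a ^ i)⁻¹) * a⁻¹ := by
                rw [pow_succ' a i]; group
            _ = (a * r * a⁻¹) ^ i * (a * ι q * a⁻¹) := by rw [ih, conj_pow]; group
            _ = r ^ i * (r * ι q) := by rw [hra, show r * ι q = a * ι q * a⁻¹ from inv_mul_cancel_right _ _]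
            _ = r ^ (i + 1) * ι q := by rw [pow_succ r i]; exact (mul_assoc _ _ _).symm
      have hrk : r ^ p ^ k = 1 := by
        obtain ⟨b, hb, he⟩ := mem_mImg.1 hr
        have : (⟨b, hb⟩ : R'.subgroupOf S) ^ p ^ k = 1 := hk ▸ pow_card_eq_one'
        rw [← he, ← map_pow, show b ^ p ^ k = 1 from congrArg Subtype.val this, map_one]
      have := hpow (p ^ k)
      rw [hrk, one_mul, mul_inv_eq_iff_eq_mul] at this
      exact this.symm
    obtain ⟨i, hi⟩ := hQp ⟨_, hmem⟩
    refine ⟨k + i, Subtype.ext ?_⟩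
    show a ^ p ^ (k + i) = 1
    rw [pow_add, pow_mul]
    exact congrArg Subtype.val hi
  have hxA : ι x ∈ A := by
    refine ⟨Subgroup.mem_centralizer_iff.2 fun y hy => ?_, Subgroup.mem_centralizer_iff.2 ?_⟩
    · obtain ⟨a, ha, rfl⟩ := mem_mImg.1 hy
      rw [← map_mul, ← map_mul]
      exact congrArg ι (Subtype.ext (h1 _ ha))
    · rintro _ ⟨_, hy, rfl⟩
      obtain ⟨q, hq, rfl⟩ := mem_mImg.1 hy
      simp only [QuotientGroup.mk'_apply]
      rw [← QuotientGroup.mk_mul, ← QuotientGroup.mk_mul, eq_comm, ← mul_inv_eq_one,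
        ← QuotientGroup.mk_inv, ← QuotientGroup.mk_mul, QuotientGroup.eq_one_iff]
      rw [← map_mul, ← map_mul, ← map_inv, ← map_mul]
      refine mem_mImg.2 ⟨_, ?_, rfl⟩
      simpa [mul_assoc] using h2 _ hq
  exact mem_modelCore.2 (Solv.le_pCore hA hxA : ι x ∈ pCore p L)

theorem constrained_comap {G H : Type u} [Group G] [Finite G] [Group H] [Finite H] (S : Sylow p G)
    (j : H →* G) (hj : Function.Injective j) [hn : j.range.Normal]
    (hF : (groupFusionSystem (S : Subgroup G)).IsConstrained p) :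
    ∃ T : Sylow p H, (T : Subgroup H) = (S : Subgroup G).comap j ∧
      (groupFusionSystem (T : Subgroup H)).IsConstrained p := by
  set F := groupFusionSystem (S : Subgroup G)
  have hS := S.isPGroup'
  obtain ⟨R₀, hR₀⟩ := exists_sylow_of_normal S j.range
  let T : Sylow p H := R₀.comapOfInjective j.rangeRestrict
    (fun a b h => hj (congrArg Subtype.val h)) (fun x _ => j.rangeRestrict_surjective x)
  have hT : (T : Subgroup H) = (S : Subgroup G).comap j := by
    show (R₀ : Subgroup j.range).comap j.rangeRestrict = _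
    rw [hR₀]
    rfl
  refine ⟨T, hT, ?_⟩
  obtain ⟨hsat, Q₀, hn₀, hc₀⟩ := hF
  obtain ⟨L, _, ι, hM⟩ := exists_model hS hsat hn₀ hc₀
  haveI : Finite L := hM.1
  set Q := modelCore p ι
  have hQn : F.IsNormal Q := isNormal_of_norm hM.2.1 modelCore_le (modelCore_norm hM)
  have hQS : Q ≤ (S : Subgroup G) := hQn.1
  obtain ⟨n, Qs, h0, hl, hm, hc⟩ := (isNormal_iff_chain hS hsat).1 hQn
  set R := Q.comap j
  have hRT : R ≤ (T : Subgroup H) := by rw [hT]; exact Subgroup.comap_mono hQS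
  have hclosed : ∀ U : Subgroup G, F.StronglyClosed U →
      (groupFusionSystem (T : Subgroup H)).StronglyClosed (U.comap j) := by
    intro U hU
    refine stronglyClosed_of_apply_mem (by rw [hT]; exact Subgroup.comap_mono hU.1) fun P f hP hf x hx => ?_
    obtain ⟨hPT, hfT, h, hh⟩ := isMor_groupFusionSystem.1 hf
    have hxU : j x ∈ U := hP hx
    have hfS : j h * j x * (j h)⁻¹ ∈ (S : Subgroup G) := by
      have := hfT x hx
      rw [hT, hh x hx] at this
      simpa using this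
    have hmor : IsMor F (Subgroup.zpowers (j x)) (fun y => j h * y * (j h)⁻¹) := by
      refine isMor_groupFusionSystem.2 ⟨Subgroup.zpowers_le.2 (hU.1 hxU), fun y hy => ?_, j h, fun _ _ => rfl⟩
      obtain ⟨k, rfl⟩ := hy
      have := zpow_mem hfS k
      rwa [conj_zpow] at this
    show j (f x) ∈ U
    rw [hh x hx, map_mul, map_mul, map_inv]
    exact stronglyClosed_apply hU hmor (Subgroup.mem_zpowers _) hxU
  have hTsat := isSaturated_groupFusionSystem T
  have hRsc := hclosed Q (normal_stronglyClosed hQn)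
  refine ⟨hTsat, R, (isNormal_iff_chain T.isPGroup' hTsat).2
    ⟨n, fun i => (Qs i).comap j, ?_, congrArg (Subgroup.comap j) hl, fun a b h => Subgroup.comap_mono (hm h), fun i =>
      ⟨hclosed _ (hc i).1, Subgroup.commutator_le.2 fun a ha b hb => ?_⟩⟩, hRT, fun U hU => ?_⟩
  · show (Qs 0).comap j = ⊥
    rw [h0, MonoidHom.comap_bot, (MonoidHom.ker_eq_bot_iff j).2 hj]
  · show j ⁅a, b⁆ ∈ Qs (Fin.castSucc i)
    rw [map_commutatorElement]
    exact (hc i).2 (Subgroup.commutator_mem_commutator ha hb)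
  -- `C_T(R) ≤ R`
  obtain ⟨f, hf⟩ := isConj_iff_exists_isIso.1 hU
  obtain rfl : U = R := hf.image_unique (hf.1.isIso_self fun x hx => stronglyClosed_apply hRsc hf.1 hx hx)
  intro t ht
  obtain ⟨htT, htC⟩ := mem_centralizerIn.1 ht
  rw [hT] at htT
  set x : (S : Subgroup G) := ⟨j t, htT⟩
  set R' := Q ⊓ j.range
  have hnorm : ∀ (l : L) (a : (S : Subgroup G)), (a : G) ∈ R' →
      ∃ b : (S : Subgroup G), (b : G) ∈ R' ∧ l * ι a * l⁻¹ = ι b := by
    intro l a ha
    obtain ⟨b, hb, he⟩ := modelCore_norm hM l a ha.1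
    obtain ⟨k, hk, hkl⟩ := realized_exists_mor hM.2.1 hQS l fun c hc => by
      obtain ⟨d, -, hd⟩ := modelCore_norm hM l c hc
      exact ⟨d, hd.symm⟩
    obtain ⟨-, -, g, hg⟩ := isMor_groupFusionSystem.1 hk
    have h1 := hkl a ⟨k a, hk.mem ha.1⟩ ha.1 rfl
    rw [he] at h1
    have h2 : k a = b := congrArg Subtype.val (hM.2.1.1 h1)
    refine ⟨b, ⟨hb, ?_⟩, he⟩
    rw [← h2, hg _ ha.1]
    exact hn.conj_mem _ ha.2 g
  exact mem_modelCore_of_stab hS hM R' hnorm x (fun a ha => by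
      obtain ⟨haQ, s, rfl⟩ := ha
      have e := congrArg j (htC s (show s ∈ Q.comap j from haQ))
      rwa [map_mul, map_mul] at e) fun q hq => ⟨Q.mul_mem
        (conj_mem_of_mem_normalizer (normal_le_normalizer hQn htT) hq) (Q.inv_mem hq),
      by simpa [mul_assoc] using j.range.mul_mem ⟨t, rfl⟩ (hn.conj_mem _ (j.range.inv_mem ⟨t, rfl⟩) q)⟩

theorem constrained_quotient {H : Type u} [Group H] [Finite H] (T : Sylow p H)
    (Z : Subgroup H) [Z.Normal] (hZ : Z ≤ Subgroup.center H)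
    (hF : (groupFusionSystem (T : Subgroup H)).IsConstrained p) :
    (groupFusionSystem ((T : Subgroup H).map (QuotientGroup.mk' Z))).IsConstrained p := by
  set F := groupFusionSystem (T : Subgroup H)
  set π := QuotientGroup.mk' Z
  have hT := T.isPGroup'
  let T' : Sylow p (H ⧸ Z) := T.mapSurjective (QuotientGroup.mk'_surjective Z)
  show (groupFusionSystem (T' : Subgroup (H ⧸ Z))).IsConstrained p
  have hT' : (T' : Subgroup (H ⧸ Z)) = (T : Subgroup H).map π := rfl
  obtain ⟨hsat, Q₀, hn₀, hc₀⟩ := hF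
  obtain ⟨L, _, ι, hM⟩ := exists_model hT hsat hn₀ hc₀
  haveI : Finite L := hM.1
  set Q := modelCore p ι
  have hQn : F.IsNormal Q := isNormal_of_norm hM.2.1 modelCore_le (modelCore_norm hM)
  have hQS : Q ≤ (T : Subgroup H) := hQn.1
  -- a p-element of `T Z` lies in `T`
  have hlift : ∀ x g : H, x ∈ (T : Subgroup H) → π (g * x * g⁻¹) ∈ (T' : Subgroup (H ⧸ Z)) →
      g * x * g⁻¹ ∈ (T : Subgroup H) := by
    intro x g hx hy
    obtain ⟨t, ht, e⟩ := hy
    set y := g * x * g⁻¹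
    have hz : t⁻¹ * y ∈ Z := (QuotientGroup.eq).1 e
    have hzc := Subgroup.mem_center_iff.1 (hZ hz)
    have hcomm : Commute t⁻¹ y := by
      show t⁻¹ * y = y * t⁻¹
      have h1 := hzc t⁻¹
      calc t⁻¹ * y = t * (t⁻¹ * (t⁻¹ * y)) := by group
        _ = t * (t⁻¹ * y * t⁻¹) := by rw [h1]
        _ = y * t⁻¹ := by group
    obtain ⟨a, ha⟩ := hT ⟨x, hx⟩
    obtain ⟨b, hb⟩ := hT ⟨t, ht⟩
    have hzp : IsPGroup p (Subgroup.zpowers (t⁻¹ * y)) := by
      rintro ⟨_, i, rfl⟩
      refine ⟨a + b, Subtype.ext ?_⟩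
      show ((t⁻¹ * y) ^ i) ^ p ^ (a + b) = 1
      have h1 : y ^ p ^ a = 1 := by
        rw [conj_pow, show x ^ p ^ a = 1 from congrArg Subtype.val ha]; group
      have h2 : t ^ p ^ b = 1 := congrArg Subtype.val hb
      rw [← zpow_natCast, ← zpow_mul, mul_comm, zpow_mul, zpow_natCast, hcomm.mul_pow, inv_pow]
      nth_rw 1 [pow_add, mul_comm, pow_mul, h2]
      rw [pow_add, pow_mul, h1]
      simp
    haveI : (Subgroup.zpowers (t⁻¹ * y)).Normal := ⟨fun n hn g' => by
      have := Subgroup.mem_center_iff.1 (hZ (Subgroup.zpowers_le.2 hz hn)) g'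
      rwa [this, mul_inv_cancel_right]⟩
    have := (T : Subgroup H).mul_mem ht (hzp.le_sylow_of_normal T (Subgroup.mem_zpowers _))
    rwa [mul_inv_cancel_left] at this
  have hclosed : ∀ U : Subgroup H, F.StronglyClosed U →
      (groupFusionSystem (T' : Subgroup (H ⧸ Z))).StronglyClosed (U.map π) := by
    intro U hU
    refine stronglyClosed_of_apply_mem (Subgroup.map_mono hU.1) fun P f hP hf y hy => ?_
    obtain ⟨-, hfT, h, hh⟩ := isMor_groupFusionSystem.1 hf
    obtain ⟨x, hx, rfl⟩ := hP hy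
    obtain ⟨g, rfl⟩ := QuotientGroup.mk'_surjective Z h
    have h1 := hfT _ hy
    rw [hh _ hy, ← map_inv, ← map_mul, ← map_mul] at h1
    have hfS := hlift x g (hU.1 hx) h1
    have hmor : IsMor F (Subgroup.zpowers x) (fun y => g * y * g⁻¹) := by
      refine isMor_groupFusionSystem.2 ⟨Subgroup.zpowers_le.2 (hU.1 hx), fun y hy => ?_, g, fun _ _ => rfl⟩
      obtain ⟨k, rfl⟩ := hy
      have := zpow_mem hfS k
      rwa [conj_zpow] at this
    refine ⟨_, stronglyClosed_apply hU hmor (Subgroup.mem_zpowers _) hx, ?_⟩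
    rw [hh _ hy, map_mul, map_mul, map_inv]
  obtain ⟨n, Qs, h0, hl, hm, hc⟩ := (isNormal_iff_chain hT hsat).1 hQn
  have hRsc := hclosed Q (normal_stronglyClosed hQn)
  have hsat' := isSaturated_groupFusionSystem T'
  refine ⟨hsat', Q.map π, (isNormal_iff_chain T'.isPGroup' hsat').2
    ⟨n, fun i => (Qs i).map π, by show (Qs 0).map π = ⊥; rw [h0, Subgroup.map_bot],
      congrArg (Subgroup.map π) hl, fun a b h => Subgroup.map_mono (hm h),
      fun i => ⟨hclosed _ (hc i).1, by rw [← Subgroup.map_commutator]; exact Subgroup.map_mono (hc i).2⟩⟩,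
    hRsc.1, fun U hU => ?_⟩
  obtain ⟨f, hf⟩ := isConj_iff_exists_isIso.1 hU
  obtain rfl : U = Q.map π :=
    hf.image_unique (hf.1.isIso_self fun x hx => stronglyClosed_apply hRsc hf.1 hx hx)
  intro u hu
  obtain ⟨huT, huC⟩ := mem_centralizerIn.1 hu
  obtain ⟨t, ht, rfl⟩ := huT
  set x : (T : Subgroup H) := ⟨t, ht⟩
  refine ⟨t, mem_modelCore_of_stab hT hM (Q ⊓ Z) (fun l a ha => ?_) x
    (fun a ha => (Subgroup.mem_center_iff.1 (hZ ha.2) t).symm) (fun q hq => ⟨Q.mul_mem
      (conj_mem_of_mem_normalizer (normal_le_normalizer hQn ht) hq) (Q.inv_mem hq), ?_⟩), rfl⟩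
  · obtain ⟨b, hb, he⟩ := modelCore_norm hM l a ha.1
    obtain ⟨k, hk, hkl⟩ := realized_exists_mor hM.2.1 hQS l fun c hc => by
      obtain ⟨d, -, hd⟩ := modelCore_norm hM l c hc
      exact ⟨d, hd.symm⟩
    obtain ⟨-, -, g, hg⟩ := isMor_groupFusionSystem.1 hk
    have e1 := hkl a ⟨k a, hk.mem ha.1⟩ ha.1 rfl
    rw [he] at e1
    have e2 : k a = b := congrArg Subtype.val (hM.2.1.1 e1)
    refine ⟨a, ha, ?_⟩
    rw [hg _ ha.1, Subgroup.mem_center_iff.1 (hZ ha.2) g, mul_inv_cancel_right] at e2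
    rw [he, show b = a from Subtype.ext e2.symm]
  · have e := huC (π q) ⟨q, hq, rfl⟩
    show t * q * t⁻¹ * q⁻¹ ∈ Z
    rw [← QuotientGroup.eq_one_iff]
    show π (t * q * t⁻¹ * q⁻¹) = 1
    rw [map_mul, map_mul, map_mul, map_inv, map_inv, show π t * π q = π q * π t from e.symm, mul_inv_cancel_right, mul_inv_cancel]

theorem constrained_subnormal {G : Type u} [Group G] [Finite G] (S : Sylow p G)
    (hF : (groupFusionSystem (S : Subgroup G)).IsConstrained p) {H : Subgroup G} (hH : H.IsSubnormal) :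
    ∃ T : Sylow p H, (T : Subgroup H) = (S : Subgroup G).subgroupOf H ∧
      (groupFusionSystem (T : Subgroup H)).IsConstrained p := by
  induction hH with
  | top =>
    haveI : ((⊤ : Subgroup G).subtype).range.Normal := by rw [Subgroup.range_subtype]; infer_instance
    exact constrained_comap S (⊤ : Subgroup G).subtype (Subgroup.subtype_injective _) hF
  | step H K hle _ hN ih =>
    obtain ⟨T, hT, hTc⟩ := ih
    haveI : (Subgroup.inclusion hle).range.Normal := by rwa [Subgroup.inclusion_range]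
    obtain ⟨U, hU, hUc⟩ := constrained_comap T (Subgroup.inclusion hle) (Subgroup.inclusion_injective _) hTc
    exact ⟨U, by rw [hU, hT]; rfl, hUc⟩

end Cfsg.Agent.Fusion.ConstrainedSubnormal
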