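import Mathlib
import Cfsg.Agent.Lib.Fusion.DihedralFusion
import Cfsg.Agent.Lib.Inv.KleinSylow

/-!
Consequences for groups with dihedral Sylow 2-subgroups.
-/

set_option autoImplicit false

namespace Cfsg.Agent.Fusion.DihedralModel

open Cfsg

variable {G : Type*} [Group G] [Finite G]

theorem cases (S : Sylow 2 G) (m : ℕ) (hm : 2 ≤ m) (e : (S : Subgroup G) ≃* DihedralGroup m) :
    (IsKleinFour (S : Subgroup G) ∧ Nat.card S = 4) ∨ ∃ (k : ℕ) (D : Setup G k), D.S = S ∧ 4 < Nat.card S := by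
  have hc : Nat.card (S : Subgroup G) = 2 * m := (Nat.card_congr e.toEquiv).trans DihedralGroup.nat_card
  obtain ⟨j, hj⟩ := IsPGroup.iff_card.1 S.2
  obtain ⟨k, -, rfl⟩ := (Nat.dvd_prime_pow Nat.prime_two).1 (show m ∣ 2 ^ j from ⟨2, by rw [← hj, hc, mul_comm]⟩)
  rcases Nat.lt_or_ge k 2 with h | h
  · left
    obtain rfl : k = 1 := by
      rcases Nat.eq_zero_or_pos k with rfl | h0
      · norm_num at hm
      · omega
    have hV : IsKleinFour (DihedralGroup (2 ^ 1)) := inferInstanceAs (IsKleinFour (DihedralGroup 2))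
    exact ⟨{ card_four := (Nat.card_congr e.toEquiv).trans hV.card_four
             exponent_two := (Monoid.exponent_eq_of_mulEquiv e).trans hV.exponent_two }, hc⟩
  · refine Or.inr ⟨k, ⟨S, h, e.symm⟩, rfl, ?_⟩
    have := Nat.pow_le_pow_right (show 0 < 2 by norm_num) h
    show 4 < Nat.card (S : Subgroup G)
    rw [hc]; omega

theorem exists_klein_le (S : Sylow 2 G) (m : ℕ) (hm : 2 ≤ m) (e : (S : Subgroup G) ≃* DihedralGroup m) :
    ∃ U : Subgroup G, U ≤ S ∧ IsKleinFour U := by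
  rcases cases S m hm e with ⟨hK, -⟩ | ⟨k, D, rfl, -⟩
  · exact ⟨_, le_rfl, hK⟩
  · exact ⟨D.U 0, D.U_le 0, D.isKleinFour_U 0⟩

theorem three_nontrivial {U : Subgroup G} (hU : IsKleinFour U) (z : G) : ∃ u ∈ U, u ≠ 1 ∧ u ≠ z := by
  by_contra h
  push_neg at h
  have hsub : (U : Set G) ⊆ {1, z} := fun u hu => by
    by_cases h1 : u = 1
    · exact Or.inl h1
    · exact Or.inr (h u hu h1)
  have h1 := Set.ncard_le_ncard hsub (Set.toFinite _)
  rw [← Nat.card_coe_set_eq, SetLike.coe_sort_coe, hU.card_four] at h1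
  have := Set.ncard_insert_le (1 : G) {z}
  rw [Set.ncard_singleton] at this
  omega

theorem orderOf_of_mem {U : Subgroup G} (hU : IsKleinFour U) {u : G} (hu : u ∈ U) (h1 : u ≠ 1) : orderOf u = 2 := by
  have : Fact (Nat.Prime 2) := ⟨Nat.prime_two⟩
  refine orderOf_eq_prime_iff.2 ⟨?_, h1⟩
  simpa [hU.exponent_two] using congrArg Subtype.val (Monoid.pow_exponent_eq_one (⟨u, hu⟩ : U))

/-- One class of involutions and two commuting involutions exclude isolated involutions. -/
theorem no_isolated (U : Subgroup G) (hU : IsKleinFour U)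
    (hone : ∀ a b : G, orderOf a = 2 → orderOf b = 2 → IsConj a b) (z : G) : ¬ IsIsolatedInvolution z := by
  rintro ⟨hz, hiso⟩
  obtain ⟨u, hu, hu1, -⟩ := three_nontrivial hU 1
  obtain ⟨v, hv, hv1, hvu⟩ := three_nontrivial hU u
  obtain ⟨a, ha⟩ := isConj_iff.1 (hone z u hz (orderOf_of_mem hU hu hu1))
  obtain ⟨b, hb⟩ := isConj_iff.1 (hone z v hz (orderOf_of_mem hU hv hv1))
  have huv : Commute u v := congrArg Subtype.val (mul_comm_of_exponent_two hU.exponent_two (⟨u, hu⟩ : U) ⟨v, hv⟩)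
  have hu' : a⁻¹ * u * a = z := by rw [← ha]; group
  have hv' : a⁻¹ * v * a = a⁻¹ * b * z * (a⁻¹ * b)⁻¹ := by rw [← hb]; group
  have h := hiso (a⁻¹ * b) (by
    rw [← hv', ← hu']
    show a⁻¹ * u * a * (a⁻¹ * v * a) = a⁻¹ * v * a * (a⁻¹ * u * a)
    rw [show a⁻¹ * u * a * (a⁻¹ * v * a) = a⁻¹ * (u * v) * a by group, huv.eq]; group)
  rw [← hv', ← hu'] at h
  exact hvu (mul_left_cancel (mul_right_cancel h))

/-- One class of involutions excludes subgroups of index two. -/
theorem no_index_two (S : Sylow 2 G) (m : ℕ) (hm : 2 ≤ m) (e : (S : Subgroup G) ≃* DihedralGroup m)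
    (hone : ∀ a b : G, orderOf a = 2 → orderOf b = 2 → IsConj a b) (H : Subgroup G) : H.index ≠ 2 := by
  intro hH
  have : H.Normal := Subgroup.normal_of_index_eq_two hH
  obtain ⟨U, -, hU⟩ := exists_klein_le S m hm e
  obtain ⟨u, hu, hu1, -⟩ := three_nontrivial hU 1
  obtain ⟨v, hv, hv1, hvu⟩ := three_nontrivial hU u
  have huv1 : u * v ≠ 1 := fun h => hvu (by
    rw [eq_inv_of_mul_eq_one_right h]; exact inv_eq_self_of_orderOf_eq_two (orderOf_of_mem hU hu hu1))
  have hH2 : ∀ a b : G, orderOf a = 2 → orderOf b = 2 → a ∈ H → b ∈ H := fun a b ha hb hm' => by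
    obtain ⟨g, rfl⟩ := isConj_iff.1 (hone a b ha hb)
    exact Subgroup.Normal.conj_mem inferInstance a hm' g
  have hall : ∀ b : G, orderOf b = 2 → b ∈ H := by
    intro b hb
    by_contra hbH
    have hn : ∀ w ∈ U, w ≠ 1 → w ∉ H := fun w hw hw1 h => hbH (hH2 w b (orderOf_of_mem hU hw hw1) hb h)
    exact hn _ (mul_mem hu hv) huv1 ((Subgroup.mul_mem_iff_of_index_two hH).2 (iff_of_false (hn u hu hu1) (hn v hv hv1)))
  have hle : (S : Subgroup G) ≤ H := by
    intro x hx
    obtain ⟨w, hw⟩ : ∃ w, (e.symm w : G) = x := ⟨e ⟨x, hx⟩, by rw [e.symm_apply_apply]⟩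
    subst hw
    have hsr : ∀ i, ((e.symm (DihedralGroup.sr i) : (S : Subgroup G)) : G) ∈ H := fun i => hall _ (by
      rw [Subgroup.orderOf_coe, MulEquiv.orderOf_eq, DihedralGroup.orderOf_sr])
    cases w with
    | sr i => exact hsr i
    | r i =>
      have := mul_mem (hsr 0) (hsr i)
      rwa [← Subgroup.coe_mul, ← map_mul, DihedralGroup.sr_mul_sr, sub_zero] at this
  exact S.not_dvd_index ((dvd_of_eq hH.symm).trans (Subgroup.index_dvd_of_le hle))

theorem range_card_eq (U : Subgroup G) : Nat.card U.normalizerMonoidHom.range =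
    (Subgroup.centralizer (U : Set G)).relIndex (Subgroup.normalizer (U : Set G)) :=
  Wreathed.card_range_normalizerMonoidHom U

end Cfsg.Agent.Fusion.DihedralModel
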