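import Mathlib
import Cfsg.Agent.Lib.Fusion.DihedralRows

/-!
Involution classes and normal complements for dihedral Sylow 2-subgroups.
-/

set_option autoImplicit false

namespace Cfsg.Agent.Fusion.DihedralModel

open Cfsg Cfsg.FusionSystem

namespace Setup

variable {k : ℕ} {G : Type*} [Group G] (D : Setup G k) [Finite G]

/-- Without automizers divisible by three the fusion is inner. -/
theorem fusion_inner (h : ∀ ε, ¬ 3 ∣ Nat.card (D.U ε).normalizerMonoidHom.range)
    {x a : G} (hx : x ∈ (D.S : Subgroup G)) (hax : a * x * a⁻¹ ∈ (D.S : Subgroup G)) :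
    ∃ z ∈ (D.S : Subgroup G), z * x * z⁻¹ = a * x * a⁻¹ := by
  have hno : ∀ P, ¬ (groupFusionSystem (D.S : Subgroup G)).IsEssential 2 P := fun P hP => by
    obtain ⟨hPS, hK, hne⟩ := D.essential_klein hP
    obtain ⟨δ, s, hs, rfl⟩ := D.klein_cases hPS hK
    have h1 := three_dvd hK hne
    rw [Wreathed.card_range_normalizerMonoidHom, (Wreathed.relIndex_conj _ _).1, ← Wreathed.card_range_normalizerMonoidHom] at h1
    exact h δ h1
  have hle := EssentialControl.le_inner D.S.2 (isSaturated_groupFusionSystem D.S) D.isPGroup_autGroup_S hno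
  have hm : IsMor (groupFusionSystem (D.S : Subgroup G))
      ((D.S : Subgroup G) ⊓ (D.S : Subgroup G).comap (MulAut.conj a).toMonoidHom) (fun y => a * y * a⁻¹) :=
    isMor_groupFusionSystem.2 ⟨inf_le_left, fun y hy => hy.2, a, fun _ _ => rfl⟩
  obtain ⟨-, z, hz, h'⟩ := isMor_inner.1 (le_iff_isMor.1 hle _ _ hm)
  exact ⟨z, hz, (h' x ⟨hx, hax⟩).symm⟩

/-- A reflection of a given parity. -/
def tI (ε : ZMod 2) : G := D.ι (DihedralGroup.sr ((ε.val : ℕ) : ZMod (2 ^ k)))

theorem tI_mem (ε : ZMod 2) : D.tI ε ∈ D.U ε := ⟨_, (mem_four D.hk _).2 (Or.inr (Or.inr (Or.inl rfl))), rfl⟩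

theorem tI_ne_one (ε : ZMod 2) : D.tI ε ≠ 1 := fun h => by
  have := D.ι_injective (h.trans (map_one D.ι).symm)
  rw [DihedralGroup.one_def] at this
  cases this

theorem tI_not_mem (ε : ZMod 2) : D.tI ε ∉ D.MP (ε + 1) := by
  rintro ⟨u, hu, he⟩
  rw [D.ι_injective he, SetLike.mem_coe, mem_ker_sr, D.par_val] at hu
  exact (show ∀ a : ZMod 2, a ≠ a + 1 by decide) ε hu

theorem orderOf_reps (ε : ZMod 2) : orderOf D.zI = 2 ∧ orderOf (D.tI ε) = 2 :=
  ⟨orderOf_of_mem (D.isKleinFour_U ε) (D.zI_mem ε) D.zI_ne_one, orderOf_of_mem (D.isKleinFour_U ε) (D.tI_mem ε) (D.tI_ne_one ε)⟩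

theorem classes_eq : {C : ConjClasses G | ∃ g : G, ConjClasses.mk g = C ∧ orderOf g = 2} =
    {ConjClasses.mk D.zI, ConjClasses.mk (D.tI 0), ConjClasses.mk (D.tI 1)} := by
  ext C
  constructor
  · rintro ⟨x, rfl, hx⟩
    have hp : IsPGroup 2 (Subgroup.zpowers x) := IsPGroup.of_card (n := 1) (by rw [Nat.card_zpowers, hx, pow_one])
    obtain ⟨g, hg⟩ := exists_conj_le_sylow D.S hp
    obtain ⟨u, hu⟩ := D.exists_ι (hg ⟨x, Subgroup.mem_zpowers x, rfl⟩ : (MulAut.conj g).toMonoidHom x ∈ (D.S : Subgroup G))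
    have ho : orderOf u = 2 := by
      rw [← orderOf_injective D.ι D.ι_injective, hu, orderOf_injective _ (MulAut.conj g).injective, hx]
    have hxu : IsConj x (D.ι u) := isConj_iff.2 ⟨g, hu.symm⟩
    rcases involution_cases (le_of_lt (Nat.lt_of_succ_le D.hk)) ho with rfl | ⟨i, rfl⟩
    · exact Or.inl (ConjClasses.mk_eq_mk_iff_isConj.2 hxu)
    · have hp' := D.par_val (par (k := k) (le_of_lt (Nat.lt_of_succ_le D.hk)) i)
      obtain ⟨d, hd⟩ := exists_half_of_par (k := k) (le_of_lt (Nat.lt_of_succ_le D.hk))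
        (x := i - (((par (k := k) (le_of_lt (Nat.lt_of_succ_le D.hk)) i).val : ℕ) : ZMod (2 ^ k))) (by rw [map_sub, hp', sub_self])
      have hc : IsConj (D.ι (DihedralGroup.sr i)) (D.tI (par (k := k) (le_of_lt (Nat.lt_of_succ_le D.hk)) i)) := by
        refine D.ι.map_isConj (isConj_iff.2 ⟨DihedralGroup.r d, ?_⟩)
        rw [DihedralGroup.r_mul_sr, DihedralGroup.inv_r, DihedralGroup.sr_mul_r]
        congr 1
        linear_combination hd
      rcases (show ∀ e : ZMod 2, e = 0 ∨ e = 1 by decide) (par (k := k) (le_of_lt (Nat.lt_of_succ_le D.hk)) i) with h | h <;> rw [h] at hc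
      · exact Or.inr (Or.inl (ConjClasses.mk_eq_mk_iff_isConj.2 (hxu.trans hc)))
      · exact Or.inr (Or.inr (ConjClasses.mk_eq_mk_iff_isConj.2 (hxu.trans hc)))
  · rintro (rfl | rfl | rfl)
    exacts [⟨_, rfl, (D.orderOf_reps 0).1⟩, ⟨_, rfl, (D.orderOf_reps 0).2⟩, ⟨_, rfl, (D.orderOf_reps 1).2⟩]

theorem fused {ε : ZMod 2} (h : 3 ∣ Nat.card (D.U ε).normalizerMonoidHom.range) : IsConj D.zI (D.tI ε) :=
  klein_transitive (D.isKleinFour_U ε) h (D.zI_mem ε) (D.tI_mem ε) D.zI_ne_one (D.tI_ne_one ε)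

/-- Without an automizer divisible by three the corresponding reflection is not fused to the centre. -/
theorem not_fused {ε : ZMod 2} (h : ¬ 3 ∣ Nat.card (D.U ε).normalizerMonoidHom.range) : ¬ IsConj D.zI (D.tI ε) := by
  intro hc
  obtain ⟨a, ha⟩ := isConj_iff.1 hc
  have hcongr : D.zI⁻¹ * (a * D.zI * a⁻¹) ∈ D.MP (ε + 1) := by
    have hm : IsMor (groupFusionSystem (D.S : Subgroup G))
        ((D.S : Subgroup G) ⊓ (D.S : Subgroup G).comap (MulAut.conj a).toMonoidHom) (fun y => a * y * a⁻¹) :=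
      isMor_groupFusionSystem.2 ⟨inf_le_left, fun y hy => hy.2, a, fun _ _ => rfl⟩
    refine EssentialControl.congr_of_essential D.S.2 (isSaturated_groupFusionSystem D.S) _ (D.commutator_le (ε + 1)) (fun P hP α hα y => ?_) hm
      ⟨D.ι_mem _, show a * D.zI * a⁻¹ ∈ (D.S : Subgroup G) from ha ▸ D.ι_mem _⟩
    rcases hP with rfl | hP
    · obtain ⟨s, hs, -, hsx⟩ := mem_autInducedBy.1
        (EssentialControl.autGroup_self_le D.S.2 (isSaturated_groupFusionSystem D.S) D.isPGroup_autGroup_S hα)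
      rw [hsx y]
      have := D.commutator_le (ε + 1) (Subgroup.commutator_mem_commutator (inv_mem y.2) hs)
      simpa [commutatorElement_def, mul_assoc] using this
    · obtain ⟨hPS, hK, hne⟩ := D.essential_klein hP
      obtain ⟨δ, s, hs, rfl⟩ := D.klein_cases hPS hK
      obtain rfl : δ = ε + 1 := by
        by_contra hne'
        have hδ : δ = ε := (show ∀ a b : ZMod 2, a ≠ b + 1 → a = b by decide) δ ε hne'
        refine h (hδ ▸ ?_)
        have := three_dvd hK hne
        rwa [Wreathed.card_range_normalizerMonoidHom, (Wreathed.relIndex_conj _ _).1, ← Wreathed.card_range_normalizerMonoidHom] at this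
      have hle : (D.U (ε + 1)).map (MulAut.conj s).toMonoidHom ≤ D.MP (ε + 1) := by
        rintro _ ⟨u, hu, rfl⟩
        exact D.conj_mem _ hs ((D.U_le_MP _ _).2 rfl hu)
      exact mul_mem (inv_mem (hle y.2)) (hle (α y).2)
  have hz : D.zI ∈ D.MP (ε + 1) := (D.U_le_MP (ε + 1) (ε + 1)).2 rfl (D.zI_mem _)
  have h1 := mul_mem hz hcongr
  rw [mul_inv_cancel_left, ha] at h1
  exact D.tI_not_mem ε h1

theorem card_classes_three (h : ∀ ε, ¬ 3 ∣ Nat.card (D.U ε).normalizerMonoidHom.range) :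
    Nat.card {C : ConjClasses G // ∃ g : G, ConjClasses.mk g = C ∧ orderOf g = 2} = 3 := by
  rw [← Set.coe_setOf, Nat.card_coe_set_eq, D.classes_eq, Set.ncard_eq_three]
  refine ⟨_, _, _, ?_, ?_, ?_, rfl⟩ <;> rw [Ne, ConjClasses.mk_eq_mk_iff_isConj]
  · exact D.not_fused (h 0)
  · exact D.not_fused (h 1)
  · intro hc
    obtain ⟨a, ha⟩ := isConj_iff.1 hc
    obtain ⟨z, hz, hze⟩ := D.fusion_inner h (D.ι_mem _) (show a * D.tI 0 * a⁻¹ ∈ (D.S : Subgroup G) from ha ▸ D.ι_mem _)
    have h1 : D.tI 0 ∈ D.MP (1 + 1) := (D.U_le_MP 0 (1 + 1)).2 (by decide) (D.tI_mem 0)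
    have h2 := D.conj_mem (1 + 1) hz h1
    rw [show z * D.tI 0 * z⁻¹ = a * D.tI 0 * a⁻¹ from hze, ha] at h2
    exact D.tI_not_mem 1 h2

theorem card_classes_two {ε : ZMod 2} (h : 3 ∣ Nat.card (D.U ε).normalizerMonoidHom.range)
    (h' : ¬ 3 ∣ Nat.card (D.U (ε + 1)).normalizerMonoidHom.range) :
    Nat.card {C : ConjClasses G // ∃ g : G, ConjClasses.mk g = C ∧ orderOf g = 2} = 2 := by
  rw [← Set.coe_setOf, Nat.card_coe_set_eq, D.classes_eq]
  have h1 := ConjClasses.mk_eq_mk_iff_isConj.2 (D.fused h)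
  have h2 : ConjClasses.mk D.zI ≠ ConjClasses.mk (D.tI (ε + 1)) := fun he => D.not_fused h' (ConjClasses.mk_eq_mk_iff_isConj.1 he)
  rcases (show ∀ e : ZMod 2, e = 0 ∨ e = 1 by decide) ε with rfl | rfl
  · rw [zero_add] at h2
    rw [← h1, Set.insert_eq_of_mem (Set.mem_insert _ _), Set.ncard_pair h2]
  · rw [show (1 : ZMod 2) + 1 = 0 from rfl] at h2
    rw [← h1, Set.pair_comm, Set.insert_eq_of_mem (Set.mem_insert _ _), Set.ncard_pair h2]

/-- One automizer divisible by three bounds normal subgroups with abelian 2-quotient. -/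
theorem no_index_four {ε : ZMod 2} (h : 3 ∣ Nat.card (D.U ε).normalizerMonoidHom.range) (N : Subgroup G) [N.Normal] :
    N.index ≠ 4 := by
  intro hN
  have hcomm : ∀ a b : G ⧸ N, a * b = b * a :=
    have : Fact (Nat.Prime 2) := ⟨Nat.prime_two⟩
    fun a b => (IsPGroup.isMulCommutative_of_card_eq_prime_sq (p := 2) (G := G ⧸ N) (by exact hN)).is_comm.comm a b
  set q := QuotientGroup.mk' N
  have hq : ∀ x ∈ D.U ε, q x = 1 := by
    have hconst : ∀ x ∈ D.U ε, x ≠ 1 → q x = q D.zI := fun x hx hx1 => by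
      obtain ⟨g, hg⟩ := isConj_iff.1 (klein_transitive (D.isKleinFour_U ε) h (D.zI_mem ε) hx D.zI_ne_one hx1)
      rw [← hg, map_mul, map_mul, map_inv, hcomm (q g) (q D.zI), mul_inv_cancel_right]
    have hz : q D.zI = 1 := by
      obtain ⟨v, hv, hv1, hvz⟩ := three_nontrivial (D.isKleinFour_U ε) D.zI
      have h1 := hconst _ (mul_mem (D.zI_mem ε) hv) (fun h' => hvz (by
        rw [eq_inv_of_mul_eq_one_right h']
        exact inv_eq_self_of_orderOf_eq_two (orderOf_of_mem (D.isKleinFour_U ε) (D.zI_mem ε) D.zI_ne_one)))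
      rw [map_mul, hconst v hv hv1] at h1
      exact mul_left_cancel (h1.trans (mul_one _).symm)
    intro x hx
    by_cases hx1 : x = 1
    · rw [hx1, map_one]
    · rw [hconst x hx hx1, hz]
  have hMN : D.MP ε ≤ N := by
    have hr : ∀ i : ZMod (2 ^ k), par (k := k) (le_of_lt (Nat.lt_of_succ_le D.hk)) i = ε → D.ι (DihedralGroup.sr i) ∈ N := by
      intro i hi
      obtain ⟨g, hg⟩ := exists_conj_four D.hk (a := ((ε.val : ℕ) : ZMod (2 ^ k))) (b := i) (by rw [D.par_val, hi])
      have : DihedralGroup.sr i ∈ four D.hk i := (mem_four D.hk i).2 (Or.inr (Or.inr (Or.inl rfl)))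
      rw [← hg] at this
      obtain ⟨u, hu, hue⟩ := this
      have hu' : D.ι u ∈ N := (QuotientGroup.eq_one_iff _).1 (hq _ ⟨u, hu, rfl⟩)
      rw [← hue]
      show D.ι (g * u * g⁻¹) ∈ N
      rw [map_mul, map_mul, map_inv]
      exact Subgroup.Normal.conj_mem inferInstance _ hu' _
    rintro _ ⟨u, hu, rfl⟩
    cases u with
    | sr i => exact hr i ((mem_ker_sr _ ε i).1 hu)
    | r i =>
      have h1 := (mem_ker_r _ ε i).1 hu
      have h2 := mul_mem (hr ((ε.val : ℕ) : ZMod (2 ^ k)) (D.par_val ε))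
        (hr (((ε.val : ℕ) : ZMod (2 ^ k)) + i) (by rw [map_add, D.par_val, h1, add_zero]))
      rwa [← map_mul, DihedralGroup.sr_mul_sr, add_sub_cancel_left] at h2
  have h2 : N.relIndex (D.S : Subgroup G) ∣ 2 := by
    have hidx : (D.MP ε).relIndex (D.S : Subgroup G) = 2 := by
      rw [← D.range_ι, MonoidHom.range_eq_map]
      show (Subgroup.map D.ι _).relIndex (Subgroup.map D.ι ⊤) = 2
      rw [Subgroup.relIndex_map_map_of_injective _ _ D.ι_injective,
        Subgroup.relIndex_top_right, Subgroup.index_ker, MonoidHom.range_eq_top.2 (parHom_surjective _ _), Subgroup.card_top]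
      simp
    exact (Subgroup.relIndex_dvd_of_le_left _ hMN).trans (dvd_of_eq hidx)
  have h4 : N.relIndex (D.S : Subgroup G) = 4 := by
    have hd : N.relIndex (D.S : Subgroup G) ∣ N.index := Subgroup.relIndex_dvd_index_of_normal N _
    have hmul : N.index ∣ N.relIndex (D.S : Subgroup G) * (D.S : Subgroup G).index := by
      rw [← Subgroup.inf_relIndex_right, Subgroup.relIndex_mul_index inf_le_right]
      exact Subgroup.index_dvd_of_le inf_le_left
    rw [hN] at hd hmul
    have hcop : Nat.Coprime 4 (D.S : Subgroup G).index := by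
      rw [show (4 : ℕ) = 2 ^ 2 from rfl]
      exact Nat.Coprime.pow_left _ (Nat.prime_two.coprime_iff_not_dvd.2 D.S.not_dvd_index)
    exact Nat.dvd_antisymm hd (hcop.dvd_of_dvd_mul_right hmul)
  rw [h4] at h2
  norm_num at h2

end Setup

/-- A central involution forces a normal 2-complement. -/
theorem npc_of_central {G : Type*} [Group G] [Finite G] (S : Sylow 2 G) (m : ℕ) (hm : 2 ≤ m)
    (e : (S : Subgroup G) ≃* DihedralGroup m) (t : G) (ht : orderOf t = 2) (htc : t ∈ Subgroup.center G) :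
    HasNormalPComplement 2 G := by
  have htS : t ∈ (S : Subgroup G) := by
    have hn : (Subgroup.zpowers t).Normal := ⟨fun x hx g => by
      obtain ⟨i, rfl⟩ := hx
      show g * t ^ i * g⁻¹ ∈ _
      rw [Subgroup.mem_center_iff.1 (zpow_mem htc i) g, mul_inv_cancel_right]
      exact ⟨i, rfl⟩⟩
    obtain ⟨g, hg⟩ := exists_conj_le_sylow S (IsPGroup.of_card (n := 1) (by rw [Nat.card_zpowers, ht, pow_one]) : IsPGroup 2 (Subgroup.zpowers t))
    have := hg ⟨t, Subgroup.mem_zpowers t, rfl⟩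
    change g * t * g⁻¹ ∈ _ at this
    rwa [Subgroup.mem_center_iff.1 htc g, mul_inv_cancel_right] at this
  have hfix : ∀ U : Subgroup G, IsKleinFour U → t ∈ U → ¬ 3 ∣ Nat.card U.normalizerMonoidHom.range := fun U hU htU h => by
    have ht1 : t ≠ 1 := fun h' => by rw [h', orderOf_one] at ht; norm_num at ht
    obtain ⟨v, hv, hv1, hvt⟩ := three_nontrivial hU t
    obtain ⟨g, hg⟩ := isConj_iff.1 (klein_transitive hU h htU hv ht1 hv1)
    rw [Subgroup.mem_center_iff.1 htc g, mul_inv_cancel_right] at hg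
    exact hvt hg.symm
  rcases cases S m hm e with ⟨hK, -⟩ | ⟨k, D, rfl, -⟩
  · rcases KleinSylow.dichotomy hK with h | h
    · exfalso
      have ht1 : t ≠ 1 := fun h' => by rw [h', orderOf_one] at ht; norm_num at ht
      obtain ⟨v, hv, hv1, hvt⟩ := three_nontrivial hK t
      obtain ⟨g, hg⟩ := isConj_iff.1 (h t htS v hv ht1 hv1)
      rw [Subgroup.mem_center_iff.1 htc g, mul_inv_cancel_right] at hg
      exact hvt hg.symm
    · exact Solv.hasNormalPComplement_of_burnside S h.2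
  · have htz : t = D.zI := by
      obtain ⟨u, hu⟩ := D.exists_ι htS
      have ho : orderOf u = 2 := by rw [← orderOf_injective D.ι D.ι_injective, hu, ht]
      rcases involution_cases (le_of_lt (Nat.lt_of_succ_le D.hk)) ho with rfl | ⟨i, rfl⟩
      · exact hu.symm
      · exfalso
        have h1 := Subgroup.mem_center_iff.1 htc (D.ι (DihedralGroup.r 1))
        rw [← hu, ← map_mul, ← map_mul] at h1
        have h2 := D.ι_injective h1
        simp only [DihedralGroup.r_mul_sr, DihedralGroup.sr_mul_r, DihedralGroup.sr.injEq] at h2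
        have h3 : ((2 : ℕ) : ZMod (2 ^ k)) = 0 := by push_cast; linear_combination -h2
        rw [ZMod.natCast_eq_zero_iff] at h3
        have := Nat.le_of_dvd (by norm_num) h3
        have := Nat.pow_le_pow_right (show 0 < 2 by norm_num) D.hk
        omega
    exact Solv.hasNormalPComplement_of_fusion D.S fun x hx g hg =>
      D.fusion_inner (fun ε => hfix _ (D.isKleinFour_U ε) (htz ▸ D.zI_mem ε)) hx hg

end Cfsg.Agent.Fusion.DihedralModel
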