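import Cfsg.Agent.Lib.Fusion.KNormalizer
import Cfsg.Agent.Lib.Fusion.Weakly
import Cfsg.Prelude.Def_TwoFusion

/-!
Subsystems on a strongly closed direct factor.
-/

set_option autoImplicit false

namespace Cfsg.Agent.Fusion.DirectFactorSub

open Cfsg Cfsg.FusionSystem

variable {Ω : Type*} [Group Ω] {S S₁ S₂ P : Subgroup Ω} {F : FusionSystem S} {p : ℕ}
  {f k a : Ω → Ω}

theorem sc_mem (h : F.StronglyClosed S₁) (hf : IsMor F P f) (hP : P ≤ S₁) {x : Ω} (hx : x ∈ P) :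
    f x ∈ S₁ := by
  obtain ⟨φ, hφ, he⟩ := hf
  exact he ⟨x, hx⟩ ▸ h.2 P hP φ hφ ⟨x, hx⟩

theorem split (hcomm : ∀ a ∈ S₁, ∀ b ∈ S₂, a * b = b * a) {g : Ω} (hg : g ∈ S₁ ⊔ S₂) :
    ∃ a ∈ S₁, ∃ b ∈ S₂, g = a * b := by
  rw [Subgroup.sup_eq_closure] at hg
  induction hg using Subgroup.closure_induction with
  | mem y hy =>
    rcases hy with h | h
    · exact ⟨y, h, 1, one_mem _, (mul_one y).symm⟩
    · exact ⟨1, one_mem _, y, h, (one_mul y).symm⟩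
  | one => exact ⟨1, one_mem _, 1, one_mem _, (mul_one 1).symm⟩
  | mul y z _ _ h h' =>
    obtain ⟨a, ha, b, hb, rfl⟩ := h
    obtain ⟨c, hc, d, hd, rfl⟩ := h'
    exact ⟨a * c, mul_mem ha hc, b * d, mul_mem hb hd, by
      rw [mul_assoc, ← mul_assoc b, ← hcomm c hc b hb]; group⟩
  | inv y _ h =>
    obtain ⟨a, ha, b, hb, rfl⟩ := h
    exact ⟨a⁻¹, inv_mem ha, b⁻¹, inv_mem hb, by
      rw [hcomm a⁻¹ (inv_mem ha) b⁻¹ (inv_mem hb)]; group⟩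

theorem le_centralizerIn (hS₂ : S₂ ≤ S) (hcomm : ∀ a ∈ S₁, ∀ b ∈ S₂, a * b = b * a) (hP : P ≤ S₁) :
    S₂ ≤ centralizerIn S P :=
  fun b hb => ⟨hS₂ hb, Subgroup.mem_centralizer_iff.2 fun x hx => hcomm x (hP hx) b hb⟩

/-- The full subsystem on a strongly closed factor is saturated. -/
theorem saturated_full [Finite S] (hF : F.IsSaturated p) (h₁ : F.StronglyClosed S₁) (hS₂ : S₂ ≤ S)
    (hcomm : ∀ a ∈ S₁, ∀ b ∈ S₂, a * b = b * a) (hsup : S₁ ⊔ S₂ = S) (R : FusionSystem S₁)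
    (hR : ∀ P : Subgroup Ω, P ≤ S₁ → R.Hom P = F.Hom P) : R.IsSaturated p := by
  intro P hP
  obtain ⟨Q, hc, ⟨hQS, X, hX⟩, hrec⟩ := hF P (hP.trans h₁.1)
  obtain ⟨φ, hφ, hrange⟩ := hc
  have hQ : Q ≤ S₁ := by
    rw [← hrange]
    rintro _ ⟨x, rfl⟩
    exact h₁.2 P hP φ hφ x
  have hA : R.autGroup Q = F.autGroup Q := by
    unfold FusionSystem.autGroup
    rw [hR Q hQ]
  have hI : autInducedBy S₁ Q = autInducedBy S Q := by
    refine le_antisymm (autInducedBy_mono h₁.1) fun α hα => ?_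
    obtain ⟨g, hg, -, hx⟩ := mem_autInducedBy.1 hα
    rw [← hsup] at hg
    obtain ⟨a, ha, b, hb, rfl⟩ := split hcomm hg
    refine Subgroup.subset_closure ⟨a, ha, fun x => ?_⟩
    rw [hx x]
    have e : b * (x : Ω) * b⁻¹ = (x : Ω) := by rw [← hcomm _ (hQ x.2) b hb]; group
    calc a * b * (x : Ω) * (a * b)⁻¹ = a * (b * (x : Ω) * b⁻¹) * a⁻¹ := by group
      _ = _ := by rw [e]
  refine ⟨Q, ⟨φ, by rw [hR P hP]; exact hφ, hrange⟩, ⟨hQ, ?_⟩, isReceptive_intro hQ ?_⟩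
  · rw [hA, hI]; exact ⟨X, hX⟩
  · intro P' T f hf hPT hT
    have hP' : P' ≤ S₁ := hf.le
    have hTS : T ≤ S₁ := fun x hx => (hT x hx).1
    have hf' : IsIso F P' Q f := by
      obtain ⟨⟨ψ, hψ, he⟩, h2⟩ := hf
      rw [hR P' hP'] at hψ
      exact ⟨⟨ψ, hψ, he⟩, h2⟩
    obtain ⟨f', hf'm, he⟩ := exists_extension hrec hf' (R := T) fun x hx => by
      obtain ⟨h1, h2, h, hh, h3⟩ := hT x hx
      exact ⟨h₁.1 h1, h2, h, h₁.1 hh, h3⟩
    obtain ⟨ψ, hψ, hψe⟩ := hf'm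
    exact ⟨f', ⟨ψ, by rw [hR T hTS]; exact hψ, hψe⟩, fun x hx => he x hx (hPT hx)⟩

/-- A map inside the first factor extends over the second one. -/
theorem extend [Finite S] [Fact p.Prime] (hS : IsPGroup p S) (hF : F.IsSaturated p)
    (h₁ : F.StronglyClosed S₁) (h₂ : F.StronglyClosed S₂)
    (hcomm : ∀ a ∈ S₁, ∀ b ∈ S₂, a * b = b * a) (hP : P ≤ S₁) (hf : IsMor F P f) :
    ∃ k, IsMor F (P ⊔ S₂) k ∧ (∀ x ∈ P, k x = f x) ∧ IsIso F S₂ S₂ k := by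
  have := finite_of_le h₂.1
  have hi := hf.isIso
  have hQ0 : hf.image P le_rfl ≤ S₁ := by
    rintro _ ⟨x, hx, rfl⟩
    exact sc_mem h₁ hf hP hx
  obtain ⟨Q, hc, hQn⟩ := exists_fullyNormalized (F := F) hi.le'
  obtain ⟨v, hv⟩ := isConj_iff_exists_isIso.1 hc
  have hQ : Q ≤ S₁ := fun y hy => by
    obtain ⟨x, hx, rfl⟩ := hv.exists_apply hy
    exact sc_mem h₁ hv.1 hQ0 hx
  obtain ⟨-, hrec⟩ := fullyNormalized_receptive hS hF hQn
  obtain ⟨K, hK, hKe⟩ := exists_extension hrec (hi.trans hv) (R := P ⊔ S₂) fun x hx =>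
    (sup_le (le_extSubgroup (hi.trans hv).1) fun b hb =>
      extCond_of_centralizer (le_centralizerIn h₂.1 hcomm hP hb)) hx
  obtain ⟨L, hL, hLe⟩ := exists_extension hrec hv (R := hf.image P le_rfl ⊔ S₂) fun x hx =>
    (sup_le (le_extSubgroup hv.1) fun b hb =>
      extCond_of_centralizer (le_centralizerIn h₂.1 hcomm hQ0 hb)) hx
  have hK2 : IsIso F S₂ S₂ K :=
    (hK.restrict le_sup_right).isIso_self fun x hx => sc_mem h₂ (hK.restrict le_sup_right) le_rfl hx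
  have hL2 : IsIso F S₂ S₂ L :=
    (hL.restrict le_sup_right).isIso_self fun x hx => sc_mem h₂ (hL.restrict le_sup_right) le_rfl hx
  obtain ⟨Li, hLi, hLiL, -⟩ := hL.isIso.exists_symm
  have hmP : ∀ x ∈ P, K x = L (f x) := fun x hx => by
    have hfx : f x ∈ hf.image P le_rfl := ⟨x, hx, rfl⟩
    rw [hKe x hx (Subgroup.mem_sup_left hx), hLe _ hfx (Subgroup.mem_sup_left hfx)]
    rfl
  have hk : IsMor F (P ⊔ S₂) (Li ∘ K) := hK.comp hLi.1 fun x hx => hK.mapsTo_sup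
    (R := hL.image (hf.image P le_rfl ⊔ S₂) le_rfl)
    (fun y hy => ⟨f y, Subgroup.mem_sup_left ⟨y, hy, rfl⟩, (hmP y hy).symm⟩)
    (fun y hy => by
      obtain ⟨z, hz, e⟩ := hL2.exists_apply (hK2.apply_mem hy)
      exact ⟨z, Subgroup.mem_sup_right hz, e⟩) hx
  refine ⟨Li ∘ K, hk, fun x hx => ?_, (hk.restrict le_sup_right).isIso_self fun y hy =>
    sc_mem h₂ (hk.restrict le_sup_right) le_rfl hy⟩
  show Li (K x) = f x
  rw [hmP x hx]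
  exact hLiL _ (Subgroup.mem_sup_left ⟨x, hx, rfl⟩)

variable {R' : FusionSystem S₁}

/-- The maps fixing the complementary factor. -/
theorem isMor_cent_iff (hS₁ : S₁ ≤ centralizerIn S S₂)
    (hR' : ∀ P : Subgroup Ω, P ≤ S₁ → R'.Hom P = F.centralizerHom S₂ P) (h₁ : F.StronglyClosed S₁) :
    IsMor R' P f ↔ P ≤ S₁ ∧ IsMor F P f ∧
      ∃ k, IsMor F (P ⊔ S₂) k ∧ (∀ x ∈ P, k x = f x) ∧ ∀ y ∈ S₂, k y = y := by
  constructor
  · rintro ⟨φ, hφ, he⟩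
    have hP := (R'.le_of_mem hφ).1
    rw [hR' P hP] at hφ
    obtain ⟨hφF, -, -, ψ, hψ, hψP, hψS⟩ := hφ
    refine ⟨hP, ⟨φ, hφF, he⟩, extFun ψ, isMor_extFun hψ, fun x hx => ?_, fun y hy => ?_⟩
    · rw [extFun_apply ψ (Subgroup.mem_sup_left hx)]
      exact (hψP ⟨x, hx⟩).trans (he ⟨x, hx⟩)
    · rw [extFun_apply ψ (Subgroup.mem_sup_right hy)]
      exact hψS ⟨y, hy⟩
  · rintro ⟨hP, hf, k, ⟨ψ, hψ, hke⟩, hkP, hkS⟩
    obtain ⟨φ, hφ, he⟩ := id hf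
    refine ⟨φ, ?_, he⟩
    rw [hR' P hP]
    refine ⟨hφ, hP.trans hS₁, fun x => hS₁ (he x ▸ sc_mem h₁ hf hP x.2), ψ, hψ, fun x => ?_, fun x => ?_⟩
    · rw [hke]; exact (hkP x x.2).trans (he x).symm
    · rw [hke]; exact hkS x x.2

/-- Transport of maps by automorphisms of the strongly closed subgroup. -/
theorem transport_clause {D : FusionSystem S₁} (h₁ : F.StronglyClosed S₁)
    (H : ∀ P f a (ha : IsIso F S₁ S₁ a) (_ : IsMor D P f) (hP : P ≤ S₁),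
      ∃ g, IsMor D (ha.1.image P hP) g ∧ ∀ x ∈ P, g (a x) = a (f x))
    (P : Subgroup Ω) (hPT : P ≤ S₁) (φ : P →* Ω) (hφ : φ ∈ D.Hom P) :
    ∀ α ∈ F.autGroup S₁,
      ∃ χ ∈ D.Hom ((P.subgroupOf S₁).map (S₁.subtype.comp α.toMonoidHom)),
        ∀ (x : P) (hφx : φ x ∈ S₁)
          (hαx : ((α ⟨x, hPT x.2⟩ : S₁) : Ω) ∈ (P.subgroupOf S₁).map (S₁.subtype.comp α.toMonoidHom)),
          χ ⟨(α ⟨x, hPT x.2⟩ : S₁), hαx⟩ = ((α ⟨φ x, hφx⟩ : S₁) : Ω) := by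
  intro α hα
  have ha := isIso_autFun h₁.1 hα
  obtain ⟨g, hg, hge⟩ := H P _ _ ha (isMor_extFun hφ) hPT
  have him : ha.1.image P hPT = (P.subgroupOf S₁).map (S₁.subtype.comp α.toMonoidHom) := by
    ext y
    constructor
    · rintro ⟨x, hx, rfl⟩
      exact ⟨⟨x, hPT hx⟩, hx, (autFun_apply α (hPT hx)).symm⟩
    · rintro ⟨x, hx, rfl⟩
      exact ⟨x, hx, autFun_coe α x⟩
  rw [him] at hg
  obtain ⟨χ, hχ, hχe⟩ := hg
  refine ⟨χ, hχ, fun x hφx hαx => ?_⟩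
  rw [hχe]
  have := hge x x.2
  rw [extFun_coe, autFun_apply α hφx, autFun_apply α (hPT x.2)] at this
  exact this

end Cfsg.Agent.Fusion.DirectFactorSub
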