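import Mathlib
import Cfsg.Agent.Lib.Fusion.Alperin
import Cfsg.Agent.Lib.Classical.Linear

/-!
Essential subgroups of order `p^2`.
-/

set_option autoImplicit false
set_option linter.style.haveILetI false

universe u

namespace Cfsg.Agent.Fusion.EssentialPSquare

open Cfsg Cfsg.FusionSystem Cfsg.Agent.Fusion

variable {p : ℕ} [Fact p.Prime] {H : Type*} [CommGroup H] [Finite H]

/-- Coordinates with respect to `a`, `b`. -/
def coord (a b : H) (v : Fin 2 → ZMod p) : H := a ^ (v 0).val * b ^ (v 1).val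

variable (hexp : ∀ h : H, h ^ p = 1)
include hexp

omit [Finite H] in
theorem pow_val_add (a : H) (i j : ZMod p) : a ^ (i + j).val = a ^ i.val * a ^ j.val := by
  rw [ZMod.val_add, ← pow_eq_pow_mod _ (hexp a), pow_add]

omit [Finite H] in
theorem pow_val_mul (a : H) (i j : ZMod p) : a ^ (i * j).val = (a ^ i.val) ^ j.val := by
  rw [ZMod.val_mul, ← pow_eq_pow_mod _ (hexp a), pow_mul]

omit [Finite H] in
theorem coord_add (a b : H) (v w : Fin 2 → ZMod p) : coord a b (v + w) = coord a b v * coord a b w := by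
  rw [coord, coord, coord, Pi.add_apply, Pi.add_apply, pow_val_add hexp, pow_val_add hexp]
  exact mul_mul_mul_comm _ _ _ _

theorem exists_mulEquiv {a b : H} (hcard : Nat.card H = p ^ 2) (ha : a ≠ 1) (hb : b ∉ Subgroup.zpowers a) :
    ∃ e : H ≃* Multiplicative (Fin 2 → ZMod p), ∀ v, coord a b v = e.symm (Multiplicative.ofAdd v) := by
  let φ : Multiplicative (Fin 2 → ZMod p) →* H :=
    MonoidHom.mk' (fun v => coord a b v.toAdd) fun v w => coord_add hexp a b _ _
  have hinj : Function.Injective φ := by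
    refine (injective_iff_map_eq_one φ).2 fun v hv => ?_
    change a ^ (v.toAdd 0).val * b ^ (v.toAdd 1).val = 1 at hv
    have h1 : v.toAdd 1 = 0 := by
      by_contra h1
      refine hb ?_
      have hbj : b ^ (v.toAdd 1).val ∈ Subgroup.zpowers a := by
        rw [eq_inv_of_mul_eq_one_right hv]
        exact Subgroup.inv_mem _ (Subgroup.pow_mem _ (Subgroup.mem_zpowers a) _)
      have h2 : (b ^ (v.toAdd 1).val) ^ ((v.toAdd 1)⁻¹).val = b := by
        rw [← pow_val_mul hexp, mul_inv_cancel₀ h1, ZMod.val_one, pow_one]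
      rw [← h2]
      exact Subgroup.pow_mem _ hbj _
    rw [h1, ZMod.val_zero, pow_zero, mul_one] at hv
    have h0 : v.toAdd 0 = 0 := by
      by_contra h0
      refine ha ?_
      rw [← pow_one a, ← ZMod.val_one p, ← mul_inv_cancel₀ h0, pow_val_mul hexp, hv, one_pow]
    refine Multiplicative.toAdd.injective (funext fun i => ?_)
    fin_cases i
    · exact h0
    · exact h1
  have hbij : Function.Bijective φ := (Nat.bijective_iff_injective_and_card φ).2 ⟨hinj, by
    rw [hcard, Nat.card_congr Multiplicative.toAdd, Nat.card_fun, Nat.card_zmod, Nat.card_fin]⟩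
  refine ⟨(MulEquiv.ofBijective φ hbij).symm, fun v => ?_⟩
  rw [MulEquiv.symm_symm]
  rfl

theorem exists_unipotent {a b : H} (hcard : Nat.card H = p ^ 2) (ha : a ≠ 1)
    (hb : b ∉ Subgroup.zpowers a) {x : MulAut H} (hxa : x a = a) {k : ℕ} (hx : x ^ p ^ k = 1) :
    ∃ s : ZMod p, x b = a ^ s.val * b := by
  obtain ⟨e, he⟩ := exists_mulEquiv hexp hcard ha hb
  obtain ⟨v, hv⟩ : ∃ v, coord a b v = x b :=
    ⟨(e (x b)).toAdd, by rw [he]; exact e.symm_apply_apply _⟩
  have key : ∀ m : ℕ, ∃ t : ℕ, (x ^ m) b = a ^ t * b ^ ((v 1) ^ m).val := by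
    intro m
    induction m with
    | zero => exact ⟨0, by simp [ZMod.val_one]⟩
    | succ m ih =>
      obtain ⟨t, ht⟩ := ih
      refine ⟨t + (v 0).val * ((v 1) ^ m).val, ?_⟩
      rw [pow_succ', MulAut.mul_apply, ht, map_mul, map_pow, map_pow, hxa, ← hv, coord, mul_pow,
        ← pow_mul, ← pow_val_mul hexp, pow_succ, pow_add, mul_comm (v 1 ^ m) (v 1)]
      exact (mul_assoc _ _ _).symm
  have hfix : ∀ (i : ZMod p) (k : ℕ), i ^ p ^ k = i := by
    intro i k
    induction k with
    | zero => simp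
    | succ k ih => rw [pow_succ, pow_mul, ih, ZMod.pow_card]
  obtain ⟨t, ht⟩ := key (p ^ k)
  rw [hx, hfix, MulAut.one_apply] at ht
  have hv1 : v 1 = 1 := by
    by_contra h
    refine hb ?_
    have h1 : b ^ (1 - v 1).val ∈ Subgroup.zpowers a := by
      have e1 : b = b ^ (1 - v 1).val * b ^ (v 1).val := by
        rw [← pow_val_add hexp, sub_add_cancel, ZMod.val_one, pow_one]
      rw [mul_right_cancel (e1.symm.trans ht)]
      exact Subgroup.pow_mem _ (Subgroup.mem_zpowers a) _
    have h2 : (b ^ (1 - v 1).val) ^ ((1 - v 1)⁻¹).val = b := by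
      rw [← pow_val_mul hexp, mul_inv_cancel₀ (sub_ne_zero.2 (Ne.symm h)), ZMod.val_one, pow_one]
    rw [← h2]
    exact Subgroup.pow_mem _ h1 _
  refine ⟨v 0, ?_⟩
  rw [← hv, coord, hv1, ZMod.val_one, pow_one]

/-- Two unipotent automorphisms with different fixed lines generate `SL₂(p)`. -/
theorem exists_sl2 {a b : H} (hcard : Nat.card H = p ^ 2) (ha : a ≠ 1) (hb : b ∉ Subgroup.zpowers a)
    (A : Subgroup (MulAut H)) {x y : MulAut H} (hx : x ∈ A) (hy : y ∈ A) (hxa : x a = a) (hyb : y b = b)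
    {s t : ZMod p} (hs : s ≠ 0) (ht : t ≠ 0) (hxb : x b = a ^ s.val * b) (hya : y a = a * b ^ t.val) :
    ∃ K : Subgroup A, Nonempty (K ≃* Matrix.SpecialLinearGroup (Fin 2) (ZMod p)) := by
  obtain ⟨e, he⟩ := exists_mulEquiv hexp hcard ha hb
  let χ : Matrix.SpecialLinearGroup (Fin 2) (ZMod p) →* MulAut H := MonoidHom.mk'
    (fun M => (e.trans (AddEquiv.toMultiplicative
      (Matrix.SpecialLinearGroup.toLin' M).toAddEquiv)).trans e.symm)
    fun M N => MulEquiv.ext fun h => by
      show e.symm _ = e.symm _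
      simp [MulAut.mul_apply, MulEquiv.trans_apply]
  have hχ : ∀ M v, χ M (coord a b v) = coord a b ((M : Matrix (Fin 2) (Fin 2) (ZMod p)).mulVec v) := by
    intro M v
    rw [he, he]
    simp only [χ, MonoidHom.mk'_apply, MulEquiv.trans_apply, e.apply_symm_apply]
    rfl
  have hsurj : ∀ h, ∃ v, coord a b v = h := fun h =>
    ⟨(e h).toAdd, by rw [he]; exact e.symm_apply_apply _⟩
  have hinj : Function.Injective χ := by
    intro M N h
    refine Classical.SL_ext_smul fun v => ?_
    have h1 := congrArg (fun f : MulAut H => f (coord a b v)) h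
    change χ M (coord a b v) = χ N (coord a b v) at h1
    rw [hχ, hχ, he, he] at h1
    exact Multiplicative.ofAdd.injective (e.symm.injective h1)
  have hpow : ∀ (z : MulAut H) (u w : H), z u = u → ∀ m : ℕ, z w = w * u → (z ^ m) w = w * u ^ m := by
    intro z u w hzu m hzw
    induction m with
    | zero => simp
    | succ m ih => rw [pow_succ', MulAut.mul_apply, ih, map_mul, map_pow, hzu, hzw, pow_succ', mul_assoc]
  have hfix : ∀ (z : MulAut H) (u : H), z u = u → ∀ m : ℕ, (z ^ m) u = u := by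
    intro z u hzu m
    induction m with
    | zero => rfl
    | succ m ih => rw [pow_succ', MulAut.mul_apply, ih, hzu]
  have hgen : ∀ M, χ M ∈ A := by
    intro M
    refine Classical.SL_transvection_induction (fun M => χ M ∈ A) (fun i j hij c => ?_)
      (fun M N hM hN => by rw [map_mul]; exact A.mul_mem hM hN) M
    have hcases : (i = 0 ∧ j = 1) ∨ (i = 1 ∧ j = 0) := by
      fin_cases i <;> fin_cases j <;> simp_all
    rcases hcases with ⟨rfl, rfl⟩ | ⟨rfl, rfl⟩
    · have e1 : χ (Matrix.SpecialLinearGroup.transvection hij c) = x ^ (c * s⁻¹).val := by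
        refine MulEquiv.ext fun h => ?_
        obtain ⟨v, rfl⟩ := hsurj h
        rw [hχ, ← Classical.SL_smul, Classical.transvection_smul]
        have e2 : (x ^ (c * s⁻¹).val) b = b * a ^ c.val := by
          rw [hpow x (a ^ s.val) b (by rw [map_pow, hxa]) _ (by rw [hxb, mul_comm]),
            ← pow_val_mul hexp, mul_comm s, inv_mul_cancel_right₀ hs]
        simp only [coord, map_mul, map_pow, hfix x a hxa, e2]
        simp only [Pi.add_apply, Pi.smul_apply, smul_eq_mul, Pi.single_eq_same, mul_one,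
          Pi.single_eq_of_ne hij.symm, mul_zero, add_zero]
        rw [pow_val_add hexp, mul_pow, pow_val_mul hexp]
        rw [mul_comm (b ^ (v 1).val), mul_assoc]
      rw [e1]
      exact A.pow_mem hx _
    · have e1 : χ (Matrix.SpecialLinearGroup.transvection hij c) = y ^ (c * t⁻¹).val := by
        refine MulEquiv.ext fun h => ?_
        obtain ⟨v, rfl⟩ := hsurj h
        rw [hχ, ← Classical.SL_smul, Classical.transvection_smul]
        have e2 : (y ^ (c * t⁻¹).val) a = a * b ^ c.val := by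
          rw [hpow y (b ^ t.val) a (by rw [map_pow, hyb]) _ hya,
            ← pow_val_mul hexp, mul_comm t, inv_mul_cancel_right₀ ht]
        simp only [coord, map_mul, map_pow, hfix y b hyb, e2]
        simp only [Pi.add_apply, Pi.smul_apply, smul_eq_mul, Pi.single_eq_same, mul_one,
          Pi.single_eq_of_ne hij.symm, mul_zero, add_zero]
        rw [pow_val_add hexp, mul_pow, pow_val_mul hexp, mul_assoc, mul_comm (b ^ (v 1).val)]
      rw [e1]
      exact A.pow_mem hy _
  exact ⟨(χ.codRestrict A hgen).range, ⟨(MonoidHom.ofInjective (f := χ.codRestrict A hgen)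
    fun M N h => hinj (congrArg Subtype.val h)).symm⟩⟩

omit hexp in
theorem mulAut_comm_of_zpowers {g : H} (hg : ∀ h : H, h ∈ Subgroup.zpowers g) (α β : MulAut H) :
    α * β = β * α := by
  obtain ⟨m, hm⟩ := hg (α g)
  obtain ⟨n, hn⟩ := hg (β g)
  simp only at hm hn
  refine MulEquiv.ext fun h => ?_
  obtain ⟨i, rfl⟩ := hg h
  simp only [map_zpow, MulAut.mul_apply, ← hm, ← hn]
  rw [← zpow_mul g m n, ← zpow_mul g n m, mul_comm]

end Cfsg.Agent.Fusion.EssentialPSquare

namespace Cfsg.Agent.Fusion.EssentialPSquare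

open Cfsg Cfsg.FusionSystem Cfsg.Agent.Fusion

theorem essential_p_square {Ω : Type*} [Group Ω] {S : Subgroup Ω} [Finite S] {p : ℕ} [Fact p.Prime]
    (hS : IsPGroup p S) {F : FusionSystem S} (hF : F.IsSaturated p) {H : Subgroup Ω}
    (hH : F.IsEssential p H) (hcard : Nat.card H = p ^ 2) :
    IsElementaryAbelian p H ∧
      ∃ K : Subgroup (F.autGroup H), Nonempty (K ≃* Matrix.SpecialLinearGroup (Fin 2) (ZMod p)) := by
  have hp : p.Prime := Fact.out
  have hlt := lt_of_isEssential hS hF hH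
  have := finite_of_le hlt.le
  have hab := IsPGroup.isMulCommutative_of_card_eq_prime_sq hcard
  letI : CommGroup H := { (inferInstance : Group H) with mul_comm := hab.is_comm.comm }
  have hinn : ∀ α ∈ Inn H, α = 1 := by
    rintro _ ⟨a, rfl⟩
    refine MulEquiv.ext fun h => ?_
    show a * h * a⁻¹ = h
    rw [mul_comm a h, mul_inv_cancel_right]
  have hrad := (isRadical_of_isEssential hS hF hH).2
  have hnop : ∀ A : Subgroup (F.autGroup H), A.Normal → IsPGroup p A → ∀ α ∈ A, α = 1 :=
    fun A hA hAp α hα => Subtype.ext (hinn _ (hrad.le ⟨α, Solv.le_pCore (hN := hA) hAp hα, rfl⟩))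
  -- a nontrivial p-element
  obtain ⟨u, hu, huH⟩ := SetLike.exists_of_lt (normalizerIn_self_lt (p := p) hS hlt)
  set x : F.autGroup H := ⟨_, (conjAut_mem (F := F) hlt.le hu).2⟩
  have hxne : x ≠ 1 := fun h => huH (centralizerIn_le_of_isCentric hH.1 (mem_centralizerIn.2
    ⟨hu.1, fun z hz => by
      have h1 := congrArg (fun β : F.autGroup H => (((β : MulAut H) ⟨z, hz⟩ : H) : Ω)) h
      change u * z * u⁻¹ = z at h1
      exact (mul_inv_eq_iff_eq_mul.1 h1).symm⟩))
  obtain ⟨k, hk⟩ : ∃ k, x ^ p ^ k = 1 := by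
    obtain ⟨k, hk⟩ := isPGroup_autInducedBy hS H ⟨_, (conjAut_mem (F := F) hlt.le hu).1⟩
    exact ⟨k, Subtype.ext (congrArg Subtype.val hk :)⟩
  have hexp : ∀ h : H, h ^ p = 1 := by
    intro g
    by_contra hg
    have hord : orderOf g = p ^ 2 := by
      refine orderOf_eq_prime_pow (n := 1) (by rwa [pow_one]) ?_
      rw [← hcard]
      exact pow_card_eq_one'
    have hgen : ∀ h : H, h ∈ Subgroup.zpowers g := by
      have : Subgroup.zpowers g = ⊤ := Subgroup.eq_top_of_card_eq _ (by rw [Nat.card_zpowers, hord, hcard])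
      exact fun h => this ▸ Subgroup.mem_top h
    haveI hZn : (Subgroup.zpowers x).Normal := ⟨fun n hn β => by
      have e : β * n = n * β := Subtype.ext (mulAut_comm_of_zpowers hgen _ _)
      rwa [e, mul_inv_cancel_right]⟩
    refine hxne (hnop _ hZn ?_ x (Subgroup.mem_zpowers x))
    rintro ⟨_, i, rfl⟩
    refine ⟨k, Subtype.ext ?_⟩
    show (x ^ i) ^ p ^ k = 1
    rw [← zpow_natCast, ← zpow_mul, mul_comm, zpow_mul, zpow_natCast, hk, one_zpow]
  refine ⟨⟨hab, fun a ha => congrArg Subtype.val (hexp ⟨a, ha⟩)⟩, ?_⟩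
  -- a fixed point
  obtain ⟨a, hafix, ha1⟩ : ∃ a, a ∈ MulAction.fixedPoints (Subgroup.zpowers (x : MulAut H)) H ∧ (1 : H) ≠ a := by
    refine IsPGroup.exists_fixed_point_of_prime_dvd_card_of_fixed_point (p := p) ?_ H (by rw [hcard]; exact dvd_pow_self p two_ne_zero) fun g => map_one (g : MulAut H)
    rintro ⟨_, i, rfl⟩
    refine ⟨k, Subtype.ext ?_⟩
    show ((x : MulAut H) ^ i) ^ p ^ k = 1
    rw [← zpow_natCast, ← zpow_mul, mul_comm, zpow_mul, zpow_natCast, ← Subgroup.coe_pow, hk,
      Subgroup.coe_one, one_zpow]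
  have hxa : (x : MulAut H) a = a := hafix ⟨_, Subgroup.mem_zpowers _⟩
  have hane : a ≠ 1 := Ne.symm ha1
  set L := Subgroup.zpowers a
  have hLne : L ≠ ⊤ := fun h => by
    have h1 : Nat.card L = p ^ 2 := by rw [h, Subgroup.card_top, hcard]
    rw [Nat.card_zpowers, orderOf_eq_prime (hexp a) hane] at h1
    have h2 := hp.one_lt
    nlinarith
  obtain ⟨b₀, -, hb₀⟩ := SetLike.exists_of_lt (lt_top_iff_ne_top.2 hLne)
  obtain ⟨s₀, hxb₀⟩ := exists_unipotent hexp hcard hane hb₀ hxa (congrArg Subtype.val hk)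
  have hxdisp : ∀ h, (x : MulAut H) h * h⁻¹ ∈ L := by
    intro h
    obtain ⟨e, he⟩ := exists_mulEquiv hexp hcard hane hb₀
    obtain ⟨v, rfl⟩ : ∃ v, coord a b₀ v = h := ⟨(e h).toAdd, by rw [he]; exact e.symm_apply_apply _⟩
    simp only [coord, map_mul, map_pow, hxa, hxb₀, mul_pow]
    have e1 : ∀ A B C : H, A * (C * B) * (A * B)⁻¹ = C := fun A B C => by
      rw [mul_left_comm, mul_inv_cancel_right]
    rw [e1, ← pow_mul]
    exact Subgroup.pow_mem _ (Subgroup.mem_zpowers a) _
  -- some automorphism moves the fixed line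
  obtain ⟨g, hg⟩ : ∃ g : F.autGroup H, (g : MulAut H) a ∉ L := by
    by_contra hall
    push Not at hall
    have hLinv : ∀ (γ : F.autGroup H), ∀ z ∈ L, (γ : MulAut H) z ∈ L := by
      rintro γ _ ⟨i, rfl⟩
      simp only [map_zpow]
      exact Subgroup.zpow_mem _ (hall γ) _
    let A : Subgroup (F.autGroup H) :=
      { carrier := {α | (α : MulAut H) a = a ∧ ∀ h, (α : MulAut H) h * h⁻¹ ∈ L}
        one_mem' := ⟨rfl, fun h => by rw [Subgroup.coe_one, MulAut.one_apply, mul_inv_cancel]; exact L.one_mem⟩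
        mul_mem' := fun {α β} hα hβ => ⟨by rw [Subgroup.coe_mul, MulAut.mul_apply, hβ.1, hα.1], fun h => by
          have := L.mul_mem (hα.2 ((β : MulAut H) h)) (hβ.2 h)
          rwa [Subgroup.coe_mul, MulAut.mul_apply, ← mul_assoc, inv_mul_cancel_right] at *⟩
        inv_mem' := fun {α} hα => by
          refine ⟨?_, fun h => ?_⟩
          · rw [Subgroup.coe_inv]; conv_lhs => rw [← hα.1]
            exact MulAut.inv_apply_self _ _ _
          · have := L.inv_mem (hα.2 ((α : MulAut H)⁻¹ h))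
            rw [MulAut.apply_inv_self, mul_inv_rev, inv_inv] at this
            rwa [Subgroup.coe_inv] }
    have hfixL : ∀ α ∈ A, ∀ z ∈ L, ((α : F.autGroup H) : MulAut H) z = z := by
      rintro α hα _ ⟨i, rfl⟩
      simp only [map_zpow, hα.1]
    have hAn : A.Normal := ⟨fun α hα γ => by
      have key : ∀ h, ((γ * α * γ⁻¹ : F.autGroup H) : MulAut H) h * h⁻¹ =
          (γ : MulAut H) ((α : MulAut H) ((γ : MulAut H)⁻¹ h) * ((γ : MulAut H)⁻¹ h)⁻¹) := fun h => by
        rw [map_mul, map_inv, MulAut.apply_inv_self]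
        rfl
      refine ⟨?_, fun h => key h ▸ hLinv γ _ (hα.2 _)⟩
      have h2 := hfixL α hα _ (hLinv γ⁻¹ a (Subgroup.mem_zpowers a))
      show (γ : MulAut H) ((α : MulAut H) (((γ⁻¹ : F.autGroup H) : MulAut H) a)) = a
      rw [h2, Subgroup.coe_inv, MulAut.apply_inv_self]⟩
    refine hxne (hnop A hAn ?_ x ⟨hxa, hxdisp⟩)
    rintro ⟨α, hα⟩
    refine ⟨1, Subtype.ext (Subtype.ext (MulEquiv.ext fun h => ?_))⟩
    have key : ∀ m : ℕ, ((α : MulAut H) ^ m) h = h * ((α : MulAut H) h * h⁻¹) ^ m := by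
      intro m
      induction m with
      | zero => simp
      | succ m ih =>
        rw [pow_succ', MulAut.mul_apply, ih, map_mul, map_pow, hfixL α hα _ (hα.2 h), pow_succ', ← mul_assoc h]
        congr 1
        rw [mul_comm ((α : MulAut H) h), mul_inv_cancel_left]
    show ((α : MulAut H) ^ p ^ 1) h = h
    rw [pow_one, key, hexp, mul_one]
  set b := (g : MulAut H) a with hbdef
  have hab' : b ∉ Subgroup.zpowers a := hg
  have hbne : b ≠ 1 := fun h => hab' (h ▸ one_mem _)
  have hba : a ∉ Subgroup.zpowers b := by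
    intro h
    obtain ⟨i, hi⟩ := h
    refine hab' ?_
    have hcardb : Nat.card (Subgroup.zpowers b) = p := by rw [Nat.card_zpowers, orderOf_eq_prime (hexp b) hbne]
    have hle : Subgroup.zpowers a ≤ Subgroup.zpowers b := Subgroup.zpowers_le.2 ⟨i, hi⟩
    rw [Subgroup.eq_of_le_of_card_ge hle (by rw [hcardb, Nat.card_zpowers, orderOf_eq_prime (hexp a) hane])]
    exact Subgroup.mem_zpowers b
  set y := g * x * g⁻¹
  have hyb : (y : MulAut H) b = b := by
    show (g : MulAut H) ((x : MulAut H) ((g : MulAut H)⁻¹ b)) = b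
    rw [hbdef, MulAut.inv_apply_self, hxa]
  have hyk : (y : MulAut H) ^ p ^ k = 1 := by
    rw [← Subgroup.coe_pow, conj_pow, hk, mul_one, mul_inv_cancel, Subgroup.coe_one]
  obtain ⟨s, hxb⟩ := exists_unipotent hexp hcard hane hab' hxa (congrArg Subtype.val hk)
  obtain ⟨t, hya⟩ := exists_unipotent hexp hcard hbne hba hyb hyk
  have hid : ∀ z : F.autGroup H, (z : MulAut H) a = a → (z : MulAut H) b = b → z = 1 := by
    intro z hza hzb
    obtain ⟨e, he⟩ := exists_mulEquiv hexp hcard hane hab'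
    refine Subtype.ext (MulEquiv.ext fun h => ?_)
    obtain ⟨v, rfl⟩ : ∃ v, coord a b v = h := ⟨(e h).toAdd, by rw [he]; exact e.symm_apply_apply _⟩
    simp [coord, hza, hzb]
  refine exists_sl2 hexp hcard hane hab' (F.autGroup H) x.2 y.2 hxa hyb (fun h => hxne ?_) (fun h => hxne ?_)
    hxb (hya.trans (mul_comm _ _))
  · exact hid x hxa (by rw [hxb, h, ZMod.val_zero, pow_zero, one_mul])
  · have := hid y (by rw [hya, h, ZMod.val_zero, pow_zero, one_mul]) hyb
    simpa [y] using this

end Cfsg.Agent.Fusion.EssentialPSquare
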