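import Mathlib
import Cfsg.Agent.Lib.Fusion.Normal
import Cfsg.Agent.Lib.Fusion.Alperin
import Cfsg.Agent.Lib.Fusion.ModelBasic
import Cfsg.Agent.Lib.Solv.NormalPComplement

/-!
Extremely sparse fusion systems.
-/

set_option autoImplicit false

namespace Cfsg.Agent.Fusion.Sparse

open Cfsg Cfsg.FusionSystem Cfsg.Agent.Fusion

variable {Ω : Type*} [Group Ω] {S T : Subgroup Ω} {F : FusionSystem S} {p : ℕ}

theorem autFun_mul (α α' : MulAut T) {x : Ω} (hx : x ∈ T) :
    autFun (α * α') x = autFun α (autFun α' x) := by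
  rw [autFun_apply _ hx, autFun_apply _ hx, autFun_coe]
  rfl

theorem autFun_mul_map (α : MulAut T) {a b : Ω} (ha : a ∈ T) (hb : b ∈ T) :
    autFun α (a * b) = autFun α a * autFun α b := by
  rw [autFun_apply _ ha, autFun_apply _ hb, autFun_apply _ (T.mul_mem ha hb), ← Subgroup.coe_mul, ← map_mul]
  rfl

theorem autFun_inv_map (α : MulAut T) {a : Ω} (ha : a ∈ T) : autFun α a⁻¹ = (autFun α a)⁻¹ := by
  rw [autFun_apply _ ha, autFun_apply _ (T.inv_mem ha), ← Subgroup.coe_inv, ← map_inv]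
  rfl

theorem autFun_conj_map (α : MulAut T) {a x : Ω} (ha : a ∈ T) (hx : x ∈ T) :
    autFun α (a * x * a⁻¹) = autFun α a * autFun α x * (autFun α a)⁻¹ := by
  rw [autFun_mul_map α (T.mul_mem ha hx) (T.inv_mem ha), autFun_mul_map α ha hx, autFun_inv_map α ha]

theorem autFun_one' {x : Ω} (hx : x ∈ T) : autFun (1 : MulAut T) x = x := by
  rw [autFun_apply _ hx]
  rfl

/-- The maps of the semidirect product of `T` by the powers of one automorphism. -/
def cyclicCond (F : FusionSystem S) (hT : T ≤ S) (β : MulAut T) :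
    MapCond F T where
  C P f := ∃ k : ℤ, ∃ a ∈ T, ∀ x ∈ P, x ∈ T ∧ f x = a * autFun (β ^ k) x * a⁻¹
  le := hT
  congr := fun {P f g} _ ⟨k, a, ha, h⟩ he =>
    ⟨k, a, ha, fun x hx => ⟨(h x hx).1, (he x hx).trans (h x hx).2⟩⟩
  conj := fun {P a} hP ha => ⟨0, a, ha, fun x hx => ⟨hP hx, by rw [zpow_zero, autFun_one' (hP hx)]⟩⟩
  comp := fun {P Q f g} _ ⟨k, a, ha, h⟩ _ ⟨l, b, hb, h'⟩ hm =>
    ⟨l + k, b * autFun (β ^ l) a, T.mul_mem hb (autFun_mem _ ha), fun x hx => by
      obtain ⟨hxT, hf⟩ := h x hx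
      refine ⟨hxT, ?_⟩
      rw [Function.comp_apply, (h' _ (hm x hx)).2, hf, autFun_conj_map _ ha (autFun_mem _ hxT),
        ← autFun_mul _ _ hxT, ← zpow_add]
      group⟩
  symm := fun {P R f g} hi ⟨k, a, ha, h⟩ _ hgl _ =>
    ⟨-k, autFun (β ^ (-k)) a⁻¹, autFun_mem _ (T.inv_mem ha), fun y hy => by
      obtain ⟨x, hx, rfl⟩ := hi.exists_apply hy
      obtain ⟨hxT, hf⟩ := h x hx
      have hu := autFun_mem (β ^ k) hxT
      refine ⟨hf ▸ T.mul_mem (T.mul_mem ha hu) (T.inv_mem ha), ?_⟩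
      rw [hgl x hx, hf, autFun_conj_map _ ha hu, ← autFun_mul _ _ hxT, ← zpow_add, neg_add_cancel,
        zpow_zero, autFun_one' hxT, autFun_inv_map _ ha]
      group⟩

theorem cyclicCond_saturated [Finite S] [Fact p.Prime] (hS : IsPGroup p S) (hT : T ≤ S) {β : MulAut T}
    (hβ : β ∈ F.autGroup T) (hco : (orderOf β).Coprime p) :
    (cyclicCond F hT β).system.IsSaturated p := by
  have : Finite T := finite_of_le hT
  have := finite_mulAut hT
  let Z := Subgroup.zpowers β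
  let φ : Z →* MulAut T := Z.subtype
  let ι : T →* SemidirectProduct T Z φ := SemidirectProduct.inl
  have : Finite (SemidirectProduct T Z φ) := Finite.of_equiv _ SemidirectProduct.equivProd.symm
  have key : ∀ (k : ℤ) (a x : T),
      ((SemidirectProduct.inl a : SemidirectProduct T Z φ) * SemidirectProduct.inr ⟨β ^ k, ⟨k, rfl⟩⟩) * ι x *
        (SemidirectProduct.inl a * SemidirectProduct.inr ⟨β ^ k, ⟨k, rfl⟩⟩)⁻¹ = ι (a * (β ^ k) x * a⁻¹) := by
    intro k a x
    show _ = SemidirectProduct.inl (a * φ ⟨β ^ k, ⟨k, rfl⟩⟩ x * a⁻¹)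
    rw [map_mul, map_mul, map_inv, SemidirectProduct.inl_aut]
    simp only [mul_inv_rev, ι, map_inv, mul_assoc]
  refine realized_saturated (F := (cyclicCond F hT β).system) (ι := ι)
    (realized_intro SemidirectProduct.inl_injective ?_ ?_) ⟨(((hS.to_le hT).to_subgroup ⊤).map ι).toSylow ?_, ?_⟩
  · intro P f hf
    obtain ⟨-, -, k, a, ha, h⟩ := (cyclicCond F hT β).isMor_system'.1 hf
    refine ⟨SemidirectProduct.inl ⟨a, ha⟩ * SemidirectProduct.inr ⟨β ^ k, ⟨k, rfl⟩⟩, fun x y hx hy => ?_⟩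
    rw [key]
    congr 1
    refine Subtype.ext (hy.trans ?_)
    rw [(h _ hx).2, autFun_coe]
    rfl
  · intro P hP g hg
    obtain ⟨k, hk⟩ := Subgroup.mem_zpowers_iff.1 g.right.2
    have hge : g = SemidirectProduct.inl g.left * SemidirectProduct.inr ⟨β ^ k, ⟨k, rfl⟩⟩ := by
      conv_lhs => rw [← SemidirectProduct.inl_left_mul_inr_right g]
      congr 2
      exact Subtype.ext hk.symm
    refine ⟨fun x => (g.left : Ω) * autFun (β ^ k) x * (g.left : Ω)⁻¹,
      (cyclicCond F hT β).isMor_system'.2 ⟨?_, ⟨hP, fun x hx => T.mul_mem (T.mul_mem g.left.2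
        (autFun_mem _ (hP hx))) (T.inv_mem g.left.2)⟩, k, _, g.left.2, fun x hx => ⟨hP hx, rfl⟩⟩,
      fun x y hx hy => ?_⟩
    · have h1 := (isMor_of_mem_autGroup hT ((F.autGroup T).zpow_mem hβ k)).restrict hP
      exact h1.comp (isMor_conj hT (hT g.left.2)) fun x hx => autFun_mem _ (hP hx)
    · rw [hge, key]
      congr 1
      refine Subtype.ext (hy.trans ?_)
      show (g.left : Ω) * autFun (β ^ k) x * (g.left : Ω)⁻¹ = _
      rw [autFun_coe]
      rfl
  · rw [show (Subgroup.map ι ⊤).index = Nat.card Z by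
      rw [← MonoidHom.range_eq_map, SemidirectProduct.range_inl_eq_ker_rightHom,
        Subgroup.index_ker, MonoidHom.range_eq_top.2 SemidirectProduct.rightHom_surjective,
        Subgroup.card_top], Nat.card_zpowers]
    exact (Fact.out : p.Prime).coprime_iff_not_dvd.1 hco.symm
  · exact (MonoidHom.range_eq_map ι).symm

theorem eq_one_of_lt [Finite S] [Fact p.Prime] (hS : IsPGroup p S)
    (hxs : ∀ (U : Subgroup Ω) (E : FusionSystem U), E.IsSaturated p → E.IsSubsystemOf F →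
      (U = S ∧ ∀ P : Subgroup Ω, E.Hom P = F.Hom P) ∨
        (∀ P : Subgroup Ω, E.Hom P = (innerFusionSystem U).Hom P))
    (hT : T ≤ S) (hne : T ≠ S) {β : MulAut T} (hβ : β ∈ F.autGroup T)
    (hco : (orderOf β).Coprime p) : β = 1 := by
  rcases hxs T (cyclicCond F hT β).system (cyclicCond_saturated hS hT hβ hco)
    (fun P φ hφ => And.left (hφ : _ ∈ F.Hom _ ∧ _)) with ⟨h, -⟩ | h
  · exact absurd h hne
  · obtain ⟨φ, hφ, he⟩ := (cyclicCond F hT β).isMor_system'.2
      ⟨isMor_of_mem_autGroup hT hβ, ⟨le_rfl, fun x hx => autFun_mem β hx⟩, 1, 1, T.one_mem,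
        fun x hx => ⟨hx, by rw [zpow_one, one_mul, inv_one, mul_one]⟩⟩
    rw [h T] at hφ
    obtain ⟨-, a, ha, hx⟩ := hφ
    have hi : β ∈ Inn T := ⟨⟨a, ha⟩, MulEquiv.ext fun x => Subtype.ext (by
      rw [← autFun_coe β x, ← he x, hx x]; rfl)⟩
    obtain ⟨n, hn⟩ := ((hS.to_le hT).of_surjective _ (MonoidHom.rangeRestrict_surjective (MulAut.conj (G := T)))) ⟨β, hi⟩
    exact orderOf_eq_one_iff.1 (Nat.eq_one_of_dvd_coprimes hco dvd_rfl |> fun h' =>
      Nat.eq_one_of_dvd_coprimes (hco.pow_right n) dvd_rfl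
        (orderOf_dvd_of_pow_eq_one (congrArg Subtype.val hn)))

theorem main [Finite S] [Fact p.Prime] (hS : IsPGroup p S) (hF : F.IsSaturated p)
    (hne : ¬ (∀ P : Subgroup Ω, F.Hom P = (innerFusionSystem S).Hom P))
    (hxs : ∀ (U : Subgroup Ω) (E : FusionSystem U), E.IsSaturated p → E.IsSubsystemOf F →
      (U = S ∧ ∀ P : Subgroup Ω, E.Hom P = F.Hom P) ∨
        (∀ P : Subgroup Ω, E.Hom P = (innerFusionSystem U).Hom P)) :
    F.IsNormal S ∧ F.focalSubgroup = S ∧ F.hyperfocalSubgroup p = S ∧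
      ∃ (q : ℕ) (β : MulAut S), q.Prime ∧ q ≠ p ∧ β ∈ F.autGroup S ∧ orderOf β = q ∧
        F.autGroup S = Inn S ⊔ Subgroup.zpowers β := by
  -- an automorphism of prime order different from `p`
  obtain ⟨P, hP, hnp⟩ : ∃ P, P ≤ S ∧ ¬ IsPGroup p (F.autGroup P) := by
    by_contra h
    push Not at h
    exact hne fun P => by rw [eq_innerFusionSystem_of_autGroup_pGroup hS hF h]
  have := finite_autGroup (F := F) hP
  obtain ⟨q, hq, hqp, hd⟩ : ∃ q, q.Prime ∧ q ≠ p ∧ q ∣ Nat.card (F.autGroup P) := by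
    by_contra h
    push Not at h
    refine hnp (IsPGroup.of_card (n := (Nat.card (F.autGroup P)).primeFactorsList.length) ?_)
    exact Nat.eq_prime_pow_of_unique_prime_dvd Nat.card_pos.ne' fun {r} hr hrd => by
      by_contra hrp; exact h r hr hrp hrd
  haveI : Fact q.Prime := ⟨hq⟩
  obtain ⟨β₀, hβ₀⟩ := exists_prime_orderOf_dvd_card' (G := F.autGroup P) q hd
  have hco : (orderOf (β₀ : MulAut P)).Coprime p := by
    rw [Subgroup.orderOf_coe, hβ₀]; exact (Nat.coprime_primes hq Fact.out).2 hqp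
  obtain rfl : P = S := by
    by_contra hPS
    have := eq_one_of_lt hS hxs hP hPS β₀.2 hco
    rw [← Subgroup.orderOf_coe, this, orderOf_one] at hβ₀
    exact hq.one_lt.ne hβ₀
  set β : MulAut P := (β₀ : MulAut P)
  have hβ : β ∈ F.autGroup P := β₀.2
  have hβq : orderOf β = q := (Subgroup.orderOf_coe β₀).trans hβ₀
  -- every map is conjugation followed by a power
  have hall : ∀ (A : Subgroup Ω) (f : Ω → Ω), IsMor F A f →
      ∃ k : ℤ, ∃ a ∈ P, ∀ x ∈ A, x ∈ P ∧ f x = a * autFun (β ^ k) x * a⁻¹ := by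
    rcases hxs P (cyclicCond F le_rfl β).system (cyclicCond_saturated hS le_rfl hβ hco)
      (fun A φ hφ => And.left (hφ : _ ∈ F.Hom _ ∧ _)) with ⟨-, h⟩ | h
    · intro A f ⟨φ, hφ, he⟩
      rw [← h A] at hφ
      exact ((cyclicCond F le_rfl β).isMor_system.1 ⟨φ, hφ, he⟩).2
    · exfalso
      obtain ⟨φ, hφ, he⟩ := (cyclicCond F le_rfl β).isMor_system.2
        ⟨isMor_of_mem_autGroup le_rfl hβ, 1, 1, P.one_mem,
          fun x hx => ⟨hx, by rw [zpow_one, one_mul, inv_one, mul_one]⟩⟩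
      rw [h P] at hφ
      obtain ⟨-, a, ha, hx⟩ := hφ
      have hi : β ∈ Inn P := ⟨⟨a, ha⟩, MulEquiv.ext fun x => Subtype.ext (by
        rw [← autFun_coe β x, ← he x, hx x]; rfl)⟩
      obtain ⟨n, hn⟩ := (hS.of_surjective _ (MonoidHom.rangeRestrict_surjective (MulAut.conj (G := P)))) ⟨β, hi⟩
      have h1 := Nat.eq_one_of_dvd_coprimes (hco.pow_right n) dvd_rfl
        (orderOf_dvd_of_pow_eq_one (congrArg Subtype.val hn))
      exact hq.one_lt.ne (h1.symm.trans hβq)
  have hnorm : F.IsNormal P := by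
    refine isNormal_iff.2 ⟨le_rfl, fun A f hf => ?_⟩
    obtain ⟨k, a, ha, h⟩ := hall A f hf
    have hk : IsMor F P (fun x => a * autFun (β ^ k) x * a⁻¹) :=
      (isMor_of_mem_autGroup le_rfl ((F.autGroup P).zpow_mem hβ k)).comp (isMor_conj le_rfl ha)
        fun x hx => autFun_mem _ hx
    exact ⟨_, hk.restrict (sup_le hf.le le_rfl), fun x hx => (h x hx).2.symm,
      hk.isIso_self fun x hx => P.mul_mem (P.mul_mem ha (autFun_mem _ hx)) (P.inv_mem ha)⟩
  -- the commutators with `β` generate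
  let U : Subgroup Ω := Subgroup.closure {y : Ω | ∃ x ∈ P, y = x⁻¹ * autFun β x}
  have hUP : U ≤ P := (Subgroup.closure_le _).2 fun y ⟨x, hx, e⟩ =>
    e ▸ P.mul_mem (P.inv_mem hx) (autFun_mem _ hx)
  have hUβ : ∀ y ∈ U, autFun β y ∈ U := by
    intro y hy
    induction hy using Subgroup.closure_induction with
    | mem y hy =>
      obtain ⟨x, hx, rfl⟩ := hy
      rw [autFun_mul_map _ (P.inv_mem hx) (autFun_mem _ hx), autFun_inv_map _ hx]
      exact Subgroup.subset_closure ⟨autFun β x, autFun_mem _ hx, rfl⟩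
    | one =>
      have h1 := autFun_mul_map β P.one_mem P.one_mem
      rw [one_mul, left_eq_mul] at h1
      rw [h1]; exact U.one_mem
    | mul a b ha hb h1 h2 => rw [autFun_mul_map _ (hUP ha) (hUP hb)]; exact U.mul_mem h1 h2
    | inv a ha h1 => rw [autFun_inv_map _ (hUP ha)]; exact U.inv_mem h1
  have hUeq : U = P := by
    by_contra hne'
    have hi := ((isMor_of_mem_autGroup le_rfl hβ).restrict hUP).isIso_self hUβ
    have hpow : ∀ (n : ℕ) (u : U), (((autOf hi ^ n) u : U) : Ω) = autFun (β ^ n) u := by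
      intro n
      induction n with
      | zero => intro u; rw [pow_zero, pow_zero, autFun_one' (hUP u.2)]; rfl
      | succ n ih =>
        intro u
        rw [pow_succ', pow_succ', MulAut.mul_apply, autFun_mul _ _ (hUP u.2), ← ih u]
        rfl
    have hγ : autOf hi = 1 := by
      refine eq_one_of_lt hS hxs hUP hne' (autOf_mem hi) (hco.coprime_dvd_left ?_)
      refine orderOf_dvd_of_pow_eq_one (MulEquiv.ext fun u => Subtype.ext ?_)
      rw [hpow, pow_orderOf_eq_one, autFun_one' (hUP u.2)]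
      rfl
    have hfix : ∀ u ∈ U, autFun β u = u := fun u hu => by
      have := congrArg (fun γ : MulAut U => ((γ ⟨u, hu⟩ : U) : Ω)) hγ
      exact this
    have hb1 : β = 1 := MulEquiv.ext fun x => Subtype.ext (by
      set t := (x : Ω)⁻¹ * autFun β x
      have htU : t ∈ U := Subgroup.subset_closure ⟨x, x.2, rfl⟩
      have hxt : autFun β x = x * t := (mul_inv_cancel_left _ _).symm
      have hn : ∀ n : ℕ, autFun (β ^ n) x = x * t ^ n := by
        intro n
        induction n with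
        | zero => rw [pow_zero, autFun_one' x.2, pow_zero, mul_one]
        | succ n ih =>
          rw [pow_succ', autFun_mul _ _ x.2, ih,
            autFun_mul_map _ x.2 (P.pow_mem (hUP htU) n), hfix _ (U.pow_mem htU n), hxt, pow_succ',
            mul_assoc]
      have h1 := hn (orderOf β)
      rw [pow_orderOf_eq_one, autFun_one' x.2, left_eq_mul] at h1
      obtain ⟨m, hm⟩ := hS ⟨t, hUP htU⟩
      have h2 := Nat.eq_one_of_dvd_coprimes (hco.pow_right m) (orderOf_dvd_of_pow_eq_one h1)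
        (orderOf_dvd_of_pow_eq_one (congrArg Subtype.val hm))
      rw [orderOf_eq_one_iff.1 h2, mul_one] at hxt
      rw [← autFun_coe β x, hxt]
      rfl)
    rw [hb1, orderOf_one] at hβq
    exact hq.one_lt.ne hβq
  refine ⟨hnorm, le_antisymm ?_ ?_, le_antisymm ?_ ?_, q, β, hq, hqp, hβ, hβq, le_antisymm ?_ ?_⟩
  · refine (Subgroup.closure_le _).2 ?_
    rintro _ ⟨A, φ, x, hφ, rfl⟩
    exact P.mul_mem (P.inv_mem ((F.le_of_mem hφ).1 x.2)) ((F.le_of_mem hφ).2 x)
  · refine hUeq.symm.le.trans ((Subgroup.closure_le _).2 ?_)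
    rintro y ⟨x, hx, rfl⟩
    refine Subgroup.subset_closure ⟨P, P.subtype.comp β.toMonoidHom, ⟨x, hx⟩,
      (mem_autGroup le_rfl).1 hβ, ?_⟩
    rw [autFun_apply _ hx]
    rfl
  · refine (Subgroup.closure_le _).2 ?_
    rintro _ ⟨A, α, x, hA, -, rfl⟩
    exact P.mul_mem (P.inv_mem (hA x.2)) (hA ((α : MulAut A) x).2)
  · refine hUeq.symm.le.trans ((Subgroup.closure_le _).2 ?_)
    rintro y ⟨x, hx, rfl⟩
    refine Subgroup.subset_closure ⟨P, β₀, ⟨x, hx⟩, le_rfl, Solv.mem_pResidual ?_, ?_⟩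
    · rw [← Subgroup.orderOf_coe]; exact hco
    · rw [autFun_apply _ hx]
  · intro α hα
    obtain ⟨k, a, ha, h⟩ := hall P _ (isMor_of_mem_autGroup le_rfl hα)
    have : α = MulAut.conj (⟨a, ha⟩ : P) * β ^ k := MulEquiv.ext fun x => Subtype.ext (by
      rw [← autFun_coe α x, (h x x.2).2, autFun_coe]
      rfl)
    rw [this]
    exact Subgroup.mul_mem_sup ⟨_, rfl⟩ (Subgroup.zpow_mem_zpowers β k)
  · exact sup_le (inn_le_autGroup le_rfl) (Subgroup.zpowers_le.2 hβ)

end Cfsg.Agent.Fusion.Sparse
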