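import Mathlib
import Cfsg.Agent.Lib.Fusion.Transfer
import Cfsg.Agent.Lib.Fusion.Hyperfocal

/-!
A relative transfer for saturated systems, and the control of the focal and hyperfocal subgroups
(the theorem of Tate).
-/

set_option autoImplicit false

open scoped commutatorElement

namespace Cfsg.Agent.Fusion

open Cfsg Cfsg.FusionSystem

universe v

variable {Ω : Type v} [Group Ω] {S : Subgroup Ω} [Finite S] {F : FusionSystem S} {p : ℕ} [Fact p.Prime]
  {M N : Subgroup Ω}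

/-- Every map of the system is conjugation by an element of `S` modulo `M`. -/
def ConjMod (F : FusionSystem S) (M : Subgroup Ω) : Prop :=
  ∀ (P : Subgroup Ω) (f : Ω → Ω), IsMor F P f → ∃ a ∈ S, ∀ x ∈ P, (a * x * a⁻¹)⁻¹ * f x ∈ M

omit [Finite S] [Fact p.Prime] in
theorem conjMod_top : ConjMod F S := fun P f hf =>
  ⟨1, S.one_mem, fun x hx => S.mul_mem (S.inv_mem (by simpa using hf.le hx)) (hf.mem hx)⟩

theorem conjMod_hyperfocal (hS : IsPGroup p S) (hF : F.IsSaturated p) :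
    ConjMod F (F.hyperfocalSubgroup p) := by
  set L := F.hyperfocalSubgroup p
  let c : MapCond F :=
    { C := fun P f => ∃ a ∈ S, ∀ x ∈ P, (a * x * a⁻¹)⁻¹ * f x ∈ L
      le := le_rfl
      congr := fun _ ⟨a, ha, h⟩ he => ⟨a, ha, fun x hx => (he x hx).symm ▸ h x hx⟩
      conj := fun {P a} _ ha => ⟨a, ha, fun x _ => by rw [inv_mul_cancel]; exact one_mem _⟩
      comp := fun {P Q f g} _ ⟨a, ha, h1⟩ _ ⟨b, hb, h2⟩ hm => by
        refine ⟨b * a, S.mul_mem hb ha, fun x hx => ?_⟩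
        have e : (b * a * x * (b * a)⁻¹)⁻¹ * g (f x) =
            b * ((a * x * a⁻¹)⁻¹ * f x) * b⁻¹ * ((b * f x * b⁻¹)⁻¹ * g (f x)) := by group
        rw [Function.comp_apply, e]
        exact L.mul_mem (conj_mem_hyperfocal hb (h1 x hx)) (h2 _ (hm x hx))
      symm := fun {P R f g} _ ⟨a, ha, h⟩ hg _ hfg => by
        refine ⟨a⁻¹, S.inv_mem ha, fun y hy => ?_⟩
        have h1 := h _ (hg.apply_mem hy)
        rw [hfg y hy] at h1
        have e : (a⁻¹ * y * a⁻¹⁻¹)⁻¹ * g y = a⁻¹ * ((a * g y * a⁻¹)⁻¹ * y)⁻¹ * a⁻¹⁻¹ := by group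
        rw [e]
        exact conj_mem_hyperfocal (S.inv_mem ha) (L.inv_mem h1) }
  have hle : F ≤ c.system := alperin_induction hS hF fun P hP α hα _ =>
    c.isMor_system.2 ⟨isMor_of_mem_autGroup hP.1 hα, exists_conj_mod_hyperfocal hS hF hP hα⟩
  exact fun P f hf => (c.isMor_system.1 (le_iff_isMor.1 hle P f hf)).2

/-- The relative transfer attached to an invariant character of `M`. -/
theorem exists_relative_transfer (hS : IsPGroup p S) (hF : F.IsSaturated p) (hMS : M ≤ S)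
    (hn : ∀ a ∈ S, ∀ x ∈ M, a * x * a⁻¹ ∈ M) (hM : ConjMod F M) {A : Type*} [CommGroup A] (χ : M →* A)
    (hχ : ∀ (a : Ω), a ∈ S → ∀ x y : M, a * (x : Ω) * a⁻¹ = y → χ y = χ x) :
    ∃ (m : ℕ) (D : S →* A) (V : M →* A), ¬ p ∣ m ∧
      (∀ x : M, D ⟨x, hMS x.2⟩ * χ x ^ m = V x) ∧
      (∀ (P : Subgroup Ω) (f : Ω → Ω), IsMor F P f → ∀ x y : M, (x : Ω) ∈ P → (y : Ω) = f x → V y = V x) ∧
      ∀ {B : Type v} [CommGroup B] (ψ : A →* B),
        (∀ (P : Subgroup Ω) (f : Ω → Ω), IsMor F P f → ∀ x y : M, (x : Ω) ∈ P → (y : Ω) = f x →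
          ψ (χ y) = ψ (χ x)) → ∀ x : M, ψ (V x) = ψ (χ x) ^ m := by
  classical
  obtain ⟨X, _, _, ⟨m, hm, hcard⟩, hX, hfix⟩ := exists_biset hS hF
  set M' : Subgroup S := M.subgroupOf S with hM'
  have hM'n : M'.Normal := ⟨fun x hx a => hn a a.2 _ hx⟩
  -- a map to `S / M` compatible with the two actions
  have hπ : ∃ π : X → S ⧸ M', ∀ (g : S × S) (x : X),
      π (g • x) = (g.1 : S ⧸ M') * π x * (g.2 : S ⧸ M')⁻¹ := by
    let r : Setoid X := MulAction.orbitRel (S × S) X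
    have hr : ∀ x : X, ∃ g : S × S, x = g • (⟦x⟧ : Quotient r).out := fun x => by
      obtain ⟨g, hg⟩ := Quotient.exact (Quotient.out_eq (⟦x⟧ : Quotient r)).symm
      exact ⟨g, hg.symm⟩
    choose g hg using hr
    have hw : ∀ q : Quotient r, ∃ c : S, ∀ z : S × S, z • q.out = q.out →
        (z.1 : S ⧸ M') * (c : S ⧸ M') * (z.2 : S ⧸ M')⁻¹ = (c : S ⧸ M') := by
      intro q
      obtain ⟨D, f, ⟨hf, hfz⟩, hD⟩ := hX q.out
      obtain ⟨a, ha, hax⟩ := hM _ f hf
      refine ⟨⟨a⁻¹, S.inv_mem ha⟩, fun z hz => ?_⟩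
      have hzD : z ∈ D := hD ▸ hz
      have h1 := hax _ (mem_prOne_of_mem hzD)
      rw [← hfz z hzD] at h1
      have h2 : (((⟨a, ha⟩ : S) * z.1 * (⟨a, ha⟩ : S)⁻¹ : S) : S ⧸ M') = (z.2 : S ⧸ M') :=
        QuotientGroup.eq.2 h1
      rw [← h2]
      simp only [show (⟨a⁻¹, S.inv_mem ha⟩ : S) = (⟨a, ha⟩ : S)⁻¹ from rfl, QuotientGroup.mk_mul,
        QuotientGroup.mk_inv]
      group
    choose c hc using hw
    refine ⟨fun x => ((g x).1 : S ⧸ M') * (c ⟦x⟧ : S ⧸ M') * ((g x).2 : S ⧸ M')⁻¹, fun h x => ?_⟩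
    have hcl : (⟦h • x⟧ : Quotient r) = ⟦x⟧ := Quotient.sound ⟨h, rfl⟩
    have hst : ((h * g x)⁻¹ * g (h • x)) • (⟦x⟧ : Quotient r).out = (⟦x⟧ : Quotient r).out := by
      have h1 := hg (h • x)
      rw [hcl] at h1
      rw [mul_smul, ← h1, inv_smul_eq_iff, mul_smul, ← hg x]
    have h2 := hc _ _ hst
    simp only [Prod.fst_mul, Prod.snd_mul, Prod.fst_inv, Prod.snd_inv, QuotientGroup.mk_mul,
      QuotientGroup.mk_inv] at h2
    simp only [hcl]
    calc ((g (h • x)).1 : S ⧸ M') * (c ⟦x⟧ : S ⧸ M') * ((g (h • x)).2 : S ⧸ M')⁻¹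
        = ((h.1 : S ⧸ M') * ((g x).1 : S ⧸ M')) * ((((h.1 : S ⧸ M') * ((g x).1 : S ⧸ M'))⁻¹ *
            ((g (h • x)).1 : S ⧸ M')) * (c ⟦x⟧ : S ⧸ M') * (((h.2 : S ⧸ M') * ((g x).2 : S ⧸ M'))⁻¹ *
            ((g (h • x)).2 : S ⧸ M'))⁻¹) * ((h.2 : S ⧸ M') * ((g x).2 : S ⧸ M'))⁻¹ := by group
      _ = _ := by rw [h2]; group
  obtain ⟨π, hπ⟩ := hπ
  have hπ2 : ∀ (b : S) (x : X), π (((1 : S), b) • x) = π x * (b : S ⧸ M')⁻¹ := fun b x => by
    rw [hπ, QuotientGroup.mk_one, one_mul]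
  have hπ1 : ∀ (a : S) (x : X), π ((a, (1 : S)) • x) = (a : S ⧸ M') * π x := fun a x => by
    rw [hπ, QuotientGroup.mk_one, inv_one, mul_one]
  -- sections of the right orbits inside the fibre over `1`
  letI st : Setoid X :=
    { r := fun x y => ∃ b : S, y = ((1, b) : S × S) • x
      iseqv :=
        { refl := fun x => ⟨1, by rw [Prod.mk_one_one, one_smul]⟩
          symm := by
            rintro x _ ⟨b, rfl⟩
            exact ⟨b⁻¹, by rw [← mul_smul, Prod.mk_mul_mk, one_mul, inv_mul_cancel, Prod.mk_one_one, one_smul]⟩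
          trans := by
            rintro x _ _ ⟨b, rfl⟩ ⟨b', rfl⟩
            exact ⟨b' * b, by rw [← mul_smul, Prod.mk_mul_mk, one_mul]⟩ } }
  let O := Quotient st
  have hsec₀ : ∀ o : O, ∃ x : X, (⟦x⟧ : O) = o ∧ π x = 1 := by
    intro o
    obtain ⟨b, hb⟩ := QuotientGroup.mk_surjective (π o.out)
    refine ⟨((1, b) : S × S) • o.out, ?_, by rw [hπ2, hb, mul_inv_cancel]⟩
    conv_rhs => rw [← Quotient.out_eq o]
    exact Quotient.sound (st.symm ⟨b, rfl⟩)
  choose sec hsec1 hsec2 using hsec₀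
  have hfree : ∀ (x : X) (b b' : S), ((1, b) : S × S) • x = ((1, b') : S × S) • x → b = b' := by
    intro x b b' h
    have : ((1, b'⁻¹ * b) : S × S) • x = x := by
      rw [show ((1, b'⁻¹ * b) : S × S) = ((1, b') : S × S)⁻¹ * (1, b) by simp, mul_smul, h, inv_smul_smul]
    exact (inv_mul_eq_one.1 (right_free hX x this)).symm
  have hsec : ∀ x : X, ∃ b : S, x = ((1, b) : S × S) • sec ⟦x⟧ := fun x =>
    Quotient.exact (hsec1 ⟦x⟧)
  choose β hβ using hsec
  have hclass : ∀ (o : O) (b : S), (⟦((1, b) : S × S) • sec o⟧ : O) = o := fun o b => by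
    conv_rhs => rw [← hsec1 o]
    exact Quotient.sound (st.symm ⟨b, rfl⟩)
  have huniq : ∀ (o o' : O) (b b' : S), ((1, b) : S × S) • sec o = ((1, b') : S × S) • sec o' →
      o = o' ∧ b = b' := by
    intro o o' b b' h
    have ho : o = o' := by rw [← hclass o b, h, hclass]
    subst ho
    exact ⟨rfl, hfree _ _ _ h⟩
  have hπβ : ∀ x, π x = (β x : S ⧸ M')⁻¹ := fun x => by
    conv_lhs => rw [hβ x]
    rw [hπ2, hsec2, one_mul]
  let mv : S → O → O := fun a o => ⟦((a, 1) : S × S) • sec o⟧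
  let kk : S → O → S := fun a o => (β (((a, 1) : S × S) • sec o))⁻¹
  have hmv : ∀ a o, ((a, 1) : S × S) • sec o = ((1, (kk a o)⁻¹) : S × S) • sec (mv a o) := fun a o => by
    simp only [kk, inv_inv]; exact hβ _
  have hcomm : ∀ (a b : S), ((a, 1) : S × S) * (1, b) = (1, b) * (a, 1) := fun a b => by simp
  have hmul : ∀ a a' o, mv (a * a') o = mv a (mv a' o) ∧ kk (a * a') o = kk a (mv a' o) * kk a' o := by
    intro a a' o
    have h := huniq (mv (a * a') o) (mv a (mv a' o)) (kk (a * a') o)⁻¹ ((kk a' o)⁻¹ * (kk a (mv a' o))⁻¹) (by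
      rw [← hmv, show ((a * a', 1) : S × S) = (a, 1) * (a', 1) by simp, mul_smul, hmv a' o, ← mul_smul,
        hcomm, mul_smul, hmv a, ← mul_smul]
      congr 1
      simp)
    exact ⟨h.1, by rw [← inv_inj, h.2, mul_inv_rev]⟩
  have hone : ∀ o, mv 1 o = o ∧ kk 1 o = 1 := fun o => by
    have h := huniq (mv 1 o) o (kk 1 o)⁻¹ 1 (by rw [← hmv])
    exact ⟨h.1, inv_eq_one.1 h.2⟩
  have hkmod : ∀ a o, (kk a o : S ⧸ M') = (a : S ⧸ M') := fun a o => by
    have h := hπ1 a (sec o)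
    rw [hπβ, hsec2, mul_one] at h
    simpa [kk] using h
  have hdM : ∀ a o, ((a⁻¹ * kk a o : S) : Ω) ∈ M := fun a o =>
    (QuotientGroup.eq.1 (hkmod a o).symm : a⁻¹ * kk a o ∈ M')
  have hkM : ∀ (x : M) o, ((kk ⟨x, hMS x.2⟩ o : S) : Ω) ∈ M := fun x o => by
    have := M.mul_mem x.2 (hdM ⟨x, hMS x.2⟩ o)
    simpa using this
  have hOfin : Finite O := Quotient.finite st
  letI := Fintype.ofFinite O
  let perm : S → Equiv.Perm O := fun a => ⟨mv a, mv a⁻¹,
    fun o => by rw [← (hmul _ _ _).1, inv_mul_cancel, (hone o).1],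
    fun o => by rw [← (hmul _ _ _).1, mul_inv_cancel, (hone o).1]⟩
  let d : S → O → A := fun a o => χ ⟨_, hdM a o⟩
  let D : S →* A := MonoidHom.mk' (fun a => ∏ o, d a o) fun a a' => by
    show ∏ o, d (a * a') o = (∏ o, d a o) * ∏ o, d a' o
    rw [← Equiv.prod_comp (perm a') (fun o => d a o), ← Finset.prod_mul_distrib]
    refine Finset.prod_congr rfl fun o _ => ?_
    have hc := hn (a' : Ω)⁻¹ (S.inv_mem a'.2) _ (hdM a (mv a' o))
    have e : (⟨_, hdM (a * a') o⟩ : M) = ⟨_, hc⟩ * ⟨_, hdM a' o⟩ := Subtype.ext (by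
      simp only [(hmul a a' o).2, Subgroup.coe_mul, Subgroup.coe_inv, inv_inv, mul_inv_rev, mul_assoc,
        mul_inv_cancel_left])
    show χ _ = χ _ * χ _
    rw [e, map_mul, hχ (a' : Ω)⁻¹ (S.inv_mem a'.2) ⟨_, hdM a (mv a' o)⟩ ⟨_, hc⟩ rfl]
    rfl
  have hcardO : Nat.card O = m := by
    have e : X ≃ O × S :=
      { toFun := fun x => (⟦x⟧, β x)
        invFun := fun q => ((1, q.2) : S × S) • sec q.1
        left_inv := fun x => (hβ x).symm
        right_inv := fun ⟨o, b⟩ => by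
          have h := huniq _ _ _ _ (hβ (((1, b) : S × S) • sec o))
          exact Prod.ext h.1.symm h.2.symm }
    rw [Nat.card_congr e, Nat.card_prod] at hcard
    exact Nat.eq_of_mul_eq_mul_right Nat.card_pos hcard
  let ι : M →* S := Subgroup.inclusion hMS
  let V : M →* A := D.comp ι * χ ^ m
  have hV : ∀ x : M, V x = ∏ o, χ ⟨_, hkM x o⟩ := by
    intro x
    show (∏ o, d (ι x) o) * χ x ^ m = _
    rw [← hcardO, Nat.card_eq_fintype_card, ← Finset.card_univ, ← Finset.prod_const, ← Finset.prod_mul_distrib]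
    refine Finset.prod_congr rfl fun o _ => ?_
    rw [mul_comm, ← map_mul]
    congr 1
    refine Subtype.ext ?_
    show (x : Ω) * ((x : Ω)⁻¹ * _) = _
    rw [mul_inv_cancel_left]
    rfl
  refine ⟨m, D, V, hm, fun x => rfl, ?_, ?_⟩
  · intro P f hf x y hxP hy
    set xs : S := ⟨x, hMS x.2⟩
    set ys : S := ⟨y, hMS y.2⟩
    set C : Subgroup S := Subgroup.zpowers xs
    have hC : ∀ a : C, ((a : S) : Ω) ∈ P := by
      rintro ⟨_, k, rfl⟩
      exact P.zpow_mem hxP k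
    let fC : C →* S := MonoidHom.mk' (fun a => (⟨f ((a : S) : Ω), hf.mem (hC a)⟩ : S))
      fun u v => Subtype.ext (hf.map_mul (hC u) (hC v))
    let i1 : C × S →* S × S := C.subtype.prodMap (MonoidHom.id S)
    let i2 : C × S →* S × S := fC.prodMap (MonoidHom.id S)
    have hmor : ∀ L : Subgroup (C × S), prOne (L.map i1) ≤ P := by
      rintro L _ ⟨_, ⟨w, -, rfl⟩, rfl⟩
      exact hC w.1
    have htr : ∀ L : Subgroup (C × S), IsTrans (L.map i1) (L.map i2) f 1 := by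
      intro L z'
      constructor
      · rintro ⟨w, hw, rfl⟩
        exact ⟨i1 w, ⟨w, hw, rfl⟩, rfl, by simp [i1, i2]⟩
      · rintro ⟨z, ⟨w, hw, rfl⟩, h1, h2⟩
        refine ⟨w, hw, Prod.ext (Subtype.ext h1.symm) ?_⟩
        rw [h2]
        simp [i1, i2]
    have hnum : ∀ (i : C × S →* S × S) (L : Subgroup (C × S)),
        @numFixed (C × S) _ X (MulAction.compHom X i) L = numFixed X (L.map i) := fun i L =>
      Nat.card_congr (Equiv.subtypeEquivRight fun x =>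
        ⟨fun h => by rintro _ ⟨w, hw, rfl⟩; exact h w hw, fun h w hw => h _ ⟨w, hw, rfl⟩⟩)
    obtain ⟨σ, hσ⟩ := @exists_equivariant_of_numFixed (C × S) _ _ (Nat.card X) X X
      (MulAction.compHom X i1) (MulAction.compHom X i2) _ _ rfl fun L => by
        rw [hnum, hnum]
        exact hfix _ _ (rel_or_not_of_trans (htr L) (hf.restrict (hmor L)))
    have hσ' : ∀ (a : C) (b : S) (z : X),
        σ (((a : S), b) • z) = ((fC a, b) : S × S) • σ z := fun a b z => hσ (a, b) z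
    have hσr : ∀ (b : S) (z : X), σ (((1 : S), b) • z) = ((1, b) : S × S) • σ z := fun b z => by
      have := hσ' 1 b z
      rwa [Subgroup.coe_one, map_one] at this
    let τ : O → O := fun o => ⟦σ (sec o)⟧
    have hτinj : Function.Injective τ := by
      intro o o' h
      obtain ⟨b, hb⟩ := Quotient.exact h
      rw [← hσr] at hb
      have h1 := σ.injective hb
      rw [← hclass o b, ← h1]
      exact hsec1 o'
    have hτ : Function.Bijective τ := Finite.injective_iff_bijective.1 hτinj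
    set u : O → S := fun o => β (σ (sec o))
    have key : ∀ o, kk ys (τ o) = (u (mv xs o))⁻¹ * kk xs o * u o := by
      intro o
      have hy' : fC ⟨xs, Subgroup.mem_zpowers xs⟩ = ys := Subtype.ext hy.symm
      have e1 : σ (((xs, 1) : S × S) • sec o) = ((ys, 1) : S × S) • σ (sec o) := by
        rw [hσ' ⟨xs, Subgroup.mem_zpowers xs⟩ 1, hy']
      rw [hmv, hσr, hβ (σ (sec (mv xs o))), hβ (σ (sec o)), ← mul_smul, ← mul_smul, hcomm,
        mul_smul ((1, β (σ (sec o))) : S × S), hmv, ← mul_smul] at e1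
      simp only [Prod.mk_mul_mk, one_mul] at e1
      obtain ⟨-, h2⟩ := huniq _ _ _ _ e1
      replace h2 : (kk xs o)⁻¹ * u (mv xs o) = u o * (kk ys (τ o))⁻¹ := h2
      apply inv_injective
      rw [eq_inv_mul_iff_mul_eq.2 h2.symm]
      group
    -- representatives of the classes of `u`
    let w : O → S := fun o => ((u o : S) : S ⧸ M').out
    have hux : ∀ o, ((u (mv xs o) : S) : S ⧸ M') = (u o : S ⧸ M') := fun o => by
      have h : ((kk ys (τ o) : S) : S ⧸ M') = ((u (mv xs o))⁻¹ * kk xs o * u o : S) := by rw [key o]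
      have hy1 : (ys : S ⧸ M') = 1 := (QuotientGroup.eq_one_iff _).2 y.2
      have hx1 : (xs : S ⧸ M') = 1 := (QuotientGroup.eq_one_iff _).2 x.2
      rw [QuotientGroup.mk_mul, QuotientGroup.mk_mul, hkmod, hkmod, hy1, hx1, mul_one, QuotientGroup.mk_inv,
        eq_comm, inv_mul_eq_one] at h
      exact h
    have hw : ∀ o, w (mv xs o) = w o := fun o => by simp only [w, hux o]
    have heM : ∀ o, (((w o)⁻¹ * u o : S) : Ω) ∈ M := fun o =>
      (QuotientGroup.eq.1 (QuotientGroup.out_eq' _) : (w o)⁻¹ * u o ∈ M')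
    let E : O → A := fun o => χ ⟨_, heM o⟩
    have h3 : ∀ o, χ ⟨_, hkM y (τ o)⟩ = χ ⟨_, hkM x o⟩ * ((E (mv xs o))⁻¹ * E o) := by
      intro o
      have hc := hn (u (mv xs o) : Ω)⁻¹ (S.inv_mem (u (mv xs o)).2) _ (hkM x o)
      have e : (⟨_, hkM y (τ o)⟩ : M) =
          ⟨_, hc⟩ * ((⟨_, heM (mv xs o)⟩ : M)⁻¹ * ⟨_, heM o⟩) := Subtype.ext (by
        show ((kk ys (τ o) : S) : Ω) = _
        rw [key o]
        simp only [Subgroup.coe_mul, Subgroup.coe_inv, hw o, inv_inv, mul_inv_rev, mul_assoc,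
          mul_inv_cancel_left]
        rfl)
      rw [e, map_mul, map_mul, map_inv,
        hχ (u (mv xs o) : Ω)⁻¹ (S.inv_mem (u (mv xs o)).2) ⟨_, hkM x o⟩ ⟨_, hc⟩ rfl]
    have h4 : ∏ o, E (mv xs o) = ∏ o, E o := Equiv.prod_comp (perm xs) E
    rw [hV, hV, ← Equiv.prod_comp (Equiv.ofBijective τ hτ) (fun o => χ ⟨_, hkM y o⟩)]
    calc ∏ o, χ ⟨_, hkM y (Equiv.ofBijective τ hτ o)⟩
        = ∏ o, χ ⟨_, hkM x o⟩ * ((E (mv xs o))⁻¹ * E o) := Finset.prod_congr rfl fun o _ => h3 o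
      _ = ∏ o, χ ⟨_, hkM x o⟩ := by
          rw [Finset.prod_mul_distrib, Finset.prod_mul_distrib, Finset.prod_inv_distrib, h4, inv_mul_cancel,
            mul_one]
  · intro B _ ψ hψ x
    rw [hV, map_prod]
    set xs : S := ⟨x, hMS x.2⟩
    have hpow : ∀ (i : ℕ) (o : O), (perm xs ^ i) o = mv (xs ^ i) o ∧
        ψ (χ ⟨_, hkM (x ^ i) o⟩) = ∏ j ∈ Finset.range i, ψ (χ ⟨_, hkM x ((perm xs ^ j) o)⟩) := by
      intro i o
      induction i with
      | zero =>
        refine ⟨by simpa using ((hone o).1).symm, ?_⟩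
        have e : (⟨_, hkM (x ^ 0) o⟩ : M) = 1 := Subtype.ext (by
          show ((kk _ o : S) : Ω) = 1
          rw [show (⟨((x ^ 0 : M) : Ω), hMS (x ^ 0).2⟩ : S) = 1 from Subtype.ext (by simp), (hone o).2]
          rfl)
        rw [e, map_one, map_one, Finset.prod_range_zero]
      | succ i ih =>
        refine ⟨?_, ?_⟩
        · rw [pow_succ', pow_succ', Equiv.Perm.mul_apply, ih.1, (hmul _ _ _).1]
          rfl
        · have e : (⟨_, hkM (x ^ (i + 1)) o⟩ : M) = ⟨_, hkM x (mv (xs ^ i) o)⟩ * ⟨_, hkM (x ^ i) o⟩ :=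
            Subtype.ext (by
              show ((kk (ι (x ^ (i + 1))) o : S) : Ω) = ((kk xs (mv (xs ^ i) o) * kk (ι (x ^ i)) o : S) : Ω)
              rw [map_pow, map_pow, pow_succ', show ι x = xs from rfl, (hmul _ _ _).2])
          rw [e, map_mul, map_mul, Finset.prod_range_succ, ← ih.2, ih.1, mul_comm]
    rw [prod_eq_pow_card_of_cycles (perm xs) (fun o => ψ (χ ⟨_, hkM x o⟩)) (ψ (χ x)) ?_ ?_ Finset.univ
      (fun o _ => Finset.mem_univ _), Finset.card_univ, ← Nat.card_eq_fintype_card, hcardO]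
    · intro o l hl
      obtain ⟨h1, h2⟩ := hpow l o
      rw [← h2, ← map_pow, ← map_pow]
      rw [h1] at hl
      have hst : ((xs ^ l, kk (xs ^ l) o) : S × S) • sec o = sec o := by
        rw [show ((xs ^ l, kk (xs ^ l) o) : S × S) = (1, kk (xs ^ l) o) * (xs ^ l, 1) by simp, mul_smul,
          hmv, hl, ← mul_smul]
        simp [Prod.mk_one_one]
      obtain ⟨D', f, ⟨hf, hfz⟩, hD⟩ := hX (sec o)
      have hm' : ((xs ^ l, kk (xs ^ l) o) : S × S) ∈ D' := hD ▸ hst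
      refine hψ _ f hf (x ^ l) ⟨_, hkM (x ^ l) o⟩ ?_ ?_
      · simpa [xs] using mem_prOne_of_mem hm'
      · show ((kk (ι (x ^ l)) o : S) : Ω) = f ((x ^ l : M) : Ω)
        rw [map_pow, show ι x = xs from rfl]
        exact (hfz _ hm').trans (by simp [xs])
    · intro o
      refine ⟨orderOf (perm xs), (isOfFinOrder_of_finite (perm xs)).orderOf_pos, ?_⟩
      rw [pow_orderOf_eq_one]
      rfl

end Cfsg.Agent.Fusion
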