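import Mathlib
import Cfsg.Agent.Lib.Fusion.Monomial
import Cfsg.Agent.Lib.Fusion.FactorHyperfocal

/-!
The theorem of Tate for saturated fusion systems.
-/

set_option autoImplicit false

open scoped commutatorElement

namespace Cfsg.Agent.Fusion

open Cfsg Cfsg.FusionSystem

universe v

variable {Ω : Type v} [Group Ω] {S : Subgroup Ω} {F : FusionSystem S} {p : ℕ}
  {M N : Subgroup Ω}

/-- A subgroup of a nilpotent group generated modulo `L` by its commutators lies in `L`. -/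
theorem le_of_le_sup_commutator_nilpotent {T L : Subgroup Ω} (hM : Group.IsNilpotent M) (hTM : T ≤ M)
    (hn : M ≤ Subgroup.normalizer (L : Set Ω)) (h : T ≤ L ⊔ ⁅T, M⁆) : T ≤ L := by
  obtain ⟨n, hn0⟩ := (Subgroup.isNilpotent_iff_lowerCentralSeries M).mp hM
  have key : ∀ k, T ≤ L ⊔ M.lowerCentralSeries k := by
    intro k
    induction k with
    | zero => exact hTM.trans (le_sup_of_le_right (le_of_eq (Subgroup.lowerCentralSeries_zero M).symm))
    | succ k ih =>
      refine h.trans (sup_le le_sup_left (Subgroup.commutator_le.2 fun a ha b hb => ?_))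
      have hlc : M.lowerCentralSeries k ≤ M := Subgroup.lowerCentralSeries_le_self M k
      have hab := ih ha
      rw [← SetLike.mem_coe, Subgroup.coe_mul_of_right_le_normalizer_left L _ (hlc.trans hn)] at hab
      obtain ⟨l, hl, c, hc, rfl⟩ := hab
      have e : ⁅l * c, b⁆ = l * ⁅c, b⁆ * l⁻¹ * (l * (b * l⁻¹ * b⁻¹)) := by
        simp [commutatorElement_def]; group
      rw [e]
      refine mul_mem (mul_mem (mul_mem (Subgroup.mem_sup_left hl) (Subgroup.mem_sup_right ?_))
        (Subgroup.mem_sup_left (L.inv_mem hl))) (Subgroup.mem_sup_left (L.mul_mem hl ?_))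
      · rw [Subgroup.lowerCentralSeries_succ]
        exact Subgroup.commutator_mem_commutator hc hb
      · exact conj_mem_of_mem_normalizer (hn hb) (L.inv_mem hl)
  have := key n
  rwa [hn0, sup_bot_eq] at this

theorem commutator_le_self : ⁅S, S⁆ ≤ S := Subgroup.commutator_le.2 fun a ha b hb =>
  S.mul_mem (S.mul_mem (S.mul_mem ha hb) (S.inv_mem ha)) (S.inv_mem hb)

theorem conj_mem_of_commutator_le (hMS : M ≤ S) (hc : ⁅M, S⁆ ≤ N) (hNM : N ≤ M) {a x : Ω} (ha : a ∈ S)
    (hx : x ∈ N) : a * x * a⁻¹ ∈ N := by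
  have h := N.mul_mem hx (hc (Subgroup.commutator_mem_commutator (hNM (N.inv_mem hx)) ha))
  simpa [commutatorElement_def, mul_assoc] using h

/-- The invariant character of `M` with kernel `N`. -/
theorem exists_char (hMS : M ≤ S) (hNM : N ≤ M) (hc : ⁅M, S⁆ ≤ N) :
    ∃ (A : Type v) (_ : CommGroup A) (χ : M →* A), Function.Surjective χ ∧
      (∀ x : M, χ x = 1 ↔ (x : Ω) ∈ N) ∧
      ∀ (a : Ω), a ∈ S → ∀ x y : M, a * (x : Ω) * a⁻¹ = y → χ y = χ x := by
  have hNn : (N.subgroupOf M).Normal := ⟨fun x hx a =>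
    conj_mem_of_commutator_le hMS hc hNM (hMS a.2) hx⟩
  have hcomm : ∀ u v : M ⧸ N.subgroupOf M, u * v = v * u := by
    intro u v
    induction u using QuotientGroup.induction_on with | H a => ?_
    induction v using QuotientGroup.induction_on with | H b => ?_
    rw [← QuotientGroup.mk_mul, ← QuotientGroup.mk_mul, QuotientGroup.eq]
    show ((a : Ω) * b)⁻¹ * (b * a) ∈ N
    have h := hc (Subgroup.commutator_mem_commutator (M.inv_mem b.2) (S.inv_mem (hMS a.2)))
    simpa [commutatorElement_def, mul_assoc] using h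
  refine ⟨M ⧸ N.subgroupOf M, { QuotientGroup.Quotient.group (N.subgroupOf M) with mul_comm := hcomm },
    QuotientGroup.mk' _, QuotientGroup.mk'_surjective _, fun x => ?_, fun a ha x y h => ?_⟩
  · rw [← Subgroup.mem_subgroupOf]
    exact QuotientGroup.eq_one_iff _
  · refine QuotientGroup.eq.2 ?_
    show (y : Ω)⁻¹ * x ∈ N
    have h1 := hc (Subgroup.commutator_mem_commutator (M.inv_mem x.2) ha)
    have h2 := N.inv_mem (conj_mem_of_commutator_le hMS hc hNM (S.inv_mem (hMS x.2))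
      (conj_mem_of_commutator_le hMS hc hNM (hMS x.2) h1))
    have e : (y : Ω)⁻¹ * x = ((x : Ω)⁻¹ * y)⁻¹ := by group
    rw [e]
    refine N.inv_mem ?_
    rw [← h]
    simpa [commutatorElement_def, mul_assoc] using h1

section

variable [Finite S] [Fact p.Prime]

/-- An invariant character of the hyperfocal subgroup is trivial. -/
theorem hyperfocal_char_eq_one (hS : IsPGroup p S) {A : Type*} [CommGroup A]
    (V : F.hyperfocalSubgroup p →* A)
    (hinv : ∀ (P : Subgroup Ω) (f : Ω → Ω), IsMor F P f → ∀ x y : F.hyperfocalSubgroup p,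
      (x : Ω) ∈ P → (y : Ω) = f x → V y = V x) (z : F.hyperfocalSubgroup p) : V z = 1 := by
  suffices h : (F.hyperfocalSubgroup p) ≤ V.ker.map (F.hyperfocalSubgroup p).subtype by
    obtain ⟨w, hw, he⟩ := h z.2
    rw [← Subtype.ext he]
    exact hw
  refine (Subgroup.closure_le _).2 ?_
  rintro _ ⟨P, α, x, hP, hα, rfl⟩
  let G0 : Subgroup (F.autGroup P) :=
    { carrier := {β | ∀ u ∈ P, ∃ h : u⁻¹ * autFun (β : MulAut P) u ∈ (F.hyperfocalSubgroup p), V ⟨_, h⟩ = 1}
      one_mem' := fun u hu => by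
        refine ⟨by rw [Subgroup.coe_one, autFun_one hu, inv_mul_cancel]; exact one_mem _, ?_⟩
        convert map_one V
        simp [autFun_one hu]
      mul_mem' := by
        intro β γ hβ hγ u hu
        obtain ⟨h1, e1⟩ := hγ u hu
        obtain ⟨h2, e2⟩ := hβ _ (autFun_mem (γ : MulAut P) hu)
        have e : u⁻¹ * autFun (↑(β * γ) : MulAut P) u = u⁻¹ * autFun (γ : MulAut P) u *
            ((autFun (γ : MulAut P) u)⁻¹ * autFun (β : MulAut P) (autFun (γ : MulAut P) u)) := by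
          rw [Subgroup.coe_mul, autFun_mul _ _ hu]; group
        refine ⟨e ▸ (F.hyperfocalSubgroup p).mul_mem h1 h2, ?_⟩
        have e' : (⟨_, e ▸ (F.hyperfocalSubgroup p).mul_mem h1 h2⟩ : (F.hyperfocalSubgroup p)) = ⟨_, h1⟩ * ⟨_, h2⟩ := Subtype.ext e
        rw [e', map_mul, e1, e2, one_mul]
      inv_mem' := by
        intro β hβ u hu
        obtain ⟨h1, e1⟩ := hβ _ (autFun_mem (↑β⁻¹ : MulAut P) hu)
        have e : u⁻¹ * autFun (↑β⁻¹ : MulAut P) u = ((autFun (↑β⁻¹ : MulAut P) u)⁻¹ *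
            autFun (β : MulAut P) (autFun (↑β⁻¹ : MulAut P) u))⁻¹ := by
          rw [← autFun_mul _ _ hu, ← Subgroup.coe_mul, mul_inv_cancel, Subgroup.coe_one, autFun_one hu]
          group
        refine ⟨e ▸ (F.hyperfocalSubgroup p).inv_mem h1, ?_⟩
        have e' : (⟨_, e ▸ (F.hyperfocalSubgroup p).inv_mem h1⟩ : (F.hyperfocalSubgroup p)) = (⟨_, h1⟩ : (F.hyperfocalSubgroup p))⁻¹ := Subtype.ext e
        rw [e', map_inv, e1, inv_one] }
  suffices h : pResidual p (F.autGroup P) ≤ G0 by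
    obtain ⟨hm, he⟩ := h hα x x.2
    refine ⟨⟨_, hm⟩, he, ?_⟩
    show (x : Ω)⁻¹ * autFun (α : MulAut P) x = _
    rw [autFun_coe]
  refine (Subgroup.closure_le _).2 fun β hβ u hu => ?_
  have hm := isMor_of_mem_autGroup hP β.2
  have hd : ∀ w ∈ P, w⁻¹ * autFun (β : MulAut P) w ∈ (F.hyperfocalSubgroup p) := fun w hw =>
    Subgroup.subset_closure ⟨P, β, ⟨w, hw⟩, hP, Solv.mem_pResidual hβ, by rw [autFun_apply _ hw]⟩
  refine ⟨hd u hu, ?_⟩
  set c := V ⟨_, hd u hu⟩
  have hiter : ∀ i : ℕ, ∃ h : u⁻¹ * autFun ((β : MulAut P) ^ i) u ∈ (F.hyperfocalSubgroup p), V ⟨_, h⟩ = c ^ i := by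
    intro i
    induction i with
    | zero =>
      refine ⟨by simp [autFun_one hu], ?_⟩
      rw [pow_zero c]
      convert map_one V
      simp [autFun_one hu]
    | succ i ih =>
      obtain ⟨h, he⟩ := ih
      have hw : u⁻¹ * autFun ((β : MulAut P) ^ i) u ∈ P := P.mul_mem (P.inv_mem hu) (autFun_mem _ hu)
      have hβw : autFun (β : MulAut P) (u⁻¹ * autFun ((β : MulAut P) ^ i) u) ∈ (F.hyperfocalSubgroup p) := by
        have := (F.hyperfocalSubgroup p).mul_mem h (hd _ hw)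
        rwa [mul_inv_cancel_left] at this
      have e : u⁻¹ * autFun ((β : MulAut P) ^ (i + 1)) u = u⁻¹ * autFun (β : MulAut P) u *
          autFun (β : MulAut P) (u⁻¹ * autFun ((β : MulAut P) ^ i) u) := by
        rw [pow_succ', autFun_mul _ _ hu, hm.map_mul (P.inv_mem hu) (autFun_mem _ hu), hm.map_inv hu]
        group
      refine ⟨e ▸ (F.hyperfocalSubgroup p).mul_mem (hd u hu) hβw, ?_⟩
      have e' : (⟨_, e ▸ (F.hyperfocalSubgroup p).mul_mem (hd u hu) hβw⟩ : (F.hyperfocalSubgroup p)) = ⟨_, hd u hu⟩ * ⟨_, hβw⟩ := Subtype.ext e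
      rw [e', map_mul, hinv P _ hm ⟨_, h⟩ ⟨_, hβw⟩ hw rfl, he, ← pow_succ']
  obtain ⟨h, he⟩ := hiter (orderOf β)
  have h1 : c ^ orderOf β = 1 := by
    rw [← he]
    convert map_one V
    show u⁻¹ * autFun ((β : MulAut P) ^ orderOf β) u = 1
    rw [← Subgroup.coe_pow, pow_orderOf_eq_one, Subgroup.coe_one, autFun_one hu, inv_mul_cancel]
  obtain ⟨k, hk⟩ := hS.to_le (hyperfocal_le F p) ⟨_, hd u hu⟩
  have h2 : c ^ p ^ k = 1 := by rw [← map_pow, hk, map_one]
  exact orderOf_eq_one_iff.1 (Nat.eq_one_of_dvd_coprimes (Nat.Coprime.pow_right k hβ)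
    (orderOf_dvd_of_pow_eq_one h1) (orderOf_dvd_of_pow_eq_one h2))

theorem eq_one_of_pow_eq_one (hS : IsPGroup p S) (hMS : M ≤ S) {A : Type*} [CommGroup A] (χ : M →* A)
    {m : ℕ} (hm : ¬ p ∣ m) (x : M) (h : χ x ^ m = 1) : χ x = 1 := by
  obtain ⟨k, hk⟩ := hS.to_le hMS x
  have h2 : χ x ^ p ^ k = 1 := by rw [← map_pow, hk, map_one]
  exact orderOf_eq_one_iff.1 (Nat.eq_one_of_dvd_coprimes
    ((((Fact.out : p.Prime).coprime_iff_not_dvd.2 hm).symm).pow_right k)
    (orderOf_dvd_of_pow_eq_one h) (orderOf_dvd_of_pow_eq_one h2))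

variable (hS : IsPGroup p S) (hF : F.IsSaturated p)
include hS hF

/-- A normal subgroup generating the hyperfocal subgroup modulo `[S, S]` contains it. -/
theorem hyperfocal_le_of_le_sup (hN : N ≤ F.hyperfocalSubgroup p)
    (hNn : ∀ a ∈ S, ∀ x ∈ N, a * x * a⁻¹ ∈ N) (h : F.hyperfocalSubgroup p ≤ N ⊔ ⁅S, S⁆) :
    F.hyperfocalSubgroup p ≤ N := by
  set L := F.hyperfocalSubgroup p
  have hLS : L ≤ S := hyperfocal_le F p
  refine le_of_le_sup_commutator_nilpotent hS.isNilpotent hLS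
    (fun a ha => mem_normalizer_of_conj_mem (hN.trans hLS) (hNn a ha)) ?_
  set N' := N ⊔ ⁅L, S⁆
  have hN'L : N' ≤ L := sup_le hN (Subgroup.commutator_le.2 fun a ha b hb => by
    have h1 := L.mul_mem ha (conj_mem_hyperfocal hb (L.inv_mem ha))
    simpa [commutatorElement_def, mul_assoc] using h1)
  obtain ⟨A, _, χ, -, hker, hχ⟩ := exists_char hLS hN'L le_sup_right
  obtain ⟨m, D, V, hm, hDV, hinv, -⟩ := exists_relative_transfer hS hF hLS
    (fun a ha x hx => conj_mem_hyperfocal ha hx) (conjMod_hyperfocal hS hF) χ hχ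
  have hV := hyperfocal_char_eq_one hS V hinv
  have hD : N ⊔ ⁅S, S⁆ ≤ D.ker.map S.subtype := by
    refine sup_le (fun x hx => ⟨⟨x, hLS (hN hx)⟩, ?_, rfl⟩) (Subgroup.commutator_le.2 fun a ha b hb =>
      ⟨⁅(⟨a, ha⟩ : S), ⟨b, hb⟩⁆, ?_, rfl⟩)
    · have h1 := hDV ⟨x, hN hx⟩
      rw [hV, (hker _).2 (Subgroup.mem_sup_left hx), one_pow, mul_one] at h1
      exact h1
    · show D _ = 1
      rw [map_commutatorElement, commutatorElement_eq_one_iff_mul_comm]
      exact mul_comm _ _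
  intro x hx
  obtain ⟨w, hw, he⟩ := hD (h hx)
  have h1 := hDV ⟨x, hx⟩
  rw [hV, show (⟨x, hLS hx⟩ : S) = w from Subtype.ext he.symm, MonoidHom.mem_ker.1 hw, one_mul] at h1
  exact (hker _).1 (eq_one_of_pow_eq_one hS hLS χ hm _ h1)

/-- A subgroup between `[S, S]` and the focal subgroup generating it modulo the Frattini subgroup is
equal to it. -/
theorem focal_le_of_le_sup_frattini (hc : ⁅S, S⁆ ≤ N) (hN : N ≤ F.focalSubgroup)
    (h : F.focalSubgroup ≤ (frattini S).map S.subtype ⊔ N) : F.focalSubgroup ≤ N := by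
  have hNS : N ≤ S := hN.trans (focal_le F)
  obtain ⟨A, _, χ, hsurj, hker, hχ⟩ := exists_char (le_refl S) hNS hc
  obtain ⟨m, D, V, hm, -, hinv, hψ⟩ := exists_relative_transfer hS hF (le_refl S)
    (fun a ha x hx => S.mul_mem (S.mul_mem ha hx) (S.inv_mem ha)) conjMod_top χ hχ
  obtain ⟨B, _, η, -, hη, -⟩ := exists_char (le_refl S) (focal_le F) (commutator_le_focal (F := F))
  have hle : χ.ker ≤ η.ker := fun x hx => (hη x).2 (hN ((hker x).1 hx))
  let ψ : A →* B := χ.liftOfSurjective hsurj ⟨η, hle⟩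
  have hψχ : ∀ x, ψ (χ x) = η x := fun x => χ.liftOfRightInverse_comp_apply _ _ ⟨η, hle⟩ x
  have hψV : ∀ x, ψ (V x) = η x ^ m := fun x => by
    rw [hψ ψ (fun P f hf x y hx hy => ?_), hψχ]
    rw [hψχ, hψχ, ← inv_mul_eq_one, ← map_inv, ← map_mul, hη]
    have := F.focalSubgroup.inv_mem (mem_focal_of_isMor hf hx)
    rw [← hy, mul_inv_rev, inv_inv] at this
    exact this
  have hVfoc : F.focalSubgroup ≤ V.ker.map S.subtype := by
    refine (Subgroup.closure_le _).2 ?_
    rintro _ ⟨P, φ, x, hφ, rfl⟩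
    have hxS : (x : Ω) ∈ S := (F.le_of_mem hφ).1 x.2
    have hφS := (F.le_of_mem hφ).2 x
    refine ⟨(⟨x, hxS⟩ : ↥S)⁻¹ * ⟨φ x, hφS⟩, ?_, rfl⟩
    show V _ = 1
    rw [map_mul, map_inv, hinv P _ (isMor_extFun hφ) ⟨x, hxS⟩ ⟨φ x, hφS⟩ x.2 (extFun_coe φ x).symm,
      inv_mul_cancel]
  have hVsurj : Function.Surjective V := by
    have htop : V.range.comap χ = ⊤ := by
      refine frattini_nongenerating (eq_top_iff.2 fun z _ => ?_)
      obtain ⟨x, hx⟩ := (hS.powEquiv ((Fact.out : p.Prime).coprime_iff_not_dvd.2 hm)).surjective z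
      rw [IsPGroup.powEquiv_apply] at hx
      obtain ⟨r, hr⟩ := hsurj (V x)
      have h1 : η (r⁻¹ * z) = 1 := by
        rw [map_mul, map_inv, ← hψχ r, hr, hψV, ← hx, map_pow, inv_mul_cancel]
      have h2 := h ((hη _).1 h1)
      have hNR : N.subgroupOf S ≤ V.range.comap χ := fun w hw => by
        rw [Subgroup.mem_comap, (hker w).2 hw]
        exact one_mem _
      have h3 : r⁻¹ * z ∈ frattini S ⊔ N.subgroupOf S := by
        obtain ⟨w, hw, he⟩ : ((r⁻¹ * z : S) : Ω) ∈ (frattini S ⊔ N.subgroupOf S).map S.subtype := by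
          rw [Subgroup.map_sup, Subgroup.subgroupOf_map_subtype, inf_eq_left.2 hNS]
          exact h2
        have hwe : w = r⁻¹ * z := Subtype.ext he
        rw [← hwe]
        exact hw
      have h4 : r ∈ V.range.comap χ := ⟨x, hr.symm⟩
      have h5 := mul_mem (Subgroup.mem_sup_left h4)
        ((sup_le le_sup_right (hNR.trans le_sup_left) :
          frattini S ⊔ N.subgroupOf S ≤ V.range.comap χ ⊔ frattini S) h3)
      rwa [mul_inv_cancel_left] at h5
    intro a
    obtain ⟨w, rfl⟩ := hsurj a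
    exact (htop.ge (Subgroup.mem_top w) : χ w ∈ V.range)
  have hkc : V.ker.index = χ.ker.index := by
    rw [Subgroup.index_ker, Subgroup.index_ker, MonoidHom.range_eq_top.2 hVsurj, MonoidHom.range_eq_top.2 hsurj]
  have hcard : Nat.card V.ker = Nat.card χ.ker := by
    have h1 := V.ker.card_mul_index
    rw [hkc, ← χ.ker.card_mul_index] at h1
    exact Nat.eq_of_mul_eq_mul_right (Nat.pos_of_ne_zero χ.ker.index_ne_zero_of_finite) h1
  have hkN : χ.ker.map S.subtype = N := by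
    ext y
    exact ⟨fun ⟨w, hw, he⟩ => he ▸ (hker w).1 hw, fun hy => ⟨⟨y, hNS hy⟩, (hker _).2 hy, rfl⟩⟩
  have heq : N = F.focalSubgroup := by
    refine eq_of_le_of_card_le' (focal_le F) hN ?_
    rw [← hkN]
    have hfin := finite_of_le (S := S) (P := V.ker.map S.subtype) (Subgroup.map_subtype_le _)
    calc Nat.card F.focalSubgroup ≤ Nat.card (V.ker.map S.subtype) :=
          Nat.card_le_card_of_injective _ (Subgroup.inclusion_injective hVfoc)
      _ = Nat.card (χ.ker.map S.subtype) := by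
          rw [Subgroup.card_map_of_injective S.subtype_injective,
            Subgroup.card_map_of_injective S.subtype_injective, hcard]
  exact heq.ge

omit hS hF [Finite S] [Fact p.Prime] in
theorem hyperfocal_mono {H : FusionSystem S} (hle : H ≤ F) :
    H.hyperfocalSubgroup p ≤ F.hyperfocalSubgroup p := by
  refine (Subgroup.closure_le _).2 ?_
  rintro _ ⟨P, α, x, hP, hα, rfl⟩
  exact Subgroup.subset_closure ⟨P, Subgroup.inclusion (autGroup_mono hle P) α, x, hP,
    map_pResidual_le (Subgroup.inclusion (autGroup_mono hle P)) ⟨α, hα, rfl⟩, rfl⟩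

omit hS hF [Finite S] [Fact p.Prime] in
theorem focal_mono {H : FusionSystem S} (hle : H ≤ F) : H.focalSubgroup ≤ F.focalSubgroup :=
  (Subgroup.closure_le _).2 fun _ ⟨P, φ, x, hφ, e⟩ => Subgroup.subset_closure ⟨P, φ, x, hle P hφ, e⟩

/-- With trivial hyperfocal subgroup the system is the inner one. -/
theorem eq_inner_of_hyperfocal_eq_bot (h : F.hyperfocalSubgroup p = ⊥) : F = innerFusionSystem S := by
  refine eq_innerFusionSystem_of_autGroup_pGroup hS hF fun P hP => ?_
  have := finite_autGroup (F := F) hP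
  intro α
  obtain ⟨k, hk⟩ : ∃ k : ℕ, Nat.Coprime (orderOf (α ^ p ^ k)) p := by
    obtain ⟨a, q, hq, he⟩ := Nat.exists_eq_pow_mul_and_not_dvd (orderOf_pos α).ne' p
      (Fact.out : p.Prime).one_lt.ne'
    exact ⟨a, Nat.Coprime.coprime_dvd_left (orderOf_dvd_of_pow_eq_one (by
      rw [← pow_mul, ← he, pow_orderOf_eq_one]))
      ((Fact.out : p.Prime).coprime_iff_not_dvd.2 hq).symm⟩
  refine ⟨k, Subtype.ext (MulEquiv.ext fun x => Subtype.ext ?_)⟩
  have hm : (x : Ω)⁻¹ * ((α ^ p ^ k : F.autGroup P) : MulAut P) x ∈ F.hyperfocalSubgroup p :=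
    Subgroup.subset_closure ⟨P, α ^ p ^ k, x, hP, Solv.mem_pResidual hk, rfl⟩
  rw [h, Subgroup.mem_bot, inv_mul_eq_one] at hm
  exact hm.symm

end

end Cfsg.Agent.Fusion
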