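import Cfsg.Agent.Lib.Fusion.SectionFactor
import Cfsg.Agent.Lib.Fusion.SectionFree
import Cfsg.Agent.Lib.Fusion.FunctorReduction
import Cfsg.Agent.Lib.Fusion.NormalCriteria
import Cfsg.Agent.Lib.Solv.ZJ

/-!
The `Z(J)` theorem for `Qd(p)`-free saturated fusion systems, in functor form.
-/

set_option autoImplicit false
set_option linter.style.haveILetI false

universe v

namespace Cfsg.Agent.Fusion.ZJFusion

open Cfsg Cfsg.FusionSystem

variable {p : ℕ} [hp : Fact p.Prime]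

/-- The local condition on a functor. -/
def LocalNormal (p : ℕ) (W : SubFunctor.{v} p) : Prop :=
  ∀ (L : Type v) [Group L] [Finite L] (T : Sylow p L),
    Subgroup.centralizer (pCore p L : Set L) ≤ pCore p L → ¬ Involves ↥(qd p) L →
      (W.W (T : Subgroup L)).Normal

variable {Ω : Type v} [Group Ω] {S : Subgroup Ω} [Finite S] {F : FusionSystem S}

omit hp in
theorem model_transfer {T : Subgroup Ω} (h : T = S) (E : FusionSystem T)
    (hiff : ∀ A f, IsMor E A f ↔ IsMor F A f) {L : Type v} [Group L] {ι : T →* L}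
    (hL : E.IsModel p L ι) : ∃ ι' : S →* L, F.IsModel p L ι' := by
  subst h
  have : E = F := fusionSystem_ext fun A => hom_eq_of_isMor_iff A (hiff A)
  exact ⟨ι, this ▸ hL⟩

omit [Finite S] hp in
theorem exists_system_top {H : Type*} [Group H] {T : Subgroup Ω} (h : T = S) (E : FusionSystem T) :
    ∃ E' : FusionSystem S, (E.IsSaturated p → E'.IsSaturated p) ∧
      (E.IsSectionFree p H → E'.IsSectionFree p H) ∧ ∀ A f, IsMor E' A f ↔ IsMor E A f := by
  subst h
  exact ⟨E, id, id, fun _ _ => Iff.rfl⟩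

theorem fullyNormalized_of_top {Q : Subgroup Ω} (hQS : Q ≤ S)
    (hSQ : S ≤ Subgroup.normalizer (Q : Set Ω)) : F.IsFullyNormalized Q := by
  refine ⟨hQS, fun R _ => ?_⟩
  rw [show normalizerIn S Q = S from inf_eq_left.2 hSQ]
  exact Nat.card_le_card_of_injective (Subgroup.inclusion normalizerIn_le)
    (Subgroup.inclusion_injective _)

/-- The normalizer system of a subgroup normalized by `S`. -/
theorem exists_top (hS : IsPGroup p S) (hF : F.IsSaturated p)
    (hfree : F.IsSectionFree p ↥(qd p)) {Y : Subgroup Ω} (hYS : Y ≤ S)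
    (hSY : S ≤ Subgroup.normalizer (Y : Set Ω)) :
    ∃ E : FusionSystem S, E.IsSaturated p ∧ E.IsSectionFree p ↥(qd p) ∧ E ≤ F ∧ E.IsNormal Y ∧
      ∀ A f, IsMor E A f ↔ A ≤ S ∧ ∃ k, IsMor F (A ⊔ Y) k ∧ (∀ x ∈ A, k x = f x) ∧ IsIso F Y Y k := by
  have hT : normalizerIn S Y = S := inf_eq_left.2 hSY
  have hYn := fullyNormalized_of_top (F := F) hYS hSY
  obtain ⟨E₀, hE₀⟩ := exists_normalizerSystem F hYS
  obtain ⟨E, hsat, hfr, hiff⟩ := exists_system_top (p := p) (H := ↥(qd p)) hT E₀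
  have key : ∀ A f, IsMor E A f ↔
      A ≤ S ∧ ∃ k, IsMor F (A ⊔ Y) k ∧ (∀ x ∈ A, k x = f x) ∧ IsIso F Y Y k := by
    intro A f
    rw [hiff, isMor_normalizer_iff hE₀]
    constructor
    · rintro ⟨hA, -, h⟩
      exact ⟨hA.trans hT.le, h⟩
    · rintro ⟨hA, k, hk, hke, hkQ⟩
      refine ⟨hA.trans hT.ge, fun x hx => hT.ge ?_, k, hk, hke, hkQ⟩
      rw [← hke x hx]
      exact hk.mem (Subgroup.mem_sup_left hx)
  refine ⟨E, hsat (normalizerSystem_saturated hS hF hYn hE₀),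
    hfr (sectionFree_normalizer hS hF hfree hYn hE₀), le_iff_isMor.2 fun A f hf => ?_,
    isNormal_iff.2 ⟨hYS, fun A f hf => ?_⟩, key⟩
  · obtain ⟨-, k, hk, hke, -⟩ := (key A f).1 hf
    exact (hk.restrict le_sup_left).congr fun x hx => (hke x hx).symm
  · obtain ⟨hA, k, hk, hke, hkQ⟩ := (key A f).1 hf
    have hkm : IsMor E (A ⊔ Y) k := (key _ _).2
      ⟨sup_le hA hYS, k, by rwa [sup_assoc, sup_idem], fun _ _ => rfl, hkQ⟩
    exact ⟨k, hkm, hke, (hkm.restrict le_sup_right).isIso_self fun x hx => hkQ.apply_mem hx⟩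

/-- The model of a constrained free system. -/
theorem exists_model_free (hS : IsPGroup p S) (hF : F.IsSaturated p)
    (hfree : F.IsSectionFree p ↥(qd p)) {R : Subgroup Ω} (hRn : F.IsNormal R) (hRc : F.IsCentric R) :
    ∃ (L : Type v) (_ : Group L) (ι : S →* L), F.IsModel p L ι ∧ ¬ Involves ↥(qd p) L := by
  have hSR := normal_le_normalizer hRn
  have hRS := hRn.1
  have hfn := fullyNormalized_of_top (F := F) hRS hSR
  have hT : normalizerIn S R = S := inf_eq_left.2 hSR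
  obtain ⟨E, hE, L, hLg, ι, hL⟩ := exists_normalizer_model hS hF hfn hRc
  obtain ⟨ι', hL'⟩ := model_transfer hT E (fun A f => by
    rw [isMor_normalizer_iff hE]
    constructor
    · rintro ⟨-, -, k, hk, hke, -⟩
      exact (hk.restrict le_sup_left).congr fun x hx => (hke x hx).symm
    · intro hf
      obtain ⟨k, hk, hke, hkR⟩ := (isNormal_iff.1 hRn).2 A f hf
      exact ⟨hf.le.trans hT.ge, fun x hx => hT.ge (hf.mem hx), k, hk, hke, hkR⟩) hL
  exact ⟨L, hLg, ι', hL', hfree R hfn hRc E hE L ι hL⟩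

theorem isNormal_of_model {W : SubFunctor.{v} p} (hW : LocalNormal p W) {L : Type v} [Group L]
    {ι : S →* L} (hL : F.IsModel p L ι) (hfree : ¬ Involves ↥(qd p) L) : F.IsNormal (W.W S) := by
  have := hL.1
  obtain ⟨T, hT⟩ := hL.2.2.1
  have hn := hW L T hL.2.2.2 hfree
  rw [hT] at hn
  have hmap := W.map S ι hL.2.1.1
  refine isNormal_of_norm hL.2.1 (W.le S) fun g x hx => ?_
  have h1 : g * ι x * g⁻¹ ∈ W.W ι.range := hn.conj_mem _ (hmap ▸ ⟨x, hx, rfl⟩) g
  rw [← hmap] at h1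
  obtain ⟨y, hy, he⟩ := h1
  exact ⟨y, hy, he.symm⟩

omit [Finite S] hp in
theorem mem_imageAlong_of {Ω' : Type*} [Group Ω'] {θ : S →* Ω'} {P' : Subgroup Ω'} {x : Ω}
    (hx : x ∈ preimageAlong θ P') : qfun θ x ∈ P' := (mem_preimageAlong.1 hx).2

/-- The step at an essential subgroup, when the core is not centric. -/
theorem good_essential (hS : IsPGroup p S) (hF : F.IsSaturated p) {G0 : FusionSystem S}
    {P Q V : Subgroup Ω} (hPn : F.IsFullyNormalized P) (hPc : F.IsCentric P) (hPr : F.IsRadical p P)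
    (hQn : F.IsNormal Q) (hVS : V ≤ S) (hSV : S ≤ Subgroup.normalizer (V : Set Ω)) (hQV : Q ≤ V)
    {Ω' : Type v} [Group Ω'] {S' : Subgroup Ω'} {θ : S →* Ω'} {E' : FusionSystem S'}
    (hE' : F.IsFactorSystem Q θ E') {W' : Subgroup Ω'} (hW' : E'.IsNormal W')
    (hV : ∀ x, x ∈ V ↔ x ∈ S ∧ qfun θ x ∈ W')
    (hY : ∀ Y : Subgroup Ω, Y ≤ S → S ≤ Subgroup.normalizer (Y : Set Ω) → ¬ Y ≤ Q →
      ∀ A f, IsMor F A f → NExt F Y A f → IsMor G0 A f)
    (hVQ : ¬ V ≤ Q) (hR : ¬ centralizerIn S Q ≤ Q)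
    (hbig : ∀ (A : Subgroup Ω) (f : Ω → Ω), Nat.card P < Nat.card A → IsMor F A f → IsMor G0 A f)
    {α : MulAut P} (hα : α ∈ F.autGroup P) : IsMor G0 P (autFun α) := by
  classical
  have hPS := hPc.1
  have hQS := hQn.1
  have hQsc := normal_stronglyClosed hQn
  have hQP : Q ≤ P := normal_le_radical hS hQn hPc hPr
  have hαi := isIso_autFun hPS hα
  have hαQ : IsIso F Q Q (autFun α) := normal_isIso hQn hαi.1 hQP
  have hSQ := normal_le_normalizer hQn
  by_cases hVP : V ≤ P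
  · refine hY V hVS hSV hVQ P _ hαi.1 ⟨autFun α, by rw [sup_eq_left.2 hVP]; exact hαi.1, fun _ _ => rfl, ?_⟩
    obtain ⟨f', hf', hi⟩ := factor_isMor_of hS hF hQsc hE' hαi.1
    have hWP : W' ≤ imageAlong θ P := fun y hy => by
      obtain ⟨x, hx, rfl⟩ := exists_qfun_eq hE'.2.2.1 hW'.1 hy
      obtain ⟨hxS, hxW⟩ := mem_preimageAlong.1 hx
      exact imageAlong_mem hPS (hVP ((hV x).2 ⟨hxS, hxW⟩))
    have hiso := normal_isIso hW' hf' hWP
    refine (hαi.1.restrict hVP).isIso_self fun x hx => (hV _).2 ⟨hαi.1.mem (hVP hx), ?_⟩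
    rw [← hi x (hVP hx)]
    exact hiso.apply_mem ((hV x).1 hx).2
  by_cases hCP : centralizerIn S Q ≤ P
  · set R := Q ⊔ centralizerIn S Q
    have hRP : R ≤ P := sup_le hQP hCP
    have hSR : S ≤ Subgroup.normalizer (R : Set Ω) := (centric_sup_centralizer hS hF hQS hSQ).2
    refine hY R (hRP.trans hPS) hSR (fun h => hR (le_sup_right.trans h)) P _ hαi.1
      ⟨autFun α, by rw [sup_eq_left.2 hRP]; exact hαi.1, fun _ _ => rfl, ?_⟩
    exact (hαi.1.restrict hRP).isIso_self fun x hx => (hαi.1.restrict hRP).apply_mem_sup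
      (fun y hy => Subgroup.mem_sup_left (hαQ.apply_mem hy))
      (fun y hy => Subgroup.mem_sup_right
        (hαi.1.apply_mem_centralizerIn hQP hαQ (hCP hy) hy)) hx
  -- the model of the normalizer system of `P`
  obtain ⟨EP, hEP, L, hLg, ι, hL⟩ := exists_normalizer_model hS hF hPn hPc
  have := hL.1
  let T := normalizerIn S P
  have hTS : T ≤ S := normalizerIn_le
  have hPT : P ≤ T := le_normalizerIn hPS
  have hQT : Q ≤ T := hQP.trans hPT
  have : Finite T := finite_of_le hTS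
  have hi := hL.2.1.1
  have hTp : IsPGroup p T := hS.to_le hTS
  set Ph := mImg ι P with hPh
  have hcore : ∀ y, y ∈ pCore p L ↔ y ∈ Ph := by
    have hM := modelCore_eq_of_radical hS hPc hPr hEP hL
    intro y
    constructor
    · intro hy
      obtain ⟨x, hx, rfl⟩ := exists_preimage_pCore hL hy
      exact ⟨x, hM.le hx, rfl⟩
    · rintro ⟨x, hx, rfl⟩
      exact mem_modelCore.1 (hM.ge hx)
  have hPh' : Ph = pCore p L := by ext y; exact (hcore y).symm
  haveI hPhn : Ph.Normal := by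
    rw [hPh']; haveI := Solv.pCore_characteristic p L; infer_instance
  have hmor : ∀ {A : Subgroup Ω} {f : Ω → Ω}, IsMor EP A f → IsMor F A f :=
    fun h => isMor_of_normalizer hEP h
  have hPhe : ∀ (g : L) (x : T), (x : Ω) ∈ P → ∃ y : T, (y : Ω) ∈ P ∧ ι y = g * ι x * g⁻¹ :=
    fun g x hx => hPhn.conj_mem _ ⟨x, hx, rfl⟩ g
  have hact : ∀ g : L, ∃ f, IsIso F P P f ∧
      ∀ x y : T, (x : Ω) ∈ P → (y : Ω) = f x → ι y = g * ι x * g⁻¹ := by
    intro g
    obtain ⟨f, hf, hfg⟩ := realized_exists_mor hL.2.1 hPT g fun x hx => by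
      obtain ⟨y, -, he⟩ := hPhe g x hx
      exact ⟨y, he⟩
    refine ⟨f, (hmor hf).isIso_self fun x hx => ?_, hfg⟩
    obtain ⟨y, hy, he⟩ := hPhe g ⟨x, hPT hx⟩ hx
    have h1 := hfg ⟨x, hPT hx⟩ ⟨f x, hf.mem hx⟩ hx rfl
    rw [← he] at h1
    rw [show f x = (y : Ω) from congrArg Subtype.val (hi h1)]
    exact hy
  let K0 : Subgroup L :=
    { carrier := {g | ∃ f, IsIso G0 P P f ∧
        ∀ x y : T, (x : Ω) ∈ P → (y : Ω) = f x → ι y = g * ι x * g⁻¹}
      one_mem' := ⟨id, isIso_id hPS, fun x y _ h => by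
        rw [show y = x from Subtype.ext h]; simp⟩
      mul_mem' := by
        rintro a b ⟨fa, hfa, ha⟩ ⟨fb, hfb, hb⟩
        refine ⟨fa ∘ fb, hfb.trans hfa, fun x y hx hy => ?_⟩
        rw [ha ⟨fb x, hPT (hfb.apply_mem hx)⟩ y (hfb.apply_mem hx) hy,
          hb x ⟨fb x, hPT (hfb.apply_mem hx)⟩ hx rfl]
        group
      inv_mem' := by
        rintro a ⟨fa, hfa, ha⟩
        obtain ⟨fi, hfi, -, hr⟩ := hfa.exists_symm
        refine ⟨fi, hfi, fun x y hx hy => ?_⟩
        have h1 := ha y x (hy ▸ hfi.apply_mem hx) (by rw [hy, hr x hx])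
        rw [h1]; group }
  -- elements normalizing a larger subgroup are good
  have hgood : ∀ (P1 : Subgroup Ω), P < P1 → P1 ≤ T →
      Subgroup.normalizer (mImg ι P1 : Set L) ≤ K0 := by
    intro P1 hlt hP1T g hg
    obtain ⟨f, hf, hfg⟩ := realized_exists_mor hL.2.1 hP1T g fun x hx => by
      obtain ⟨y, -, he⟩ := (Subgroup.mem_normalizer_iff.1 hg (ι x)).1 ⟨x, hx, rfl⟩
      exact ⟨y, he⟩
    have h1 := (hbig P1 f (card_lt_of_lt (hP1T.trans hTS) hlt) (hmor hf)).restrict hlt.le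
    refine ⟨f, h1.isIso_self fun x hx => ?_, fun x y hx hy => hfg x y (hlt.le hx) hy⟩
    obtain ⟨y, hy, he⟩ := hPhe g ⟨x, hPT hx⟩ hx
    have h2 := hfg ⟨x, hPT hx⟩ ⟨f x, hf.mem (hlt.le hx)⟩ (hlt.le hx) rfl
    rw [← he] at h2
    rw [show f x = (y : Ω) from congrArg Subtype.val (hi h2)]
    exact hy
  set Qh := mImg ι Q with hQh
  haveI hQhn : Qh.Normal := ⟨by
    rintro _ ⟨x, hx, rfl⟩ g
    obtain ⟨f, hf, hfg⟩ := hact g
    have hq := (normal_isIso hQn hf.1 hQP).apply_mem hx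
    exact ⟨⟨f x, hQT hq⟩, hq, hfg x ⟨f x, hQT hq⟩ (hQP hx) rfl⟩⟩
  let D : Subgroup L :=
    { carrier := {g | ∀ y ∈ Ph, g * y * g⁻¹ * y⁻¹ ∈ Qh}
      one_mem' := fun y _ => by simp
      mul_mem' := by
        intro a b ha hb y hy
        have h1 := ha y hy
        have h2 := hQhn.conj_mem _ (hb y hy) a
        have e : a * b * y * (a * b)⁻¹ * y⁻¹ = a * (b * y * b⁻¹ * y⁻¹) * a⁻¹ * (a * y * a⁻¹ * y⁻¹) := by
          group
        rw [e]
        exact mul_mem h2 h1
      inv_mem' := by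
        intro a ha y hy
        have h1 := hQhn.conj_mem _ (InvMemClass.inv_mem (ha y hy)) a⁻¹
        have e : a⁻¹ * y * a⁻¹⁻¹ * y⁻¹ = a⁻¹ * (a * y * a⁻¹ * y⁻¹)⁻¹ * a⁻¹⁻¹ := by group
        rw [e]
        exact h1 }
  haveI hDn : D.Normal := ⟨fun d hd l y hy => by
    have h1 := hQhn.conj_mem _ (hd _ (hPhn.conj_mem y hy l⁻¹)) l
    have e : l * d * l⁻¹ * y * (l * d * l⁻¹)⁻¹ * y⁻¹ =
        l * (d * (l⁻¹ * y * l⁻¹⁻¹) * d⁻¹ * (l⁻¹ * y * l⁻¹⁻¹)⁻¹) * l⁻¹ := by group
    rw [e]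
    exact h1⟩
  set C := Subgroup.centralizer (Qh : Set L) with hC
  haveI hCn : C.Normal := ⟨fun c hc l => by
    rw [hC, Subgroup.mem_centralizer_iff] at hc ⊢
    intro q hq
    have h1 := hc _ (hQhn.conj_mem q hq l⁻¹)
    calc q * (l * c * l⁻¹) = l * ((l⁻¹ * q * l⁻¹⁻¹) * c) * l⁻¹ := by group
      _ = l * (c * (l⁻¹ * q * l⁻¹⁻¹)) * l⁻¹ := by rw [h1]
      _ = l * c * l⁻¹ * q := by group⟩
  obtain ⟨TL, hTL⟩ := hL.2.2.1
  have hmImgT : ∀ {A : Subgroup Ω}, IsPGroup p (mImg ι A) := fun {A} =>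
    (hTp.to_subgroup _).map ι
  -- elements of `D` centralizing `Q` form a `p`-group
  have hDC : IsPGroup p (D ⊓ C : Subgroup L) := by
    intro ⟨g, hgD, hgC⟩
    obtain ⟨k, hk⟩ := IsPGroup.iff_card.1 (hmImgT (A := Q))
    have hpow : ∀ (n : ℕ), ∀ y ∈ Ph, g ^ n * y * (g ^ n)⁻¹ = (g * y * g⁻¹ * y⁻¹) ^ n * y := by
      intro n y hy
      induction n with
      | zero => simp
      | succ n ih =>
        have hc : g * (g * y * g⁻¹ * y⁻¹) = (g * y * g⁻¹ * y⁻¹) * g :=
          ((Subgroup.mem_centralizer_iff.1 hgC) _ (hgD y hy)).symm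
        have hcn : g * (g * y * g⁻¹ * y⁻¹) ^ n = (g * y * g⁻¹ * y⁻¹) ^ n * g :=
          (Commute.pow_right hc n).eq
        calc g ^ (n + 1) * y * (g ^ (n + 1))⁻¹ = g * (g ^ n * y * (g ^ n)⁻¹) * g⁻¹ := by
              rw [pow_succ']; group
          _ = g * (g * y * g⁻¹ * y⁻¹) ^ n * y * g⁻¹ := by rw [ih]; group
          _ = (g * y * g⁻¹ * y⁻¹) ^ n * (g * y * g⁻¹ * y⁻¹) * y := by rw [hcn]; group
          _ = _ := by rw [← pow_succ]
    have hcent : g ^ p ^ k ∈ Subgroup.centralizer (pCore p L : Set L) := by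
      refine Subgroup.mem_centralizer_iff.2 fun y hy => ?_
      have hyP : y ∈ Ph := (hcore y).1 hy
      have h1 : (g * y * g⁻¹ * y⁻¹) ^ p ^ k = 1 := by
        rw [← hk]
        exact congrArg Subtype.val (pow_card_eq_one' (x := (⟨_, hgD y hyP⟩ : Qh)))
      have h2 := hpow (p ^ k) y hyP
      rw [h1, one_mul, mul_inv_eq_iff_eq_mul] at h2
      exact h2.symm
    obtain ⟨j, hj⟩ := Solv.isPGroup_pCore p L ⟨_, hL.2.2.2 hcent⟩
    refine ⟨k + j, Subtype.ext ?_⟩
    have hj' := congrArg Subtype.val hj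
    simpa [pow_add, pow_mul] using hj'
  -- the subgroups `P (V ∩ T)` and `P (C_S(Q) ∩ T)`
  have hexceed : ∀ U : Subgroup Ω, U ≤ S → S ≤ Subgroup.normalizer (U : Set Ω) → ¬ U ≤ P →
      P < P ⊔ (U ⊓ T) := by
    intro U hUS hSU hUP
    set H := P ⊔ U
    have hH : H ≤ S := sup_le hPS hUS
    have : Finite H := finite_of_le hH
    have hlt : P < H := lt_of_le_of_ne le_sup_left fun h => hUP (h ▸ le_sup_right)
    refine lt_of_lt_of_le (normalizerIn_self_lt (hS.to_le hH) hlt) fun a ha => ?_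
    obtain ⟨x, hx, u, hu, rfl⟩ : ∃ x ∈ P, ∃ u ∈ U, x * u = a := by
      have h1 : a ∈ ((P ⊔ U : Subgroup Ω) : Set Ω) := ha.1
      rw [Subgroup.coe_mul_of_left_le_normalizer_right P U (hPS.trans hSU)] at h1
      exact Set.mem_mul.1 h1
    refine Subgroup.mul_mem_sup hx ⟨hu, hUS hu, ?_⟩
    have h2 := mul_mem (InvMemClass.inv_mem (Subgroup.le_normalizer hx)) ha.2
    rwa [inv_mul_cancel_left] at h2
  set P1 := P ⊔ (V ⊓ T) with hP1
  have hP1T : P1 ≤ T := sup_le hPT inf_le_right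
  have hP1lt : P < P1 := hexceed V hVS hSV hVP
  set X := mImg ι P1 with hX
  have hPX : Ph ≤ X := fun y ⟨x, hx, e⟩ => ⟨x, hP1lt.le hx, e⟩
  -- `L = N(X) D`
  have hfr : ∀ g : L, ∃ n ∈ Subgroup.normalizer (X : Set L), n⁻¹ * g ∈ D := by
    intro g
    obtain ⟨f, hf, hfg⟩ := hact g
    obtain ⟨f', hf', hi'⟩ := factor_isMor_of hS hF hQsc hE' hf.1
    obtain ⟨k', hk', hke', hk'W⟩ := (isNormal_iff.1 hW').2 _ f' hf'
    obtain ⟨-, k, hk, hki⟩ := hk'.factor_lift hE'
    set pre := preimageAlong θ (imageAlong θ P ⊔ W')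
    have hPpre : P ≤ pre := fun x hx =>
      mem_preimageAlong.2 ⟨hPS hx, Subgroup.mem_sup_left (imageAlong_mem hPS hx)⟩
    have hVpre : V ≤ pre := fun x hx =>
      mem_preimageAlong.2 ⟨((hV x).1 hx).1, Subgroup.mem_sup_right ((hV x).1 hx).2⟩
    have hkf : ∀ x ∈ P, (f x)⁻¹ * k x ∈ Q := fun x hx => by
      rw [← qfun_eq_iff hE'.2.1 (hf.1.mem hx) (hk.mem (hPpre hx)), ← hi' x hx, ← hki x (hPpre hx)]
      exact (hke' _ (imageAlong_mem hPS hx)).symm
    have hkP : IsIso F P P k := (hk.restrict hPpre).isIso_self fun x hx => by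
      have := mul_mem (hf.apply_mem hx) (hQP (hkf x hx))
      rwa [mul_inv_cancel_left] at this
    have hkV : ∀ x ∈ V, k x ∈ V := fun x hx => (hV _).2 ⟨hk.mem (hVpre hx), by
      rw [← hki x (hVpre hx)]; exact hk'W.apply_mem ((hV x).1 hx).2⟩
    have hkm : IsMor F (P ⊔ (V ⊓ T)) k := hk.restrict (sup_le hPpre (inf_le_left.trans hVpre))
    have hkP1 : ∀ x ∈ P1, k x ∈ P1 := fun x hx => IsMor.mapsTo_sup (R := P1) hkm
      (fun y hy => Subgroup.mem_sup_left (hkP.apply_mem hy))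
      (fun y hy => Subgroup.mem_sup_right (show k y ∈ V ⊓ T from ⟨hkV y hy.1,
          hk.apply_mem_normalizerIn hPpre hkP (hVpre hy.1) hy.2.2⟩)) hx
    have hkE : IsMor EP P1 k := (isMor_normalizer_iff hEP).2 ⟨hP1T, fun x hx => hP1T (hkP1 x hx), k,
      by rwa [sup_eq_left.2 hP1lt.le], fun _ _ => rfl, hkP⟩
    obtain ⟨n, hn⟩ := realized_exists_conj hL.2.1 hkE
    refine ⟨n, ?_, fun y hy => ?_⟩
    · refine Subgroup.mem_normalizer_fintype (S := (X : Set L)) fun y hy => ?_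
      obtain ⟨x, hx, rfl⟩ := hy
      exact ⟨⟨k x, hP1T (hkP1 x hx)⟩, hkP1 x hx, hn x ⟨k x, _⟩ hx rfl⟩
    · obtain ⟨x, hx, rfl⟩ := hy
      have hkx := hP1lt.le hx
      have e1 : ι ⟨k x, hP1T (hkP1 x hkx)⟩ = n * ι x * n⁻¹ := hn x _ hkx rfl
      have e2 : ι ⟨f x, hPT (hf.apply_mem hx)⟩ = g * ι x * g⁻¹ := hfg x _ hx rfl
      have e3 : (⟨k x, hP1T (hkP1 x hkx)⟩ : T) =
          ⟨f x, hPT (hf.apply_mem hx)⟩ * ⟨(f x)⁻¹ * k x, hQT (hkf x hx)⟩ := Subtype.ext (by simp)
      have h3 : ι ⟨(f x)⁻¹ * k x, hQT (hkf x hx)⟩ ∈ Qh := ⟨_, hkf x hx, rfl⟩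
      rw [e3, map_mul, e2] at e1
      set q := ι ⟨(f x)⁻¹ * k x, hQT (hkf x hx)⟩
      have h4 := hQhn.conj_mem _ (InvMemClass.inv_mem (hQhn.conj_mem _ h3 n⁻¹)) (ι x)
      have e4 : g * ι x * g⁻¹ = n * ι x * n⁻¹ * q⁻¹ := by rw [← e1]; group
      have e5 : n⁻¹ * g * ι x * (n⁻¹ * g)⁻¹ * (ι x)⁻¹ =
          n⁻¹ * (g * ι x * g⁻¹) * n * (ι x)⁻¹ := by group
      have e6 : ι x * (n⁻¹ * q * n⁻¹⁻¹)⁻¹ * (ι x)⁻¹ = n⁻¹ * (n * ι x * n⁻¹ * q⁻¹) * n * (ι x)⁻¹ := by
        group
      rw [e5, e4, ← e6]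
      exact h4
  haveI hDXn : (D ⊔ X).Normal := by
    rw [← Subgroup.normalizer_eq_top_iff, eq_top_iff]
    intro g _
    obtain ⟨n, hn, hd⟩ := hfr g
    have h1 : n ∈ Subgroup.normalizer ((D ⊔ X : Subgroup L) : Set L) := by
      rw [Subgroup.mem_normalizer_iff_map_conj_eq, Subgroup.map_sup]
      exact congrArg₂ (· ⊔ ·) (Subgroup.mem_normalizer_iff_map_conj_eq.1
        (show n ∈ Subgroup.normalizer (D : Set L) by rw [Subgroup.normalizer_eq_top]; trivial))
        (Subgroup.mem_normalizer_iff_map_conj_eq.1 hn)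
    have h2 := mul_mem h1 (Subgroup.le_normalizer (Subgroup.mem_sup_left hd) :
      n⁻¹ * g ∈ Subgroup.normalizer ((D ⊔ X : Subgroup L) : Set L))
    rwa [mul_inv_cancel_left] at h2
  have hI : IsPGroup p (C ⊓ (D ⊔ X) : Subgroup L) := by
    rintro ⟨a, haC, haDX⟩
    obtain ⟨d, hd, x, hx, rfl⟩ := Subgroup.mem_sup_of_normal_left.1 haDX
    obtain ⟨k, hk⟩ := (hmImgT (A := P1)) ⟨x, hx⟩
    have hk' : x ^ p ^ k = 1 := congrArg Subtype.val hk
    have hmD : (d * x) ^ p ^ k ∈ D := by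
      rw [← QuotientGroup.eq_one_iff, QuotientGroup.mk_pow, QuotientGroup.mk_mul,
        (QuotientGroup.eq_one_iff d).2 hd, one_mul, ← QuotientGroup.mk_pow, hk', QuotientGroup.mk_one]
    obtain ⟨j, hj⟩ := hDC ⟨(d * x) ^ p ^ k, hmD, pow_mem haC _⟩
    refine ⟨k + j, Subtype.ext ?_⟩
    have hj' := congrArg Subtype.val hj
    simpa [pow_add, pow_mul] using hj'
  have hCK : C ≤ K0 := by
    refine le_trans (fun c hc => ?_) (hgood P1 hP1lt hP1T)
    refine Subgroup.mem_normalizer_fintype (S := (X : Set L)) fun y hy => ?_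
    have h1 : c * y * c⁻¹ * y⁻¹ ∈ C ⊓ (D ⊔ X) := by
      refine ⟨?_, ?_⟩
      · have e : c * y * c⁻¹ * y⁻¹ = c * (y * c⁻¹ * y⁻¹) := by group
        rw [e]
        exact mul_mem hc (hCn.conj_mem _ (InvMemClass.inv_mem hc) y)
      · exact mul_mem (hDXn.conj_mem y (Subgroup.mem_sup_right hy) c)
          ((D ⊔ X).inv_mem (Subgroup.mem_sup_right hy))
    have h2 : c * y * c⁻¹ * y⁻¹ ∈ Ph := (hcore _).1 (Solv.le_pCore hI h1)
    have h3 := mul_mem (hPX h2) (show y ∈ X from hy)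
    rwa [inv_mul_cancel_right] at h3
  -- Frattini
  obtain ⟨TC, hTC⟩ := Solv.ZJ.exists_sylow_inf TL C
  set CT := centralizerIn S Q ⊓ T with hCT
  have hYC : (TL : Subgroup L) ⊓ C = mImg ι CT := by
    rw [hTL]
    ext y
    constructor
    · rintro ⟨⟨x, rfl⟩, hy⟩
      refine ⟨x, ⟨mem_centralizerIn.2 ⟨hTS x.2, fun q hq => ?_⟩, x.2⟩, rfl⟩
      have h1 := Subgroup.mem_centralizer_iff.1 hy (ι ⟨q, hQT hq⟩) ⟨_, hq, rfl⟩
      rw [← map_mul, ← map_mul] at h1
      exact congrArg Subtype.val (hi h1)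
    · rintro ⟨x, hx, rfl⟩
      refine ⟨⟨x, rfl⟩, Subgroup.mem_centralizer_iff.2 ?_⟩
      rintro _ ⟨q, hq, rfl⟩
      rw [← map_mul, ← map_mul]
      exact congrArg ι (Subtype.ext ((mem_centralizerIn.1 hx.1).2 q hq))
  set P2 := P ⊔ CT with hP2
  have hSC : S ≤ Subgroup.normalizer ((centralizerIn S Q : Subgroup Ω) : Set Ω) := fun a ha =>
    mem_normalizer_of_conj_mem centralizerIn_le fun c hc => by
      have hm := isMor_conj (F := F) (P := S) le_rfl ha
      exact hm.apply_mem_centralizerIn hQS ((isMor_conj (F := F) hQS ha).isIso_self fun q hq =>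
        conj_mem_of_mem_normalizer (hSQ ha) hq) hc.1 hc
  have hP2lt : P < P2 := hexceed _ centralizerIn_le hSC hCP
  have hP2T : P2 ≤ T := sup_le hPT inf_le_right
  have hNY : Subgroup.normalizer ((mImg ι CT : Subgroup L) : Set L) ≤ K0 := by
    refine le_trans (fun n hn => ?_) (hgood P2 hP2lt hP2T)
    have e : mImg ι P2 = Ph ⊔ mImg ι CT := by
      rw [hPh, mImg, mImg, mImg, ← Subgroup.map_sup, ← Subgroup.subgroupOf_sup hPT inf_le_right]
    rw [e, Subgroup.mem_normalizer_iff_map_conj_eq, Subgroup.map_sup]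
    exact congrArg₂ (· ⊔ ·) (Subgroup.mem_normalizer_iff_map_conj_eq.1
      (show n ∈ Subgroup.normalizer (Ph : Set L) by rw [Subgroup.normalizer_eq_top]; trivial))
      (Subgroup.mem_normalizer_iff_map_conj_eq.1 hn)
  have hfull : ∀ g : L, g ∈ K0 := fun g => by
    have h := Sylow.normalizer_sup_eq_top TC
    rw [hTC, hYC] at h
    exact (h.symm.le.trans (sup_le hNY hCK)) (Subgroup.mem_top g)
  obtain ⟨g, hg⟩ := realized_exists_conj hL.2.1 ((isMor_normalizer_iff hEP).2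
    ⟨hPT, fun x hx => hPT (autFun_mem α hx), autFun α, by rw [sup_idem]; exact hαi.1, fun _ _ => rfl, hαi⟩)
  obtain ⟨f, hf, hfg⟩ := hfull g
  refine hf.1.congr fun x hx => ?_
  have h1 := hg ⟨x, hPT hx⟩ ⟨autFun α x, hPT (autFun_mem α hx)⟩ hx rfl
  have h2 := hfg ⟨x, hPT hx⟩ ⟨f x, hPT (hf.apply_mem hx)⟩ hx rfl
  rw [← h2] at h1
  exact congrArg Subtype.val (hi h1)

/-- The `Z(J)` theorem, functor form. -/
theorem isNormal_of_sectionFree {W : SubFunctor.{v} p} (hW : LocalNormal p W) :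
    ∀ (n : ℕ) {Ω : Type v} [Group Ω] {S : Subgroup Ω} [Finite S] {F : FusionSystem S},
      Nat.card S = n → IsPGroup p S → F.IsSaturated p → F.IsSectionFree p ↥(qd p) →
      F.IsNormal (W.W S) := by
  intro n
  induction n using Nat.strong_induction_on with
  | _ n ih =>
  intro Ω _ S _ F hn hS hF hfree
  subst hn
  induction hm : Nat.card S - Nat.card F.core using Nat.strong_induction_on generalizing F with
  | _ m ihm =>
  subst hm
  set Q := F.core with hQdef
  have hQn : F.IsNormal Q := isNormal_core F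
  have hQS := hQn.1
  have hSQ := normal_le_normalizer hQn
  set W0 := W.W S with hW0
  have hWS : W0 ≤ S := W.le S
  have hSW : S ≤ Subgroup.normalizer (W0 : Set Ω) := fun a ha =>
    W.mem_normalizer le_rfl ha (Subgroup.le_normalizer ha)
  by_cases hc : centralizerIn S Q ≤ Q
  · have hcent : F.IsCentric Q := by
      have h1 := (centric_sup_centralizer hS hF hQS hSQ).1
      rwa [sup_eq_left.2 hc] at h1
    obtain ⟨L, hLg, ι, hL, hLf⟩ := exists_model_free hS hF hfree hQn hcent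
    exact isNormal_of_model hW hL hLf
  set G0 := (normCond F W0 hWS hSW).system with hG0
  have hG0iff : ∀ A f, IsMor G0 A f ↔ IsMor F A f ∧ NExt F W0 A f := fun A f => by
    rw [hG0, MapCond.isMor_system, normCond_iff]
  -- maps in the normalizer of a subgroup normal in `S` outside the core are good
  have hY : ∀ Y : Subgroup Ω, Y ≤ S → S ≤ Subgroup.normalizer (Y : Set Ω) → ¬ Y ≤ Q →
      ∀ A f, IsMor F A f → NExt F Y A f → IsMor G0 A f := by
    intro Y hYS hSY hYQ A f hf hext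
    obtain ⟨E, hEs, hEfree, hEF, hEY, hEiff⟩ := exists_top hS hF hfree hYS hSY
    have hEQ : E.IsNormal Q := by
      refine isNormal_iff.2 ⟨hQS, fun B u hu => ?_⟩
      obtain ⟨hB, k, hk, hke, hkY⟩ := (hEiff B u).1 hu
      obtain ⟨k', hk', hk'e, hk'Q⟩ := (isNormal_iff.1 hQn).2 _ k hk
      have hk'Y : IsIso F Y Y k' := hkY.congr fun y hy => hk'e y (Subgroup.mem_sup_right hy)
      have hm : IsMor E (B ⊔ Q) k' := (hEiff _ _).2 ⟨sup_le hB hQS, k',
        hk'.restrict (sup_le (sup_le (le_sup_left.trans le_sup_left) le_sup_right)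
          (le_sup_right.trans le_sup_left)), fun _ _ => rfl, hk'Y⟩
      exact ⟨k', hm, fun x hx => (hk'e x (Subgroup.mem_sup_left hx)).trans (hke x hx),
        (hm.restrict le_sup_right).isIso_self fun x hx => hk'Q.apply_mem hx⟩
    have hlt : Nat.card Q < Nat.card E.core := by
      refine lt_of_lt_of_le (card_lt_of_lt (sup_le hQS hYS)
        (lt_of_le_of_ne le_sup_left fun h => hYQ (h ▸ le_sup_right) : Q < Q ⊔ Y)) ?_
      have := finite_of_le (isNormal_core E).1
      exact Nat.card_le_card_of_injective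
        (Subgroup.inclusion (le_sSup (show E.IsNormal (Q ⊔ Y) from isNormal_sup hEQ hEY)))
        (Subgroup.inclusion_injective _)
    have hle : Nat.card E.core ≤ Nat.card S := Nat.card_le_card_of_injective
      (Subgroup.inclusion (isNormal_core E).1) (Subgroup.inclusion_injective _)
    have hEW : E.IsNormal W0 := ihm _ (by omega) hEs hEfree rfl
    obtain ⟨k, hk, hke, hkY⟩ := hext
    have hfE : IsMor E A f := (hEiff A f).2 ⟨hf.le, k, hk, hke, hkY⟩
    obtain ⟨k₂, hk₂, hk₂e, hk₂W⟩ := (isNormal_iff.1 hEW).2 A f hfE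
    exact (hG0iff A f).2 ⟨hf, k₂, hk₂.of_le hEF, hk₂e, hk₂W.of_le hEF⟩
  refine isNormal_of_le_normCond hWS hSW (alperin_induction hS hF fun P hPn α hα hbig => ?_)
  show IsMor G0 P (autFun α)
  replace hbig : ∀ (A : Subgroup Ω) (f : Ω → Ω), Nat.card P < Nat.card A → IsMor F A f → IsMor G0 A f :=
    hbig
  have hαi := isIso_autFun hPn.1 hα
  rcases eq_or_lt_of_le hPn.1 with hPS | hPS
  · subst hPS
    refine (hG0iff _ _).2 ⟨hαi.1, autFun α, by rw [sup_eq_left.2 hWS]; exact hαi.1, fun _ _ => rfl, ?_⟩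
    exact W.normalizer_le le_rfl hαi
  by_cases hH : Subgroup.closure (extSet F P) = F.autGroup P
  · rw [← hH] at hα
    have hα' : α ∈ G0.autGroup P := by
      refine (Subgroup.closure_le _).2 (fun β hβ => ?_) hα
      obtain ⟨A, f, hPA, hf, hx⟩ := mem_extSet.1 hβ
      exact mem_autGroup_of_isMor ((hbig A f (card_lt_of_lt hf.le hPA) hf).restrict hPA.le)
        fun x => (hx x).symm
    exact isMor_of_mem_autGroup hPS.le hα'
  have hess := (isEssential_of_closure_extSet_ne hS hF hPS hPn hH).1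
  by_cases hQ1 : Q = ⊥
  · -- descend along normalizers
    have hdesc : ∀ (j : ℕ) (Y : Subgroup Ω), Nat.card S - Nat.card (normalizerIn S Y) = j → Y ≤ S →
        F.IsFullyNormalized Y → Y ≠ ⊥ → ∀ A f, A ≤ normalizerIn S Y → Nat.card P ≤ Nat.card A →
          IsMor F A f → NExt F Y A f → IsMor G0 A f := by
      intro j
      induction j using Nat.strong_induction_on with
      | _ j ihj =>
      intro Y hj hYS hYn hY1 A f hAT hPA hf hext
      subst hj
      set T := normalizerIn S Y with hTdef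
      by_cases hTS : T = S
      · exact hY Y hYS (fun a ha => (hTS.ge ha).2) (fun h => hY1 (le_bot_iff.1 (hQ1 ▸ h))) A f hf hext
      have hTlt : T < S := lt_of_le_of_ne normalizerIn_le hTS
      have : Finite T := finite_of_le normalizerIn_le
      obtain ⟨E, hE⟩ := exists_normalizerSystem F hYS
      have hEs := normalizerSystem_saturated hS hF hYn hE
      have hV := ih _ (card_lt_of_lt le_rfl hTlt) (F := E) rfl (hS.to_le normalizerIn_le) hEs
        (sectionFree_normalizer hS hF hfree hYn hE)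
      set V := W.W T
      have hVT : V ≤ T := W.le T
      obtain ⟨k, hk, hke, hkY⟩ := hext
      have hfE : IsMor E A f := (isMor_normalizer_iff hE).2 ⟨hAT, fun x hx => by
        rw [← hke x hx]
        exact hk.apply_mem_normalizerIn le_sup_right hkY (Subgroup.mem_sup_left hx) (hAT hx).2,
        k, hk, hke, hkY⟩
      obtain ⟨g, hg, hge, hgV⟩ := (isNormal_iff.1 hV).2 A f hfE
      have hgF := isMor_of_normalizer hE hg
      have hTNV : T ≤ normalizerIn S V := fun a ha =>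
        ⟨ha.1, W.mem_normalizer normalizerIn_le ha.1 (Subgroup.le_normalizer ha)⟩
      have hNTV : normalizerIn S T ≤ normalizerIn S V := fun a ha =>
        ⟨ha.1, W.mem_normalizer normalizerIn_le ha.1 ha.2⟩
      obtain ⟨U, hcU, hUn⟩ := exists_fullyNormalized (F := F) (hVT.trans normalizerIn_le)
      obtain ⟨u₀, u, hu₀, hu, hue, huN⟩ := exists_iso_to_fullyNormalized hS hF hcU hUn
      have : Finite (normalizerIn S V) := finite_of_le normalizerIn_le
      have : Finite (normalizerIn S U) := finite_of_le normalizerIn_le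
      have hc1 : Nat.card T < Nat.card (normalizerIn S T) :=
        card_lt_of_lt normalizerIn_le (normalizerIn_self_lt hS hTlt)
      have hc2 : Nat.card (normalizerIn S T) ≤ Nat.card (normalizerIn S V) :=
        Nat.card_le_card_of_injective (Subgroup.inclusion hNTV) (Subgroup.inclusion_injective _)
      have hc3 : Nat.card (normalizerIn S V) ≤ Nat.card (normalizerIn S U) :=
        Nat.card_le_card_of_injective (fun a : normalizerIn S V => (⟨u a, huN a a.2⟩ : normalizerIn S U))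
          fun a b hab => Subtype.ext (hu.injOn a.2 b.2 (congrArg Subtype.val hab))
      have hAT' : Nat.card A ≤ Nat.card T :=
        Nat.card_le_card_of_injective (Subgroup.inclusion hAT) (Subgroup.inclusion_injective _)
      have huG : IsMor G0 (normalizerIn S V) u := hbig _ u (by omega) hu
      have hATV : A ⊔ V ≤ T := sup_le hAT hVT
      have hBN : A ⊔ V ≤ normalizerIn S V := hATV.trans hTNV
      obtain ⟨w, hw, hwl, -⟩ := (huG.restrict hTNV).isIso.exists_symm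
      have hB : IsIso G0 (A ⊔ V) ((huG.restrict hBN).image (A ⊔ V) le_rfl) u := (huG.restrict hBN).isIso
      obtain ⟨ui, hui, huil, huir⟩ := hB.exists_symm
      set B' := (huG.restrict hBN).image (A ⊔ V) le_rfl
      have hgT : ∀ x ∈ A ⊔ V, g x ∈ T := fun x hx => hg.mem hx
      have hui' : IsMor F B' ui := ((hG0iff _ _).1 hui.1).1
      have hh : IsMor F B' (u ∘ g ∘ ui) :=
        (hui'.comp hgF fun y hy => hui.apply_mem hy).comp hu fun y hy => hTNV (hgT _ (hui.apply_mem hy))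
      have hVU : ∀ y ∈ U, ∃ x ∈ V, u x = y := fun y hy => by
        obtain ⟨x, hx, rfl⟩ := hu₀.exists_apply hy
        exact ⟨x, hx, hue x hx⟩
      have hUB : U ≤ B' := fun y hy => by
        obtain ⟨x, hx, rfl⟩ := hVU y hy
        exact ⟨x, Subgroup.mem_sup_right hx, rfl⟩
      have hgVF : ∀ x ∈ V, g x ∈ V := fun x hx => hgV.apply_mem hx
      have hhU : IsIso F U U (u ∘ g ∘ ui) := (hh.restrict hUB).isIso_self fun y hy => by
        obtain ⟨x, hx, rfl⟩ := hVU y hy
        show u (g (ui (u x))) ∈ U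
        rw [huil x (Subgroup.mem_sup_right hx), hue _ (hgVF x hx)]
        exact hu₀.apply_mem (hgVF x hx)
      have hU1 : U ≠ ⊥ := fun h => by
        have hT1 : T ≠ ⊥ := fun h' => hY1 (le_bot_iff.1 (h' ▸ le_normalizerIn hYS))
        refine W.ne T (hS.to_le normalizerIn_le) hT1 (le_bot_iff.1 fun x hx => ?_)
        have h1 := hu₀.apply_mem hx
        rw [h, Subgroup.mem_bot] at h1
        exact Subgroup.mem_bot.2 (hu₀.1.eq_one hx h1)
      have hB'N : B' ≤ normalizerIn S U := by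
        rintro _ ⟨x, hx, rfl⟩
        exact huN x (hBN hx)
      have hAB : Nat.card P ≤ Nat.card B' := by
        rw [hB.card_eq]
        have := finite_of_le (hATV.trans normalizerIn_le)
        exact hPA.trans (Nat.card_le_card_of_injective (Subgroup.inclusion le_sup_left)
          (Subgroup.inclusion_injective _))
      have h3 : Nat.card (normalizerIn S U) ≤ Nat.card S :=
        Nat.card_le_card_of_injective (Subgroup.inclusion normalizerIn_le) (Subgroup.inclusion_injective _)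
      have hgood : IsMor G0 B' (u ∘ g ∘ ui) := ihj _ (by omega) U rfl hUn.1 hUn hU1 B' _ hB'N hAB hh
        ⟨u ∘ g ∘ ui, by rwa [sup_eq_left.2 hUB], fun _ _ => rfl, hhU⟩
      have hfin := ((hB.1.restrict le_sup_left).comp hgood fun x hx =>
        hB.apply_mem (Subgroup.mem_sup_left hx)).comp hw.1 fun x hx => by
          show u (g (ui (u x))) ∈ _
          rw [huil x (Subgroup.mem_sup_left hx)]
          exact ⟨g x, hgT x (Subgroup.mem_sup_left hx), rfl⟩
      refine hfin.congr fun x hx => ?_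
      show f x = w (u (g (ui (u x))))
      rw [huil x (Subgroup.mem_sup_left hx), hwl _ (hgT x (Subgroup.mem_sup_left hx)), hge x hx]
    have hP1 : P ≠ ⊥ := fun h => by
      refine hPS.ne (le_antisymm hPS.le fun a ha => centralizerIn_le_of_isCentric hess.1
        (mem_centralizerIn.2 ⟨ha, fun y hy => ?_⟩))
      rw [h, Subgroup.mem_bot] at hy
      simp [hy]
    exact hdesc _ P rfl hPS.le hPn hP1 P _ (le_normalizerIn hPS.le) le_rfl hαi.1
      ⟨autFun α, by rw [sup_idem]; exact hαi.1, fun _ _ => rfl, hαi⟩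
  -- pass to the factor system
  set Qs := Q.subgroupOf S
  have hQsn : Qs.Normal := ⟨fun x hx a =>
    show ((a * x * a⁻¹ : S) : Ω) ∈ Q from conj_mem_of_mem_normalizer (hSQ a.2) hx⟩
  let θ : S →* S ⧸ Qs := QuotientGroup.mk' Qs
  have hθ : ∀ s : S, θ s = 1 ↔ (s : Ω) ∈ Q := fun s => QuotientGroup.eq_one_iff s
  have hθr : θ.range = (⊤ : Subgroup (S ⧸ Qs)) :=
    MonoidHom.range_eq_top.2 (QuotientGroup.mk'_surjective _)
  have hQsc := normal_stronglyClosed hQn
  obtain ⟨E', hE'⟩ := exists_factor (F := F) hθ hθr hQsc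
  have hE's := factor_saturated hS hF hQsc hE'
  have hQlt : Nat.card (⊤ : Subgroup (S ⧸ Qs)) < Nat.card S := by
    rw [Subgroup.card_top, Subgroup.card_eq_card_quotient_mul_card_subgroup Qs]
    refine (lt_mul_iff_one_lt_right Nat.card_pos).2 ((Subgroup.one_lt_card_iff_ne_bot _).2 fun h => hQ1 ?_)
    rw [Subgroup.subgroupOf_eq_bot, disjoint_iff, inf_eq_left.2 hQS] at h
    exact h
  have hW' := ih _ hQlt (F := E') rfl (isPGroup_of_range hS hθr) hE's
    (sectionFree_factor hS hF hQsc hfree hE')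
  set W' := W.W (⊤ : Subgroup (S ⧸ Qs))
  set V := preimageAlong θ W'
  have hV : ∀ x, x ∈ V ↔ x ∈ S ∧ qfun θ x ∈ W' := fun x => mem_preimageAlong
  have hQV : Q ≤ V := le_preimageAlong hQS hθ
  have hSV : S ≤ Subgroup.normalizer (V : Set Ω) := fun a ha =>
    mem_normalizer_of_conj_mem preimageAlong_le fun x hx => by
      obtain ⟨hxS, hxW⟩ := (hV x).1 hx
      have hn : qfun θ a ∈ Subgroup.normalizer (W' : Set (S ⧸ Qs)) :=
        normal_le_normalizer hW' (Subgroup.mem_top _)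
      refine (hV _).2 ⟨mul_mem (mul_mem ha hxS) (InvMemClass.inv_mem ha), ?_⟩
      rw [qfun_mul θ (mul_mem ha hxS) (InvMemClass.inv_mem ha), qfun_mul θ ha hxS, qfun_inv θ ha]
      exact conj_mem_of_mem_normalizer hn hxW
  have hVQ : ¬ V ≤ Q := fun h => by
    have htop : (⊤ : Subgroup (S ⧸ Qs)) ≠ ⊥ := fun h0 => hc fun c hcS => by
      have h1 : θ ⟨c, hcS.1⟩ ∈ (⊥ : Subgroup (S ⧸ Qs)) := h0 ▸ Subgroup.mem_top _
      exact (hθ ⟨c, hcS.1⟩).1 (Subgroup.mem_bot.1 h1)
    refine W.ne (⊤ : Subgroup (S ⧸ Qs)) (isPGroup_of_range hS hθr) htop (le_bot_iff.1 fun y hy => ?_)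
    obtain ⟨x, hx, rfl⟩ := exists_qfun_eq hθr le_top hy
    have hxS := preimageAlong_le hx
    rw [qfun_apply θ hxS]
    exact Subgroup.mem_bot.2 ((hθ _).2 (h hx))
  exact good_essential hS hF hPn hess.1 (isRadical_of_isEssential hS hF hess) hQn preimageAlong_le
    hSV hQV hE' hW' hV hY hVQ hc hbig hα

end Cfsg.Agent.Fusion.ZJFusion
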