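import Cfsg.Agent.Lib.Fusion.TransferEval
import Cfsg.Agent.Lib.Fusion.Tate
import Cfsg.Agent.Lib.Fusion.ZJFusion
import Cfsg.Agent.Lib.Local.TransferReduction

/-!
Control of the focal subgroup by a functor with a local condition on groups.
-/

set_option autoImplicit false

universe v

namespace Cfsg.Agent.Fusion.FocCtl

open Cfsg Cfsg.FusionSystem
open scoped commutatorElement

variable {p : ℕ} [hp : Fact p.Prime]

/-- The group theoretic input. -/
def FocLocal (p : ℕ) (W : SubFunctor.{v} p) : Prop :=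
  ∀ (L : Type v) [Group L] [Finite L] (T : Sylow p L), Subgroup.centralizer (pCore p L : Set L) ≤ pCore p L →
    (T : Subgroup L) ⊓ commutator L ≤
      ⁅Subgroup.normalizer ((W.W (T : Subgroup L)) : Set L), Subgroup.normalizer ((W.W (T : Subgroup L)) : Set L)⁆

omit hp in
/-- The maps of a system with displacements in a subgroup. -/
def dispCond {Ω : Type v} [Group Ω] {S : Subgroup Ω} (F : FusionSystem S) (K : Subgroup Ω)
    (hc : ⁅S, S⁆ ≤ K) : MapCond F :=
  { C := fun P f => ∀ x ∈ P, x⁻¹ * f x ∈ K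
    le := le_rfl
    congr := fun _ h he x hx => by rw [he x hx]; exact h x hx
    conj := fun {P a} hP ha x hx => by
      have h := hc (Subgroup.commutator_mem_commutator (S.inv_mem (hP hx)) ha)
      simpa [commutatorElement_def, mul_assoc] using h
    comp := fun {P Q f g} _ h1 _ h2 hm x hx => by
      have h := K.mul_mem (h1 x hx) (h2 _ (hm x hx))
      simpa [mul_assoc] using h
    symm := fun {P R f g} _ h hg _ hfg y hy => by
      have h1 := K.inv_mem (h _ (hg.apply_mem hy))
      rw [hfg y hy] at h1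
      simpa using h1 }

/-- The focal subgroup is controlled. -/
theorem focal_le (W : SubFunctor.{v} p) (hW : FocLocal p W) :
    ∀ (n : ℕ) {Ω : Type v} [Group Ω] {S : Subgroup Ω} [Finite S] {F : FusionSystem S} {K : Subgroup Ω},
      Nat.card S = n → IsPGroup p S → F.IsSaturated p →
      (∀ P f, IsMor F P f → NExt F (W.W S) P f → ∀ x ∈ P, x⁻¹ * f x ∈ K) → F.focalSubgroup ≤ K := by
  intro n
  induction n using Nat.strong_induction_on with
  | _ n ih =>
  intro Ω _ S _ F K hn hS hF hN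
  subst hn
  induction hm : Nat.card S - Nat.card F.core using Nat.strong_induction_on generalizing F K with
  | _ m ihm =>
  subst hm
  set K' := K ⊓ F.focalSubgroup with hK'
  have hN' : ∀ P f, IsMor F P f → NExt F (W.W S) P f → ∀ x ∈ P, x⁻¹ * f x ∈ K' :=
    fun P f hf he x hx => ⟨hN P f hf he x hx, mem_focal_of_isMor hf hx⟩
  refine le_trans ?_ (inf_le_left : K' ≤ K)
  have hK'S : K' ≤ S := inf_le_right.trans (Fusion.focal_le F)
  have hWS : W.W S ≤ S := W.le S
  have hSW : S ≤ Subgroup.normalizer (W.W S : Set Ω) := fun a ha =>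
    W.mem_normalizer le_rfl ha (Subgroup.le_normalizer ha)
  have hcK : ⁅S, S⁆ ≤ K' := Subgroup.commutator_le.2 fun a ha b hb => by
    have hb' : IsMor F S (fun x => b * x * b⁻¹) := isMor_conj le_rfl hb
    have h := hN' S _ hb' ⟨fun x => b * x * b⁻¹, by rw [sup_eq_left.2 hWS]; exact hb', fun _ _ => rfl,
      (isMor_conj hWS hb).isIso_self fun x hx => conj_mem_of_mem_normalizer (hSW hb) hx⟩ a⁻¹ (S.inv_mem ha)
    simpa [commutatorElement_def, mul_assoc] using h
  suffices hgen : ∀ P f, IsMor F P f → ∀ x ∈ P, x⁻¹ * f x ∈ K' by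
    refine (Subgroup.closure_le _).2 ?_
    rintro _ ⟨P, φ, x, hφ, rfl⟩
    rw [← extFun_coe φ x]
    exact hgen P _ (isMor_extFun hφ) x x.2
  set Q := F.core with hQdef
  have hQn : F.IsNormal Q := isNormal_core F
  have hQS := hQn.1
  have hSQ := normal_le_normalizer hQn
  by_cases hc : centralizerIn S Q ≤ Q
  · -- the constrained case
    have hcent : F.IsCentric Q := by
      have h1 := (centric_sup_centralizer hS hF hQS hSQ).1
      rwa [sup_eq_left.2 hc] at h1
    obtain ⟨L, hLg, ι, hL⟩ := exists_model hS hF hQn hcent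
    have := hL.1
    obtain ⟨T, hT⟩ := hL.2.2.1
    have hi := hL.2.1.1
    have hWT : W.W (T : Subgroup L) = mImg ι (W.W S) := by
      rw [hT, ← W.map S ι hi]
      ext y
      exact ⟨fun ⟨x, hx, e⟩ => ⟨x, hx, e⟩, fun ⟨x, hx, e⟩ => ⟨x, hx, e⟩⟩
    set M := Subgroup.normalizer ((W.W (T : Subgroup L)) : Set L) with hM
    have hTM : (T : Subgroup L) ≤ M := fun t ht => by
      obtain ⟨b, rfl⟩ := hT.le ht
      rw [hM, hWT]
      have hmem : ∀ c : S, ∀ x : S, (x : Ω) ∈ W.W S → ι c * ι x * (ι c)⁻¹ ∈ mImg ι (W.W S) :=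
        fun c x hx => ⟨c * x * c⁻¹,
          show ((c * x * c⁻¹ : S) : Ω) ∈ W.W S from conj_mem_of_mem_normalizer (hSW c.2) hx, by simp⟩
      refine Subgroup.mem_normalizer_iff.2 fun y => ⟨?_, fun hy => ?_⟩
      · rintro ⟨x, hx, rfl⟩; exact hmem b x hx
      · obtain ⟨x, hx, he⟩ := hy
        have := hmem b⁻¹ x hx
        rw [he, map_inv] at this
        simpa [mul_assoc] using this
    have hidx : ¬ p ∣ (T : Subgroup L).relIndex M := fun h =>
      T.not_dvd_index (h.trans (Subgroup.relIndex_dvd_index_of_le hTM))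
    let TM : Sylow p M := T.isPGroup'.comap_subtype.toSylow hidx
    have hkey : (TM : Subgroup M) ⊓ commutator M ≤ ((K'.subgroupOf S).map ι).subgroupOf M := by
      refine Local.TransferRed.inf_commutator_le TM _ fun a ha g hg => ?_
      obtain ⟨a', ha'⟩ : ∃ a' : S, ι a' = (a : L) := hT.le ha
      obtain ⟨b', hb'⟩ : ∃ b' : S, ι b' = ((g⁻¹ * a * g : M) : L) := hT.le hg
      have hPS : Subgroup.zpowers (a' : Ω) ⊔ W.W S ≤ S := sup_le (Subgroup.zpowers_le.2 a'.2) hWS
      have hgW : ∀ x : S, (x : Ω) ∈ W.W S →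
          ∃ y : S, (y : Ω) ∈ W.W S ∧ ι y = (g : L)⁻¹ * ι x * (g : L) := fun x hx => by
        have h1 := (Subgroup.mem_normalizer_iff''.1 g.2 _).1 (hWT.ge ⟨x, hx, rfl⟩)
        exact hWT.le h1
      have hcl : (Subgroup.zpowers (a' : Ω) ⊔ W.W S).subgroupOf S ≤
          ι.range.comap ((MulAut.conj (g : L)⁻¹).toMonoidHom.comp ι) := by
        rw [Subgroup.subgroupOf_sup (Subgroup.zpowers_le.2 a'.2) hWS]
        refine sup_le (fun x hx => ?_) fun x hx => ?_
        · obtain ⟨i, hi'⟩ := hx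
          have hxa : x = a' ^ i := Subtype.ext (by simpa using hi'.symm)
          rw [hxa]
          refine Subgroup.mem_comap.2 ?_
          rw [map_zpow]
          exact zpow_mem (MonoidHom.mem_range.2 ⟨b', by simp [hb', ha']⟩) i
        · obtain ⟨y, -, he⟩ := hgW x hx
          exact ⟨y, by simp [he]⟩
      obtain ⟨f, hf, hfg⟩ := realized_exists_mor hL.2.1 hPS (g : L)⁻¹ fun x hx => hcl hx
      have ha'P : (a' : Ω) ∈ Subgroup.zpowers (a' : Ω) ⊔ W.W S :=
        Subgroup.mem_sup_left (Subgroup.mem_zpowers _)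
      have hfW : IsIso F (W.W S) (W.W S) f := (hf.restrict le_sup_right).isIso_self fun x hx => by
        obtain ⟨y, hy, he⟩ := hgW ⟨x, hWS hx⟩ hx
        have h2 := hfg ⟨x, hWS hx⟩ ⟨f x, hf.mem (Subgroup.mem_sup_right hx)⟩ (Subgroup.mem_sup_right hx) rfl
        rw [inv_inv, ← he] at h2
        rw [show f x = (y : Ω) from congrArg Subtype.val (hi h2)]
        exact hy
      have hd := hN' _ f hf ⟨f, by rwa [sup_assoc, sup_idem], fun _ _ => rfl, hfW⟩ _ ha'P
      refine ⟨a'⁻¹ * ⟨f a', hf.mem ha'P⟩, hd, ?_⟩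
      rw [map_mul, map_inv, ha', hfg a' ⟨f a', hf.mem ha'P⟩ ha'P rfl, ha']
      simp [mul_assoc]
    intro P f hf x hx
    obtain ⟨g, hg⟩ := realized_exists_conj hL.2.1 hf
    set z : S := (⟨x, hf.le hx⟩ : S)⁻¹ * ⟨f x, hf.mem hx⟩
    have h1 : ι z ∈ (T : Subgroup L) ⊓ commutator L := ⟨hT.ge ⟨z, rfl⟩, by
      rw [map_mul, map_inv, hg ⟨x, hf.le hx⟩ ⟨f x, hf.mem hx⟩ hx rfl, commutator_def]
      have := Subgroup.commutator_mem_commutator (Subgroup.mem_top (ι ⟨x, hf.le hx⟩)⁻¹) (Subgroup.mem_top g)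
      simpa [commutatorElement_def, mul_assoc] using this⟩
    have h2 : ι z ∈ (commutator M).map M.subtype := by
      rw [commutator_def, Subgroup.map_commutator, ← MonoidHom.range_eq_map, Subgroup.range_subtype]
      exact hW L T hL.2.2.2 h1
    obtain ⟨c, hcM, hce⟩ := h2
    obtain ⟨w, hw, hwe⟩ : ι z ∈ (K'.subgroupOf S).map ι := by
      have hcT : (c : L) ∈ (T : Subgroup L) := by
        rw [show (c : L) = ι z from hce]; exact h1.1
      rw [← hce]
      exact hkey ⟨hcT, hcM⟩
    rw [show w = z from hi hwe] at hw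
    exact hw
  -- maps in the normalizer of a subgroup normal in `S` outside the core
  have hY : ∀ Y : Subgroup Ω, Y ≤ S → S ≤ Subgroup.normalizer (Y : Set Ω) → ¬ Y ≤ Q →
      ∀ A f, IsMor F A f → NExt F Y A f → ∀ x ∈ A, x⁻¹ * f x ∈ K' := by
    intro Y hYS hSY hYQ A f hf hext
    obtain ⟨E, hEs, hEF, hEY, hEiff⟩ := exists_normalizer_top hS hF hYS hSY
    have hEQ : E.IsNormal Q := by
      refine isNormal_iff.2 ⟨hQS, fun B u hu => ?_⟩
      obtain ⟨hB, k, hk, hke, hkY⟩ := (hEiff B u).1 hu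
      obtain ⟨k', hk', hk'e, hk'Q⟩ := (isNormal_iff.1 hQn).2 _ k hk
      have hk'Y : IsIso F Y Y k' := hkY.congr fun y hy => hk'e y (Subgroup.mem_sup_right hy)
      have hm : IsMor E (B ⊔ Q) k' := (hEiff _ _).2 ⟨sup_le hB hQS, k',
        hk'.restrict (sup_le (sup_le (le_sup_left.trans le_sup_left) le_sup_right)
          (le_sup_right.trans le_sup_left)), fun _ _ => rfl, hk'Y⟩
      exact ⟨k', hm, fun x hx => (hk'e x (Subgroup.mem_sup_left hx)).trans (hke x hx),
        (hm.restrict le_sup_right).isIso_self fun x hx => hk'Q.apply_mem hx⟩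
    have hlt : Nat.card Q < Nat.card E.core := by
      refine lt_of_lt_of_le (card_lt_of_lt (sup_le hQS hYS)
        (lt_of_le_of_ne le_sup_left fun h => hYQ (h ▸ le_sup_right) : Q < Q ⊔ Y)) ?_
      have := finite_of_le (isNormal_core E).1
      exact Nat.card_le_card_of_injective
        (Subgroup.inclusion (le_sSup (show E.IsNormal (Q ⊔ Y) from isNormal_sup hEQ hEY)))
        (Subgroup.inclusion_injective _)
    have hle : Nat.card E.core ≤ Nat.card S := Nat.card_le_card_of_injective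
      (Subgroup.inclusion (isNormal_core E).1) (Subgroup.inclusion_injective _)
    obtain ⟨k, hk, hke, hkY⟩ := hext
    have hfE : IsMor E A f := (hEiff A f).2 ⟨hf.le, k, hk, hke, hkY⟩
    have hfoc : E.focalSubgroup ≤ K' := ihm _ (by omega) hEs (K := K') (fun B g hg hgW =>
      hN' B g (hg.of_le hEF) (by
        obtain ⟨k₂, h1, h2, h3⟩ := hgW
        exact ⟨k₂, h1.of_le hEF, h2, h3.of_le hEF⟩)) rfl
    exact fun x hx => hfoc (mem_focal_of_isMor hfE hx)
  by_cases hQ1 : Q = ⊥
  · -- descend along normalizers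
    have hle : F ≤ (dispCond F K' hcK).system := alperin_induction hS hF fun P hPn α hα hbig => by
      have hαi := isIso_autFun hPn.1 hα
      refine (dispCond F K' hcK).isMor_system.2 ⟨hαi.1, ?_⟩
      have hbig' : ∀ (A : Subgroup Ω) (f : Ω → Ω), Nat.card P < Nat.card A → IsMor F A f →
          ∀ x ∈ A, x⁻¹ * f x ∈ K' := fun A f h hf =>
        ((dispCond F K' hcK).isMor_system.1 (hbig A f h hf)).2
      rcases eq_or_lt_of_le hPn.1 with hPS | hPS
      · subst hPS
        exact hN' _ _ hαi.1 ⟨autFun α, by rw [sup_eq_left.2 hWS]; exact hαi.1, fun _ _ => rfl,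
          W.normalizer_le le_rfl hαi⟩
      by_cases hP1 : P = ⊥
      · intro x hx
        rw [hP1, Subgroup.mem_bot] at hx
        subst hx
        rw [hαi.1.map_one]
        simpa using K'.one_mem
      have hdesc : ∀ (j : ℕ) (Y : Subgroup Ω), Nat.card S - Nat.card (normalizerIn S Y) = j → Y ≤ S →
          F.IsFullyNormalized Y → Y ≠ ⊥ → Nat.card P < Nat.card (normalizerIn S Y) →
          ∀ A f, A ≤ normalizerIn S Y → IsMor F A f → NExt F Y A f → ∀ x ∈ A, x⁻¹ * f x ∈ K' := by
        intro j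
        induction j using Nat.strong_induction_on with
        | _ j ihj =>
        intro Y hj hYS hYn hY1 hPY A f hAT hf hext
        subst hj
        set T := normalizerIn S Y with hTdef
        by_cases hTS : T = S
        · exact hY Y hYS (fun a ha => (hTS.ge ha).2) (fun h => hY1 (le_bot_iff.1 (hQ1 ▸ h))) A f hf hext
        have hTlt : T < S := lt_of_le_of_ne normalizerIn_le hTS
        have : Finite T := finite_of_le normalizerIn_le
        obtain ⟨E, hE⟩ := exists_normalizerSystem F hYS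
        have hEs := normalizerSystem_saturated hS hF hYn hE
        have hTNV : T ≤ normalizerIn S (W.W T) := fun a ha =>
          ⟨ha.1, W.mem_normalizer normalizerIn_le ha.1 (Subgroup.le_normalizer ha)⟩
        set V := W.W T
        have hVT : V ≤ T := W.le T
        have hNTV : normalizerIn S T ≤ normalizerIn S V := fun a ha =>
          ⟨ha.1, W.mem_normalizer normalizerIn_le ha.1 ha.2⟩
        obtain ⟨U, hcU, hUn⟩ := exists_fullyNormalized (F := F) (hVT.trans normalizerIn_le)
        obtain ⟨u₀, u, hu₀, hu, hue, huN⟩ := exists_iso_to_fullyNormalized hS hF hcU hUn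
        have : Finite (normalizerIn S V) := finite_of_le normalizerIn_le
        have : Finite (normalizerIn S U) := finite_of_le normalizerIn_le
        have hc1 : Nat.card T < Nat.card (normalizerIn S T) :=
          card_lt_of_lt normalizerIn_le (normalizerIn_self_lt hS hTlt)
        have hc2 : Nat.card (normalizerIn S T) ≤ Nat.card (normalizerIn S V) :=
          Nat.card_le_card_of_injective (Subgroup.inclusion hNTV) (Subgroup.inclusion_injective _)
        have hc3 : Nat.card (normalizerIn S V) ≤ Nat.card (normalizerIn S U) :=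
          Nat.card_le_card_of_injective (fun a : normalizerIn S V => (⟨u a, huN a a.2⟩ : normalizerIn S U))
            fun a b hab => Subtype.ext (hu.injOn a.2 b.2 (congrArg Subtype.val hab))
        have hud := hbig' _ u (by omega) hu
        have hfoc : E.focalSubgroup ≤ K' := ih _ (card_lt_of_lt le_rfl hTlt) (K := K') rfl
            (hS.to_le normalizerIn_le) hEs (fun B g hg hgV x hx => by
          obtain ⟨k, hk, hke, hkV⟩ := hgV
          have hkF := isMor_of_normalizer hE hk
          have hkT : ∀ y ∈ B ⊔ V, k y ∈ T := fun y hy => hk.mem hy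
          have hBN : B ⊔ V ≤ normalizerIn S V := (sup_le hg.le hVT).trans hTNV
          have hB := hu.isIso_image (B ⊔ V) hBN
          set B' := hu.image (B ⊔ V) hBN
          obtain ⟨ui, hui, huil, -⟩ := hB.exists_symm
          have hh : IsMor F B' (u ∘ k ∘ ui) :=
            (hui.1.comp hkF fun y hy => hui.apply_mem hy).comp hu fun y hy => hTNV (hkT _ (hui.apply_mem hy))
          have hVU : ∀ y ∈ U, ∃ x ∈ V, u x = y := fun y hy => by
            obtain ⟨x, hx, rfl⟩ := hu₀.exists_apply hy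
            exact ⟨x, hx, hue x hx⟩
          have hUB : U ≤ B' := fun y hy => by
            obtain ⟨x, hx, rfl⟩ := hVU y hy
            exact hB.apply_mem (Subgroup.mem_sup_right hx)
          have hhU : IsIso F U U (u ∘ k ∘ ui) := (hh.restrict hUB).isIso_self fun y hy => by
            obtain ⟨x, hx, rfl⟩ := hVU y hy
            show u (k (ui (u x))) ∈ U
            rw [huil x (Subgroup.mem_sup_right hx), hue _ (hkV.apply_mem hx)]
            exact hu₀.apply_mem (hkV.apply_mem hx)
          have hU1 : U ≠ ⊥ := fun h => by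
            have hT1 : T ≠ ⊥ := fun h' => hY1 (le_bot_iff.1 (h' ▸ le_normalizerIn hYS))
            refine W.ne T (hS.to_le normalizerIn_le) hT1 (le_bot_iff.1 fun w hw => ?_)
            have h1 := hu₀.apply_mem hw
            rw [h, Subgroup.mem_bot] at h1
            exact Subgroup.mem_bot.2 (hu₀.1.eq_one hw h1)
          have hB'N : B' ≤ normalizerIn S U := fun y hy => by
            obtain ⟨w, hw, rfl⟩ := hB.exists_apply hy
            exact huN w (hBN hw)
          have h3 : Nat.card (normalizerIn S U) ≤ Nat.card S :=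
            Nat.card_le_card_of_injective (Subgroup.inclusion normalizerIn_le) (Subgroup.inclusion_injective _)
          have hx' : x ∈ B ⊔ V := Subgroup.mem_sup_left hx
          have hgd := ihj _ (by omega) U rfl hUn.1 hUn hU1 (by omega) B' _ hB'N hh
            ⟨u ∘ k ∘ ui, by rwa [sup_eq_left.2 hUB], fun _ _ => rfl, hhU⟩ (u x) (hB.apply_mem hx')
          rw [Function.comp_apply, Function.comp_apply, huil x hx'] at hgd
          have hd := K'.mul_mem (K'.mul_mem (hud x (hBN hx')) hgd)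
            (K'.inv_mem (hud (k x) (hTNV (hkT x hx'))))
          rw [← hke x hx]
          simpa [mul_assoc] using hd)
        obtain ⟨k, hk, hke, hkY⟩ := hext
        have hfE : IsMor E A f := (isMor_normalizer_iff hE).2 ⟨hAT, fun x hx => by
          rw [← hke x hx]
          exact hk.apply_mem_normalizerIn le_sup_right hkY (Subgroup.mem_sup_left hx) (hAT hx).2,
          k, hk, hke, hkY⟩
        exact fun x hx => hfoc (mem_focal_of_isMor hfE hx)
      exact hdesc _ P rfl hPS.le hPn hP1 (card_lt_of_lt normalizerIn_le (normalizerIn_self_lt hS hPS)) P _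
        (le_normalizerIn hPS.le) hαi.1 ⟨autFun α, by rw [sup_idem]; exact hαi.1, fun _ _ => rfl, hαi⟩
    exact fun P f hf => ((dispCond F K' hcK).isMor_system.1 (le_iff_isMor.1 hle P f hf)).2
  -- pass to the factor system
  set Qs := Q.subgroupOf S
  have hQsn : Qs.Normal := ⟨fun x hx a =>
    show ((a * x * a⁻¹ : S) : Ω) ∈ Q from conj_mem_of_mem_normalizer (hSQ a.2) hx⟩
  let θ : S →* S ⧸ Qs := QuotientGroup.mk' Qs
  have hθ : ∀ s : S, θ s = 1 ↔ (s : Ω) ∈ Q := fun s => QuotientGroup.eq_one_iff s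
  have hθr : θ.range = (⊤ : Subgroup (S ⧸ Qs)) :=
    MonoidHom.range_eq_top.2 (QuotientGroup.mk'_surjective _)
  have hQsc := normal_stronglyClosed hQn
  obtain ⟨E', hE'⟩ := exists_factor (F := F) hθ hθr hQsc
  have hE's := factor_saturated hS hF hQsc hE'
  have hQlt : Nat.card (⊤ : Subgroup (S ⧸ Qs)) < Nat.card S := by
    rw [Subgroup.card_top, Subgroup.card_eq_card_quotient_mul_card_subgroup Qs]
    refine (lt_mul_iff_one_lt_right Nat.card_pos).2 ((Subgroup.one_lt_card_iff_ne_bot _).2 fun h => hQ1 ?_)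
    rw [Subgroup.subgroupOf_eq_bot, disjoint_iff, inf_eq_left.2 hQS] at h
    exact h
  have hS'p := isPGroup_of_range hS hθr
  set W' := W.W (⊤ : Subgroup (S ⧸ Qs))
  set V := preimageAlong θ W'
  have hW'n : ∀ y : S ⧸ Qs, y ∈ Subgroup.normalizer (W' : Set (S ⧸ Qs)) := fun y =>
    W.mem_normalizer (S := (⊤ : Subgroup (S ⧸ Qs))) le_rfl (Subgroup.mem_top y)
      (Subgroup.le_normalizer (Subgroup.mem_top y))
  have hV : ∀ x, x ∈ V ↔ x ∈ S ∧ qfun θ x ∈ W' := fun x => mem_preimageAlong
  have hSV : S ≤ Subgroup.normalizer (V : Set Ω) := fun a ha =>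
    mem_normalizer_of_conj_mem preimageAlong_le fun x hx => by
      obtain ⟨hxS, hxW⟩ := (hV x).1 hx
      refine (hV _).2 ⟨S.mul_mem (S.mul_mem ha hxS) (S.inv_mem ha), ?_⟩
      rw [qfun_mul θ (S.mul_mem ha hxS) (S.inv_mem ha), qfun_mul θ ha hxS, qfun_inv θ ha]
      exact conj_mem_of_mem_normalizer (hW'n _) hxW
  have hVQ : ¬ V ≤ Q := fun h => by
    have htop : (⊤ : Subgroup (S ⧸ Qs)) ≠ ⊥ := fun h0 => hc fun c hcS => by
      have h1 : θ ⟨c, hcS.1⟩ ∈ (⊥ : Subgroup (S ⧸ Qs)) := h0 ▸ Subgroup.mem_top _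
      exact (hθ ⟨c, hcS.1⟩).1 (Subgroup.mem_bot.1 h1)
    refine W.ne (⊤ : Subgroup (S ⧸ Qs)) hS'p htop (le_bot_iff.1 fun y hy => ?_)
    obtain ⟨x, hx, rfl⟩ := exists_qfun_eq hθr le_top hy
    have hxS := preimageAlong_le hx
    rw [qfun_apply θ hxS]
    exact Subgroup.mem_bot.2 ((hθ _).2 (h hx))
  have hfoc' : E'.focalSubgroup ≤ (K'.subgroupOf S).map θ := by
    refine ih _ hQlt rfl hS'p hE's fun P' f' hf' hext y hy => ?_
    obtain ⟨k', hk', hke', hk'W⟩ := hext
    obtain ⟨-, k, hk, hki⟩ := hk'.factor_lift hE'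
    obtain ⟨x, hx, hxy⟩ := exists_qfun_eq hθr hf'.le hy
    have hxS : x ∈ S := preimageAlong_le hx
    set pre := preimageAlong θ (P' ⊔ W')
    have hxpre : x ∈ pre := mem_preimageAlong.2 ⟨hxS, Subgroup.mem_sup_left (hxy ▸ hy)⟩
    have hVpre : V ≤ pre := fun z hz =>
      mem_preimageAlong.2 ⟨((hV z).1 hz).1, Subgroup.mem_sup_right ((hV z).1 hz).2⟩
    have hkV : IsIso F V V k := (hk.restrict hVpre).isIso_self fun z hz => (hV _).2 ⟨hk.mem (hVpre hz), by
      rw [← hki z (hVpre hz)]; exact hk'W.apply_mem ((hV z).1 hz).2⟩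
    have hd := hY V preimageAlong_le hSV hVQ pre k hk
      ⟨k, by rwa [sup_eq_left.2 hVpre], fun _ _ => rfl, hkV⟩ x hxpre
    refine ⟨(⟨x, hxS⟩ : S)⁻¹ * ⟨k x, hk.mem hxpre⟩, hd, ?_⟩
    rw [map_mul, map_inv, ← qfun_apply θ hxS, ← qfun_apply θ (hk.mem hxpre), hxy, ← hki x hxpre, hxy, hke' y hy]
  -- displacements on the core
  have hQd : ∀ P f, IsMor F P f → ∀ x ∈ P, x ∈ Q → x⁻¹ * f x ∈ K' := by
    intro P f hf x hxP hxQ
    obtain ⟨k, hk, hke, hkQ⟩ := (isNormal_iff.1 hQn).2 P f hf
    have hQfn : F.IsFullyNormalized Q := ZJFusion.fullyNormalized_of_top hQS hSQ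
    obtain ⟨g, hg, hge⟩ := exists_extension_centralizer (fullyNormalized_receptive hS hF hQfn).2 hkQ
    obtain ⟨hUc, hUn⟩ := centric_sup_centralizer hS hF hQS hSQ
    have hgU : IsIso F (Q ⊔ centralizerIn S Q) (Q ⊔ centralizerIn S Q) g := hg.isIso_self fun z hz =>
      hg.apply_mem_sup (fun y hy => Subgroup.mem_sup_left (by rw [hge y hy]; exact hkQ.apply_mem hy))
        (fun y hy => Subgroup.mem_sup_right (hg.apply_mem_centralizerIn le_sup_left (hkQ.congr hge)
          (Subgroup.mem_sup_right hy) hy)) hz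
    have hd := hY _ hUc.1 hUn (fun h => hc (le_sup_right.trans h)) _ g hg
      ⟨g, by rwa [sup_idem], fun _ _ => rfl, hgU⟩ x (Subgroup.mem_sup_left hxQ)
    rwa [hge x hxQ, hke x hxP] at hd
  -- transfer
  obtain ⟨B, _, χ, -, hker, -⟩ := exists_char (le_refl S) hK'S hcK
  obtain ⟨m, t, hm, hinv, heval⟩ := exists_transfer_eval hS hF
  have htfoc : ∀ z : S, (z : Ω) ∈ F.focalSubgroup → t z = 1 := by
    have hle : F.focalSubgroup ≤ t.ker.map S.subtype := (Subgroup.closure_le _).2 (by
      rintro _ ⟨P, φ, x, hφ, rfl⟩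
      have hxS : (x : Ω) ∈ S := (F.le_of_mem hφ).1 x.2
      have hφS := (F.le_of_mem hφ).2 x
      refine ⟨(⟨x, hxS⟩ : ↥S)⁻¹ * ⟨φ x, hφS⟩, ?_, rfl⟩
      show t _ = 1
      rw [map_mul, map_inv, hinv P _ (isMor_extFun hφ) ⟨x, hxS⟩ ⟨φ x, hφS⟩ x.2 (extFun_coe φ x).symm,
        inv_mul_cancel])
    intro z hz
    obtain ⟨w, hw, hwe⟩ := hle hz
    exact (show w = z from Subtype.ext hwe) ▸ hw
  intro P f hf x hx
  set z : S := (⟨x, hf.le hx⟩ : S)⁻¹ * ⟨f x, hf.mem hx⟩
  obtain ⟨f', hf', hi'⟩ := factor_isMor_of hS hF hQsc hE' hf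
  have hd := hfoc' (mem_focal_of_isMor hf' (imageAlong_mem hf.le hx))
  rw [hi' x hx, qfun_apply θ (hf.le hx), qfun_apply θ (hf.mem hx), ← map_inv, ← map_mul] at hd
  obtain ⟨a, ha, hae⟩ := hd
  set q : S := a⁻¹ * z
  have hqQ : (q : Ω) ∈ Q := (hθ q).1 (by rw [map_mul, map_inv, hae, inv_mul_cancel])
  have hχq : ∀ (l : ℕ) (P : Subgroup Ω) (g : Ω → Ω), IsMor F P g → ∀ y : S, ((q ^ l : S) : Ω) ∈ P →
      (y : Ω) = g ((q ^ l : S) : Ω) → χ y = χ (q ^ l) := by
    intro l P g hg y hyP hye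
    rw [eq_comm, ← inv_mul_eq_one, ← map_inv, ← map_mul, hker]
    show ((q ^ l : S) : Ω)⁻¹ * (y : Ω) ∈ K'
    rw [hye]
    exact hQd P g hg _ hyP (by rw [SubmonoidClass.coe_pow]; exact pow_mem hqQ l)
  have hqfoc : t q = 1 := by
    rw [map_mul, map_inv, htfoc a ha.2, htfoc z (mem_focal_of_isMor hf hx), inv_one, one_mul]
  have h1 := heval χ q hχq
  rw [hqfoc, map_one, inv_pow] at h1
  have hq1 : χ q = 1 := eq_one_of_pow_eq_one hS le_rfl χ hm q (inv_eq_one.1 h1.symm)
  have := K'.mul_mem ha ((hker q).1 hq1)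
  simpa [q, z, mul_assoc] using this

end Cfsg.Agent.Fusion.FocCtl
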