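import Cfsg.Agent.Lib.Fusion.FocalControl

/-!
A proper focal subgroup when the automizer of the whole group is a `p`-group.
-/

set_option autoImplicit false

universe v

namespace Cfsg.Agent.Fusion.FocProper

open Cfsg Cfsg.FusionSystem
open scoped commutatorElement

variable {p : ℕ} [hp : Fact p.Prime]

/-- A `p`-group of automorphisms of a nontrivial finite `p`-group has proper commutator image. -/
theorem exists_proper {X : Type v} [Group X] [Finite X] [Nontrivial X] (hX : IsPGroup p X)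
    (A : Subgroup (MulAut X)) (hA : IsPGroup p A) :
    ∃ D : Subgroup X, D ≠ ⊤ ∧ ∀ a ∈ A, ∀ x : X, x⁻¹ * a x ∈ D := by
  let φ : A →* MulAut X := A.subtype
  have : Finite (MulAut X) :=
    Finite.of_injective (fun α : MulAut X => (α : X → X)) fun _ _ h => MulEquiv.ext (congrFun h)
  let T := X ⋊[φ] A
  have : Finite T := Finite.of_equiv _ SemidirectProduct.equivProd.symm
  obtain ⟨i, hi⟩ := hX.exists_card_eq
  obtain ⟨j, hj⟩ := hA.exists_card_eq
  have hT : IsPGroup p T := IsPGroup.of_card (n := i + j) (by rw [SemidirectProduct.card, hi, hj, pow_add])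
  have hnil : Group.IsNilpotent T := hT.isNilpotent
  obtain ⟨n, hn⟩ := Subgroup.nilpotent_iff_lowerCentralSeries.1 hnil
  let N : Subgroup T := (SemidirectProduct.inl : X →* T).range
  refine ⟨(⁅N, (⊤ : Subgroup T)⁆).comap SemidirectProduct.inl, fun h => ?_, fun a ha x => ?_⟩
  · have hle : N ≤ ⁅N, (⊤ : Subgroup T)⁆ := by
      rintro _ ⟨x, rfl⟩
      have hx : x ∈ (⁅N, (⊤ : Subgroup T)⁆).comap SemidirectProduct.inl := h ▸ Subgroup.mem_top x
      exact hx
    have hall : ∀ k, N ≤ Subgroup.lowerCentralSeries (⊤ : Subgroup T) k := by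
      intro k
      induction k with
      | zero => exact le_top
      | succ k ih => rw [Subgroup.lowerCentralSeries_succ]; exact hle.trans (Subgroup.commutator_mono ih le_rfl)
    obtain ⟨x, hx⟩ := exists_ne (1 : X)
    refine hx (SemidirectProduct.inl_injective (φ := φ) ?_)
    rw [map_one, ← Subgroup.mem_bot, ← hn]
    exact hall n ⟨x, rfl⟩
  · show SemidirectProduct.inl (x⁻¹ * a x) ∈ ⁅N, (⊤ : Subgroup T)⁆
    have h := Subgroup.commutator_mem_commutator (H₁ := N) (H₂ := (⊤ : Subgroup T))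
      (show SemidirectProduct.inl x⁻¹ ∈ N from ⟨_, rfl⟩) (Subgroup.mem_top (SemidirectProduct.inr (⟨a, ha⟩ : A)))
    rw [commutatorElement_def, ← map_inv SemidirectProduct.inl x⁻¹, inv_inv,
      mul_assoc, mul_assoc, ← mul_assoc (SemidirectProduct.inr _), ← map_inv SemidirectProduct.inr,
      ← SemidirectProduct.inl_aut] at h
    simpa [φ] using h

/-- The focal subgroup is proper when a functor controls it and the automizer of the whole group is a `p`-group. -/
theorem focal_ne (W : SubFunctor.{v} p) (hW : FocCtl.FocLocal p W) :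
    ∀ (n : ℕ) {Ω : Type v} [Group Ω] {S : Subgroup Ω} [Finite S] {F : FusionSystem S},
      Nat.card S = n → IsPGroup p S → S ≠ ⊥ → F.IsSaturated p → IsPGroup p (F.autGroup S) →
      F.focalSubgroup ≠ S := by
  intro n
  induction n using Nat.strong_induction_on with
  | _ n ih =>
  intro Ω _ S _ F hn hS hS1 hF haut hfS
  subst hn
  set K := W.W S with hKdef
  have hKS : K ≤ S := W.le S
  have hSK : S ≤ Subgroup.normalizer (K : Set Ω) := fun a ha =>
    W.mem_normalizer le_rfl ha (Subgroup.le_normalizer ha)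
  obtain ⟨E, hEs, hEF, hEK, hEiff⟩ := exists_normalizer_top hS hF hKS hSK
  have hES : S ≤ E.focalSubgroup := fun x hx => FocCtl.focal_le W hW _ rfl hS hF
    (fun P f hf hext y hy => mem_focal_of_isMor ((hEiff P f).2 ⟨hf.le, hext⟩) hy) (hfS.ge hx)
  rcases eq_or_lt_of_le hKS with hK | hK
  · have : Nontrivial S := (Subgroup.nontrivial_iff_ne_bot S).2 hS1
    obtain ⟨D, hD, hDa⟩ := exists_proper hS (F.autGroup S) haut
    refine hD ((Subgroup.eq_top_iff' D).2 fun x => ?_)
    have hle : E.focalSubgroup ≤ D.map S.subtype := by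
      refine (Subgroup.closure_le _).2 ?_
      rintro _ ⟨A, ψ, y, hψ, rfl⟩
      obtain ⟨hAS, k, hk, hke, hkK⟩ := (hEiff A _).1 (isMor_extFun hψ)
      rw [hK] at hkK
      exact ⟨(⟨y, hAS y.2⟩ : S)⁻¹ * autOf hkK ⟨y, hAS y.2⟩, hDa _ (autOf_mem hkK) _, by
        rw [Subgroup.coe_subtype, Subgroup.coe_mul, autOf_apply, hke y y.2, extFun_coe]; rfl⟩
    obtain ⟨z, hz, hze⟩ := hle (hES x.2)
    exact Subtype.ext hze ▸ hz
  -- pass to the factor system
  set Ks := K.subgroupOf S
  have hKsn : Ks.Normal := ⟨fun x hx a =>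
    show ((a * x * a⁻¹ : S) : Ω) ∈ K from conj_mem_of_mem_normalizer (hSK a.2) hx⟩
  let θ : S →* S ⧸ Ks := QuotientGroup.mk' Ks
  have hθ : ∀ s : S, θ s = 1 ↔ (s : Ω) ∈ K := fun s => QuotientGroup.eq_one_iff s
  have hθr : θ.range = (⊤ : Subgroup (S ⧸ Ks)) :=
    MonoidHom.range_eq_top.2 (QuotientGroup.mk'_surjective _)
  have hKsc := normal_stronglyClosed hEK
  obtain ⟨E', hE'⟩ := exists_factor (F := E) hθ hθr hKsc
  have hE's := factor_saturated hS hEs hKsc hE'
  have hlt : Nat.card (⊤ : Subgroup (S ⧸ Ks)) < Nat.card S := by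
    rw [Subgroup.card_top, Subgroup.card_eq_card_quotient_mul_card_subgroup Ks]
    refine (lt_mul_iff_one_lt_right Nat.card_pos).2 ((Subgroup.one_lt_card_iff_ne_bot _).2 fun h => ?_)
    rw [Subgroup.subgroupOf_eq_bot, disjoint_iff, inf_eq_left.2 hKS] at h
    exact W.ne S hS hS1 h
  have hS'p := isPGroup_of_range hS hθr
  have htop : (⊤ : Subgroup (S ⧸ Ks)) ≠ ⊥ := fun h0 => hK.not_ge fun x hx =>
    (hθ ⟨x, hx⟩).1 (Subgroup.mem_bot.1 (h0 ▸ Subgroup.mem_top (θ ⟨x, hx⟩)))
  have haut' : IsPGroup p (E'.autGroup (⊤ : Subgroup (S ⧸ Ks))) := by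
    rintro ⟨α, hα⟩
    obtain ⟨-, k, hk, hki⟩ := (isMor_of_mem_autGroup le_rfl hα).factor_lift hE'
    have hpre : preimageAlong θ (⊤ : Subgroup (S ⧸ Ks)) = S :=
      le_antisymm preimageAlong_le fun x hx => mem_preimageAlong.2 ⟨hx, Subgroup.mem_top _⟩
    rw [hpre] at hk hki
    have hkF : IsIso F S S k := (le_iff_isMor.1 hEF S k hk).isIso_self fun x hx => hk.mem hx
    obtain ⟨m, hm⟩ := haut ⟨autOf hkF, autOf_mem hkF⟩
    have hm' : (autOf hkF) ^ p ^ m = 1 := congrArg Subtype.val hm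
    have hstep : ∀ x : S, (α ⟨θ x, Subgroup.mem_top _⟩ : S ⧸ Ks) = θ (autOf hkF x) := fun x => by
      have h1 := hki x x.2
      rw [qfun_apply θ x.2, qfun_apply θ (hk.mem x.2), autFun_apply α (Subgroup.mem_top _)] at h1
      exact h1
    have hpow : ∀ (j : ℕ) (x : S), ((α ^ j) ⟨θ x, Subgroup.mem_top _⟩ : S ⧸ Ks) = θ ((autOf hkF ^ j) x) := by
      intro j
      induction j with
      | zero => intro x; simp
      | succ j hj =>
        intro x
        rw [pow_succ', pow_succ', MulAut.mul_apply, MulAut.mul_apply,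
          show (α ^ j) ⟨θ x, Subgroup.mem_top _⟩ = ⟨θ ((autOf hkF ^ j) x), Subgroup.mem_top _⟩ from
            Subtype.ext (hj x), hstep]
    refine ⟨m, Subtype.ext (MulEquiv.ext fun y => Subtype.ext ?_)⟩
    obtain ⟨x, hx⟩ := QuotientGroup.mk'_surjective Ks (y : S ⧸ Ks)
    have hy : y = ⟨θ x, Subgroup.mem_top _⟩ := Subtype.ext hx.symm
    rw [hy]
    refine (hpow (p ^ m) x).trans ?_
    rw [hm']; rfl
  refine ih _ hlt rfl hS'p htop hE's haut' (le_antisymm le_top fun y _ => ?_)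
  obtain ⟨x, rfl⟩ := QuotientGroup.mk'_surjective Ks y
  have hle : E.focalSubgroup ≤ (E'.focalSubgroup.comap θ).map S.subtype := by
    refine (Subgroup.closure_le _).2 ?_
    rintro _ ⟨A, ψ, z, hψ, rfl⟩
    have hf := isMor_extFun hψ
    obtain ⟨f', hf', hi'⟩ := factor_isMor_of hS hEs hKsc hE' hf
    have hd := mem_focal_of_isMor hf' (imageAlong_mem hf.le z.2)
    rw [hi' z z.2, qfun_apply θ (hf.le z.2), qfun_apply θ (hf.mem z.2), ← map_inv, ← map_mul] at hd
    exact ⟨_, hd, by rw [Subgroup.coe_subtype, Subgroup.coe_mul]; simp [extFun_coe]⟩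
  obtain ⟨z, hz, hze⟩ := hle (hES x.2)
  exact Subtype.ext hze ▸ hz

end Cfsg.Agent.Fusion.FocProper
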