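import Mathlib

/-!
A Hall subgroup whose iterated focal series terminates has a normal complement.
-/

set_option autoImplicit false

universe u

namespace Cfsg.Agent.Fusion.FocalSeries

open Subgroup
open scoped IsMulCommutative commutatorElement

variable {G : Type u} [Group G]

theorem focal_mono_map (N : Subgroup G) (L : Subgroup N) (K : Subgroup G) (h : L.map N.subtype ≤ K) :
    (Subgroup.focalSubgroup L).map N.subtype ≤ Subgroup.focalSubgroup K := by
  rw [focalSubgroup_def, MonoidHom.map_closure]
  refine closure_mono ?_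
  rintro _ ⟨g, ⟨hg, x, hx, u, rfl⟩, rfl⟩
  exact ⟨h ⟨_, hg, rfl⟩, (x : G), h ⟨_, hx, rfl⟩, (u : G), map_commutatorElement N.subtype x u⟩

theorem exists_complement (n : ℕ) : ∀ (G : Type u) [Group G] [Finite G] (H : Subgroup G),
    (Nat.card H).Coprime H.index → (fun K : Subgroup G => Subgroup.focalSubgroup K)^[n] H = ⊥ →
    ∃ N : Subgroup G, N.Normal ∧ Subgroup.IsComplement' N H := by
  induction n with
  | zero =>
    intro G _ _ H _ h
    obtain rfl : H = ⊥ := h
    exact ⟨⊤, inferInstance, isComplement'_top_bot⟩
  | succ n ih =>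
    intro G _ _ H hH h
    rw [Function.iterate_succ_apply] at h
    -- the transfer into the focal quotient
    have hpow : ∀ y : H ⧸ H.focalSubgroupOf, y ^ H.index = 1 → y = 1 := fun y hy => by
      have h1 : y ^ Nat.card H = 1 := by
        obtain ⟨a, rfl⟩ := QuotientGroup.mk_surjective y
        rw [← QuotientGroup.mk_pow, pow_card_eq_one']; rfl
      have := Nat.dvd_gcd (orderOf_dvd_of_pow_eq_one h1) (orderOf_dvd_of_pow_eq_one hy)
      rw [hH] at this
      exact orderOf_eq_one_iff.1 (Nat.dvd_one.1 this)
    set N := H.transferFocal.ker with hN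
    have hinf : N ⊓ H = H.focalSubgroup := by
      refine le_antisymm (fun x hx => ?_) (le_inf ?_ H.focalSubgroup_le)
      · have h1 : H.transferFocal ((⟨x, hx.2⟩ : H) : G) = 1 := hx.1
        rw [transferFocal_eq_pow] at h1
        have h2 : (⟨x, hx.2⟩ : H) ∈ H.focalSubgroupOf := (QuotientGroup.eq_one_iff _).1 (hpow _ h1)
        exact h2
      · exact H.focalSubgroup_le_commutator.trans (Abelianization.commutator_subset_ker _)
    have hsup : H ⊔ N = ⊤ := by
      refine eq_top_iff.2 fun g _ => ?_
      have hbij : Function.Bijective fun y : H ⧸ H.focalSubgroupOf => y ^ H.index :=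
        Finite.injective_iff_bijective.1 fun a b hab => by
          have := hpow (a * b⁻¹) (by rw [mul_pow, inv_pow]; exact mul_inv_eq_one.2 hab)
          exact mul_inv_eq_one.1 this
      obtain ⟨y, hy⟩ := hbij.2 (H.transferFocal g)
      obtain ⟨x, rfl⟩ := QuotientGroup.mk_surjective y
      have : (x : G)⁻¹ * g ∈ N := by
        show H.transferFocal _ = 1
        rw [map_mul, map_inv, transferFocal_eq_pow, ← hy, inv_mul_cancel]
      have hg : g = (x : G) * ((x : G)⁻¹ * g) := (mul_inv_cancel_left _ _).symm
      rw [hg]
      exact mul_mem (mem_sup_left x.2) (mem_sup_right this)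
    set L : Subgroup N := H.subgroupOf N with hL
    have hidx : L.index = H.index := by
      rw [hL]
      show H.relIndex N = H.index
      have h1 : N.relIndex (H ⊔ N) = N.relIndex H := relIndex_sup_right H N
      rw [hsup, relIndex_top_right] at h1
      have h2 := relIndex_mul_index (H := H ⊓ N) (K := H) inf_le_left
      have h3 := relIndex_mul_index (H := H ⊓ N) (K := N) inf_le_right
      rw [inf_relIndex_left] at h2
      rw [inf_relIndex_right, h1, ← h2, mul_comm] at h3
      exact Nat.eq_of_mul_eq_mul_left (Nat.pos_of_ne_zero index_ne_zero_of_finite) h3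
    have hmap : L.map N.subtype = H.focalSubgroup := by
      rw [hL, subgroupOf_map_subtype, inf_comm, hinf]
    have hcard : Nat.card L ∣ Nat.card H := by
      rw [← card_map_of_injective (K := L) N.subtype_injective, hmap]
      exact card_dvd_of_le H.focalSubgroup_le
    have hiter : ∀ i, ((fun K : Subgroup N => Subgroup.focalSubgroup K)^[i] L).map N.subtype ≤
        (fun K : Subgroup G => Subgroup.focalSubgroup K)^[i] H.focalSubgroup := by
      intro i
      induction i with
      | zero => exact hmap.le
      | succ i hi => rw [Function.iterate_succ_apply', Function.iterate_succ_apply']; exact focal_mono_map N _ _ hi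
    obtain ⟨M, hMn, hMc⟩ := ih N L (hidx ▸ hH.coprime_dvd_left hcard)
      ((map_eq_bot_iff_of_injective _ N.subtype_injective).1 (le_bot_iff.1 ((hiter n).trans h.le)))
    have hMcard : Nat.card M = H.index := (Subgroup.IsComplement'.index_eq_card hMc).symm.trans hidx
    have hMidx : M.index = Nat.card L := (Subgroup.IsComplement'.index_eq_card hMc.symm)
    refine ⟨M.map N.subtype, ⟨fun x hx g => ?_⟩, ?_⟩
    · obtain ⟨m, hm, rfl⟩ := hx
      refine ⟨⟨g * (m : G) * g⁻¹, MonoidHom.normal_ker _ |>.conj_mem _ m.2 g⟩, ?_, rfl⟩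
      set y : N := ⟨g * (m : G) * g⁻¹, MonoidHom.normal_ker _ |>.conj_mem _ m.2 g⟩
      have h1 : orderOf y ∣ Nat.card M := by
        have : orderOf y = orderOf m := by
          rw [← orderOf_coe, show (y : G) = MulAut.conj g (m : G) from rfl, MulEquiv.orderOf_eq, orderOf_coe]
        rw [this]; exact Subgroup.orderOf_dvd_natCard M hm
      refine (QuotientGroup.eq_one_iff y).1 (orderOf_eq_one_iff.1 (Nat.dvd_one.1 ?_))
      have h2 : orderOf (y : N ⧸ M) ∣ Nat.gcd (Nat.card M) M.index :=
        Nat.dvd_gcd ((orderOf_map_dvd (QuotientGroup.mk' M) y).trans h1) (orderOf_dvd_natCard _)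
      rwa [hMcard, hMidx, Nat.Coprime.gcd_eq_one (hH.coprime_dvd_left hcard).symm] at h2
    · refine isComplement'_of_coprime ?_ ?_
      · rw [card_map_of_injective N.subtype_injective, hMcard, H.index_mul_card]
      · rw [card_map_of_injective N.subtype_injective, hMcard]; exact hH.symm

end Cfsg.Agent.Fusion.FocalSeries
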