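import Cfsg.Agent.Lib.Fusion.NoFlip
import Cfsg.Agent.Lib.Fusion.NormalCriteria
import Cfsg.Agent.Lib.Fusion.FunctorReduction
import Cfsg.Agent.Lib.Fusion.ZJFusion
import Cfsg.Agent.Lib.Fusion.Model
import Cfsg.Agent.Lib.Fusion.ModelBasic

/-!
No map moves the distinguished line of a normal elementary abelian subgroup of a strongly closed subgroup.
-/

set_option autoImplicit false

universe v

namespace Cfsg.Agent.Fusion.NoSwap

open Cfsg Cfsg.FusionSystem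

variable {p : ℕ} [hp : Fact p.Prime] {Ω : Type v} [Group Ω] {S : Subgroup Ω} [Finite S] {F : FusionSystem S}

omit hp in
theorem pow_pow_inj [Fact p.Prime] {G : Type v} [Group G] {x : G} {i j : ℕ}
    (hi : (x ^ p ^ i) ^ p = 1) (hi1 : x ^ p ^ i ≠ 1) (hj : (x ^ p ^ j) ^ p = 1) (hj1 : x ^ p ^ j ≠ 1) : i = j := by
  have key : ∀ a b : ℕ, a < b → (x ^ p ^ a) ^ p = 1 → x ^ p ^ b = 1 := fun a b h ha => by
    obtain ⟨c, rfl⟩ := Nat.exists_eq_add_of_lt h
    rw [show p ^ (a + c + 1) = p ^ a * p * p ^ c by ring, pow_mul, pow_mul, ha, one_pow]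
  rcases lt_trichotomy i j with h | h | h
  · exact absurd (key _ _ h hi) hj1
  · exact h
  · exact absurd (key _ _ h hj) hi1

theorem no_swap (hS : IsPGroup p S) (hF : F.IsSaturated p) (hp2 : p ≠ 2) {P V : Subgroup Ω}
    (hP : F.StronglyClosed P) (hVn : F.IsNormal V) (hVP : V ≤ P) (hVc : ∀ u ∈ V, ∀ w ∈ V, u * w = w * u)
    (hVp : ∀ u ∈ V, u ^ p = 1) {z a : Ω} (hz : z ∈ V) (haz : a * z = z * a) (haP : a ∈ P)
    (haV : ∀ u ∈ V, a * u * a⁻¹ * u⁻¹ ∈ Subgroup.zpowers z)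
    {f : Ω → Ω} (hf : IsMor F V f) (hfz : a * f z ≠ f z * a)
    (hfy : ∀ u ∈ V, f u = z → a * u ≠ u * a)
    (hH : ∀ c ∈ P, (∃ u ∈ V, c * u ≠ u * c) → ∃ k : ℕ, c ^ p ^ k ∈ Subgroup.zpowers z ∧ c ^ p ^ k ≠ 1) :
    False := by
  have hVS := hVn.1
  have hSV := normal_le_normalizer hVn
  have hfV : IsIso F V V f := normal_isIso hVn hf le_rfl
  set U := V ⊔ centralizerIn S V
  obtain ⟨hUc, hUn⟩ := centric_sup_centralizer hS hF hVS hSV
  have hUS : U ≤ S := hUc.1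
  have hVfn : F.IsFullyNormalized V := ZJFusion.fullyNormalized_of_top hVS hSV
  obtain ⟨g, hg, hge⟩ := exists_extension_centralizer (fullyNormalized_receptive hS hF hVfn).2 hfV
  have hgU : IsIso F U U g := hg.isIso_self fun w hw =>
    hg.apply_mem_sup (fun y hy => Subgroup.mem_sup_left (by rw [hge y hy]; exact hfV.apply_mem hy))
      (fun y hy => Subgroup.mem_sup_right (hg.apply_mem_centralizerIn le_sup_left (hfV.congr hge)
        (Subgroup.mem_sup_right hy) hy)) hw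
  obtain ⟨E, hEs, hEF, hEU, hEiff⟩ := exists_normalizer_top hS hF hUS hUn
  have hgE : IsMor E U g := (hEiff U g).2 ⟨hUS, g, by rw [sup_idem]; exact hg, fun _ _ => rfl, hgU⟩
  have hUE : E.IsCentric U := ⟨hUS, fun R hR => hUc.2 R (by
    obtain ⟨k, hk⟩ := isConj_iff_exists_isIso.1 hR
    exact isConj_iff_exists_isIso.2 ⟨k, le_iff_isMor.1 hEF _ _ hk.1, hk.2⟩)⟩
  obtain ⟨L₀, hLg, ι, hL⟩ := exists_model hS hEs hEU hUE
  have := hL.1
  obtain ⟨T₀, hT₀⟩ := hL.2.2.1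
  have hi := hL.2.1.1
  -- restrict to the normalizer of the image of `V`
  set VL := (V.subgroupOf S).map ι with hVL
  set N := Subgroup.normalizer (VL : Set L₀) with hN
  have hmemV : ∀ {s : S}, ι s ∈ VL ↔ (s : Ω) ∈ V := fun {s} => by
    rw [hVL, Subgroup.mem_map_iff_mem hi]
    rfl
  have hNof : ∀ x : L₀, (∀ u ∈ VL, x * u * x⁻¹ ∈ VL) → x ∈ N := fun x hx => by
    have hmap : VL.map (MulAut.conj x).toMonoidHom = VL := by
      refine Subgroup.eq_of_le_of_card_ge ?_ (Subgroup.card_map_of_injective (MulAut.conj x).injective).ge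
      rintro _ ⟨w, hw, rfl⟩
      exact hx w hw
    refine Subgroup.mem_normalizer_iff.2 fun w => ⟨hx w, fun hw => ?_⟩
    obtain ⟨q, hq, he⟩ := hmap.ge hw
    rwa [← (MulAut.conj x).injective (show MulAut.conj x q = MulAut.conj x w from he)]
  have hTN : (T₀ : Subgroup L₀) ≤ N := fun t ht => by
    obtain ⟨b, rfl⟩ := hT₀.le ht
    refine hNof _ ?_
    rintro _ ⟨u, hu, rfl⟩
    rw [← map_inv, ← map_mul, ← map_mul, hmemV]
    exact conj_mem_of_mem_normalizer (hSV b.2) hu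
  let T : Sylow p N := (T₀.isPGroup'.comap_subtype).toSylow fun h =>
    T₀.not_dvd_index (h.trans (Subgroup.relIndex_dvd_index_of_le hTN))
  have hT : ∀ x : N, x ∈ (T : Subgroup N) ↔ (x : L₀) ∈ ι.range := fun x => by
    rw [← hT₀]; rfl
  let j : S →* N := ι.codRestrict N fun s => hTN (hT₀.ge ⟨s, rfl⟩)
  have hj : Function.Injective j := fun x y h => hi (congrArg Subtype.val h)
  obtain ⟨g₀, hg₀⟩ := realized_exists_conj hL.2.1 hgE
  have hg₀V : ∀ (u : S), (u : Ω) ∈ V → ∀ u' : S, (u' : Ω) = f u → ι u' = g₀ * ι u * g₀⁻¹ := fun u hu u' he =>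
    hg₀ u u' (Subgroup.mem_sup_left hu) (by rw [he, hge _ hu])
  have hg₀N : g₀ ∈ N := hNof _ (by
    rintro _ ⟨u, hu, rfl⟩
    rw [← hg₀V u hu ⟨f u, hfV.le' (hfV.apply_mem hu)⟩ rfl, hmemV]
    exact hfV.apply_mem hu)
  set γ : N := ⟨g₀, hg₀N⟩
  have hγ : ∀ (u : S), (u : Ω) ∈ V → ∀ u' : S, (u' : Ω) = f u → γ * j u * γ⁻¹ = j u' := fun u hu u' he =>
    Subtype.ext (hg₀V u hu u' he).symm
  let Pg : Subgroup N := (P.subgroupOf S).map j
  have hcl : ∀ x : N, ∀ q ∈ Pg, x * q * x⁻¹ ∈ (T : Subgroup N) → x * q * x⁻¹ ∈ Pg := by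
    rintro x _ ⟨q, hq, rfl⟩ hxT
    obtain ⟨q', hq'⟩ := (hT _).1 hxT
    have hle : Subgroup.zpowers (q : Ω) ≤ S := Subgroup.zpowers_le.2 q.2
    obtain ⟨k, hk, hkx⟩ := realized_exists_mor hL.2.1 hle (x : L₀) fun s hs => by
      obtain ⟨i, hi'⟩ := hs
      rw [show s = q ^ i from Subtype.ext (by simpa using hi'.symm), map_zpow, ← conj_zpow]
      exact zpow_mem (MonoidHom.mem_range.2 ⟨q', hq'⟩) i
    refine ⟨q', ?_, Subtype.ext hq'⟩
    have h1 := hkx q ⟨k q, hk.mem (Subgroup.mem_zpowers _)⟩ (Subgroup.mem_zpowers _) rfl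
    rw [show q' = ⟨k q, hk.mem (Subgroup.mem_zpowers _)⟩ from hi (hq'.trans h1.symm)]
    exact stronglyClosed_apply hP (le_iff_isMor.1 hEF _ _ hk) (Subgroup.mem_zpowers _) hq
  -- the elements
  set zS : S := ⟨z, hVS hz⟩
  set yS : S := ⟨f z, hfV.le' (hfV.apply_mem hz)⟩
  set aS : S := ⟨a, hP.1 haP⟩
  have hzp : zS ^ p = 1 := Subtype.ext (hVp z hz)
  have hyV : (yS : Ω) ∈ V := hfV.apply_mem hz
  have hyp : yS ^ p = 1 := Subtype.ext (hVp _ hyV)
  have hzy : zS * yS = yS * zS := Subtype.ext (hVc _ hz _ hyV)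
  have hγz : γ * j zS * γ⁻¹ = j yS := hγ zS hz yS rfl
  have htwist : ∀ u : S, (u : Ω) ∈ V → (a * u ≠ u * a) →
      ∃ i : ℕ, ¬ p ∣ i ∧ aS * u * aS⁻¹ = u * zS ^ i := fun u hu hne => by
    obtain ⟨i, hi'⟩ := Subgroup.mem_zpowers_iff.1 (haV _ hu)
    have hzpos : IsOfFinOrder z := ⟨p, hp.out.pos, by simpa [Function.IsPeriodicPt, Function.IsFixedPt] using hVp z hz⟩
    obtain ⟨m, hm⟩ := (hzpos.mem_powers_iff_mem_zpowers).2 (Subgroup.mem_zpowers_iff.2 ⟨i, hi'⟩)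
    have hm : z ^ m = a * u * a⁻¹ * (u : Ω)⁻¹ := hm
    refine ⟨m, fun hd => ?_, Subtype.ext ?_⟩
    · obtain ⟨c, rfl⟩ := hd
      rw [pow_mul, hVp z hz, one_pow] at hm
      exact hne (by
        calc a * (u : Ω) = a * u * a⁻¹ * (u : Ω)⁻¹ * (u * a) := by group
          _ = _ := by rw [← hm, one_mul])
    · show a * (u : Ω) * a⁻¹ = (u : Ω) * z ^ m
      rw [(hVc (u : Ω) hu (z ^ m) (pow_mem hz m)), hm]
      group
  obtain ⟨i, hi1, hay⟩ := htwist yS hyV hfz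
  obtain ⟨u₀, hu₀, hu₀z⟩ := hfV.exists_apply hz
  set uS : S := ⟨u₀, hVS hu₀⟩
  obtain ⟨i', hi2, hau⟩ := htwist uS hu₀ (hfy u₀ hu₀ hu₀z)
  have hγu : γ * j uS * γ⁻¹ = j zS := hγ uS hu₀ zS hu₀z.symm
  have haz' : j aS * j zS * (j aS)⁻¹ = j zS := by
    rw [← map_mul, ← map_inv, ← map_mul]
    congr 1
    exact Subtype.ext (show a * z * a⁻¹ = z by rw [haz, mul_inv_cancel_right])
  obtain ⟨δ, hδ⟩ := NoFlip.exists_inverting (z := j zS) (y := j yS) (a := j aS) (b := γ * j aS * γ⁻¹)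
    (by rw [← map_mul, hzy, map_mul]) (by rw [← map_pow, hzp, map_one]) (by rw [← map_pow, hyp, map_one])
    hi1 hi2 haz' (by rw [← map_mul, ← map_inv, ← map_mul, hay, map_mul, map_pow])
    (by
      rw [← hγz]
      calc γ * j aS * γ⁻¹ * (γ * j zS * γ⁻¹) * (γ * j aS * γ⁻¹)⁻¹ = γ * (j aS * j zS * (j aS)⁻¹) * γ⁻¹ := by group
        _ = _ := by rw [haz'])
    (by
      rw [← hγu, ← hγz, conj_pow]
      calc γ * j aS * γ⁻¹ * (γ * j uS * γ⁻¹) * (γ * j aS * γ⁻¹)⁻¹ = γ * j (aS * uS * aS⁻¹) * γ⁻¹ := by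
            rw [map_mul, map_mul, map_inv]; group
        _ = _ := by rw [hau, map_mul, map_pow]; group)
  set W := Subgroup.closure ({j zS, j yS} : Set N) with hW
  have hWV : ∀ w ∈ W, (w : L₀) ∈ VL := by
    have hle : W ≤ VL.comap N.subtype := (Subgroup.closure_le _).2 (by
      rintro _ (rfl | rfl)
      · exact hmemV.2 hz
      · exact hmemV.2 hyV)
    exact fun w hw => hle hw
  have hVLp : ∀ w ∈ VL, w ^ p = 1 := by
    rintro _ ⟨u, hu, rfl⟩
    rw [← map_pow, show u ^ p = 1 from Subtype.ext (hVp _ hu), map_one]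
  have hWp : IsPGroup p W := fun w => ⟨1, Subtype.ext (Subtype.ext (by
    rw [pow_one]
    exact hVLp _ (hWV w w.2)))⟩
  have haW : j aS ∈ Subgroup.normalizer (W : Set N) := by
    have hgen : ∀ x ∈ ({j zS, j yS} : Set N), j aS * x * (j aS)⁻¹ ∈ W := by
      rintro _ (rfl | rfl)
      · rw [haz']; exact Subgroup.subset_closure (Or.inl rfl)
      · rw [← map_mul, ← map_inv, ← map_mul, hay, map_mul, map_pow]
        exact W.mul_mem (Subgroup.subset_closure (Or.inr rfl)) (W.pow_mem (Subgroup.subset_closure (Or.inl rfl)) _)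
    have hmap : W.map (MulAut.conj (j aS)).toMonoidHom = W := by
      refine Subgroup.eq_of_le_of_card_ge ?_ (Subgroup.card_map_of_injective (MulAut.conj (j aS)).injective).ge
      rw [hW, MonoidHom.map_closure, Subgroup.closure_le]
      rintro _ ⟨x, hx, rfl⟩
      exact hgen x hx
    refine Subgroup.mem_normalizer_iff.2 fun x => ⟨fun hx => hmap.le ⟨x, hx, rfl⟩, fun hx => ?_⟩
    obtain ⟨q, hq, he⟩ := hmap.ge hx
    rwa [← (MulAut.conj (j aS)).injective (show MulAut.conj (j aS) q = MulAut.conj (j aS) x from he)]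
  have haC : j aS ∉ Subgroup.centralizer (W : Set N) := fun h => hfz (congrArg Subtype.val (hj (by
    rw [map_mul, map_mul]
    exact (Subgroup.mem_centralizer_iff.1 h _ (Subgroup.subset_closure (Or.inr rfl))).symm :
      j (aS * yS) = j (yS * aS))))
  have hap : j aS ^ p ∈ Subgroup.centralizer (W : Set N) := by
    rw [hW, Subgroup.centralizer_closure, Subgroup.mem_centralizer_iff]
    rintro _ (rfl | rfl)
    · exact ((Commute.pow_left (show Commute (j aS) (j zS) by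
        rw [Commute, SemiconjBy, ← map_mul, ← map_mul]; exact congrArg j (Subtype.ext haz)) p).eq).symm
    · have := NoFlip.conj_pow_of_conj (c := j aS) (x := j yS) (t := j zS ^ i)
        (by rw [← map_mul, ← map_inv, ← map_mul, hay, map_mul, map_pow]) (by rw [← conj_pow, haz']) p
      rw [← pow_mul, mul_comm i, pow_mul, ← map_pow j zS, hzp, map_one, one_pow, mul_one] at this
      exact (mul_inv_eq_iff_eq_mul.1 this).symm
  have hPgz : ∀ c ∈ Pg, (∃ u ∈ VL, (c : L₀) * u ≠ u * (c : L₀)) →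
      ∃ k : ℕ, c ^ p ^ k ∈ Subgroup.zpowers (j zS) ∧ c ^ p ^ k ≠ 1 := by
    rintro _ ⟨c₀, hc₀, rfl⟩ ⟨_, ⟨u, hu, rfl⟩, hne⟩
    obtain ⟨k, hk, hk1⟩ := hH c₀ hc₀ ⟨u, hu, fun h => hne (by
      show ι c₀ * ι u = ι u * ι c₀
      rw [← map_mul, ← map_mul]; exact congrArg ι (Subtype.ext h))⟩
    obtain ⟨m, hm⟩ := Subgroup.mem_zpowers_iff.1 hk
    have e : c₀ ^ p ^ k = zS ^ m := Subtype.ext (by simpa using hm.symm)
    refine ⟨k, ?_, fun h => hk1 ?_⟩
    · rw [← map_pow, e, map_zpow]; exact zpow_mem (Subgroup.mem_zpowers _) m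
    · rw [← map_pow] at h
      exact congrArg Subtype.val (hj (h.trans j.map_one.symm))
  have hzp' : ∀ x ∈ Subgroup.zpowers (j zS), x ^ p = 1 := by
    intro x hx
    obtain ⟨m, rfl⟩ := Subgroup.mem_zpowers_iff.1 hx
    rw [← map_zpow, ← map_pow, ← zpow_natCast, ← zpow_mul, mul_comm, zpow_mul, zpow_natCast, hzp, one_zpow,
      map_one]
  obtain ⟨k₁, hk₁, hk₁'⟩ := hPgz (j aS) ⟨aS, haP, rfl⟩ ⟨_, hmemV.2 hyV, fun h => hfz
    (congrArg Subtype.val (hi (by rw [map_mul, map_mul]; exact h : ι (aS * yS) = ι (yS * aS))))⟩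
  have hNV : ∀ (x : N) (u : L₀), u ∈ VL → (x : L₀) * u * (x : L₀)⁻¹ ∈ VL := fun x u hu =>
    (Subgroup.mem_normalizer_iff.1 x.2 u).1 hu
  have hjaT : ∃ n : ℕ, j aS ^ p ^ n = 1 := by
    obtain ⟨n, hn⟩ := hS aS
    exact ⟨n, by rw [← map_pow, hn, map_one]⟩
  refine NoFlip.no_flip hp2 T hcl hWp ⟨aS, haP, rfl⟩ haW haC hap hjaT hδ fun l hla c hlc hcn hcC => ?_
  have hmove : ∀ x : N, x ∈ Subgroup.normalizer (W : Set N) → x ∉ Subgroup.centralizer (W : Set N) →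
      ∃ u ∈ VL, ((l * x * l⁻¹ : N) : L₀) * u ≠ u * ((l * x * l⁻¹ : N) : L₀) := fun x _ hxC => by
    by_contra h
    push_neg at h
    refine hxC (Subgroup.mem_centralizer_iff.2 fun w hw => ?_)
    have h1 := h _ (hNV l _ (hWV w hw))
    refine Subtype.ext ?_
    show (w : L₀) * (x : L₀) = (x : L₀) * (w : L₀)
    calc (w : L₀) * (x : L₀) = (l : L₀)⁻¹ * (((l : L₀) * w * (l : L₀)⁻¹) * ((l * x * l⁻¹ : N) : L₀)) * l := by
          simp [mul_assoc]
      _ = _ := by rw [← h1]; simp [mul_assoc]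
  obtain ⟨k, hk, hk1⟩ := hPgz _ hlc (hmove c hcn hcC)
  obtain ⟨k₂, hk₂, hk₂'⟩ := hPgz _ hla (hmove _ haW haC)
  rw [conj_pow] at hk hk1 hk₂ hk₂'
  have hk₁p := hzp' _ hk₁
  have e2 : k₂ = k₁ := pow_pow_inj (x := j aS)
    (by have := hzp' _ hk₂; rw [conj_pow, mul_inv_eq_one, mul_eq_left] at this; exact this)
    (fun h => hk₂' (by rw [h]; simp)) hk₁p hk₁'
  subst e2
  refine ⟨k, ?_, fun h => hk1 (by rw [h]; simp)⟩
  -- `l` carries part of `W` onto the line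
  have hzW : Subgroup.zpowers (j zS) ≤ W.map (MulAut.conj l).toMonoidHom := by
    have hmem : l * j aS ^ p ^ k₂ * l⁻¹ ∈ W.map (MulAut.conj l).toMonoidHom :=
      ⟨_, (Subgroup.zpowers_le.2 (show j zS ∈ W from Subgroup.subset_closure (Or.inl rfl))) hk₁, rfl⟩
    obtain ⟨m, hm⟩ := Subgroup.mem_zpowers_iff.1 hk₂
    have hpm : ¬ (p : ℤ) ∣ m := fun ⟨c, hc⟩ => hk₂' (by
      rw [← hm, hc, zpow_mul, zpow_natCast, ← map_pow, hzp, map_one, one_zpow])
    obtain ⟨x, y, hxy⟩ := ((Nat.prime_iff_prime_int.1 hp.out).coprime_iff_not_dvd.2 hpm)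
    refine Subgroup.zpowers_le.2 ?_
    have : j zS = (l * j aS ^ p ^ k₂ * l⁻¹) ^ y := by
      rw [← hm, ← zpow_mul]
      conv_lhs => rw [← zpow_one (j zS), ← hxy, zpow_add, zpow_mul', zpow_natCast, ← map_pow, hzp, map_one,
        one_zpow, one_mul, mul_comm y m]
    rw [this]
    exact zpow_mem hmem y
  obtain ⟨w, hw, hwe⟩ := hzW hk
  rwa [← (MulAut.conj l).injective (show MulAut.conj l w = MulAut.conj l (c ^ p ^ k) from hwe)]

end Cfsg.Agent.Fusion.NoSwap
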