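import Cfsg.Prelude.Def_Transfer
import Cfsg.Agent.Lib.Fusion.NoSwap
import Cfsg.Agent.Lib.Fusion.FactorClosed
import Cfsg.Agent.Lib.Struct.ClassTwoBasic
import Cfsg.Agent.Lib.Struct.CoprimeMinimal
import Cfsg.Agent.Lib.Solv.StructMisc
import Cfsg.Agent.Lib.Local.OddPGroupInvolution

/-!
Strongly closed generalized extraspecial subgroups are normal, outside the small list.
-/

set_option autoImplicit false

open scoped commutatorElement

universe v

namespace Cfsg.Agent.Fusion.GenES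

open Cfsg Cfsg.FusionSystem

/-- A finite group as a group with carrier in `Type`. -/
theorem exists_small (G : Type v) [Group G] [Finite G] :
    ∃ (H : Type) (_ : Group H), Nonempty (G ≃* H) := by
  exact ⟨Shrink.{0} G, inferInstance, ⟨Shrink.mulEquiv.symm⟩⟩

variable {p : ℕ} [hp : Fact p.Prime] {Ω : Type v} [Group Ω] {S : Subgroup Ω} [Finite S] {F : FusionSystem S}
  {P : Subgroup Ω} {z : Ω}

/-- The setting: the commutators and `p`-th powers lie in the line of `z`, which is central in `S`. -/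
structure Setting (p : ℕ) (F : FusionSystem S) (P : Subgroup Ω) (z : Ω) : Prop where
  closed : F.StronglyClosed P
  mem : z ∈ P
  comm : ⁅P, P⁆ = Subgroup.zpowers z
  ne_one : z ≠ 1
  pow : z ^ p = 1
  powers : ∀ x ∈ P, x ^ p ∈ Subgroup.zpowers z
  central : ∀ s ∈ S, s * z = z * s

omit [Finite S] in
theorem Setting.comm_mem (hs : Setting p F P z) {x y : Ω} (hx : x ∈ P) (hy : y ∈ P) :
    x * y * x⁻¹ * y⁻¹ ∈ Subgroup.zpowers z := by
  rw [← hs.comm, ← commutatorElement_def]
  exact Subgroup.commutator_mem_commutator hx hy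

theorem exists_nat_pow {w x : Ω} (hw : w ^ p = 1) (hx : x ∈ Subgroup.zpowers w) : ∃ i : ℕ, w ^ i = x := by
  have hf : IsOfFinOrder w := isOfFinOrder_iff_pow_eq_one.2 ⟨p, hp.out.pos, hw⟩
  exact hf.mem_powers_iff_mem_zpowers.2 hx

theorem eq_one_of_pow_mem {w : Ω} (hw : w ^ p = 1) {H : Subgroup Ω} (hwH : w ∉ H) {x : Ω}
    (hx : x ∈ Subgroup.zpowers w) (hxH : x ∈ H) : x = 1 := by
  obtain ⟨i, rfl⟩ := exists_nat_pow hw hx
  by_contra h
  have hpi : ¬ p ∣ i := fun ⟨c, hc⟩ => h (by rw [hc, pow_mul, hw, one_pow])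
  obtain ⟨k, hk⟩ : ∃ k : ℕ, (i : ZMod p) * k = 1 := ⟨((i : ZMod p)⁻¹).val, by
    rw [ZMod.natCast_val, ZMod.cast_id, mul_inv_cancel₀]
    exact fun h0 => hpi ((ZMod.natCast_eq_zero_iff i p).1 h0)⟩
  refine hwH ?_
  have h2 := H.pow_mem hxH k
  rw [← pow_mul, pow_eq_pow_mod _ hw, (ZMod.natCast_eq_natCast_iff' (i * k) 1 p).1 (by push_cast; exact hk),
    ← pow_eq_pow_mod _ hw, pow_one] at h2
  exact h2

/-- An element sent onto `z` is not central in `P`, and its centralizer in `P` is elementary abelian. -/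
theorem Setting.moved (hs : Setting p F P z) (hS : IsPGroup p S) (hF : F.IsSaturated p) {y : Ω} (hy : y ∈ P)
    (hy0 : y ∉ Subgroup.zpowers z) {h : Ω → Ω} (hh : IsMor F (Subgroup.zpowers y) h) (hhy : h y = z) :
    y ^ p = 1 ∧ (∃ a ∈ P, a * y ≠ y * a) ∧
      ∀ c ∈ P, c * y = y * c → c ^ p = 1 ∧ ∀ d ∈ P, d * y = y * d → c * d = d * c := by
  have hzS : z ∈ S := hs.closed.1 hs.mem
  have hpow : ∀ m : ℕ, h (y ^ m) = z ^ m := by
    intro m
    induction m with
    | zero => simp [hh.map_one]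
    | succ m ih =>
      rw [pow_succ, hh.map_mul (pow_mem (Subgroup.mem_zpowers y) m) (Subgroup.mem_zpowers y), ih, hhy, pow_succ]
  have hyp : y ^ p = 1 := hh.eq_one (pow_mem (Subgroup.mem_zpowers y) p) (by rw [hpow, hs.pow])
  have hiso : IsIso F (Subgroup.zpowers y) (Subgroup.zpowers z) h := ⟨hh, fun w => ⟨fun hw => by
    obtain ⟨m, rfl⟩ := exists_nat_pow hs.pow hw
    exact ⟨y ^ m, pow_mem (Subgroup.mem_zpowers y) m, hpow m⟩, by
    rintro ⟨x, hx, rfl⟩
    obtain ⟨m, rfl⟩ := exists_nat_pow hyp hx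
    rw [hpow]
    exact pow_mem (Subgroup.mem_zpowers z) m⟩⟩
  have hZn : F.IsFullyNormalized (Subgroup.zpowers z) := ZJFusion.fullyNormalized_of_top
    (Subgroup.zpowers_le.2 hzS) fun s hsS => mem_normalizer_of_conj_mem (Subgroup.zpowers_le.2 hzS)
      fun x hx => by
        obtain ⟨m, rfl⟩ := exists_nat_pow hs.pow hx
        rw [← conj_pow, hs.central s hsS, mul_inv_cancel_right]
        exact pow_mem (Subgroup.mem_zpowers z) m
  obtain ⟨h', hh', he⟩ := exists_extension_centralizer (fullyNormalized_receptive hS hF hZn).2 hiso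
  have hmemC : ∀ c ∈ P, c * y = y * c → c ∈ Subgroup.zpowers y ⊔ centralizerIn S (Subgroup.zpowers y) := fun c hc hcy =>
    Subgroup.mem_sup_right (mem_centralizerIn.2 ⟨hs.closed.1 hc, fun w hw => by
      obtain ⟨m, rfl⟩ := exists_nat_pow hyp hw
      exact ((Commute.pow_right (hcy : Commute c y) m).eq).symm⟩)
  have hinter : ∀ x ∈ Subgroup.zpowers y ⊔ centralizerIn S (Subgroup.zpowers y),
      x ∈ Subgroup.zpowers z → h' x ∈ Subgroup.zpowers z → x = 1 := fun x hx hxz hxz' => by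
    obtain ⟨m, hm⟩ := exists_nat_pow hs.pow hxz'
    have hxy : x = y ^ m := hh'.injOn hx (Subgroup.mem_sup_left (pow_mem (Subgroup.mem_zpowers y) m))
      (by rw [he _ (pow_mem (Subgroup.mem_zpowers y) m), hpow, hm])
    subst hxy
    exact eq_one_of_pow_mem hyp hy0 (pow_mem (Subgroup.mem_zpowers y) m) hxz
  have hC : ∀ c ∈ P, c * y = y * c → c ^ p = 1 ∧ ∀ d ∈ P, d * y = y * d → c * d = d * c := by
    intro c hc hcy
    have hcD := hmemC c hc hcy
    have hc' : h' c ∈ P := stronglyClosed_apply hs.closed hh' hcD hc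
    refine ⟨hinter _ (pow_mem hcD p) (hs.powers c hc) ?_, fun d hd hdy => ?_⟩
    · have : ∀ m : ℕ, h' (c ^ m) = h' c ^ m := by
        intro m
        induction m with
        | zero => simp [hh'.map_one]
        | succ m ih => rw [pow_succ, hh'.map_mul (pow_mem hcD m) hcD, ih, pow_succ]
      rw [this]
      exact hs.powers _ hc'
    · have hdD := hmemC d hd hdy
      have hd' : h' d ∈ P := stronglyClosed_apply hs.closed hh' hdD hd
      have h1 := hinter _ (mul_mem (mul_mem (mul_mem hcD hdD) (inv_mem hcD)) (inv_mem hdD)) (hs.comm_mem hc hd) (by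
        rw [hh'.map_mul (mul_mem (mul_mem hcD hdD) (inv_mem hcD)) (inv_mem hdD),
          hh'.map_mul (mul_mem hcD hdD) (inv_mem hcD), hh'.map_mul hcD hdD, hh'.map_inv hcD, hh'.map_inv hdD]
        exact hs.comm_mem hc' hd')
      exact mul_inv_eq_iff_eq_mul.1 (mul_inv_eq_one.1 h1)
  refine ⟨hyp, by_contra fun hne => ?_, hC⟩
  push_neg at hne
  have hbot : ⁅P, P⁆ = ⊥ := le_bot_iff.1 (Subgroup.commutator_le.2 fun c hc d hd => by
    rw [Subgroup.mem_bot, commutatorElement_eq_one_iff_mul_comm]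
    exact (hC c hc (hne c hc)).2 d hd (hne d hd))
  rw [hs.comm, Subgroup.zpowers_eq_bot] at hbot
  exact hs.ne_one hbot

/-- The decomposition along an element moving `y`. -/
theorem Setting.exists_pow_mul (hs : Setting p F P z) {a y : Ω} (ha : a ∈ P) (hy : y ∈ P) (hay : a * y ≠ y * a)
    {x : Ω} (hx : x ∈ P) : ∃ k : ℕ, ∃ c ∈ P, c * y = y * c ∧ x = a ^ k * c := by
  have hzy : Commute z y := (hs.central y (hs.closed.1 hy)).symm
  obtain ⟨i, hi⟩ := exists_nat_pow hs.pow (hs.comm_mem ha hy)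
  obtain ⟨m, hm⟩ := exists_nat_pow hs.pow (hs.comm_mem hx hy)
  have hpi : ¬ p ∣ i := fun ⟨c, hc⟩ => hay (by
    rw [hc, pow_mul, hs.pow, one_pow] at hi
    exact mul_inv_eq_iff_eq_mul.1 (mul_inv_eq_one.1 hi.symm))
  have hconj : a * y * a⁻¹ = y * z ^ i := by rw [← (hzy.pow_left i).eq, hi]; group
  have hconjx : x * y * x⁻¹ = y * z ^ m := by rw [← (hzy.pow_left m).eq, hm]; group
  refine ⟨(((m : ZMod p)) * (i : ZMod p)⁻¹).val, _, mul_mem (inv_mem (pow_mem ha _)) hx, ?_, (mul_inv_cancel_left _ _).symm⟩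
  set k := (((m : ZMod p)) * (i : ZMod p)⁻¹).val
  have h1 : a ^ k * y * (a ^ k)⁻¹ = x * y * x⁻¹ := by
    rw [hconjx, NoFlip.conj_pow_of_conj hconj (by rw [← conj_pow, hs.central a (hs.closed.1 ha), mul_inv_cancel_right]),
      ← pow_mul, pow_eq_pow_mod _ hs.pow, pow_eq_pow_mod m hs.pow,
      (ZMod.natCast_eq_natCast_iff' (i * k) m p).1]
    push_cast
    rw [ZMod.natCast_val, ZMod.cast_id, mul_comm, inv_mul_cancel_right₀]
    exact fun h0 => hpi ((ZMod.natCast_eq_zero_iff i p).1 h0)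
  calc (a ^ k)⁻¹ * x * y = (a ^ k)⁻¹ * (x * y * x⁻¹) * x := by group
    _ = y * ((a ^ k)⁻¹ * x) := by rw [← h1]; group

theorem sup_mem_mul {U V : Subgroup Ω} (hn : V ≤ Subgroup.normalizer (U : Set Ω)) {x : Ω} (hx : x ∈ U ⊔ V) :
    ∃ u ∈ U, ∃ w ∈ V, u * w = x := by
  replace hx : x ∈ ((U ⊔ V : Subgroup Ω) : Set Ω) := hx
  rw [Subgroup.coe_mul_of_right_le_normalizer_left _ _ hn] at hx
  exact Set.mem_mul.1 hx

/-- The small list: `P` is a direct product of a nonabelian group of order `p³` and an elementary abelian group. -/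
theorem Setting.split (hs : Setting p F P z) {a y : Ω} (ha : a ∈ P) (hy : y ∈ P) (hy0 : y ∉ Subgroup.zpowers z)
    (hay : a * y ≠ y * a) (hyp : y ^ p = 1) (hap : a ^ p = 1)
    (hC : ∀ c ∈ P, c * y = y * c → c ^ p = 1 ∧ ∀ d ∈ P, d * y = y * d → c * d = d * c) :
    ∃ E A : Subgroup Ω, E = Subgroup.closure {a, y} ∧ E ≤ P ∧ A ≤ P ∧ (∀ α ∈ A, ∀ x ∈ P, α * x = x * α) ∧
      (∀ α ∈ A, α ^ p = 1) ∧ Nat.card E = p ^ 3 ∧ (∀ x ∈ E, (∀ w ∈ E, x * w = w * x) → x ∈ Subgroup.zpowers z) ∧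
      z ∈ E ∧ Nonempty (↥E × ↥A ≃* ↥P) := by
  have hzP := hs.mem
  have hPS := hs.closed.1
  have hzc : ∀ x ∈ P, z * x = x * z := fun x hx => (hs.central x (hPS hx)).symm
  have hzy : Commute z y := hzc y hy
  set Zc := P ⊓ Subgroup.centralizer (P : Set Ω) with hZc
  have hzZ : z ∈ Zc := ⟨hzP, Subgroup.mem_centralizer_iff.2 fun x hx => (hzc x hx).symm⟩
  have hfin := finite_of_le hPS
  have hZp : ∀ x ∈ Zc, x ^ p = 1 := fun x hx =>
    (hC x hx.1 ((Subgroup.mem_centralizer_iff.1 hx.2 y hy).symm)).1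
  obtain ⟨A, ⟨hAZ, hzA⟩, hAmax⟩ := Set.Finite.exists_maximal
    (s := {A : Subgroup Ω | A ≤ Zc ∧ z ∉ A}) ((setOf_le_finite S).subset fun A hA => (hA.1.trans inf_le_left).trans hPS)
    ⟨⊥, bot_le, fun h => hs.ne_one (Subgroup.mem_bot.1 h)⟩
  have hAc : ∀ α ∈ A, ∀ x ∈ P, α * x = x * α := fun α hα x hx =>
    (Subgroup.mem_centralizer_iff.1 (hAZ hα).2 x hx).symm
  have hZA : ∀ x ∈ Zc, ∃ m : ℤ, ∃ α ∈ A, x = z ^ m * α := by
    intro x hx
    by_cases hxA : x ∈ A
    · exact ⟨0, x, hxA, by simp⟩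
    have hlt : ¬ (A ⊔ Subgroup.zpowers x ≤ Zc ∧ z ∉ A ⊔ Subgroup.zpowers x) := fun h =>
      hxA (hAmax h le_sup_left (Subgroup.mem_sup_right (Subgroup.mem_zpowers x)))
    have hz' : z ∈ A ⊔ Subgroup.zpowers x := by
      by_contra h
      exact hlt ⟨sup_le hAZ (Subgroup.zpowers_le.2 hx), h⟩
    obtain ⟨α, hα, w, hw, he⟩ := sup_mem_mul (Subgroup.zpowers_le.2 (Subgroup.mem_normalizer_iff.2 fun u =>
      ⟨fun hu => by rwa [← hAc u hu x hx.1, mul_inv_cancel_right], fun hu => by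
        have h1 := hAc _ hu x hx.1
        rw [inv_mul_cancel_right] at h1
        rw [mul_left_cancel h1]; exact hu⟩)) hz'
    obtain ⟨k, rfl⟩ := exists_nat_pow (hZp x hx) hw
    have hpk : ¬ p ∣ k := fun ⟨c, hc⟩ => hzA (by
      rw [← he, hc, pow_mul, hZp x hx, one_pow, mul_one]; exact hα)
    refine ⟨(((k : ZMod p)⁻¹).val : ℕ), α⁻¹ ^ ((k : ZMod p)⁻¹).val, pow_mem (inv_mem hα) _, ?_⟩
    have hxk : x ^ k = α⁻¹ * z := by rw [← he, inv_mul_cancel_left]
    have hcm : Commute α⁻¹ z := (hAc _ (inv_mem hα) z hzP)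
    rw [zpow_natCast, ← (hcm.pow_pow _ _).eq, ← hcm.mul_pow, ← hxk, ← pow_mul]
    conv_lhs => rw [← pow_one x]
    rw [pow_eq_pow_mod 1 (hZp x hx), pow_eq_pow_mod (k * _) (hZp x hx),
      (ZMod.natCast_eq_natCast_iff' 1 (k * ((k : ZMod p)⁻¹).val) p).1]
    push_cast
    rw [ZMod.natCast_val, ZMod.cast_id, mul_inv_cancel₀]
    exact fun h0 => hpk ((ZMod.natCast_eq_zero_iff k p).1 h0)
  obtain ⟨i, hi⟩ := exists_nat_pow hs.pow (hs.comm_mem ha hy)
  have hpi : ¬ p ∣ i := fun ⟨c, hc⟩ => hay (by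
    rw [hc, pow_mul, hs.pow, one_pow] at hi
    exact mul_inv_eq_iff_eq_mul.1 (mul_inv_eq_one.1 hi.symm))
  have hconj : a * y * a⁻¹ = y * z ^ i := by rw [← (hzy.pow_left i).eq, hi]; group
  have hinv : (i : ZMod p) ≠ 0 := fun h0 => hpi ((ZMod.natCast_eq_zero_iff i p).1 h0)
  -- every element of `P` in coordinates
  have hdec : ∀ x ∈ P, ∃ k j : ℕ, ∃ m : ℤ, ∃ α ∈ A, x = a ^ k * (y ^ j * z ^ m * α) := by
    intro x hx
    obtain ⟨k, c, hc, hcy, rfl⟩ := hs.exists_pow_mul ha hy hay hx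
    obtain ⟨l, hl⟩ := exists_nat_pow hs.pow (hs.comm_mem ha hc)
    have hzc' : Commute z c := hzc c hc
    have hconjc : a * c * a⁻¹ = c * z ^ l := by rw [← (hzc'.pow_left l).eq, hl]; group
    set j := ((l : ZMod p) * (i : ZMod p)⁻¹).val
    set c' := (y ^ j)⁻¹ * c with hc'def
    have hc'P : c' ∈ P := mul_mem (inv_mem (pow_mem hy j)) hc
    have hc'y : c' * y = y * c' := ((Commute.pow_left (Commute.refl y) j).inv_left.mul_left hcy).eq
    have hc'a : a * c' = c' * a := by
      have e1 : a * y ^ j * a⁻¹ = y ^ j * z ^ l := by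
        rw [← conj_pow, hconj, ((hzy.pow_left i).symm).mul_pow, ← pow_mul]
        congr 1
        rw [pow_eq_pow_mod _ hs.pow, pow_eq_pow_mod l hs.pow, (ZMod.natCast_eq_natCast_iff' (i * j) l p).1]
        push_cast
        rw [ZMod.natCast_val, ZMod.cast_id, mul_comm, inv_mul_cancel_right₀ hinv]
      refine mul_inv_eq_iff_eq_mul.1 ?_
      calc a * c' * a⁻¹ = (a * y ^ j * a⁻¹)⁻¹ * (a * c * a⁻¹) := by rw [hc'def]; group
        _ = c' := by rw [e1, hconjc, hc'def, ← (hzc'.pow_left l).eq, ← (hzy.pow_pow l j).eq]; group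
    have hc'Z : c' ∈ Zc := by
      refine ⟨hc'P, Subgroup.mem_centralizer_iff.2 fun w hw => ?_⟩
      obtain ⟨k', d, hd, hdy, rfl⟩ := hs.exists_pow_mul ha hy hay hw
      exact (((Commute.pow_left (hc'a : Commute a c') k')).mul_left ((hC d hd hdy).2 c' hc'P hc'y)).eq
    obtain ⟨m, α, hα, he⟩ := hZA c' hc'Z
    exact ⟨k, j, m, α, hα, by rw [mul_assoc (y ^ j), ← he, hc'def, mul_inv_cancel_left]⟩
  -- uniqueness of coordinates
  have huniq : ∀ (k j : ℤ) (m : ℤ) (α : Ω), α ∈ A → a ^ k * (y ^ j * z ^ m * α) = 1 →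
      a ^ k = 1 ∧ y ^ j = 1 ∧ z ^ m = 1 ∧ α = 1 := by
    intro k j m α hα h
    have hmy : ∀ w ∈ Subgroup.zpowers y, w * y = y * w := fun w hw => by
      obtain ⟨n, rfl⟩ := Subgroup.mem_zpowers_iff.1 hw
      exact (Commute.zpow_left (Commute.refl y) n).eq
    have hc : y ^ j * z ^ m * α ∈ P := mul_mem (mul_mem (zpow_mem hy j) (zpow_mem hzP m)) (hAZ hα).1
    have hcy : (y ^ j * z ^ m * α) * y = y * (y ^ j * z ^ m * α) :=
      (((Commute.zpow_left (Commute.refl y) j).mul_left (hzy.zpow_left m)).mul_left (hAc α hα y hy)).eq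
    have hak : a ^ k = (y ^ j * z ^ m * α)⁻¹ := eq_inv_of_mul_eq_one_left h
    have hk1 : a ^ k = 1 := by
      have hky : Commute (a ^ k) y := by rw [hak]; exact Commute.inv_left hcy
      exact eq_one_of_pow_mem hap (H := Subgroup.centralizer ({y} : Set Ω))
        (fun h' => hay (Subgroup.mem_centralizer_singleton_iff.1 h')) (zpow_mem (Subgroup.mem_zpowers a) k)
        (Subgroup.mem_centralizer_singleton_iff.2 hky.eq)
    rw [hk1, one_mul] at h
    have hj1 : y ^ j = 1 := by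
      have hja : Commute (y ^ j) a := by
        have : y ^ j = (z ^ m * α)⁻¹ := eq_inv_of_mul_eq_one_left (by rwa [← mul_assoc])
        rw [this]
        exact Commute.inv_left ((Commute.zpow_left (hzc a ha) m).mul_left (hAc α hα a ha))
      exact eq_one_of_pow_mem hyp (H := Subgroup.centralizer ({a} : Set Ω))
        (fun h' => hay (Subgroup.mem_centralizer_singleton_iff.1 h').symm) (zpow_mem (Subgroup.mem_zpowers y) j)
        (Subgroup.mem_centralizer_singleton_iff.2 hja.eq)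
    rw [hj1, one_mul] at h
    have hm1 : z ^ m = 1 := eq_one_of_pow_mem hs.pow hzA (zpow_mem (Subgroup.mem_zpowers z) m)
      (by rw [eq_inv_of_mul_eq_one_left h]; exact inv_mem hα)
    rw [hm1, one_mul] at h
    exact ⟨hk1, hj1, hm1, h⟩
  set E := Subgroup.closure ({a, y} : Set Ω) with hE
  have haE : a ∈ E := Subgroup.subset_closure (Or.inl rfl)
  have hyE : y ∈ E := Subgroup.subset_closure (Or.inr rfl)
  have hEP : E ≤ P := (Subgroup.closure_le _).2 (by rintro _ (rfl | rfl); exacts [ha, hy])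
  have hzE : z ∈ E := by
    have h1 : z ^ i ∈ E := by
      rw [hi]; exact mul_mem (mul_mem (mul_mem haE hyE) (inv_mem haE)) (inv_mem hyE)
    by_contra hzE
    exact hay (mul_inv_eq_iff_eq_mul.1 (mul_inv_eq_one.1
      (hi ▸ eq_one_of_pow_mem hs.pow hzE (pow_mem (Subgroup.mem_zpowers z) i) h1)))
  have hgen : ∀ (k j : ℕ) (m : ℤ), a ^ k * (y ^ j * z ^ m) ∈ E := fun k j m =>
    mul_mem (pow_mem haE k) (mul_mem (pow_mem hyE j) (zpow_mem hzE m))
  have hEA : ∀ x ∈ E, x ∈ A → x = 1 := by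
    have hzS' : (Subgroup.zpowers y ⊔ Subgroup.zpowers z : Subgroup Ω) ≤ P :=
      sup_le (Subgroup.zpowers_le.2 hy) (Subgroup.zpowers_le.2 hzP)
    have hzn : Subgroup.zpowers z ≤ Subgroup.normalizer (Subgroup.zpowers y : Set Ω) := by
      refine le_trans (Subgroup.zpowers_le.2 ?_) (centralizer_le_normalizer_set _)
      refine Subgroup.mem_centralizer_iff.2 fun w hw => ?_
      obtain ⟨n, rfl⟩ := Subgroup.mem_zpowers_iff.1 hw
      exact (Commute.zpow_left hzy.symm n).eq
    have han : Subgroup.zpowers a ≤ Subgroup.normalizer ((Subgroup.zpowers y ⊔ Subgroup.zpowers z : Subgroup Ω) : Set Ω) := by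
      refine Subgroup.zpowers_le.2 (mem_normalizer_of_conj_mem (S := S) (hzS'.trans hPS) fun w hw => ?_)
      rw [show a * w * a⁻¹ = (a * w * a⁻¹ * w⁻¹) * w by group]
      exact mul_mem (Subgroup.mem_sup_right (hs.comm_mem ha (hzS' hw))) hw
    intro x hx hxA
    have hle : E ≤ (Subgroup.zpowers y ⊔ Subgroup.zpowers z) ⊔ Subgroup.zpowers a := (Subgroup.closure_le _).2 (by
      rintro _ (rfl | rfl)
      exacts [Subgroup.mem_sup_right (Subgroup.mem_zpowers _),
        Subgroup.mem_sup_left (Subgroup.mem_sup_left (Subgroup.mem_zpowers _))])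
    obtain ⟨u, hu, w, hw, rfl⟩ := sup_mem_mul han (hle hx)
    obtain ⟨u₁, hu₁, u₂, hu₂, rfl⟩ := sup_mem_mul hzn hu
    obtain ⟨j, rfl⟩ := Subgroup.mem_zpowers_iff.1 hu₁
    obtain ⟨m, rfl⟩ := Subgroup.mem_zpowers_iff.1 hu₂
    obtain ⟨k, rfl⟩ := Subgroup.mem_zpowers_iff.1 hw
    have h1 : a ^ (-k) * (y ^ (-j) * z ^ (-m) * (y ^ j * z ^ m * a ^ k)) = 1 := by
      rw [show y ^ j * z ^ m = z ^ m * y ^ j from ((hzy.zpow_zpow m j).eq).symm]; group
    exact (huniq (-k) (-j) (-m) _ hxA h1).2.2.2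
  let φ : ↥E × ↥A →* ↥P := MonoidHom.mk'
    (fun q => ⟨(q.1 : Ω) * q.2, mul_mem (hEP q.1.2) (hAZ q.2.2).1⟩) fun q r => Subtype.ext (by
      show ((q.1 * r.1 : E) : Ω) * ((q.2 * r.2 : A) : Ω) = (q.1 : Ω) * q.2 * ((r.1 : Ω) * r.2)
      simp only [Subgroup.coe_mul]
      rw [mul_assoc (q.1 : Ω), ← mul_assoc (r.1 : Ω) (q.2 : Ω), ← hAc _ q.2.2 _ (hEP r.1.2)]
      group)
  have hφ : Function.Bijective φ := by
    refine ⟨(injective_iff_map_eq_one φ).2 fun q hq => ?_, fun x => ?_⟩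
    · have h : (q.1 : Ω) * q.2 = 1 := congrArg Subtype.val hq
      have h1 := hEA _ q.1.2 (by rw [eq_inv_of_mul_eq_one_left h]; exact inv_mem q.2.2)
      rw [h1, one_mul] at h
      exact Prod.ext (Subtype.ext h1) (Subtype.ext h)
    · obtain ⟨k, j, m, α, hα, he⟩ := hdec x x.2
      exact ⟨(⟨_, hgen k j m⟩, ⟨α, hα⟩), Subtype.ext (by
        show a ^ k * (y ^ j * z ^ m) * α = x
        rw [he, mul_assoc])⟩
  refine ⟨E, A, rfl, hEP, fun α hα => (hAZ hα).1, hAc, fun α hα => hZp α (hAZ hα), ?_, fun x hx hxc => ?_, hzE,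
    ⟨MulEquiv.ofBijective φ hφ⟩⟩
  · -- the order
    have := finite_of_le (hEP.trans hPS)
    have hord : ∀ {w : Ω}, w ^ p = 1 → w ≠ 1 → orderOf w = p := fun h h1 => orderOf_eq_prime h h1
    let ψ : Fin p × Fin p × Fin p → E := fun t => ⟨_, hgen t.1 t.2.1 (t.2.2 : ℕ)⟩
    have hψ : Function.Bijective ψ := by
      refine ⟨fun t t' htt => ?_, fun w => ?_⟩
      · have h : a ^ (t.1 : ℕ) * (y ^ (t.2.1 : ℕ) * z ^ ((t.2.2 : ℕ) : ℤ)) =
            a ^ (t'.1 : ℕ) * (y ^ (t'.2.1 : ℕ) * z ^ ((t'.2.2 : ℕ) : ℤ)) := congrArg Subtype.val htt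
        have hdy : ∀ (k : ℕ) (j : ℕ) (m : ℤ), (a ^ k * (y ^ j * z ^ m)) * y * (a ^ k * (y ^ j * z ^ m))⁻¹ =
            y * z ^ (i * k) := fun k j m => by
          have : Commute (y ^ j * z ^ m) y := (Commute.pow_left (Commute.refl y) j).mul_left (hzy.zpow_left m)
          rw [pow_mul, ← NoFlip.conj_pow_of_conj hconj
            (by rw [← conj_pow, hs.central a (hPS ha), mul_inv_cancel_right]) k]
          calc (a ^ k * (y ^ j * z ^ m)) * y * (a ^ k * (y ^ j * z ^ m))⁻¹
              = a ^ k * ((y ^ j * z ^ m) * y * (y ^ j * z ^ m)⁻¹) * (a ^ k)⁻¹ := by group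
            _ = _ := by rw [this.eq, mul_inv_cancel_right]
        have h1 := hdy t.1 t.2.1 (t.2.2 : ℕ)
        rw [h, hdy, mul_right_inj, pow_eq_pow_iff_modEq, hord hs.pow hs.ne_one] at h1
        have e1 : t.1 = t'.1 := by
          refine Fin.ext (Nat.ModEq.eq_of_lt_of_lt (Nat.ModEq.cancel_left_of_coprime ?_ h1.symm) t.1.2 t'.1.2)
          exact (hp.out.coprime_iff_not_dvd.2 hpi)
        rw [e1, mul_right_inj, zpow_natCast, zpow_natCast] at h
        have h2 : y ^ ((t.2.1 : ℕ) : ℤ) * (y ^ ((t'.2.1 : ℕ) : ℤ))⁻¹ =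
            z ^ ((t'.2.2 : ℕ) : ℤ) * (z ^ ((t.2.2 : ℕ) : ℤ))⁻¹ := by
          rw [zpow_natCast, zpow_natCast, zpow_natCast, zpow_natCast, eq_mul_inv_iff_mul_eq, mul_assoc,
            ← ((hzy.pow_pow (t.2.2 : ℕ) (t'.2.1 : ℕ)).inv_right).eq, ← mul_assoc, h,
            mul_assoc, ((hzy.pow_pow (t'.2.2 : ℕ) (t'.2.1 : ℕ)).inv_right).eq, ← mul_assoc, mul_inv_cancel, one_mul]
        have h3 := eq_one_of_pow_mem hyp hy0 (mul_mem (zpow_mem (Subgroup.mem_zpowers y) _)
          (inv_mem (zpow_mem (Subgroup.mem_zpowers y) _))) (h2 ▸ mul_mem (zpow_mem (Subgroup.mem_zpowers z) _)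
          (inv_mem (zpow_mem (Subgroup.mem_zpowers z) _)))
        have h4 := h2.symm.trans h3
        rw [mul_inv_eq_one, zpow_natCast, zpow_natCast, pow_eq_pow_iff_modEq, hord hs.pow hs.ne_one] at h4
        rw [mul_inv_eq_one, zpow_natCast, zpow_natCast, pow_eq_pow_iff_modEq,
          hord hyp (fun h => hy0 (h ▸ one_mem _))] at h3
        exact Prod.ext e1 (Prod.ext (Fin.ext (h3.eq_of_lt_of_lt t.2.1.2 t'.2.1.2))
          (Fin.ext (h4.symm.eq_of_lt_of_lt t.2.2.2 t'.2.2.2)))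
      · obtain ⟨k, j, m, α, hα, he⟩ := hdec w (hEP w.2)
        have hα1 : α = 1 := hEA α (by
          rw [show α = (a ^ k * (y ^ j * z ^ m))⁻¹ * w by rw [he]; group]
          exact mul_mem (inv_mem (hgen k j m)) w.2) hα
        obtain ⟨m', hm'⟩ := exists_nat_pow hs.pow (zpow_mem (Subgroup.mem_zpowers z) m)
        refine ⟨(⟨k % p, Nat.mod_lt _ hp.out.pos⟩, ⟨j % p, Nat.mod_lt _ hp.out.pos⟩,
          ⟨m' % p, Nat.mod_lt _ hp.out.pos⟩), Subtype.ext ?_⟩
        show a ^ (k % p) * (y ^ (j % p) * z ^ ((m' % p : ℕ) : ℤ)) = w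
        rw [zpow_natCast, ← pow_eq_pow_mod _ hap, ← pow_eq_pow_mod _ hyp, ← pow_eq_pow_mod _ hs.pow, hm', he, hα1,
          mul_one]
    rw [← Nat.card_eq_of_bijective ψ hψ, Nat.card_prod, Nat.card_prod, Nat.card_fin]
    ring
  · obtain ⟨k, j, m, α, hα, he⟩ := hdec x (hEP hx)
    have hα1 : α = 1 := hEA α (by
      rw [show α = (a ^ k * (y ^ j * z ^ m))⁻¹ * x by rw [he]; group]
      exact mul_mem (inv_mem (hgen k j m)) hx) hα
    subst hα1
    rw [mul_one] at he
    have hk : a ^ k = 1 := eq_one_of_pow_mem hap (H := Subgroup.centralizer ({y} : Set Ω))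
      (fun h' => hay (Subgroup.mem_centralizer_singleton_iff.1 h')) (pow_mem (Subgroup.mem_zpowers a) k)
      (Subgroup.mem_centralizer_singleton_iff.2 (by
        rw [show a ^ k = x * (y ^ j * z ^ m)⁻¹ by rw [he]; group]
        exact ((show Commute x y from hxc y hyE).mul_left
          ((Commute.pow_left (Commute.refl y) j).mul_left (hzy.zpow_left m)).inv_left).eq))
    rw [hk, one_mul] at he
    have hj : y ^ j = 1 := eq_one_of_pow_mem hyp (H := Subgroup.centralizer ({a} : Set Ω))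
      (fun h' => hay (Subgroup.mem_centralizer_singleton_iff.1 h').symm) (pow_mem (Subgroup.mem_zpowers y) j)
      (Subgroup.mem_centralizer_singleton_iff.2 (by
        rw [show y ^ j = x * (z ^ m)⁻¹ by rw [he]; group]
        exact ((show Commute x a from hxc a haE).mul_left ((Commute.zpow_left (hzc a ha) m).inv_left)).eq))
    rw [he, hj, one_mul]
    exact zpow_mem (Subgroup.mem_zpowers z) m

theorem exists_dihedral {G : Type v} [Group G] [Finite G] {a b : G} (ha : a * a = 1) (hb : b * b = 1)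
    (hab : a * b ≠ b * a) (hz : (a * b) ^ 4 = 1) (hgen : Subgroup.closure {a, b} = ⊤) (hc : Nat.card G = 8) :
    Nonempty (G ≃* DihedralGroup 4) := by
  set R := a * b
  have ha' : a⁻¹ = a := inv_eq_of_mul_eq_one_right ha
  have hb' : b⁻¹ = b := inv_eq_of_mul_eq_one_right hb
  have haR : a * R * a⁻¹ = R⁻¹ := by
    show a * (a * b) * a⁻¹ = (a * b)⁻¹
    rw [mul_inv_rev, ha', hb', ← mul_assoc a a b, ha, one_mul]
  have hpow : ∀ i j : ZMod 4, R ^ (i + j).val = R ^ i.val * R ^ j.val := fun i j => by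
    rw [← pow_add, ZMod.val_add, ← pow_eq_pow_mod _ hz]
  have hneg : ∀ i : ZMod 4, R ^ (-i).val = (R ^ i.val)⁻¹ := fun i => eq_inv_of_mul_eq_one_left (by
    rw [← hpow, neg_add_cancel]; simp)
  have hswap : ∀ i : ZMod 4, R ^ i.val * a = a * R ^ (-i).val := fun i => by
    rw [hneg, ← inv_pow, ← haR, conj_pow, ha', ← mul_assoc a, ← mul_assoc a, ha, one_mul]
  let f : DihedralGroup 4 →* G := MonoidHom.mk'
    (fun | .r i => R ^ i.val | .sr i => a * R ^ i.val) fun s t => by
      rcases s with i | i <;> rcases t with j | j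
      · exact hpow i j
      · show a * R ^ (j - i).val = R ^ i.val * (a * R ^ j.val)
        rw [← mul_assoc, hswap, mul_assoc, ← hpow, neg_add_eq_sub]
      · show a * R ^ (i + j).val = a * R ^ i.val * R ^ j.val
        rw [hpow, mul_assoc]
      · show R ^ (j - i).val = a * R ^ i.val * (a * R ^ j.val)
        rw [← mul_assoc, mul_assoc a (R ^ i.val) a, hswap, ← mul_assoc a a, ha, one_mul, ← hpow, neg_add_eq_sub]
  have hsurj : Function.Surjective f := by
    rw [← MonoidHom.range_eq_top, eq_top_iff, ← hgen, Subgroup.closure_le]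
    rintro x (hx | hx)
    · rw [show x = a from hx]; exact ⟨.sr 0, by show a * R ^ (0 : ZMod 4).val = a; simp⟩
    · rw [show x = b from hx]; exact ⟨.sr 1, by show a * R ^ (1 : ZMod 4).val = b; rw [show (1 : ZMod 4).val = 1 from rfl, pow_one, ← mul_assoc, ha, one_mul]⟩
  exact ⟨(MulEquiv.ofBijective f ((Nat.bijective_iff_surjective_and_card f).2
    ⟨hsurj, by rw [DihedralGroup.nat_card, hc]⟩)).symm⟩

/-- The theorem. -/
theorem isNormal_of_generalized_extraspecial (hS : IsPGroup p S) (hF : F.IsSaturated p) (hP : F.StronglyClosed P)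
    (hge : frattini ↥P = _root_.commutator ↥P ∧ Nat.card ↥(_root_.commutator ↥P) = p)
    (h2 : p = 2 → ¬ ∃ (A : Type) (_ : CommGroup A), (∀ a : A, a ^ 2 = 1) ∧ Nonempty (↥P ≃* DihedralGroup 4 × A))
    (hodd : p ≠ 2 → ¬ ∃ (E : Type) (_ : Group E) (A : Type) (_ : CommGroup A), Cfsg.IsExtraspecial p E ∧
      Nat.card E = p ^ 3 ∧ Monoid.exponent E = p ∧ (∀ a : A, a ^ p = 1) ∧ Nonempty (↥P ≃* E × A)) :
    F.IsNormal P := by
  have hPS := hP.1
  have hPfin := finite_of_le hPS
  have hPp : IsPGroup p P := hS.to_le hPS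
  have hcm : (_root_.commutator ↥P).map P.subtype = ⁅P, P⁆ := by
    rw [commutator_def, Subgroup.map_commutator, ← MonoidHom.range_eq_map, Subgroup.range_subtype]
  have hZcard : Nat.card (⁅P, P⁆ : Subgroup Ω) = p := by
    rw [← hcm, Subgroup.card_map_of_injective P.subtype_injective, hge.2]
  set Z0 := (⁅P, P⁆ : Subgroup Ω)
  have hZP : Z0 ≤ P := hcm ▸ Subgroup.map_subtype_le _
  obtain ⟨⟨z, hz⟩, hz1⟩ : ∃ w : Z0, w ≠ 1 := by
    have := finite_of_le (hZP.trans hPS)
    have : Nontrivial Z0 := Finite.one_lt_card_iff_nontrivial.1 (by rw [hZcard]; exact hp.out.one_lt)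
    exact exists_ne 1
  have hz1' : z ≠ 1 := fun h => hz1 (Subtype.ext h)
  have hzp : z ^ p = 1 := congrArg Subtype.val (pow_card_eq_one' (x := (⟨z, hz⟩ : Z0)) |> fun h => hZcard ▸ h)
  have hzord : orderOf z = p := orderOf_eq_prime hzp hz1'
  have hZeq : Z0 = Subgroup.zpowers z := by
    have := finite_of_le (hZP.trans hPS)
    exact (Subgroup.eq_of_le_of_card_ge (Subgroup.zpowers_le.2 hz) (by rw [hZcard, Nat.card_zpowers, hzord])).symm
  have hcentral : ∀ s ∈ S, s * z = z * s := by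
    intro s hsS
    have hmem : s * z * s⁻¹ ∈ Z0 := by
      have hle : Z0.map (MulAut.conj s).toMonoidHom ≤ Z0 := by
        rw [Subgroup.map_commutator]
        refine Subgroup.commutator_mono ?_ ?_ <;>
        · rintro _ ⟨x, hx, rfl⟩
          exact conj_mem_of_mem_normalizer (le_normalizer_of_stronglyClosed hP hsS) hx
      exact hle ⟨z, hz, rfl⟩
    obtain ⟨k, hk⟩ := exists_nat_pow hzp (hZeq ▸ hmem)
    have hpow : ∀ n : ℕ, s ^ n * z * (s ^ n)⁻¹ = z ^ (k ^ n) := by
      intro n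
      induction n with
      | zero => simp
      | succ n ih =>
        calc s ^ (n + 1) * z * (s ^ (n + 1))⁻¹ = s * (s ^ n * z * (s ^ n)⁻¹) * s⁻¹ := by rw [pow_succ']; group
          _ = z ^ (k ^ (n + 1)) := by rw [ih, ← conj_pow, ← hk, ← pow_mul, ← pow_succ']
    obtain ⟨e, he⟩ := hS ⟨s, hsS⟩
    have he' : s ^ p ^ e = 1 := congrArg Subtype.val he
    have h1 := hpow (p ^ e)
    rw [he', one_mul, inv_one, mul_one] at h1
    conv_lhs at h1 => rw [← pow_one z]
    rw [pow_eq_pow_iff_modEq, hzord, ← ZMod.natCast_eq_natCast_iff, Nat.cast_pow, ZMod.pow_card_pow] at h1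
    have h2 : z ^ k = z ^ 1 := by
      rw [pow_eq_pow_iff_modEq, hzord, ← ZMod.natCast_eq_natCast_iff]; exact h1.symm
    rw [pow_one, hk] at h2
    exact mul_inv_eq_iff_eq_mul.1 h2
  have hpows : ∀ x ∈ P, x ^ p ∈ Subgroup.zpowers z := fun x hx => by
    have h1 : (⟨x, hx⟩ : P) ^ p ∈ _root_.commutator P := hge.1 ▸ Struct.CoprimeMinimal.pow_mem_frattini hPp _
    have h2 : x ^ p ∈ (_root_.commutator ↥P).map P.subtype := ⟨_, h1, rfl⟩
    rwa [hcm, hZeq] at h2
  have hs : Setting p F P z := ⟨hP, hZP hz, hZeq, hz1', hzp, hpows, hcentral⟩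
  have hwk : ∀ f, IsMor F Z0 f → f z ∈ Z0 := by
    intro f hf
    by_contra hfz
    rw [hZeq] at hfz hf
    have hyP : f z ∈ P := stronglyClosed_apply hP hf (Subgroup.mem_zpowers z) (hZP hz)
    obtain ⟨g, hg, hgl, -⟩ := hf.isIso.exists_symm
    have hyI : f z ∈ hf.image (Subgroup.zpowers z) le_rfl := ⟨z, Subgroup.mem_zpowers z, rfl⟩
    have hgy : IsMor F (Subgroup.zpowers (f z)) g := hg.1.restrict (Subgroup.zpowers_le.2 hyI)
    obtain ⟨hyp, ⟨a₀, ha₀, ha₀y⟩, hC⟩ := hs.moved hS hF hyP hfz hgy (hgl z (Subgroup.mem_zpowers z))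
    by_cases hex : ∃ a ∈ P, a * f z ≠ f z * a ∧ a ^ p = 1
    · obtain ⟨a, ha, hay, hap⟩ := hex
      obtain ⟨E, A, hEdef, hEP, hAP, hAc, hAp, hEc, hEcen, hzE, ⟨e⟩⟩ := hs.split ha hyP hfz hay hyp hap hC
      have := finite_of_le (hEP.trans hPS)
      have := finite_of_le (hAP.trans hPS)
      obtain ⟨A', _, ⟨eA⟩⟩ := exists_small A
      let instA : CommGroup A' := { ‹Group A'› with
        mul_comm := fun u w => by
          obtain ⟨u, rfl⟩ := eA.surjective u
          obtain ⟨w, rfl⟩ := eA.surjective w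
          rw [← map_mul, ← map_mul]
          exact congrArg eA (Subtype.ext (hAc u u.2 w (hAP w.2))) }
      have hA' : ∀ u : A', u ^ p = 1 := fun u => by
        obtain ⟨u, rfl⟩ := eA.surjective u
        rw [← map_pow, show u ^ p = 1 from Subtype.ext (hAp u u.2), map_one]
      rcases eq_or_ne p 2 with hp2 | hp2
      · refine h2 hp2 ⟨A', instA, fun u => hp2 ▸ hA' u, ⟨e.symm.trans (MulEquiv.prodCongr (Classical.choice ?_) eA)⟩⟩
        subst hp2
        have haE : a ∈ E := hEdef ▸ Subgroup.subset_closure (Or.inl rfl)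
        have hyE : f z ∈ E := hEdef ▸ Subgroup.subset_closure (Or.inr rfl)
        refine exists_dihedral (a := (⟨a, haE⟩ : E)) (b := ⟨f z, hyE⟩) (Subtype.ext (by simpa [pow_two] using hap))
          (Subtype.ext (by simpa [pow_two] using hyp)) (fun h => hay (congrArg Subtype.val h)) (Subtype.ext ?_) ?_
          (by rw [hEc]; rfl)
        · show (a * f z) ^ 4 = 1
          obtain ⟨m, hm⟩ := exists_nat_pow hzp (hpows _ (mul_mem ha hyP))
          rw [show (4 : ℕ) = 2 * 2 from rfl, pow_mul, ← hm, ← pow_mul, mul_comm, pow_mul, hzp, one_pow]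
        · apply Subgroup.map_injective E.subtype_injective
          rw [MonoidHom.map_closure, ← MonoidHom.range_eq_map, Subgroup.range_subtype, Set.image_pair]
          exact hEdef.symm
      · obtain ⟨E', _, ⟨eE⟩⟩ := exists_small E
        have hexp : ∀ x ∈ P, x ^ p = 1 := by
          intro x hx
          obtain ⟨k, c, hc, hcy, rfl⟩ := hs.exists_pow_mul ha hyP hay hx
          have hcen : ∀ w ∈ P, ∀ t ∈ Subgroup.zpowers z, t * w = w * t := fun w hw t ht => by
            obtain ⟨m, rfl⟩ := exists_nat_pow hzp ht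
            exact (Commute.pow_left (show Commute z w from (hcentral w (hPS hw)).symm) m).eq
          have hak : a ^ k ∈ P := pow_mem ha k
          have ht : c⁻¹ * (a ^ k)⁻¹ * c * a ^ k ∈ Subgroup.zpowers z := by
            simpa using hs.comm_mem (inv_mem hc) (inv_mem hak)
          rw [Local.mul_pow_of_commutator (c := c⁻¹ * (a ^ k)⁻¹ * c * a ^ k) (by group) (hcen _ hak _ ht)
            (hcen _ hc _ ht), ← pow_mul, mul_comm k, pow_mul, hap, one_pow, (hC c hc hcy).1, one_mul, one_mul]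
          obtain ⟨q, hq⟩ := hp.out.dvd_choose_self (show (2 : ℕ) ≠ 0 by norm_num)
            (lt_of_le_of_ne hp.out.two_le (Ne.symm hp2))
          obtain ⟨m, hm⟩ := exists_nat_pow hzp ht
          rw [← hm, ← pow_mul, hq, ← mul_assoc, mul_comm m p, mul_assoc, pow_mul, hzp, one_pow]
        have hE'exp : ∀ u : E', u ^ p = 1 := fun u => by
          obtain ⟨u, rfl⟩ := eE.surjective u
          rw [← map_pow, show u ^ p = 1 from Subtype.ext (hexp u (hEP u.2)), map_one]
        have haE : a ∈ E := hEdef ▸ Subgroup.subset_closure (Or.inl rfl)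
        have hyE : f z ∈ E := hEdef ▸ Subgroup.subset_closure (Or.inr rfl)
        set zE : E' := eE ⟨z, hzE⟩
        have hzE1 : zE ≠ 1 := fun h => hz1' (congrArg Subtype.val (eE.map_eq_one_iff.1 h))
        have hcenle : Subgroup.center E' ≤ Subgroup.zpowers zE := fun u hu => by
          obtain ⟨u, rfl⟩ := eE.surjective u
          obtain ⟨m, hm⟩ := Subgroup.mem_zpowers_iff.1 (hEcen u u.2 fun w hw => congrArg Subtype.val
            (eE.injective (by rw [map_mul, map_mul]; exact (Subgroup.mem_center_iff.1 hu (eE ⟨w, hw⟩)).symm :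
              eE (u * ⟨w, hw⟩) = eE (⟨w, hw⟩ * u))))
          exact ⟨m, by
            show zE ^ m = eE u
            rw [← map_zpow]; exact congrArg eE (Subtype.ext (by simpa using hm))⟩
        have hcz : Subgroup.zpowers zE ≤ Subgroup.center E' := Subgroup.zpowers_le.2 (Subgroup.mem_center_iff.2
          fun w => by
            obtain ⟨w, rfl⟩ := eE.surjective w
            rw [← map_mul, ← map_mul]
            exact congrArg eE (Subtype.ext (hcentral w (hPS (hEP w.2)))))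
        have hcen_eq : Subgroup.center E' = Subgroup.zpowers zE := le_antisymm hcenle hcz
        have : Finite E' := Finite.of_equiv _ eE.toEquiv
        have hcardc : Nat.card (Subgroup.center E') = p := by
          rw [hcen_eq, Nat.card_zpowers, orderOf_eq_prime (hE'exp _) hzE1]
        have hcomm_le : _root_.commutator E' ≤ Subgroup.center E' := by
          rw [commutator_def, Subgroup.commutator_le, hcen_eq]
          intro u _ w _
          obtain ⟨u, rfl⟩ := eE.surjective u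
          obtain ⟨w, rfl⟩ := eE.surjective w
          obtain ⟨m, hm⟩ := exists_nat_pow hzp (hs.comm_mem (hEP u.2) (hEP w.2))
          rw [← map_commutatorElement]
          refine ⟨m, ?_⟩
          show zE ^ (m : ℤ) = eE ⁅u, w⁆
          rw [zpow_natCast, ← map_pow]
          exact congrArg eE (Subtype.ext (by simpa [commutatorElement_def] using hm))
        have hne : _root_.commutator E' ≠ ⊥ := fun h => hay (by
          have h1 : ⁅eE ⟨a, haE⟩, eE ⟨f z, hyE⟩⁆ ∈ (⊥ : Subgroup E') := h ▸ Subgroup.commutator_mem_commutator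
            (Subgroup.mem_top _) (Subgroup.mem_top _)
          rw [Subgroup.mem_bot, ← map_commutatorElement, eE.map_eq_one_iff,
            commutatorElement_eq_one_iff_mul_comm] at h1
          exact congrArg Subtype.val h1)
        have hcc : _root_.commutator E' = Subgroup.center E' := by
          refine Subgroup.eq_of_le_of_card_ge hcomm_le ?_
          obtain ⟨i, -, hi⟩ := (Nat.dvd_prime_pow hp.out).1
            (show Nat.card (_root_.commutator E') ∣ p ^ 1 by rw [pow_one, ← hcardc]; exact Subgroup.card_dvd_of_le hcomm_le)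
          rw [hcardc, hi]
          refine Nat.le_self_pow (fun h0 => hne (Subgroup.eq_bot_of_card_eq _ (by rw [hi, h0, pow_zero]))) p
        have hE'p : IsPGroup p E' := fun u => ⟨1, by rw [pow_one]; exact hE'exp u⟩
        have hfr : frattini E' = Subgroup.center E' := le_antisymm
          (Struct.ClassTwo.frattini_le hp.out hcc.le fun u => by rw [hE'exp u]; exact one_mem _)
          (by
            have := hE'p.isNilpotent
            rw [← hcc]; exact Solv.commutator_le_frattini)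
        have : Nontrivial E' := ⟨_, _, hzE1⟩
        refine hodd hp2 ⟨E', ‹_›, A', instA, ⟨⟨hE'p, hfr, hcc⟩, hcardc⟩,
          by rw [← Nat.card_congr eE.toEquiv, hEc], ?_, hA', ⟨e.symm.trans (MulEquiv.prodCongr eE eA)⟩⟩
        exact (Monoid.exponent_eq_prime_iff hp.out).2 fun g hg => orderOf_eq_prime (hE'exp g) hg
    · push_neg at hex
      rcases eq_or_ne p 2 with hp2 | hp2
      · subst hp2
        obtain ⟨i, hi⟩ := exists_nat_pow hzp (hs.comm_mem ha₀ hyP)
        obtain ⟨m, hm⟩ := exists_nat_pow hzp (hpows _ ha₀)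
        have ht : ∀ n : ℕ, z ^ n = 1 ∨ z ^ n = z := fun n => by
          rcases Nat.mod_two_eq_zero_or_one n with h | h <;> rw [pow_eq_pow_mod n hzp, h] <;> simp
        have hi1 : z ^ i = z := (ht i).resolve_left fun h => ha₀y (by
          rw [h] at hi; exact mul_inv_eq_iff_eq_mul.1 (mul_inv_eq_one.1 hi.symm))
        have hm1 : z ^ m = z := (ht m).resolve_left fun h => hex a₀ ha₀ ha₀y (by rw [← hm, h])
        refine hex _ (mul_mem ha₀ hyP) (fun h => ha₀y (mul_right_cancel (b := f z) (by rw [h, mul_assoc]))) ?_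
        have hyy : f z * f z = 1 := by rw [← pow_two, hyp]
        have hy' : (f z)⁻¹ = f z := inv_eq_of_mul_eq_one_right hyy
        calc (a₀ * f z) ^ 2 = (a₀ * f z * a₀⁻¹ * (f z)⁻¹) * (f z * (a₀ * a₀)) * f z := by rw [pow_two]; group
          _ = z * (f z * z) * f z := by rw [← hi, hi1, ← pow_two a₀, ← hm, hm1]
          _ = 1 := by
            rw [hcentral _ (hPS hyP), mul_assoc, mul_assoc, hyy, mul_one, ← pow_two, hzp]
      -- odd `p`
      let V : Subgroup Ω := P ⊓ Subgroup.centralizer ({f z} : Set Ω)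
      have hVmem : ∀ {x}, x ∈ V ↔ x ∈ P ∧ x * f z = f z * x := fun {x} => by
        simp [V, Subgroup.mem_centralizer_singleton_iff]
      have hVeq : ∀ x ∈ P, x ^ p = 1 → x ∈ V := fun x hx hxp => hVmem.2 ⟨hx, by
        by_contra h; exact hex x hx h hxp⟩
      have hVc : ∀ u ∈ V, ∀ w ∈ V, u * w = w * u := fun u hu w hw =>
        (hC u (hVmem.1 hu).1 (hVmem.1 hu).2).2 w (hVmem.1 hw).1 (hVmem.1 hw).2
      have hVp : ∀ u ∈ V, u ^ p = 1 := fun u hu => (hC u (hVmem.1 hu).1 (hVmem.1 hu).2).1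
      have hVsc : F.StronglyClosed V := stronglyClosed_of_apply_mem (inf_le_left.trans hPS) fun R k hR hk x hx => by
        refine hVeq _ (stronglyClosed_apply hP hk hx (hR hx).1) ?_
        have : ∀ n : ℕ, k (x ^ n) = k x ^ n := by
          intro n
          induction n with
          | zero => simp [hk.map_one]
          | succ n ih => rw [pow_succ, hk.map_mul (pow_mem hx n) hx, ih, pow_succ]
        rw [← this, hVp x (hR hx), hk.map_one]
      have hVn : F.IsNormal V := isNormal_of_abelian hS hF hVsc (le_bot_iff.1 (Subgroup.commutator_le.2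
        fun u hu w hw => Subgroup.mem_bot.2 (commutatorElement_eq_one_iff_mul_comm.2 (hVc u hu w hw))))
      have hzV : z ∈ V := hVmem.2 ⟨hZP hz, (hcentral _ (hPS hyP)).symm⟩
      obtain ⟨k, hk, hke, -⟩ := (isNormal_iff.1 hVn).2 _ f hf
      have hkV : IsMor F V k := hk.restrict le_sup_right
      have hkz : k z = f z := hke z (Subgroup.mem_zpowers z)
      refine NoSwap.no_swap hS hF hp2 hP hVn inf_le_left hVc hVp hzV (hcentral a₀ (hPS ha₀)) ha₀
        (fun u hu => hs.comm_mem ha₀ (hVmem.1 hu).1) hkV (by rw [hkz]; exact ha₀y) (fun u hu huz h => ?_)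
        fun c hc ⟨u, hu, hne⟩ => ⟨1, by rw [pow_one]; exact hpows c hc, fun h => ?_⟩
      · have hu0 : u ∉ Subgroup.zpowers z := fun huZ => by
          obtain ⟨n, rfl⟩ := exists_nat_pow hzp huZ
          refine hfz ?_
          have hn : k (z ^ n) = f z ^ n := by
            clear hu huz h
            induction n with
            | zero => simp [hkV.map_one]
            | succ n ih => rw [pow_succ, hkV.map_mul (pow_mem hzV n) hzV, ih (pow_mem (Subgroup.mem_zpowers z) n), hkz, pow_succ]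
          rw [hn] at huz
          rw [eq_one_of_pow_mem hyp (H := Subgroup.zpowers z) hfz (pow_mem (Subgroup.mem_zpowers _) n)
            (by rw [huz]; exact Subgroup.mem_zpowers z)] at huz
          exact absurd huz.symm hz1'
        obtain ⟨-, ⟨b, hb, hbu⟩, -⟩ := hs.moved hS hF (hVmem.1 hu).1 hu0
          (hkV.restrict (Subgroup.zpowers_le.2 hu)) huz
        obtain ⟨n, d, hd, hdy, rfl⟩ := hs.exists_pow_mul ha₀ hyP ha₀y hb
        exact hbu ((Commute.pow_left (h : Commute a₀ u) n).mul_left (hVc d (hVmem.2 ⟨hd, hdy⟩) u hu)).eq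
      · rw [pow_one] at h
        exact hne (hVc c (hVeq c hc h) u hu)
  refine (isNormal_iff_series hS hF).2 ⟨hP, 2, ![⊥, Z0, P], rfl, rfl, Fin.monotone_iff_le_succ.2 fun i => ?_,
    fun i => ?_, fun i => ?_⟩
  · fin_cases i
    exacts [bot_le, hZP]
  · fin_cases i
    · show ⁅Z0, P⁆ ≤ ⊥
      rw [hZeq, Subgroup.commutator_le]
      intro w hw x hx
      obtain ⟨m, rfl⟩ := exists_nat_pow hzp hw
      rw [Subgroup.mem_bot, commutatorElement_eq_one_iff_mul_comm]
      exact (Commute.pow_left (show Commute z x from (hcentral x (hPS hx)).symm) m).eq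
    · exact le_rfl
  · fin_cases i
    · exact weaklyClosed_of_stronglyClosed (normal_stronglyClosed isNormal_bot)
    · refine ⟨hZP.trans hPS, fun φ hφ => ?_⟩
      have hm := isMor_extFun hφ
      have hle : ∀ w ∈ Z0, extFun φ w ∈ Z0 := fun w hw => by
        obtain ⟨n, rfl⟩ := exists_nat_pow hzp (hZeq ▸ hw)
        have hn : extFun φ (z ^ n) = extFun φ z ^ n := by
          clear hw
          induction n with
          | zero => rw [pow_zero, pow_zero]; exact hm.map_one
          | succ n ih => rw [pow_succ, hm.map_mul (pow_mem hz n) hz, ih, pow_succ]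
        rw [hn]
        exact pow_mem (hwk _ hm) n
      have hi := hm.isIso_self hle
      ext w
      exact ⟨fun ⟨x, e⟩ => (hi.2 w).2 ⟨x, x.2, (extFun_coe φ x).trans e⟩, fun hw => by
        obtain ⟨x, hx, e⟩ := hi.exists_apply hw
        exact ⟨⟨x, hx⟩, (extFun_apply φ hx).symm.trans e⟩⟩

end Cfsg.Agent.Fusion.GenES
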