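import Cfsg.Agent.Lib.Fusion.GlaubermanFixed
import Cfsg.Agent.Lib.Fusion.ThompsonFusion
import Cfsg.Agent.Lib.Fusion.CenterControlApps

/-!
Elements of the centre of `S` fixed by the normalizer of the abelian Thompson subgroup.
-/

set_option autoImplicit false

universe v

namespace Cfsg.Agent.Fusion

open Cfsg Cfsg.FusionSystem

variable {p : ℕ} [Fact p.Prime]

theorem centralIn_jaFunctor : CentralIn (jaFunctor.{v} p) := fun {_} _ P _ _ z hz hc => by
  have h := ThompsonA.center_le_zj P ⟨hz, fun a ha => hc a ha⟩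
  rw [← ZJC.centerThompsonAOf_eq P] at h
  exact h.1

/-- The condition on the element. -/
def GCond (p : ℕ) {Ω : Type v} [Group Ω] {S : Subgroup Ω} (F : FusionSystem S) (z : Ω) : Prop :=
  p ≠ 2 ∨ (∃ w ∈ S, (∀ a ∈ S, a * w = w * a) ∧ w ^ p = z) ∨ F.IsSectionFree p (Equiv.Perm (Fin 4))

/-- The constrained case. -/
theorem fixed_constrained {Ω : Type v} [Group Ω] {S : Subgroup Ω} [Finite S] {F : FusionSystem S}
    {R : Subgroup Ω} (hS : IsPGroup p S) (hF : F.IsSaturated p) (hRn : F.IsNormal R) (hRc : F.IsCentric R)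
    {z : Ω} (hzS : z ∈ S) (hzc : ∀ a ∈ S, a * z = z * a)
    (hmod : ∀ (L : Type v) [Group L] (ι : S →* L), F.IsModel p L ι →
      p ≠ 2 ∨ (∃ w ∈ S, (∀ a ∈ S, a * w = w * a) ∧ w ^ p = z) ∨ ¬ Involves (Equiv.Perm (Fin 4)) L)
    (hN : ∀ k, IsIso F (thompsonSubgroupAOf S) (thompsonSubgroupAOf S) k → k z = z)
    (A : Subgroup Ω) (f : Ω → Ω) (hf : IsMor F A f) (hzA : z ∈ A) : f z = z := by
  let V := jaFunctor.{v} p
  obtain ⟨L, hLg, ι, hL⟩ := exists_model hS hF hRn hRc
  have := hL.1
  obtain ⟨T, hT⟩ := hL.2.2.1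
  have hi := hL.2.1.1
  have hfin : Finite (V.W S) := finite_of_le (V.le S)
  have hVT : V.W (T : Subgroup L) = mImg ι (V.W S) := by
    rw [hT, ← V.map S ι hi]
    ext y
    constructor
    · rintro ⟨x, hx, rfl⟩
      exact ⟨x, hx, rfl⟩
    · rintro ⟨x, hx, rfl⟩
      exact ⟨x, hx, rfl⟩
  have hcen : ∀ g : L, g * ι ⟨z, hzS⟩ * g⁻¹ = ι ⟨z, hzS⟩ := by
    refine GFix.fixed_of_constrained T hL.2.2.2 (hT.ge ⟨_, rfl⟩) (fun a ha => ?_) ?_ fun g hg => ?_
    · obtain ⟨b, rfl⟩ := hT.le ha
      rw [← map_mul, ← map_mul]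
      exact congrArg ι (Subtype.ext (hzc b b.2))
    · refine (hmod L ι hL).imp id (Or.imp ?_ id)
      rintro ⟨w, hw, hwc, hwz⟩
      refine ⟨ι ⟨w, hw⟩, hT.ge ⟨_, rfl⟩, fun a ha => ?_, ?_⟩
      · obtain ⟨b, rfl⟩ := hT.le ha
        rw [← map_mul, ← map_mul]
        exact congrArg ι (Subtype.ext (hwc b b.2))
      · rw [← map_pow]
        exact congrArg ι (Subtype.ext hwz)
    · have hg' : g ∈ Subgroup.normalizer ((mImg ι (V.W S) : Subgroup L) : Set L) :=
        (congrArg (fun X : Subgroup L => Subgroup.normalizer (X : Set L)) hVT).le hg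
      have hmem : ∀ x : S, (x : Ω) ∈ V.W S → ∃ y : S, (y : Ω) ∈ V.W S ∧ g * ι x * g⁻¹ = ι y := by
        intro x hx
        obtain ⟨y, hy, he⟩ := (Subgroup.mem_normalizer_iff.1 hg' (ι x)).1 ⟨x, hx, rfl⟩
        exact ⟨y, hy, he.symm⟩
      have hzV : z ∈ V.W S := centralIn_jaFunctor S hS z hzS hzc
      obtain ⟨k, hk, hkg⟩ := realized_exists_mor hL.2.1 (V.le S) g fun x hx => by
        obtain ⟨y, -, hy⟩ := hmem x hx
        exact ⟨y, hy.symm⟩
      have hkV : IsIso F (V.W S) (V.W S) k := hk.isIso_self fun x hx => by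
        obtain ⟨y, hy, he⟩ := hmem ⟨x, V.le S hx⟩ hx
        have e := hkg ⟨x, V.le S hx⟩ ⟨k x, hk.mem hx⟩ hx rfl
        rw [he] at e
        rw [show k x = (y : Ω) from congrArg Subtype.val (hi e)]
        exact hy
      exact (hkg ⟨z, hzS⟩ ⟨z, hzS⟩ hzV (hN k hkV).symm).symm
  obtain ⟨g, hg⟩ := realized_exists_conj hL.2.1 hf
  have e := hg ⟨z, hzS⟩ ⟨f z, hf.mem hzA⟩ hzA rfl
  rw [hcen g] at e
  exact congrArg Subtype.val (hi e)

/-- Reduction to constrained systems. -/
theorem fixed_of_thompson :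
    ∀ (n : ℕ) {Ω : Type v} [Group Ω] {S : Subgroup Ω} [Finite S] {F : FusionSystem S} {z : Ω},
      Nat.card S = n → IsPGroup p S → F.IsSaturated p → z ∈ S → (∀ a ∈ S, a * z = z * a) → GCond p F z →
      (∀ k, IsIso F (thompsonSubgroupAOf S) (thompsonSubgroupAOf S) k → k z = z) →
      ∀ (A : Subgroup Ω) (f : Ω → Ω), IsMor F A f → z ∈ A → f z = z := by
  intro n
  induction n using Nat.strong_induction_on with
  | _ n ih =>
  intro Ω _ S _ F z hn hS hF hzS hzc hcond hN
  subst hn
  have hzn : ∀ A : Subgroup Ω, A ≤ S → z ∈ normalizerIn S A := fun A hA =>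
    ⟨hzS, mem_normalizer_of_conj_mem hA fun x hx => by
      rwa [← hzc x (hA hx), mul_inv_cancel_right]⟩
  intro A
  induction hm : Nat.card S - Nat.card A using Nat.strong_induction_on generalizing A with
  | _ m ihA =>
  subst hm
  intro f hf hzA
  have hbig : ∀ (Q : Subgroup Ω) (g : Ω → Ω), Nat.card A < Nat.card Q → IsMor F Q g → z ∈ Q → g z = z := by
    intro Q g hQ hg hzQ
    have := Nat.card_le_card_of_injective (Subgroup.inclusion hg.le) (Subgroup.inclusion_injective _)
    exact ihA _ (by omega) Q rfl g hg hzQ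
  rcases eq_or_lt_of_le hf.le with hAS | hAS
  · subst hAS
    have hi := hf.isIso_self fun x hx => hf.mem hx
    exact hN f ((jaFunctor.{v} p).normalizer_le le_rfl hi)
  have hAlt : ∀ {B : Subgroup Ω}, B ≤ S → Nat.card B = Nat.card A → Nat.card A < Nat.card (normalizerIn S B) := by
    intro B hB hc
    rw [← hc]
    refine card_lt_of_lt normalizerIn_le (normalizerIn_self_lt hS (lt_of_le_of_ne hB fun h => ?_))
    have := card_lt_of_lt le_rfl hAS
    rw [← hc, h] at this
    exact this.false
  -- the automorphisms of the fully normalized conjugates fix `z`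
  obtain ⟨R, hcR, hR⟩ := exists_fullyNormalized (F := F) hAS.le
  obtain ⟨g, g', hg, hg', hge, -⟩ := exists_iso_to_fullyNormalized hS hF hcR hR
  have hgz : g z = z := by
    rw [← hge z hzA]
    exact hbig _ g' (hAlt hAS.le rfl) hg' (hzn A hAS.le)
  have hzR : z ∈ R := hgz ▸ hg.apply_mem hzA
  have hRcard : Nat.card R = Nat.card A := hg.card_eq
  have hRS : R < S := lt_of_le_of_ne hR.1 fun h => by
    have := card_lt_of_lt le_rfl hAS
    rw [← hRcard, h] at this
    exact this.false
  have key : ∀ α ∈ F.autGroup R, autFun α z = z := by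
    intro α hα
    by_cases hC : centralizerIn S R ≤ R
    swap
    · rw [← closure_extSet_eq_of_not_centric (fullyNormalized_receptive hS hF hR).2 hC] at hα
      let K : Subgroup (MulAut R) :=
        { carrier := {β | autFun β z = z}
          one_mem' := autFun_one hzR
          mul_mem' := fun {a b} ha hb => by
            show autFun (a * b) z = z
            rw [autFun_mul a b hzR, hb]
            exact ha
          inv_mem' := fun {a} ha => by
            show autFun a⁻¹ z = z
            conv_lhs => rw [← ha]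
            rw [← autFun_mul a⁻¹ a hzR, inv_mul_cancel, autFun_one hzR] }
      refine (Subgroup.closure_le K).2 (fun β hβ => ?_) hα
      obtain ⟨Q, k, hRQ, hk, hx⟩ := mem_extSet.1 hβ
      show autFun β z = z
      rw [autFun_apply _ hzR, ← hx ⟨z, hzR⟩]
      exact hbig Q k (hRcard ▸ card_lt_of_lt hk.le hRQ) hk (hRQ.le hzR)
    have hRc : F.IsCentric R :=
      isCentric_of_fullyCentralized hS hF (fullyNormalized_fullyCentralized hS hF hR) hC
    -- descending on the normalizer: maps stabilizing `Y` fix `z`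
    have hfix : ∀ (m : ℕ) (Y : Subgroup Ω), Nat.card S - Nat.card (normalizerIn S Y) = m → Y ≤ S → z ∈ Y →
        Nat.card A < Nat.card (normalizerIn S Y) → ∀ k, IsIso F Y Y k → k z = z := by
      intro m
      induction m using Nat.strong_induction_on with
      | _ m ihm =>
      intro Y hm hYS hzY hlt k hk
      subst hm
      obtain ⟨V, hcV, hV⟩ := exists_fullyNormalized (F := F) hYS
      obtain ⟨u, u', hu, hu', hue, huN⟩ := exists_iso_to_fullyNormalized hS hF hcV hV
      have huz : u z = z := by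
        rw [← hue z hzY]
        exact hbig _ u' hlt hu' (hzn Y hYS)
      have hzV : z ∈ V := huz ▸ hu.apply_mem hzY
      obtain ⟨ui, hui, huil, -⟩ := hu.exists_symm
      have hcard : Nat.card (normalizerIn S Y) ≤ Nat.card (normalizerIn S V) := by
        have : Finite (normalizerIn S V) := finite_of_le normalizerIn_le
        exact Nat.card_le_card_of_injective
          (fun a : normalizerIn S Y => (⟨u' a, huN a a.2⟩ : normalizerIn S V)) fun a b hab =>
            Subtype.ext (hu'.injOn a.2 b.2 (congrArg Subtype.val hab))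
      suffices hVfix : ∀ h, IsIso F V V h → h z = z by
        have h1 := hVfix _ ((hui.trans hk).trans hu)
        have h2 : ui z = z := by
          conv_lhs => rw [← huz]
          exact huil z hzY
        simp only [Function.comp_apply, h2] at h1
        refine hu.1.injOn (hk.apply_mem hzY) hzY ?_
        rw [h1, huz]
      intro h hh
      by_cases hVT : normalizerIn S V = S
      · -- inside the normalizer of `V C_S(V)`
        have hSV : S ≤ Subgroup.normalizer (V : Set Ω) := fun a ha => (hVT.ge ha).2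
        obtain ⟨hR0c, hR0n⟩ := centric_sup_centralizer hS hF hV.1 hSV
        obtain ⟨E, hEs, hEF, hEn, hEmod, hEiff⟩ : ∃ E : FusionSystem S, E.IsSaturated p ∧ E ≤ F ∧
            E.IsNormal (V ⊔ centralizerIn S V) ∧
            (∀ (L : Type v) [Group L] (ι : S →* L), E.IsModel p L ι →
              p ≠ 2 ∨ (∃ w ∈ S, (∀ a ∈ S, a * w = w * a) ∧ w ^ p = z) ∨ ¬ Involves (Equiv.Perm (Fin 4)) L) ∧
            ∀ A f, IsMor E A f ↔ A ≤ S ∧ ∃ k, IsMor F (A ⊔ (V ⊔ centralizerIn S V)) k ∧ (∀ x ∈ A, k x = f x) ∧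
              IsIso F (V ⊔ centralizerIn S V) (V ⊔ centralizerIn S V) k := by
          rcases hcond with h | h | h
          · obtain ⟨E, a, b, c, d⟩ := exists_normalizer_top hS hF hR0c.1 hR0n
            exact ⟨E, a, b, c, fun _ _ _ _ => Or.inl h, d⟩
          · obtain ⟨E, a, b, c, d⟩ := exists_normalizer_top hS hF hR0c.1 hR0n
            exact ⟨E, a, b, c, fun _ _ _ _ => Or.inr (Or.inl h), d⟩
          · obtain ⟨E, -, hm, a, b, c, d⟩ := exists_normalizer_top_free hS hF hR0c.1 hR0n (Or.inr h)
            exact ⟨E, a, b, c, fun L _ ι hL => (hm L ι hR0c hL).imp id Or.inr, d⟩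
        obtain ⟨h', hh', hhe⟩ := exists_extension_centralizer
          (fullyNormalized_receptive hS hF hV).2 hh
        have hh0 : IsIso F (V ⊔ centralizerIn S V) (V ⊔ centralizerIn S V) h' :=
          hh'.isIso_self fun x hx => hh'.apply_mem_sup
            (fun y hy => Subgroup.mem_sup_left (by rw [hhe y hy]; exact hh.apply_mem hy))
            (fun y hy => Subgroup.mem_sup_right (hh'.apply_mem_centralizerIn le_sup_left
              (hh.congr hhe) (Subgroup.mem_sup_right hy) hy)) hx
        have hE : IsMor E (V ⊔ centralizerIn S V) h' :=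
          (hEiff _ _).2 ⟨hR0c.1, h', by rwa [sup_idem], fun _ _ => rfl, hh0⟩
        rw [← hhe z hzV]
        exact fixed_constrained hS hEs hEn (isCentric_of_sub hEF hR0c) hzS hzc hEmod
          (fun k hk => hN k ⟨hk.1.of_le hEF, hk.2⟩) _ h' hE (Subgroup.mem_sup_left hzV)
      -- a smaller system
      have hS' : normalizerIn S V < S := lt_of_le_of_ne normalizerIn_le hVT
      obtain ⟨E, hE⟩ := exists_normalizerSystem F hV.1
      have hEs := normalizerSystem_saturated hS hF hV hE
      have : Finite (normalizerIn S V) := finite_of_le normalizerIn_le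
      have hEm : IsMor E V h := (isMor_normalizer_iff hE).2
        ⟨le_normalizerIn hV.1, fun x hx => le_normalizerIn hV.1 (hh.apply_mem hx), h,
          by rw [sup_idem]; exact hh.1, fun _ _ => rfl, hh⟩
      refine ih _ (card_lt_of_lt le_rfl hS') rfl (hS.to_le normalizerIn_le) hEs (hzn V hV.1)
        (fun a ha => hzc a ha.1) (hcond.imp id (Or.imp ?_ fun h => sectionFree_normalizer hS hF h hV hE))
        (fun k' hk' => ?_) V h hEm hzV
      · rintro ⟨w, hw, hwc, hwz⟩
        exact ⟨w, ⟨hw, mem_normalizer_of_conj_mem hV.1 fun x hx => by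
          rwa [← hwc x (hV.1 hx), mul_inv_cancel_right]⟩, fun a ha => hwc a ha.1, hwz⟩
      set W' := (jaFunctor.{v} p).W (normalizerIn S V)
      have hW'S : W' ≤ S := ((jaFunctor.{v} p).le _).trans normalizerIn_le
      have hz' : z ∈ W' := centralIn_jaFunctor _ (hS.to_le normalizerIn_le) z (hzn V hV.1) fun a ha => hzc a ha.1
      have hbigger : Nat.card (normalizerIn S V) < Nat.card (normalizerIn S W') := by
        refine lt_of_lt_of_le (card_lt_of_lt normalizerIn_le (normalizerIn_self_lt hS hS')) ?_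
        have : Finite (normalizerIn S W') := finite_of_le normalizerIn_le
        exact Nat.card_le_card_of_injective (Subgroup.inclusion
          (fun a ha => ⟨ha.1, (jaFunctor.{v} p).mem_normalizer normalizerIn_le ha.1 ha.2⟩ :
            normalizerIn S (normalizerIn S V) ≤ normalizerIn S W')) (Subgroup.inclusion_injective _)
      have h3 : Nat.card (normalizerIn S V) < Nat.card S := card_lt_of_lt le_rfl hS'
      exact ihm _ (by omega) W' rfl hW'S hz' (by omega) k' ⟨isMor_of_normalizer hE hk'.1, hk'.2⟩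
    have hαi := isIso_autFun hR.1 hα
    exact hfix _ R rfl hR.1 hzR (hRcard ▸ hAlt hR.1 hRcard) _ hαi
  -- transport
  obtain ⟨k, k', hk, hk', hke, -⟩ :=
    exists_iso_to_fullyNormalized hS hF (isConj_trans (isConj_symm hf.isIso.isConj) hcR) hR
  have hfc : Nat.card (hf.image A le_rfl) = Nat.card A := hf.isIso.card_eq
  have hk'z : k' z = z := hbig _ k' (hAlt hf.isIso.le' hfc) hk' (hzn _ hf.isIso.le')
  obtain ⟨gi, hgi, hgl, -⟩ := hg.exists_symm
  have hα : IsIso F R R (k ∘ f ∘ gi) := (hgi.trans hf.isIso).trans hk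
  have h1 := key _ (autOf_mem hα)
  rw [autFun_apply _ hzR, autOf_apply] at h1
  have h2 : gi z = z := by
    conv_lhs => rw [← hgz]
    exact hgl z hzA
  simp only [Function.comp_apply, h2] at h1
  rw [← hke _ (hf.isIso.apply_mem hzA)] at h1
  exact hk'.injOn (le_normalizerIn hf.isIso.le' (hf.isIso.apply_mem hzA)) (hzn _ hf.isIso.le')
    (h1.trans hk'z.symm)

end Cfsg.Agent.Fusion

namespace Cfsg.Agent.Fusion

open Cfsg Cfsg.FusionSystem

variable {p : ℕ} [Fact p.Prime] {Ω : Type v} [Group Ω] {S : Subgroup Ω} [Finite S] {F : FusionSystem S}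

/-- Central elements of `N_F(J(S))` satisfying the condition are central in `F`. -/
theorem mem_center_of_thompson (hS : IsPGroup p S) (hF : F.IsSaturated p)
    {N : FusionSystem (normalizerIn S (thompsonSubgroupAOf S))}
    (hN : F.IsNormalizerSystem (thompsonSubgroupAOf S) N) {z : Ω} (hz : z ∈ N.center)
    (hcond : ∀ n : ℤ, GCond p F (z ^ n)) : z ∈ F.center := by
  have hJS : thompsonSubgroupAOf S ≤ S := Subgroup.map_subtype_le _
  have hSJ : S ≤ Subgroup.normalizer (thompsonSubgroupAOf S : Set Ω) := fun a ha =>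
    (jaFunctor.{v} p).mem_normalizer le_rfl ha (Subgroup.le_normalizer ha)
  have : Finite (normalizerIn S (thompsonSubgroupAOf S)) := finite_of_le normalizerIn_le
  have hz' := center_le_center N hz
  have hzS : z ∈ S := hz'.1.1
  have hzc : ∀ a ∈ S, a * z = z * a := fun a ha =>
    Subgroup.mem_centralizer_iff.1 hz'.2 a ⟨ha, hSJ ha⟩
  refine mem_center_of_forall hS hF hzS fun x hx A f hf hxA => ?_
  have hxc : x ∈ N.center := Subgroup.zpowers_le.2 hz hx
  obtain ⟨n, rfl⟩ := hx
  refine fixed_of_thompson _ rfl hS hF (S.zpow_mem hzS n)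
    (fun a ha => ((show Commute a z from hzc a ha).zpow_right n).eq) (hcond n) (fun k hk => ?_) A f hf hxA
  have hxJ : z ^ n ∈ thompsonSubgroupAOf S := centralIn_jaFunctor S hS _ (S.zpow_mem hzS n) fun a ha =>
    ((show Commute a z from hzc a ha).zpow_right n).eq
  have hkN : IsMor N (thompsonSubgroupAOf S) k := (isMor_normalizer_iff hN).2
    ⟨le_normalizerIn hJS, fun y hy => le_normalizerIn hJS (hk.apply_mem hy), k,
      by rw [sup_idem]; exact hk.1, fun _ _ => rfl, hk⟩
  exact center_fixed hkN hxc hxJ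

/-- Central elements of `F` are central in `N_F(J(S))`. -/
theorem center_le_thompson (hS : IsPGroup p S) (hF : F.IsSaturated p)
    {N : FusionSystem (normalizerIn S (thompsonSubgroupAOf S))}
    (hN : F.IsNormalizerSystem (thompsonSubgroupAOf S) N) : F.center ≤ N.center := by
  intro z hz
  have hJS : thompsonSubgroupAOf S ≤ S := Subgroup.map_subtype_le _
  have hSJ : S ≤ Subgroup.normalizer (thompsonSubgroupAOf S : Set Ω) := fun a ha =>
    (jaFunctor.{v} p).mem_normalizer le_rfl ha (Subgroup.le_normalizer ha)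
  have hfn : F.IsFullyNormalized (thompsonSubgroupAOf S) := ⟨hJS, fun R _ => by
    rw [show normalizerIn S (thompsonSubgroupAOf S) = S from inf_eq_left.2 hSJ]
    exact Nat.card_le_card_of_injective (Subgroup.inclusion normalizerIn_le)
      (Subgroup.inclusion_injective _)⟩
  have hNs := normalizerSystem_saturated hS hF hfn hN
  have : Finite (normalizerIn S (thompsonSubgroupAOf S)) := finite_of_le normalizerIn_le
  obtain ⟨hzS, hzc⟩ := center_le_center F hz
  have hzJ : z ∈ thompsonSubgroupAOf S :=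
    centralIn_jaFunctor S hS z hzS fun a ha => Subgroup.mem_centralizer_iff.1 hzc a ha
  exact mem_center_of_fixed (hS.to_le normalizerIn_le) hNs (isNormal_normalizerSystem hJS hN) hzJ
    fun α hα => center_fixed (isMor_of_normalizer hN
      (isMor_of_mem_autGroup (le_normalizerIn hJS) hα)) hz hzJ

omit [Fact p.Prime] [Finite S] in
theorem exists_pow_of_mem_closure {z : Ω}
    (hz : z ∈ Subgroup.closure ((fun x : Ω => x ^ p) '' ((S ⊓ Subgroup.centralizer (S : Set Ω) : Subgroup Ω) : Set Ω))) :
    ∃ w ∈ S, (∀ a ∈ S, a * w = w * a) ∧ w ^ p = z := by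
  induction hz using Subgroup.closure_induction with
  | mem x hx =>
    obtain ⟨w, ⟨hw, hwc⟩, rfl⟩ := hx
    exact ⟨w, hw, fun a ha => hwc a ha, rfl⟩
  | one => exact ⟨1, S.one_mem, fun a _ => by rw [mul_one, one_mul], one_pow _⟩
  | mul x y _ _ hx hy =>
    obtain ⟨u, hu, huc, rfl⟩ := hx
    obtain ⟨v, hv, hvc, rfl⟩ := hy
    exact ⟨u * v, S.mul_mem hu hv, fun a ha =>
      ((show Commute a u from huc a ha).mul_right (hvc a ha)).eq,
      (show Commute u v from hvc u hu).mul_pow p⟩
  | inv x _ hx =>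
    obtain ⟨u, hu, huc, rfl⟩ := hx
    exact ⟨u⁻¹, S.inv_mem hu, fun a ha => (show Commute a u from huc a ha).inv_right.eq, inv_pow u p⟩

end Cfsg.Agent.Fusion
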