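import Cfsg.Agent.Lib.Fusion.ThompsonAbelian
import Cfsg.Agent.Lib.Fusion.OffenderEven
import Cfsg.Agent.Lib.Local.ClassTwoFactorization
import Cfsg.Agent.Lib.Local.InvolvesSymFour
import Cfsg.Agent.Lib.Inv.BaerSuzuki

/-!
Glauberman's theorem on central elements of a Sylow group fixed by the normalizer of the abelian
Thompson subgroup, in constrained groups: a transfer over the orbits of the subgroup generated by the
smallest offenders.
-/

set_option autoImplicit false

universe u

namespace Cfsg.Agent.Fusion.GFix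

open Cfsg Subgroup Cfsg.Agent.Solv Cfsg.Agent.Local
open scoped Pointwise

variable {p : ℕ}

/-- A product over an invariant set in which every moved point has full orbit product. -/
theorem prod_eq_pow_of_orbits {X : Type*} {Q : Type*} {W : Type*} [Group X] [Finite X] [MulAction X Q]
    [CommGroup W] [Fintype Q] [DecidableEq Q] [hp : Fact p.Prime] (hX : IsPGroup p X) (ρ : X →* MulAut W)
    (f : Q → W) (z : W) (hf : ∀ (x : X) (c : Q), f (x • c) = ρ x (f c))
    (hpow : ∀ c, f c ^ p = z ^ p) (hfix : ∀ c, (∀ x : X, x • c = c) → f c = z)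
    (hstep : ∀ B : Subgroup X, B.index = p → ∃ a : X, a ∉ B ∧ ∀ T : Finset Q,
      (∀ b ∈ B, ∀ c ∈ T, b • c ∈ T) → ∃ d : W,
        ρ a (∏ c ∈ T, f c) = (∏ c ∈ T, f c) * d ∧ ρ a d = d ∧ d ^ (p * (p - 1) / 2) = 1) :
    ∏ c, f c = z ^ Nat.card Q := by
  classical
  suffices h : ∀ (n : ℕ) (T : Finset Q), T.card = n → (∀ (x : X), ∀ c ∈ T, x • c ∈ T) →
      ∏ c ∈ T, f c = z ^ T.card by
    rw [h _ Finset.univ rfl fun _ _ _ => Finset.mem_univ _, Finset.card_univ, Nat.card_eq_fintype_card]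
  intro n
  induction n using Nat.strong_induction_on with
  | _ n ih =>
  intro T hn hT
  rcases T.eq_empty_or_nonempty with rfl | ⟨c, hc⟩
  · simp
  haveI : Fintype X := Fintype.ofFinite X
  set O := (Finset.univ : Finset X).image (fun x => x • c) with hO
  have hmemO : ∀ {e}, e ∈ O ↔ ∃ x : X, x • c = e := by simp [hO]
  have hOT : O ⊆ T := fun e he => by
    obtain ⟨x, rfl⟩ := hmemO.1 he
    exact hT x c hc
  have hrest : ∀ (x : X), ∀ e ∈ T \ O, x • e ∈ T \ O := fun x e he => by
    rw [Finset.mem_sdiff] at he ⊢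
    refine ⟨hT x e he.1, fun h => he.2 ?_⟩
    obtain ⟨y, hy⟩ := hmemO.1 h
    exact hmemO.2 ⟨x⁻¹ * y, by rw [mul_smul, hy, inv_smul_smul]⟩
  have hcO : c ∈ O := hmemO.2 ⟨1, one_smul _ _⟩
  have hlt : (T \ O).card < n := hn ▸ Finset.card_lt_card
    ((Finset.ssubset_iff_of_subset Finset.sdiff_subset).2 ⟨c, hc, fun h => (Finset.mem_sdiff.1 h).2 hcO⟩)
  rw [← Finset.prod_sdiff hOT, ih _ hlt _ rfl hrest, ← Finset.card_sdiff_add_card_eq_card hOT, pow_add]
  congr 1
  by_cases hfx : ∀ x : X, x • c = c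
  · have : O = {c} := by
      ext e
      rw [hmemO, Finset.mem_singleton]
      exact ⟨fun ⟨x, hx⟩ => hx ▸ hfx x, fun h => ⟨1, h ▸ one_smul _ _⟩⟩
    rw [this, Finset.prod_singleton, Finset.card_singleton, pow_one, hfix c hfx]
  push Not at hfx
  obtain ⟨x₀, hx₀⟩ := hfx
  have hH : MulAction.stabilizer X c ≠ ⊤ := fun h => hx₀ (MulAction.mem_stabilizer_iff.1 (h.ge (mem_top x₀)))
  obtain ⟨B, hBmax, hHB⟩ := (eq_top_or_exists_le_coatom _).resolve_left hH
  haveI := hX.isNilpotent
  haveI : B.Normal := Subgroup.NormalizerCondition.normal_of_coatom B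
    Group.normalizerCondition_of_isNilpotent hBmax
  have hBi : B.index = p := by
    obtain ⟨i, hi⟩ := IsPGroup.iff_card.1 (hX.to_subgroup B)
    obtain ⟨j, hj⟩ := IsPGroup.iff_card.1 hX
    have hij : p ^ (i + 1) ∣ Nat.card X := by
      have h1 : Nat.card B ∣ Nat.card X := card_subgroup_dvd_card B
      rw [hi, hj] at h1
      rw [hj]
      refine Nat.pow_dvd_pow p (Nat.succ_le_of_lt (lt_of_le_of_ne
        ((Nat.pow_dvd_pow_iff_le_right hp.out.one_lt).1 h1) fun h => hBmax.1 ?_))
      exact eq_top_of_card_eq _ (by rw [hi, hj, h])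
    obtain ⟨K, hK, hBK⟩ := Sylow.exists_subgroup_card_pow_succ hij hi
    have hK1 : K = ⊤ := by
      refine hBmax.2 K (lt_of_le_of_ne hBK fun h => ?_)
      rw [← h, hi] at hK
      exact absurd (Nat.pow_right_injective hp.out.two_le hK) (by omega)
    rw [hK1, card_top] at hK
    have h2 := B.card_mul_index
    rw [hi, hK, pow_succ] at h2
    exact Nat.eq_of_mul_eq_mul_left (pow_pos hp.out.pos i) h2
  obtain ⟨a, haB, ha⟩ := hstep B hBi
  set OB := (Finset.univ.filter (· ∈ B)).image (fun x : X => x • c) with hOB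
  have hmemB : ∀ {e}, e ∈ OB ↔ ∃ b ∈ B, b • c = e := by simp [hOB]
  obtain ⟨d, hd, hdd, hdp⟩ := ha OB fun b hb e he => by
    obtain ⟨b', hb', rfl⟩ := hmemB.1 he
    exact hmemB.2 ⟨b * b', B.mul_mem hb hb', by rw [mul_smul]⟩
  -- the orbit is the union of the translates
  have hord : orderOf (QuotientGroup.mk' B a) = p := by
    refine (hp.out.eq_one_or_self_of_dvd _ (orderOf_dvd_of_pow_eq_one ?_)).resolve_left fun h =>
      haB ((QuotientGroup.eq_one_iff a).1 (orderOf_eq_one_iff.1 h))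
    rw [← map_pow]
    exact (QuotientGroup.eq_one_iff _).2 (hBi ▸ B.pow_index_mem a)
  have hpi : ∀ i : ℕ, a ^ i ∈ B ↔ p ∣ i := fun i => by
    rw [← QuotientGroup.eq_one_iff, ← QuotientGroup.mk'_apply, map_pow, ← orderOf_dvd_iff_pow_eq_one, hord]
  have hcover : ∀ x : X, ∃ i < p, (a ^ i)⁻¹ * x ∈ B := by
    intro x
    have hz : (QuotientGroup.mk' B) x ∈ zpowers (QuotientGroup.mk' B a) := by
      have h1 : zpowers (QuotientGroup.mk' B a) = ⊤ := eq_top_of_card_eq _ (by
        rw [Nat.card_zpowers, hord, ← B.index_eq_card, hBi])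
      rw [h1]; exact mem_top _
    obtain ⟨i, hi, he⟩ := (isOfFinOrder_of_finite _).mem_zpowers_iff_mem_range_orderOf.1 hz |>
      Finset.mem_image.1
    rw [hord, Finset.mem_range] at hi
    refine ⟨i, hi, ?_⟩
    rw [← map_pow] at he
    exact QuotientGroup.eq.1 he
  have hinj : ∀ i < p, ∀ j < p, ∀ e ∈ OB, ∀ e' ∈ OB, a ^ i • e = a ^ j • e' → i = j ∧ e = e' := by
    intro i hi j hj e he e' he' h
    obtain ⟨b, hb, rfl⟩ := hmemB.1 he
    obtain ⟨b', hb', rfl⟩ := hmemB.1 he'
    have h1 : (a ^ j * b')⁻¹ * (a ^ i * b) ∈ B := hHB (by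
      rw [MulAction.mem_stabilizer_iff, mul_smul, mul_smul, h, ← mul_smul (a ^ j), inv_smul_smul])
    have h2 : (a ^ j)⁻¹ * a ^ i ∈ B := by
      have := B.mul_mem (B.mul_mem hb' h1) (B.inv_mem hb)
      simpa [mul_assoc] using this
    have h3 : i = j := by
      rcases le_total j i with hji | hij
      · rw [← pow_mul_pow_sub a hji, inv_mul_cancel_left, hpi] at h2
        have := Nat.eq_zero_of_dvd_of_lt h2 (by omega)
        omega
      · rw [← pow_mul_pow_sub a hij, mul_inv_rev, mul_assoc, inv_mul_cancel, mul_one, B.inv_mem_iff, hpi] at h2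
        have := Nat.eq_zero_of_dvd_of_lt h2 (by omega)
        omega
    subst h3
    exact ⟨rfl, smul_left_cancel _ h⟩
  have hbij : ∏ e ∈ O, f e = ∏ ie ∈ Finset.range p ×ˢ OB, f (a ^ ie.1 • ie.2) := by
    refine (Finset.prod_bij (fun ie _ => a ^ ie.1 • ie.2) ?_ ?_ ?_ fun _ _ => rfl).symm
    · intro ie hie
      obtain ⟨b, -, hb⟩ := hmemB.1 (Finset.mem_product.1 hie).2
      exact hmemO.2 ⟨a ^ ie.1 * b, by rw [mul_smul, hb]⟩
    · intro ie hie je hje h
      rw [Finset.mem_product, Finset.mem_range] at hie hje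
      obtain ⟨h1, h2⟩ := hinj _ hie.1 _ hje.1 _ hie.2 _ hje.2 h
      exact Prod.ext h1 h2
    · intro e he
      obtain ⟨x, rfl⟩ := hmemO.1 he
      obtain ⟨i, hi, hb⟩ := hcover x
      exact ⟨(i, ((a ^ i)⁻¹ * x) • c), Finset.mem_product.2 ⟨Finset.mem_range.2 hi,
        hmemB.2 ⟨_, hb, rfl⟩⟩, by rw [← mul_smul, mul_inv_cancel_left]⟩
  have hcard : O.card = p * OB.card := by
    rw [← Finset.card_range p, ← Finset.card_product]
    refine (Finset.card_bij (fun ie _ => a ^ ie.1 • ie.2) ?_ ?_ ?_).symm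
    · intro ie hie
      obtain ⟨b, -, hb⟩ := hmemB.1 (Finset.mem_product.1 hie).2
      exact hmemO.2 ⟨a ^ ie.1 * b, by rw [mul_smul, hb]⟩
    · intro ie hie je hje h
      rw [Finset.mem_product, Finset.mem_range] at hie hje
      obtain ⟨h1, h2⟩ := hinj _ hie.1 _ hje.1 _ hie.2 _ hje.2 h
      exact Prod.ext h1 h2
    · intro e he
      obtain ⟨x, rfl⟩ := hmemO.1 he
      obtain ⟨i, hi, hb⟩ := hcover x
      exact ⟨(i, ((a ^ i)⁻¹ * x) • c), Finset.mem_product.2 ⟨Finset.mem_range.2 hi,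
        hmemB.2 ⟨_, hb, rfl⟩⟩, by rw [← mul_smul, mul_inv_cancel_left]⟩
  have hit : ∀ i : ℕ, ρ (a ^ i) (∏ e ∈ OB, f e) = (∏ e ∈ OB, f e) * d ^ i := by
    intro i
    induction i with
    | zero => simp
    | succ i ih => rw [pow_succ' a, map_mul, MulAut.mul_apply, ih, map_mul, map_pow, hd, hdd,
        mul_assoc, ← pow_succ']
  have hprod : ∀ i : ℕ, ∏ e ∈ OB, f (a ^ i • e) = (∏ e ∈ OB, f e) * d ^ i := fun i => by
    rw [Finset.prod_congr rfl fun e _ => hf (a ^ i) e, ← map_prod, hit]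
  rw [hbij, Finset.prod_product, Finset.prod_congr rfl fun i _ => hprod i, Finset.prod_mul_distrib,
    Finset.prod_const, Finset.card_range, Finset.prod_pow_eq_pow_sum, Finset.sum_range_id, hdp, mul_one,
    ← Finset.prod_pow, Finset.prod_congr rfl fun e _ => hpow e, Finset.prod_const, ← pow_mul, hcard]

/-- A nontrivial element of `p`-power order with centralizer of index at most `p`. -/
theorem transvection {L : Type u} [Group L] [Finite L] [hp : Fact p.Prime] (W : Subgroup L) [W.Normal]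
    (hWc : ∀ u ∈ W, ∀ v ∈ W, u * v = v * u) (hW : IsPGroup p W) (a : L) {k : ℕ} (ha : a ^ (p ^ k) = 1)
    (hne : a ∉ centralizer (W : Set L))
    (hle : Nat.card W ≤ p * Nat.card ↥(W ⊓ centralizer ({a} : Set L))) :
    ∃ D : Subgroup W, Nat.card D = p ∧ (∀ w : W, MulAut.conjNormal a w * w⁻¹ ∈ D) ∧
      ∀ d ∈ D, MulAut.conjNormal a d = d := by
  letI : CommGroup W := { (inferInstance : Group W) with
    mul_comm := fun u v => Subtype.ext (hWc u u.2 v v.2) }
  set c : MulAut W := MulAut.conjNormal a with hc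
  let ν : W →* W := MonoidHom.mk' (fun w => c w * w⁻¹) fun u v => by
    simp only [map_mul, mul_inv_rev]
    rw [mul_comm v⁻¹ u⁻¹, mul_mul_mul_comm]
  have hker : ν.ker = (W ⊓ centralizer ({a} : Set L)).subgroupOf W := by
    ext w
    rw [MonoidHom.mem_ker, mem_subgroupOf, mem_inf, mem_centralizer_singleton_iff]
    show c w * w⁻¹ = 1 ↔ _
    rw [mul_inv_eq_one, hc, Subtype.ext_iff, MulAut.conjNormal_apply, mul_inv_eq_iff_eq_mul]
    exact ⟨fun h => ⟨w.2, h.symm⟩, fun h => h.2.symm⟩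
  have hcardD : Nat.card ν.range = p := by
    have h1 := ν.ker.index_mul_card
    rw [index_ker, hker, Nat.card_congr (subgroupOfEquivOfLe inf_le_left).toEquiv] at h1
    obtain ⟨i, hi⟩ := IsPGroup.iff_card.1 (hW.to_subgroup ν.range)
    have hpos : 0 < Nat.card ↥(W ⊓ centralizer ({a} : Set L)) := Nat.card_pos
    have h2 : Nat.card ν.range ≤ p := Nat.le_of_mul_le_mul_right (h1.le.trans hle) hpos
    rcases Nat.lt_or_ge i 1 with hi0 | hi1
    · obtain rfl : i = 0 := by omega
      rw [pow_zero, card_eq_one, MonoidHom.range_eq_bot_iff] at hi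
      refine absurd ?_ hne
      refine mem_centralizer_iff.2 fun w hw => ?_
      have h3 : (⟨w, hw⟩ : W) ∈ ν.ker := by rw [hi]; rfl
      rw [hker, mem_subgroupOf, mem_inf, mem_centralizer_singleton_iff] at h3
      exact h3.2
    · exact le_antisymm h2 (hi ▸ Nat.le_self_pow (by omega) p)
  refine ⟨ν.range, hcardD, fun w => ⟨w, rfl⟩, fun d hd => ?_⟩
  obtain ⟨w, rfl⟩ := id hd
  by_cases hd1 : ν w = 1
  · rw [hd1, map_one]
  have hord : orderOf (⟨ν w, hd⟩ : ν.range) = p :=
    (hp.out.eq_one_or_self_of_dvd _ (hcardD ▸ orderOf_dvd_natCard _)).resolve_left fun h =>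
      hd1 (congrArg Subtype.val (orderOf_eq_one_iff.1 h))
  have hinv : c (ν w) ∈ ν.range := ⟨c w, by show c (c w) * (c w)⁻¹ = _; rw [← map_inv, ← map_mul]; rfl⟩
  have hz : (⟨c (ν w), hinv⟩ : ν.range) ∈ zpowers (⟨ν w, hd⟩ : ν.range) := by
    rw [eq_top_of_card_eq (zpowers (⟨ν w, hd⟩ : ν.range)) (by rw [Nat.card_zpowers, hord, hcardD])]
    exact mem_top _
  obtain ⟨j, hj⟩ := Submonoid.mem_powers_iff _ _ |>.1 (mem_powers_iff_mem_zpowers.2 hz)
  have hj' : c (ν w) = ν w ^ j := (congrArg Subtype.val hj).symm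
  have hit : ∀ m : ℕ, (c ^ m) (ν w) = ν w ^ j ^ m := by
    intro m
    induction m with
    | zero => simp
    | succ m ih => rw [pow_succ', MulAut.mul_apply, ih, map_pow, hj', ← pow_mul, pow_succ']
  have h1 := hit (p ^ k)
  rw [hc, ← map_pow, ha, map_one, MulAut.one_apply] at h1
  have h2 : j ^ p ^ k ≡ 1 [MOD p] := by
    have h3 := (pow_eq_pow_iff_modEq (x := (⟨ν w, hd⟩ : ν.range)) (n := j ^ p ^ k) (m := 1)).1
      (Subtype.ext (by rw [SubmonoidClass.coe_pow, SubmonoidClass.coe_pow, pow_one]; exact h1.symm))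
    rwa [hord] at h3
  rw [hj']
  conv_rhs => rw [← pow_one (ν w)]
  refine congrArg Subtype.val (pow_eq_pow_iff_modEq.2 ?_ :
    (⟨ν w, hd⟩ : ν.range) ^ j = (⟨ν w, hd⟩ : ν.range) ^ 1)
  rw [hord, ← ZMod.natCast_eq_natCast_iff] at *
  simpa [ZMod.pow_card_pow] using h2

/-- A group without section `S₄` has no transvection outside the largest normal `2`-subgroup. -/
theorem involves_of_transvection {L : Type u} [Group L] [Finite L] (W : Subgroup L) [W.Normal]
    (hWc : ∀ u ∈ W, ∀ v ∈ W, u * v = v * u) (hW : IsPGroup 2 W)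
    (hC : ∀ N : Subgroup L, N.Normal → centralizer (W : Set L) ≤ N →
      (∀ x ∈ N, ∃ k : ℕ, x ^ (2 ^ k) ∈ centralizer (W : Set L)) → N ≤ centralizer (W : Set L))
    (a : L) {k : ℕ} (ha : a ^ (2 ^ k) = 1) (hne : a ∉ centralizer (W : Set L))
    (hle : Nat.card W ≤ 2 * Nat.card ↥(W ⊓ centralizer ({a} : Set L))) :
    Involves (Equiv.Perm (Fin 4)) L := by
  classical
  haveI : Fact (Nat.Prime 2) := ⟨Nat.prime_two⟩
  letI : CommGroup W := { (inferInstance : Group W) with
    mul_comm := fun u v => Subtype.ext (hWc u u.2 v v.2) }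
  let c : L →* MulAut W := MulAut.conjNormal
  have hker : ∀ g : L, c g = 1 ↔ g ∈ centralizer (W : Set L) := by
    intro g
    rw [MulEquiv.ext_iff, mem_centralizer_iff]
    refine ⟨fun h w hw => ?_, fun h w => Subtype.ext ?_⟩
    · have h1 : g * w * g⁻¹ = w := congrArg Subtype.val (h ⟨w, hw⟩)
      exact (mul_inv_eq_iff_eq_mul.1 h1).symm
    · show g * (w : L) * g⁻¹ = w
      rw [← h w w.2, mul_inv_cancel_right]
  obtain ⟨Da, hDa, hDam, hDaf⟩ := transvection W hWc hW a ha hne hle
  have hD2 : ∀ d ∈ Da, d * d = 1 := fun d hd => by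
    have h1 := congrArg Subtype.val (pow_card_eq_one' (x := (⟨d, hd⟩ : Da)))
    rw [hDa] at h1
    simpa [pow_two] using h1
  have hca : ∀ w : W, c a (c a w) = w := fun w => by
    have h1 := hDam w
    have h2 := hDaf _ h1
    calc c a (c a w) = c a (c a w * w⁻¹ * w) := by rw [inv_mul_cancel_right]
      _ = (c a w * w⁻¹) * c a w := by rw [map_mul, h2]
      _ = (c a w * w⁻¹) * (c a w * w⁻¹) * w := by rw [mul_assoc _ _ w, inv_mul_cancel_right]
      _ = w := by rw [hD2 _ h1, one_mul]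
  -- a conjugate generating no `2`-group with `a`
  let R := c.range
  set a₁ : R := ⟨c a, a, rfl⟩ with ha₁
  have ha₁2 : a₁ * a₁ = 1 := Subtype.ext (MulEquiv.ext hca)
  have hX : IsPGroup 2 (zpowers a₁) := by
    refine IsPGroup.of_card (n := 1) ?_
    rw [Nat.card_zpowers, pow_one]
    exact orderOf_eq_prime (by rw [pow_two, ha₁2]) fun h => hne ((hker a).1 (congrArg Subtype.val h))
  obtain ⟨g, hg⟩ : ∃ g : R, ¬ IsPGroup 2 ↥(zpowers a₁ ⊔ MulAut.conj g • zpowers a₁) := by
    by_contra hcon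
    push Not at hcon
    obtain ⟨N, hNn, hNp, hXN⟩ := Inv.baerSuzuki (zpowers a₁) hX hcon
    haveI := hNn
    have h1 := hC (N.comap c.rangeRestrict) inferInstance (fun x hx => by
      rw [mem_comap, show c.rangeRestrict x = 1 from Subtype.ext ((hker x).2 hx)]
      exact N.one_mem) fun x hx => by
        obtain ⟨i, hi⟩ := hNp ⟨c.rangeRestrict x, hx⟩
        refine ⟨i, (hker _).1 ?_⟩
        rw [map_pow]
        exact congrArg (fun y : N => ((y : R) : MulAut W)) hi
    exact hne (h1 (show c.rangeRestrict a ∈ N from hXN (mem_zpowers a₁)))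
  obtain ⟨g₀, rfl⟩ : ∃ g₀, c.rangeRestrict g₀ = g := c.rangeRestrict_surjective g
  set g : R := c.rangeRestrict g₀ with hgdef
  set b := g₀ * a * g₀⁻¹ with hb
  set b₁ : R := g * a₁ * g⁻¹ with hb'
  have hb₁2 : b₁ * b₁ = 1 := by rw [hb']; calc _ = g * (a₁ * a₁) * g⁻¹ := by group
      _ = _ := by rw [ha₁2, mul_one, mul_inv_cancel]
  have hbval : (b₁ : MulAut W) = c b := by rw [hb, map_mul, map_mul, map_inv]; rfl
  set y₁ : R := a₁ * b₁ with hy₁
  have hinvol : a₁⁻¹ = a₁ := inv_eq_of_mul_eq_one_right ha₁2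
  have hinvb : b₁⁻¹ = b₁ := inv_eq_of_mul_eq_one_right hb₁2
  have hinv : a₁ * y₁ * a₁⁻¹ = y₁⁻¹ := by
    rw [hy₁, mul_inv_rev, hinvb, hinvol, ← mul_assoc, ha₁2, one_mul]
  have hnot : ∀ i : ℕ, y₁ ^ (2 ^ i) ≠ 1 := by
    intro i hi
    refine hg ?_
    have hy2 : IsPGroup 2 (zpowers y₁) := by
      obtain ⟨j, -, hj⟩ := (Nat.dvd_prime_pow Nat.prime_two).1 (orderOf_dvd_of_pow_eq_one hi)
      exact IsPGroup.of_card (n := j) (by rw [Nat.card_zpowers, hj])
    have hn : zpowers a₁ ≤ normalizer (zpowers y₁ : Set R) := by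
      rw [zpowers_le]
      refine mem_normalizer_of_conj_le ?_
      rintro _ ⟨x, ⟨m, rfl⟩, rfl⟩
      show a₁ * y₁ ^ m * a₁⁻¹ ∈ zpowers y₁
      rw [← conj_zpow, hinv, inv_zpow]
      exact inv_mem (zpow_mem (mem_zpowers y₁) m)
    refine (hX.to_sup_of_normal_right' hy2 hn).to_le (sup_le le_sup_left ?_)
    rintro _ ⟨x, hx, rfl⟩
    obtain ⟨m, rfl⟩ := hx
    show g * a₁ ^ m * g⁻¹ ∈ _
    rw [← conj_zpow]
    refine zpow_mem ?_ m
    show b₁ ∈ _
    rw [show b₁ = a₁ * y₁ by rw [hy₁, ← mul_assoc, ha₁2, one_mul]]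
    exact mul_mem (mem_sup_left (mem_zpowers a₁)) (mem_sup_right (mem_zpowers y₁))
  -- the odd part of the product
  obtain ⟨i, m, hm, hord⟩ := Nat.exists_eq_pow_mul_and_not_dvd (orderOf_pos y₁).ne' 2 (by norm_num)
  set t : R := y₁ ^ (2 ^ i) with ht
  have htord : orderOf t = m := by
    rw [ht, orderOf_pow_of_dvd (by positivity) (hord ▸ dvd_mul_right _ _), hord,
      Nat.mul_div_cancel_left _ (by positivity)]
  have ht1 : t ≠ 1 := hnot i
  -- the subgroup moved
  set Db := Da.map (c g₀).toMonoidHom with hDb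
  set D := Da ⊔ Db with hDdef
  have hDb2 : ∀ d ∈ Db, d * d = 1 := by
    rintro _ ⟨d, hd, rfl⟩
    rw [← map_mul, hD2 d hd, map_one]
  have hbm : ∀ w : W, c b w * w⁻¹ ∈ Db := fun w => by
    refine ⟨c a ((c g₀)⁻¹ w) * ((c g₀)⁻¹ w)⁻¹, hDam _, ?_⟩
    show c g₀ _ = _
    rw [hb, map_mul c, map_mul c, map_inv c, MulAut.mul_apply, MulAut.mul_apply, map_mul (c g₀),
      map_inv (c g₀), MulAut.apply_inv_self]
  have hDcl : ∀ x ∈ D, ∃ u ∈ Da, ∃ v ∈ Db, u * v = x := fun x hx => mem_sup.1 hx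
  have hDsq : ∀ x ∈ D, x * x = 1 := fun x hx => by
    obtain ⟨u, hu, v, hv, rfl⟩ := hDcl x hx
    rw [mul_mul_mul_comm, hD2 u hu, hDb2 v hv, one_mul]
  let K : Submonoid (MulAut W) :=
    { carrier := {σ | (∀ w : W, σ w * w⁻¹ ∈ D) ∧ ∀ d ∈ D, σ d ∈ D}
      one_mem' := ⟨fun w => by rw [MulAut.one_apply, mul_inv_cancel]; exact D.one_mem, fun d hd => hd⟩
      mul_mem' := fun {σ τ} hσ hτ => ⟨fun w => by
        rw [MulAut.mul_apply, show σ (τ w) * w⁻¹ = σ (τ w) * (τ w)⁻¹ * (τ w * w⁻¹) by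
          rw [← mul_assoc, inv_mul_cancel_right]]
        exact D.mul_mem (hσ.1 _) (hτ.1 w), fun d hd => hσ.2 _ (hτ.2 d hd)⟩ }
  have hpres : ∀ σ : MulAut W, (∀ w : W, σ w * w⁻¹ ∈ D) → σ ∈ K := fun σ hσ => ⟨hσ, fun d hd => by
    have := D.mul_mem (hσ d) hd
    rwa [inv_mul_cancel_right] at this⟩
  have htK : (t : MulAut W) ∈ K := by
    rw [ht, SubmonoidClass.coe_pow, hy₁, Subgroup.coe_mul]
    refine pow_mem (mul_mem (hpres _ fun w => mem_sup_left (hDam w)) ?_) _
    rw [hbval]
    exact hpres _ fun w => mem_sup_right (hbm w)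
  have hDcard : Nat.card D ≤ 4 := by
    have h1 : Nat.card Db = 2 := by
      exact (card_map_of_injective (K := Da) (f := (c g₀).toMonoidHom) (c g₀).injective).trans hDa
    calc Nat.card D ≤ Nat.card (Da × Db) := Nat.card_le_card_of_surjective
          (fun x : Da × Db => (⟨(x.1 : W) * x.2, D.mul_mem (mem_sup_left x.1.2) (mem_sup_right x.2.2)⟩ : D))
          fun x => by
            obtain ⟨u, hu, v, hv, he⟩ := hDcl x x.2
            exact ⟨(⟨u, hu⟩, ⟨v, hv⟩), Subtype.ext he⟩
      _ = 4 := by rw [Nat.card_prod, hDa, h1]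
  haveI : Fintype W := Fintype.ofFinite W
  let F : Finset W := Finset.univ.filter fun w => w ∈ D ∧ w ≠ 1
  have hF : F.card ≤ 3 := by
    have h1 : F.card < (Finset.univ.filter fun w => w ∈ D).card := Finset.card_lt_card
      ((Finset.ssubset_iff_of_subset fun w hw => by simp [F] at hw ⊢; exact hw.1).2
        ⟨1, by simp, by simp [F]⟩)
    have h2 : (Finset.univ.filter fun w => w ∈ D).card = Nat.card D := by
      rw [Nat.card_eq_fintype_card]
      exact (Fintype.card_subtype _).symm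
    omega
  have hfix6 : ∀ d ∈ D, ((t : MulAut W) ^ 6) d = d := fun d hd => by
    by_cases hd1 : d = 1
    · rw [hd1, map_one]
    refine Offender.pow_six_smul (y := (t : MulAut W)) hF (fun e he => ?_)
      (show d ∈ F by simp [F, hd, hd1])
    simp only [F, Finset.mem_filter, Finset.mem_univ, true_and] at he ⊢
    exact ⟨htK.2 e he.1, fun h => he.2 ((t : MulAut W).injective (h.trans (map_one _).symm))⟩
  have h12 : ∀ w : W, ((t : MulAut W) ^ 12) w = w := fun w => by
    have h1 : ((t : MulAut W) ^ 6) w * w⁻¹ ∈ D := (pow_mem htK 6).1 w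
    set e := ((t : MulAut W) ^ 6) w * w⁻¹ with he
    have h2 : ((t : MulAut W) ^ 6) w = e * w := (inv_mul_cancel_right _ _).symm
    rw [show (12 : ℕ) = 6 + 6 from rfl, pow_add, MulAut.mul_apply, h2, map_mul, hfix6 e h1, h2,
      ← mul_assoc, hDsq e h1, one_mul]
  have hm3 : m = 3 := by
    have h1 : m ∣ 12 := htord ▸ orderOf_dvd_of_pow_eq_one (Subtype.ext (by
      rw [SubmonoidClass.coe_pow]; exact MulEquiv.ext h12))
    have h2 : m ≠ 1 := fun h => ht1 (orderOf_eq_one_iff.1 (htord.trans h))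
    have := Nat.le_of_dvd (by norm_num) h1
    interval_cases m <;> simp_all
  have ht3 : t ^ 3 = 1 := hm3 ▸ htord ▸ pow_orderOf_eq_one t
  -- the elements of order two of `W`
  let Ω₁ : Subgroup L :=
    { carrier := {x | x ∈ W ∧ x * x = 1}
      one_mem' := ⟨W.one_mem, one_mul 1⟩
      mul_mem' := fun {x y} hx hy => ⟨W.mul_mem hx.1 hy.1, by
        rw [mul_assoc, ← mul_assoc y, ← hWc x hx.1 y hy.1, mul_assoc x y, hy.2, mul_one, hx.2]⟩
      inv_mem' := fun {x} hx => ⟨W.inv_mem hx.1, by rw [← mul_inv_rev, hx.2, inv_one]⟩ }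
  haveI : Ω₁.Normal := ⟨fun x hx h => ⟨(inferInstance : W.Normal).conj_mem x hx.1 h, by
    rw [show h * x * h⁻¹ * (h * x * h⁻¹) = h * (x * x) * h⁻¹ by group, hx.2, mul_one, mul_inv_cancel]⟩⟩
  have hres : ∀ {h h' : L}, c h = c h' → MulAut.conjNormal (H := Ω₁) h = MulAut.conjNormal h' :=
    fun {h h'} e => MulEquiv.ext fun w => Subtype.ext (by
      rw [MulAut.conjNormal_apply, MulAut.conjNormal_apply]
      exact congrArg Subtype.val (DFunLike.congr_fun e ⟨w, w.2.1⟩))
  have hres1 : ∀ {h : L}, c h = 1 → MulAut.conjNormal (H := Ω₁) h = 1 := fun {h} e => by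
    rw [hres (e.trans (map_one c).symm), map_one]
  have hyv : c ((a * b) ^ (2 ^ i)) = t := by
    rw [map_pow, map_mul, ht, SubmonoidClass.coe_pow, hy₁, Subgroup.coe_mul, hbval]
  refine ClassTwo.involves_perm_four_of_action Ω₁ (fun x hx z hz => hWc x hx.1 z hz.1) (fun x hx => hx.2)
    ((a * b) ^ (2 ^ i)) a ?_ ?_ ?_ ?_
  · rw [← map_pow]
    refine hres1 ?_
    rw [map_pow, hyv, ← SubmonoidClass.coe_pow, ht3]
    rfl
  · intro h
    refine ht1 ?_
    have hfix : ∀ d ∈ D, (t : MulAut W) d = d := fun d hd => by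
      have h1 := congrArg Subtype.val (DFunLike.congr_fun h
        (⟨d, d.2, congrArg Subtype.val (hDsq d hd)⟩ : Ω₁))
      rw [MulAut.conjNormal_apply, MulAut.one_apply] at h1
      rw [← hyv]
      exact Subtype.ext h1
    have ht2 : t ^ 2 = 1 := Subtype.ext (by
      rw [SubmonoidClass.coe_pow]
      refine MulEquiv.ext fun w => ?_
      have h1 := htK.1 w
      set e := (t : MulAut W) w * w⁻¹ with he
      have h2 : (t : MulAut W) w = e * w := (inv_mul_cancel_right _ _).symm
      rw [pow_two, MulAut.mul_apply, h2, map_mul, hfix e h1, h2, ← mul_assoc, hDsq e h1, one_mul]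
      rfl)
    rwa [pow_succ, ht2, one_mul] at ht3
  · rw [← map_mul]
    exact hres1 (MulEquiv.ext fun w => by rw [map_mul]; exact hca w)
  · rw [← map_mul, ← map_mul, ← map_inv]
    refine hres ?_
    have h2 : (a₁ * t * a₁ : R) = t⁻¹ := by
      conv_lhs => arg 2; rw [← hinvol]
      rw [ht, ← conj_pow, hinv, inv_pow]
    rw [map_mul, map_mul, map_inv, hyv]
    exact congrArg Subtype.val h2

/-- The hypothesis on the element. -/
def Cond (p : ℕ) {L : Type u} [Group L] (P : Subgroup L) (z : L) : Prop :=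
  p ≠ 2 ∨ (∃ w ∈ P, (∀ a ∈ P, a * w = w * a) ∧ w ^ p = z) ∨ ¬ Involves (Equiv.Perm (Fin 4)) L

theorem fixed_aux [hp : Fact p.Prime] : ∀ (n : ℕ) (L : Type u) [Group L] [Finite L],
    Nat.card L = n → ∀ P : Sylow p L, centralizer (pCore p L : Set L) ≤ pCore p L →
    ∀ (m : ℕ) (z : L), orderOf z = m → z ∈ (P : Subgroup L) → (∀ a ∈ (P : Subgroup L), a * z = z * a) →
      Cond p (P : Subgroup L) z →
      (∀ g ∈ normalizer (thompsonSubgroupAOf (P : Subgroup L) : Set L), g * z * g⁻¹ = z) →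
      ∀ g : L, g * z * g⁻¹ = z := by
  intro n
  induction n using Nat.strong_induction_on with
  | _ n ih =>
  intro L _ _ hn P hcL
  subst hn
  intro m
  induction m using Nat.strong_induction_on with
  | _ m ihm =>
  intro z hm hzP hzc hcond hN
  subst hm
  by_cases hz1 : z = 1
  · intro g; rw [hz1, mul_one, mul_inv_cancel]
  classical
  -- powers
  obtain ⟨k, hk⟩ := P.isPGroup' ⟨z, hzP⟩
  have hzk : z ^ p ^ k = 1 := congrArg Subtype.val hk
  have hpdvd : p ∣ orderOf z := by
    obtain ⟨i, -, hi⟩ := (Nat.dvd_prime_pow hp.out).1 (orderOf_dvd_of_pow_eq_one hzk)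
    rcases Nat.eq_zero_or_pos i with rfl | hi0
    · exact absurd (orderOf_eq_one_iff.1 (hi.trans (pow_zero p))) hz1
    · exact hi ▸ dvd_pow_self p hi0.ne'
  have hzp : ∀ g : L, g * z ^ p * g⁻¹ = z ^ p := by
    refine ihm _ ?_ (z ^ p) rfl (pow_mem hzP p) (fun a ha => ((show Commute a z from hzc a ha).pow_right p).eq)
      ?_ fun g hg => ?_
    · rw [orderOf_pow_of_dvd hp.out.ne_zero hpdvd]
      exact Nat.div_lt_self (orderOf_pos z) hp.out.one_lt
    · refine hcond.imp id (Or.imp_left ?_)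
      rintro ⟨w, hw, hwc, hwz⟩
      exact ⟨w ^ p, pow_mem hw p, fun a ha => ((show Commute a w from hwc a ha).pow_right p).eq, by rw [hwz]⟩
    · rw [← conj_pow, hN g hg]
  by_contra hcon
  set R := pCore p L with hR
  haveI := pCore_characteristic p L
  have hRP : R ≤ (P : Subgroup L) := pCore_le_sylow P
  set W := R ⊓ centralizer (R : Set L) with hW
  have hWc : ∀ x ∈ W, ∀ y ∈ W, x * y = y * x := fun x hx y hy => hy.2 x hx.1
  have hWp : IsPGroup p W := (isPGroup_pCore p L).to_le inf_le_left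
  have hcentral : ∀ {x : L}, x ∈ (P : Subgroup L) → (∀ a ∈ (P : Subgroup L), a * x = x * a) → x ∈ W :=
    fun {x} _ hxc => by
      have h1 : x ∈ centralizer (R : Set L) := fun r hr => hxc r (hRP hr)
      exact ⟨hcL h1, h1⟩
  have hzW : z ∈ W := hcentral hzP hzc
  set C := centralizer (W : Set L) with hCdef
  haveI : C.Normal := inferInstance
  have hRC : R ≤ C := fun r hr => mem_centralizer_iff.2 fun w hw => (hw.2 r hr).symm
  set M := centralizer ({z} : Set L) with hM
  have hmemM : ∀ {g : L}, g ∈ M ↔ g * z * g⁻¹ = z := fun {g} => by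
    rw [hM, mem_centralizer_singleton_iff, mul_inv_eq_iff_eq_mul]
  have hMtop : M ≠ ⊤ := fun h => hcon fun g => hmemM.1 (h.ge (mem_top g))
  have hPM : (P : Subgroup L) ≤ M := fun a ha => hmemM.2 (by rw [hzc a ha, mul_inv_cancel_right])
  -- proper overgroups of the Sylow group fix the element
  have hover : ∀ H : Subgroup L, (P : Subgroup L) ≤ H → H ≠ ⊤ → H ≤ M := by
    intro H hPH hH g hg
    set P' : Sylow p H := P.subtype hPH
    have hP' : (P' : Subgroup H).map H.subtype = (P : Subgroup L) := by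
      rw [Sylow.coe_subtype, map_subgroupOf_eq_of_le hPH]
    have hRH : R.subgroupOf H ≤ pCore p H := by
      haveI : (R.subgroupOf H).Normal := inferInstance
      exact le_pCore ((isPGroup_pCore p L).comap_of_injective _ H.subtype_injective)
    have h1 := ih (Nat.card H) ?_ H rfl P' ?_ (orderOf (⟨z, hPH hzP⟩ : H)) ⟨z, hPH hzP⟩ rfl
      (show z ∈ (P : Subgroup L) from hzP) (fun a ha => Subtype.ext (hzc _ ha)) ?_ (fun x hx => Subtype.ext ?_)
      ⟨g, hg⟩
    · exact hmemM.2 (congrArg Subtype.val h1)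
    · exact lt_of_le_of_ne (Nat.le_of_dvd Nat.card_pos (card_subgroup_dvd_card H))
        fun h => hH (eq_top_of_card_eq _ h)
    · intro x hx
      refine hRH (hcL fun r hr => ?_)
      exact congrArg Subtype.val (hx ⟨r, hPH (hRP hr)⟩ (hRH hr))
    · refine hcond.imp id (Or.imp ?_ fun h hi => h (involves_of_injective H.subtype H.subtype_injective hi))
      rintro ⟨w, hw, hwc, hwz⟩
      exact ⟨⟨w, hPH hw⟩, hw, fun a ha => Subtype.ext (hwc _ ha), Subtype.ext hwz⟩
    · refine hN x ?_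
      have h2 : (thompsonSubgroupAOf (P' : Subgroup H)).map H.subtype =
          thompsonSubgroupAOf (P : Subgroup L) := by
        rw [ThompsonA.thompsonAOf_map _ _ (by rw [ker_subtype, inf_bot_eq]), hP']
      rw [← h2]
      exact le_normalizer_map H.subtype ⟨x, hx, rfl⟩
  have hzC : C ≤ M := fun x hx => hmemM.2 (by rw [← hx z hzW, mul_inv_cancel_right])
  -- normal subgroups between the centralizer and `M`
  have hfr : ∀ N : Subgroup L, N.Normal → N ≤ M → (P : Subgroup L) ⊓ N ≤ R := by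
    intro N hNn hNM
    obtain ⟨PN, hPN⟩ := ZJ.exists_sylow_inf P N
    have hsup := Sylow.normalizer_sup_eq_top PN
    rw [hPN] at hsup
    set K := normalizer (((P : Subgroup L) ⊓ N : Subgroup L) : Set L) with hK
    have hPK : (P : Subgroup L) ≤ K := fun a ha => mem_normalizer_of_conj_le (by
      rintro _ ⟨x, hx, rfl⟩
      exact ⟨(P : Subgroup L).mul_mem ((P : Subgroup L).mul_mem ha hx.1) ((P : Subgroup L).inv_mem ha),
        hNn.conj_mem x hx.2 a⟩)
    by_cases hKtop : K = ⊤
    · haveI : ((P : Subgroup L) ⊓ N).Normal := normalizer_eq_top_iff.1 hKtop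
      exact le_pCore (P.isPGroup'.to_le inf_le_left)
    exact absurd (eq_top_iff.2 (hsup.ge.trans (sup_le (hover K hPK hKtop) hNM))) hMtop
  have hPC : (P : Subgroup L) ⊓ C ≤ R := hfr C inferInstance hzC
  have hcore : ∀ N : Subgroup L, N.Normal → C ≤ N → (∀ x ∈ N, ∃ i : ℕ, x ^ (p ^ i) ∈ C) → N ≤ C := by
    intro N hNn hCN hNp
    have hNPC : N ≤ (P : Subgroup L) ⊔ C := by
      haveI : (N.map (QuotientGroup.mk' C)).Normal := hNn.map _ (QuotientGroup.mk'_surjective C)
      have h1 : IsPGroup p (N.map (QuotientGroup.mk' C)) := by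
        rintro ⟨_, x, hx, rfl⟩
        obtain ⟨i, hi⟩ := hNp x hx
        exact ⟨i, Subtype.ext ((map_pow (QuotientGroup.mk' C) x _).symm.trans
          ((QuotientGroup.eq_one_iff _).2 hi))⟩
      have h2 := (le_pCore h1).trans (pCore_le_sylow (P.mapSurjective (QuotientGroup.mk'_surjective C)))
      rw [Sylow.coe_mapSurjective, map_le_iff_le_comap, comap_map_eq, QuotientGroup.ker_mk'] at h2
      exact h2
    have h3 : (P : Subgroup L) ⊓ N ≤ C := (hfr N hNn (hNPC.trans (sup_le hPM hzC))).trans hRC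
    intro x hx
    obtain ⟨y, hy, c, hc, rfl⟩ := mem_sup_of_normal_right.1 (hNPC hx)
    exact C.mul_mem (h3 ⟨hy, by simpa using N.mul_mem hx (N.inv_mem (hCN hc))⟩) hc
  -- offenders
  let Off : Subgroup L → Prop := fun A => IsPGroup p A ∧ ¬ A ≤ C ∧
    Nat.card W * Nat.card ↥(A ⊓ C) ≤ Nat.card A * Nat.card ↥(W ⊓ centralizer (A : Set L))
  obtain ⟨A₀, hA₀P, hA₀⟩ : ∃ A, A ≤ (P : Subgroup L) ∧ Off A := by
    by_contra hnone
    push Not at hnone
    -- all abelian subgroups of largest order lie in the core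
    have hall : ∀ A ∈ maxAbelianSubgroups (P : Subgroup L), A.map (P : Subgroup L).subtype ≤ R := by
      intro A hA
      set A' := A.map (P : Subgroup L).subtype with hA'
      have hA'P : A' ≤ (P : Subgroup L) := map_subtype_le A
      refine (le_inf hA'P ?_).trans hPC
      by_contra hAC
      refine hnone A' hA'P ⟨P.isPGroup'.to_le hA'P, hAC, ?_⟩
      haveI := hA.1
      haveI : W.Normal := inferInstance
      set U := W ⊔ (A' ⊓ C)
      have hUP : U ≤ (P : Subgroup L) := sup_le (inf_le_left.trans hRP) (inf_le_left.trans hA'P)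
      have hab' : ∀ x ∈ A', ∀ y ∈ A', x * y = y * x := by
        rintro _ ⟨x, hx, rfl⟩ _ ⟨y, hy, rfl⟩
        exact congrArg (Subgroup.subtype _) (congrArg Subtype.val (hA.1.is_comm.comm (⟨x, hx⟩ : A) ⟨y, hy⟩))
      have hUab : IsMulCommutative (U.subgroupOf (P : Subgroup L)) := by
        have hcl : U = Subgroup.closure ((W : Set L) ∪ (A' ⊓ C : Subgroup L)) := by
          rw [Subgroup.closure_union, Subgroup.closure_eq, Subgroup.closure_eq]
        have h1 : IsMulCommutative U := hcl ▸ isMulCommutative_closure (by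
          rintro x (hx | hx) y (hy | hy)
          · exact hWc x hx y hy
          · exact hy.2 x hx
          · exact (hx.2 y hy).symm
          · exact hab' x hx.1 y hy.1)
        exact ⟨⟨fun x y => Subtype.ext (Subtype.ext (congrArg (fun t : U => (t : L))
          (h1.is_comm.comm (⟨((x : (P : Subgroup L)) : L), x.2⟩ : U) ⟨((y : (P : Subgroup L)) : L), y.2⟩) :))⟩⟩
      have h1 := hA.2 _ hUab
      rw [Nat.card_congr (subgroupOfEquivOfLe hUP).toEquiv,
        ← card_map_of_injective (K := A) (P : Subgroup L).subtype_injective, ← hA'] at h1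
      have h2 := card_sup_mul_card_inf W (A' ⊓ C) le_normalizer_of_normal
      rw [← h2]
      refine Nat.mul_le_mul h1 (Subgroup.card_le_of_le (le_inf inf_le_left ?_))
      exact fun x hx => mem_centralizer_iff.2 fun y hy => hab' y hy x hx.2.1
    have hJR : thompsonSubgroupAOf (P : Subgroup L) ≤ R := by
      rw [thompsonSubgroupAOf, thompsonSubgroupA, map_le_iff_le_comap, sSup_le_iff]
      exact fun A hA => map_le_iff_le_comap.1 (hall A hA)
    have hJn : normalizer (thompsonSubgroupAOf (P : Subgroup L) : Set L) = ⊤ := by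
      refine eq_top_iff.2 fun g _ => mem_normalizer_of_conj_le ?_
      show (thompsonSubgroupAOf (P : Subgroup L)).map (MulAut.conj g).toMonoidHom ≤ _
      rw [thompsonSubgroupAOf, map_map, map_le_iff_le_comap, thompsonSubgroupA, sSup_le_iff]
      intro A hA
      rw [← map_le_iff_le_comap, ← map_map]
      set B := (A.map (P : Subgroup L).subtype).map (MulAut.conj g).toMonoidHom
      have hBP : B ≤ (P : Subgroup L) := by
        rintro _ ⟨x, hx, rfl⟩
        exact hRP ((inferInstance : R.Normal).conj_mem x (hall A hA hx) g)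
      rw [← map_subgroupOf_eq_of_le hBP]
      refine map_mono (le_sSup ⟨?_, fun B' hB' => ?_⟩)
      · haveI := hA.1
        haveI : IsMulCommutative B := inferInstance
        exact ⟨⟨fun x y => Subtype.ext (Subtype.ext (congrArg (fun t : B => (t : L))
          ((inferInstance : IsMulCommutative B).is_comm.comm
            (⟨((x : (P : Subgroup L)) : L), x.2⟩ : B) ⟨((y : (P : Subgroup L)) : L), y.2⟩) :))⟩⟩
      · rw [Nat.card_congr (subgroupOfEquivOfLe hBP).toEquiv,
          card_map_of_injective (f := (MulAut.conj g).toMonoidHom) (MulAut.conj g).injective, card_map_of_injective (P : Subgroup L).subtype_injective]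
        exact hA.2 B' hB'
    exact hcon fun g => hN g (hJn.ge (mem_top g))
  obtain ⟨A₁, hA₁, hmin⟩ := Set.exists_min_image {A | Off A} (fun A : Subgroup L => Nat.card A)
    (Set.toFinite _) ⟨A₀, hA₀⟩
  have hOffconj : ∀ (g : L) (A : Subgroup L), Off A → Off (A.map (MulAut.conj g).toMonoidHom) := by
    intro g A hA
    have hmap : ∀ H : Subgroup L, H.Normal → H.map (MulAut.conj g).toMonoidHom = H := fun H hH => by
      ext x
      rw [mem_map]
      refine ⟨?_, fun hx => ⟨g⁻¹ * x * g, by simpa using hH.conj_mem x hx g⁻¹, by simp [mul_assoc]⟩⟩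
      rintro ⟨y, hy, rfl⟩
      exact hH.conj_mem y hy g
    refine ⟨hA.1.map _, fun h => hA.2.1 fun x hx => ?_, ?_⟩
    · have := (inferInstance : C.Normal).conj_mem _ (h ⟨x, hx, rfl⟩) g⁻¹
      simpa [mul_assoc] using this
    · have e1 : A.map (MulAut.conj g).toMonoidHom ⊓ C = (A ⊓ C).map (MulAut.conj g).toMonoidHom := by
        rw [map_inf _ _ _ (MulAut.conj g).injective, hmap C inferInstance]
      have e2 : Nat.card ↥(W ⊓ centralizer (A : Set L)) ≤
          Nat.card ↥(W ⊓ centralizer ((A.map (MulAut.conj g).toMonoidHom : Subgroup L) : Set L)) := by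
        rw [← card_map_of_injective (K := W ⊓ centralizer (A : Set L)) (f := (MulAut.conj g).toMonoidHom) (MulAut.conj g).injective]
        refine Subgroup.card_le_of_le ?_
        rintro _ ⟨x, ⟨hxW, hxA⟩, rfl⟩
        refine ⟨(inferInstance : W.Normal).conj_mem x hxW g, ?_⟩
        rintro _ ⟨a, ha, rfl⟩
        exact ((show Commute a x from hxA a ha).map (MulAut.conj g).toMonoidHom).eq
      rw [e1, card_map_of_injective (f := (MulAut.conj g).toMonoidHom) (MulAut.conj g).injective, card_map_of_injective (f := (MulAut.conj g).toMonoidHom) (MulAut.conj g).injective]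
      exact hA.2.2.trans (Nat.mul_le_mul_left _ e2)
  set gens := {A : Subgroup L | A ≤ (P : Subgroup L) ∧ Off A ∧ Nat.card A = Nat.card A₁} with hgens
  set X := sSup gens with hXdef
  have hXP : X ≤ (P : Subgroup L) := sSup_le fun A hA => hA.1
  have hgenne : ∃ A, A ∈ gens := by
    obtain ⟨Q, hQ⟩ := hA₁.1.exists_le_sylow
    obtain ⟨g, hg⟩ := MulAction.exists_smul_eq L Q P
    refine ⟨_, ?_, hOffconj g A₁ hA₁, card_map_of_injective (f := (MulAut.conj g).toMonoidHom) (MulAut.conj g).injective⟩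
    rw [← hg, Sylow.coe_subgroup_smul]
    exact map_mono hQ
  have hXC : ¬ X ≤ C := fun h => by
    obtain ⟨A, hA⟩ := hgenne
    exact hA.2.1.2.1 ((le_sSup hA).trans h)
  have hgenconj : ∀ g : L, (∀ x ∈ X, g * x * g⁻¹ ∈ (P : Subgroup L)) →
      X.map (MulAut.conj g).toMonoidHom ≤ X := by
    intro g hg
    rw [map_le_iff_le_comap]
    refine sSup_le fun A hA => map_le_iff_le_comap.1 (le_sSup ⟨?_, hOffconj g A hA.2.1, ?_⟩)
    · rintro _ ⟨x, hx, rfl⟩
      exact hg x (le_sSup hA hx)
    · rw [card_map_of_injective (f := (MulAut.conj g).toMonoidHom) (MulAut.conj g).injective]; exact hA.2.2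
  have hNX : normalizer (X : Set L) ≤ M := by
    refine hover _ (fun a ha => mem_normalizer_of_conj_le (hgenconj a fun x hx =>
      mul_mem (mul_mem ha (hXP hx)) (inv_mem ha))) fun h => hXC ?_
    haveI : X.Normal := normalizer_eq_top_iff.1 h
    exact (le_pCore (P.isPGroup'.to_le hXP)).trans hRC
  -- the transfer
  letI : CommGroup W := { (inferInstance : Group W) with
    mul_comm := fun u v => Subtype.ext (hWc u u.2 v v.2) }
  let Q := L ⧸ (P : Subgroup L)
  haveI : Fintype Q := Fintype.ofFinite Q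
  have hlift : ∀ w : W, (∀ a ∈ (P : Subgroup L), a * (w : L) = w * a) →
      ∃ F : Q → W, ∀ g : L, ((F (QuotientGroup.mk g) : W) : L) = g * w * g⁻¹ := by
    intro w hw
    refine ⟨fun q => q.liftOn' (fun g => MulAut.conjNormal g w) fun g g' h => Subtype.ext ?_,
      fun g => MulAut.conjNormal_apply g w⟩
    have h1 : g⁻¹ * g' ∈ (P : Subgroup L) := QuotientGroup.leftRel_apply.1 h
    rw [MulAut.conjNormal_apply, MulAut.conjNormal_apply]
    calc g * (w : L) * g⁻¹ = g * ((g⁻¹ * g') * w * (g⁻¹ * g')⁻¹) * g⁻¹ := by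
          rw [hw _ h1, mul_inv_cancel_right]
      _ = g' * w * g'⁻¹ := by group
  set zW : W := ⟨z, hzW⟩ with hzWdef
  obtain ⟨f, hf⟩ := hlift zW hzc
  have hequiv : ∀ {F : Q → W} {w : W}, (∀ g : L, ((F (QuotientGroup.mk g) : W) : L) = g * w * g⁻¹) →
      ∀ (x : L) (c : Q), F (x • c) = MulAut.conjNormal x (F c) := by
    intro F w hF x c
    induction c using QuotientGroup.induction_on with
    | _ g =>
      refine Subtype.ext ?_
      rw [MulAut.conjNormal_apply, hF g, show x • (QuotientGroup.mk g : Q) = QuotientGroup.mk (x * g) from rfl, hF]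
      group
  have hkey : ∏ c, f c = zW ^ Nat.card Q := by
    refine prod_eq_pow_of_orbits (P.isPGroup'.to_le hXP) ((MulAut.conjNormal (H := W)).comp X.subtype) f zW
      (fun x c => hequiv hf x c) (fun c => ?_) (fun c hc => ?_) fun B hB => ?_
    · induction c using QuotientGroup.induction_on with
      | _ g =>
        refine Subtype.ext ?_
        rw [SubgroupClass.coe_pow, SubgroupClass.coe_pow, hf, conj_pow, hzp g]
    · induction c using QuotientGroup.induction_on with
      | _ g =>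
        refine Subtype.ext ?_
        rw [hf g]
        refine hmemM.1 (hNX ?_)
        have h1 : X.map (MulAut.conj g⁻¹).toMonoidHom ≤ X := hgenconj g⁻¹ fun x hx => by
          have h2 : (QuotientGroup.mk (x * g) : Q) = QuotientGroup.mk g := hc ⟨x, hx⟩
          have h3 := QuotientGroup.eq.1 h2.symm
          rwa [inv_inv, mul_assoc]
        exact inv_inv g ▸ inv_mem (mem_normalizer_of_conj_le h1)
    obtain ⟨A, hA, hAB⟩ : ∃ A ∈ gens, ¬ A ≤ B.map X.subtype := by
      by_contra hcon2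
      push Not at hcon2
      have h1 : X ≤ B.map X.subtype := sSup_le hcon2
      have h2 : B = ⊤ := eq_top_iff.2 fun x _ => by
        obtain ⟨y, hy, hyx⟩ := h1 x.2
        exact (X.subtype_injective hyx) ▸ hy
      rw [h2, index_top] at hB
      exact hp.out.ne_one hB.symm
    have hAX : A ≤ X := le_sSup hA
    obtain ⟨hAP, hAoff, hAm⟩ := hA
    haveI : B.Normal := normal_of_index_eq_minFac_card (by
      rw [hB]
      obtain ⟨j, hj⟩ := IsPGroup.iff_card.1 (P.isPGroup'.to_le hXP)
      rw [hj, hp.out.pow_minFac]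
      rintro rfl
      have := B.index_dvd_card
      rw [hB, hj, pow_zero] at this
      exact hp.out.ne_one (Nat.dvd_one.1 this))
    set BA := A ⊓ B.map X.subtype with hBA
    have hcardA : Nat.card A = p * Nat.card BA := by
      have h1 : (B.comap (inclusion hAX)).index = p := by
        rw [index_comap]
        refine (hp.out.eq_one_or_self_of_dvd _ (hB ▸ relIndex_dvd_index_of_normal B _)).resolve_left fun h => hAB ?_
        rw [relIndex_eq_one] at h
        exact fun x hx => ⟨⟨x, hAX hx⟩, h ⟨⟨x, hx⟩, rfl⟩, rfl⟩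
      have h2 : (B.comap (inclusion hAX)).map A.subtype = BA := by
        ext x
        constructor
        · rintro ⟨y, hy, rfl⟩
          exact ⟨y.2, _, hy, rfl⟩
        · rintro ⟨hx, y, hy, hyx⟩
          refine ⟨⟨x, hx⟩, ?_, rfl⟩
          show inclusion hAX ⟨x, hx⟩ ∈ B
          rwa [← (Subtype.ext hyx : y = inclusion hAX ⟨x, hx⟩)]
      have h3 := (B.comap (inclusion hAX)).index_mul_card
      rw [h1, ← card_map_of_injective (K := B.comap (inclusion hAX)) A.subtype_injective, h2] at h3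
      exact h3.symm
    obtain ⟨a, haA, haB⟩ := SetLike.not_le_iff_exists.1 hAB
    refine ⟨⟨a, hAX haA⟩, fun h => haB ⟨_, h, rfl⟩, fun T hT => ?_⟩
    have hfixT : ∀ {F : Q → W} {w : W}, (∀ g : L, ((F (QuotientGroup.mk g) : W) : L) = g * w * g⁻¹) →
        ∀ b ∈ BA, MulAut.conjNormal b (∏ c ∈ T, F c) = ∏ c ∈ T, F c := by
      intro F w hF b hb
      obtain ⟨b', hb', rfl⟩ := hb.2
      rw [map_prod]
      refine Finset.prod_nbij' (fun c => b' • c) (fun c => b'⁻¹ • c) (fun c hc => hT b' hb' c hc)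
        (fun c hc => hT _ (B.inv_mem hb') c hc) (fun c _ => inv_smul_smul b' c) (fun c _ => smul_inv_smul b' c)
        fun c _ => (hequiv hF _ c).symm
    have hsimple : ∀ v : W, (∀ b ∈ BA, MulAut.conjNormal b v = v) →
        (W ⊓ centralizer (BA : Set L) ≤ centralizer ({a} : Set L)) → MulAut.conjNormal a v = v := by
      intro v hv hle
      have h1 := mem_centralizer_singleton_iff.1 (hle ⟨v.2, mem_centralizer_iff.2 fun b hb => by
        have h2 := congrArg Subtype.val (hv b hb)
        rwa [MulAut.conjNormal_apply, mul_inv_eq_iff_eq_mul] at h2⟩)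
      refine Subtype.ext ?_
      rw [MulAut.conjNormal_apply, ← h1, mul_inv_cancel_right]
    by_cases hcase : W ⊓ centralizer (BA : Set L) ≤ centralizer ({a} : Set L)
    · exact ⟨1, by rw [mul_one]; exact hsimple _ (hfixT hf) hcase, map_one _, one_pow _⟩
    -- a transvection
    have hAC : A ⊓ C ≤ BA := by
      intro x hx
      by_contra hxBA
      refine hcase fun w hw => mem_centralizer_singleton_iff.2 ?_
      have h1 : BA ⊔ zpowers x = A := by
        refine eq_of_le_of_card_ge (sup_le inf_le_left (zpowers_le.2 hx.1)) ?_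
        have h2 : BA < BA ⊔ zpowers x := lt_of_le_of_ne le_sup_left fun h =>
          hxBA (h.ge (mem_sup_right (mem_zpowers x)))
        obtain ⟨i, hi⟩ := IsPGroup.iff_card.1 (hAoff.1.to_le (inf_le_left : BA ≤ A))
        obtain ⟨j, hj⟩ := IsPGroup.iff_card.1
          (hAoff.1.to_le (sup_le inf_le_left (zpowers_le.2 hx.1) : BA ⊔ zpowers x ≤ A))
        have h3 : Nat.card BA < Nat.card ↥(BA ⊔ zpowers x) := by
          by_contra hge
          exact h2.ne (eq_of_le_of_card_ge h2.le (not_lt.1 hge))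
        rw [hi, hj] at h3
        rw [hcardA, hi, hj, ← pow_succ']
        exact Nat.pow_le_pow_right hp.out.pos ((Nat.pow_lt_pow_iff_right hp.out.one_lt).1 h3)
      have h4 : BA ⊔ zpowers x ≤ centralizer ({w} : Set L) := sup_le
        (fun b hb => mem_centralizer_singleton_iff.2 (hw.2 b hb))
        (zpowers_le.2 (mem_centralizer_singleton_iff.2 ((mem_centralizer_iff.1 hx.2 w hw.1).symm)))
      exact (mem_centralizer_singleton_iff.1 (h4 (h1.ge haA))).symm
    have hBAC : BA ≤ C := by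
      by_contra hBAC
      have hBAlt : Nat.card BA < Nat.card A₁ := by
        rw [← hAm, hcardA]
        exact lt_mul_of_one_lt_left Nat.card_pos hp.out.one_lt
      have h1 : ¬ Off BA := fun h => (not_lt.2 (hmin BA h)) hBAlt
      have h2 : Nat.card BA * Nat.card ↥(W ⊓ centralizer (BA : Set L)) < Nat.card W * Nat.card ↥(BA ⊓ C) :=
        not_le.1 fun h => h1 ⟨hAoff.1.to_le inf_le_left, hBAC, h⟩
      have h3 : BA ⊓ C = A ⊓ C := le_antisymm (inf_le_inf_right _ inf_le_left) (le_inf hAC inf_le_right)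
      rw [h3] at h2
      have h4 := h2.trans_le hAoff.2.2
      rw [hcardA, mul_comm p, mul_assoc] at h4
      have h5 := Nat.lt_of_mul_lt_mul_left h4
      have hle : W ⊓ centralizer (A : Set L) ≤ W ⊓ centralizer (BA : Set L) :=
        inf_le_inf_left _ (centralizer_le inf_le_left)
      obtain ⟨i, hi⟩ := IsPGroup.iff_card.1 (hWp.to_le (inf_le_left : W ⊓ centralizer (BA : Set L) ≤ W))
      obtain ⟨j, hj⟩ := IsPGroup.iff_card.1 (hWp.to_le (inf_le_left : W ⊓ centralizer (A : Set L) ≤ W))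
      rw [hi, hj, ← pow_succ'] at h5
      have heq : W ⊓ centralizer (A : Set L) = W ⊓ centralizer (BA : Set L) := by
        refine eq_of_le_of_card_ge hle ?_
        rw [hi, hj]
        exact Nat.pow_le_pow_right hp.out.pos
          (Nat.lt_succ_iff.1 ((Nat.pow_lt_pow_iff_right hp.out.one_lt).1 h5))
      exact hcase fun w hw => mem_centralizer_singleton_iff.2
        (mem_centralizer_iff.1 (heq.ge hw).2 a haA).symm
    have haC : a ∉ C := fun h => haB (hAC ⟨haA, h⟩).2
    have hidx : Nat.card W ≤ p * Nat.card ↥(W ⊓ centralizer ({a} : Set L)) := by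
      have h3 : BA = A ⊓ C := le_antisymm (le_inf inf_le_left hBAC) hAC
      have h4 := hAoff.2.2
      rw [hcardA, h3, mul_comm p, mul_assoc, mul_comm (Nat.card W)] at h4
      refine (Nat.le_of_mul_le_mul_left h4 Nat.card_pos).trans (Nat.mul_le_mul_left _ ?_)
      exact Subgroup.card_le_of_le (inf_le_inf_left _ (centralizer_le (Set.singleton_subset_iff.2 haA)))
    obtain ⟨k, hk⟩ := hAoff.1 ⟨a, haA⟩
    have hak : a ^ p ^ k = 1 := congrArg Subtype.val hk
    obtain ⟨D, hD, hDm, hDf⟩ := transvection W hWc hWp a hak haC hidx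
    have hDp : ∀ d ∈ D, d ^ p = 1 := fun d hd => by
      have h1 := congrArg Subtype.val (pow_card_eq_one' (x := (⟨d, hd⟩ : D)))
      rwa [hD] at h1
    rcases hcond with hp2 | ⟨w, hw, hwc, hwz⟩ | hfree
    · refine ⟨_, ?_, hDf _ (hDm (∏ c ∈ T, f c)), ?_⟩
      · rw [mul_comm, inv_mul_cancel_right]; rfl
      · obtain ⟨q, hq⟩ : p ∣ p * (p - 1) / 2 := by
          obtain ⟨r, hr⟩ := hp.out.odd_of_ne_two hp2
          refine ⟨r, ?_⟩
          rw [hr, Nat.add_sub_cancel, mul_comm 2 r, ← mul_assoc, Nat.mul_div_cancel _ (by norm_num)]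
        rw [hq, pow_mul, hDp _ (hDm _), one_pow]
    · obtain ⟨F, hF⟩ := hlift ⟨w, hcentral hw hwc⟩ hwc
      have hfF : ∀ c, f c = F c ^ p := fun c => by
        induction c using QuotientGroup.induction_on with
        | _ g =>
          refine Subtype.ext ?_
          rw [SubgroupClass.coe_pow, hf, hF, conj_pow, hzWdef]
          exact congrArg (fun x => g * x * g⁻¹) hwz.symm
      refine ⟨1, ?_, map_one _, one_pow _⟩
      rw [mul_one, Finset.prod_congr rfl fun c _ => hfF c, Finset.prod_pow]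
      have h1 := hDm (∏ c ∈ T, F c)
      show MulAut.conjNormal a ((∏ c ∈ T, F c) ^ p) = _
      rw [map_pow, ← mul_inv_eq_one, ← inv_pow, ← mul_pow]
      exact hDp _ h1
    · by_cases hp2 : p = 2
      · subst hp2
        exact absurd (involves_of_transvection W hWc hWp hcore a hak haC hidx) hfree
      · refine ⟨_, ?_, hDf _ (hDm (∏ c ∈ T, f c)), ?_⟩
        · rw [mul_comm, inv_mul_cancel_right]; rfl
        · obtain ⟨q, hq⟩ : p ∣ p * (p - 1) / 2 := by
            obtain ⟨r, hr⟩ := hp.out.odd_of_ne_two hp2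
            refine ⟨r, ?_⟩
            rw [hr, Nat.add_sub_cancel, mul_comm 2 r, ← mul_assoc, Nat.mul_div_cancel _ (by norm_num)]
          rw [hq, pow_mul, hDp _ (hDm _), one_pow]
  -- the product is fixed
  refine hcon fun g => ?_
  have h1 : MulAut.conjNormal g (∏ c, f c) = ∏ c, f c := by
    rw [map_prod]
    exact Fintype.prod_equiv (MulAction.toPerm g) _ _ fun c => (hequiv hf g c).symm
  rw [hkey] at h1
  have h2 : g * z ^ Nat.card Q * g⁻¹ = z ^ Nat.card Q := by
    simpa [MulAut.conjNormal_apply] using congrArg Subtype.val h1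
  have hcop : (Nat.card Q).Coprime (orderOf z) := by
    obtain ⟨i, -, hi⟩ := (Nat.dvd_prime_pow hp.out).1 (orderOf_dvd_of_pow_eq_one hzk)
    rw [hi]
    exact ((hp.out.coprime_iff_not_dvd.2 P.not_dvd_index).symm).pow_right i
  obtain ⟨m, hm⟩ := exists_pow_eq_self_of_coprime hcop
  rw [← hm, ← conj_pow, h2]

/-- Glauberman's theorem in constrained groups. -/
theorem fixed_of_constrained [Fact p.Prime] {L : Type u} [Group L] [Finite L] (P : Sylow p L)
    (hcL : centralizer (pCore p L : Set L) ≤ pCore p L) {z : L} (hzP : z ∈ (P : Subgroup L))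
    (hzc : ∀ a ∈ (P : Subgroup L), a * z = z * a) (hcond : Cond p (P : Subgroup L) z)
    (hN : ∀ g ∈ normalizer (thompsonSubgroupAOf (P : Subgroup L) : Set L), g * z * g⁻¹ = z) (g : L) :
    g * z * g⁻¹ = z :=
  fixed_aux _ L rfl P hcL _ z rfl hzP hzc hcond hN g

end Cfsg.Agent.Fusion.GFix
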