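import Cfsg.Agent.Lib.Fusion.ZJCriterion
import Cfsg.Agent.Lib.Fusion.FunctorReduction

/-!
The Glauberman–Thompson criterion for fusion systems at an odd prime.
-/

set_option autoImplicit false

universe v

namespace Cfsg.Agent.Fusion

open Cfsg Cfsg.FusionSystem

variable {Ω : Type v} [Group Ω] {S : Subgroup Ω} {F : FusionSystem S} {p : ℕ} [Finite S]
  [Fact p.Prime] {D : Subgroup Ω}

omit [Fact p.Prime] in
theorem stronglyClosed_self (F : FusionSystem S) : F.StronglyClosed S :=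
  stronglyClosed_of_apply_mem le_rfl fun _ _ _ hf _ hx => hf.mem hx

theorem eq_inner_of_zj (hp2 : p ≠ 2) (hS : IsPGroup p S) (hF : F.IsSaturated p)
    (hD : F.StronglyClosed D) (hN : NormInner F (centerThompsonAOf D)) :
    F = innerFusionSystem S := by
  have := finite_of_le hD.1
  rw [← ZJC.zjFunctor_apply (p := p) D] at hN
  by_cases hD1 : D = ⊥
  · have hW : (ZJC.zjFunctor.{v} p).W D = ⊥ :=
      le_bot_iff.1 (((ZJC.zjFunctor.{v} p).le D).trans hD1.le)
    rw [hW] at hN
    refine eq_of_le_of_le (le_iff_isMor.2 fun A f hf => ?_) (le_iff_isMor.2 fun A f hf => ?_)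
    · obtain ⟨a, ha, hax⟩ := hN A f (by rwa [sup_bot_eq]) ((hf.restrict bot_le).isIso_self fun x hx => by
        obtain rfl := Subgroup.mem_bot.1 hx
        rw [hf.map_one]; exact one_mem _) fun x hx =>
          ⟨hf.le hx, mem_normalizer_of_conj_mem (S := S) bot_le fun y hy => by
            obtain rfl := Subgroup.mem_bot.1 hy
            simp⟩
      exact isMor_inner.2 ⟨hf.le, a, ha.1, hax⟩
    · obtain ⟨hA, a, ha, hax⟩ := isMor_inner.1 hf
      exact (isMor_conj (F := F) hA ha).congr hax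
  · exact eq_inner_of_functor _ (ZJC.groupCriterion_zj hp2) _ rfl hS hF hD hD1 hN

/-- The criterion relative to a strongly closed subgroup. -/
theorem inner_iff_zj (hp2 : p ≠ 2) (hS : IsPGroup p S) (hF : F.IsSaturated p) (hD : F.StronglyClosed D) :
    (∀ P : Subgroup Ω, F.Hom P = (innerFusionSystem S).Hom P) ↔
      ∀ N : FusionSystem (normalizerIn S (centerThompsonAOf D)),
        F.IsNormalizerSystem (centerThompsonAOf D) N →
        ∀ P : Subgroup Ω, N.Hom P = (innerFusionSystem (normalizerIn S (centerThompsonAOf D))).Hom P := by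
  have hle : centerThompsonAOf D ≤ S :=
    (inf_le_left.trans (Subgroup.map_subtype_le _)).trans hD.1
  refine ⟨fun h N hN P => normalizerSystem_eq_inner_of_inner hle h hN P, fun h P => ?_⟩
  rw [eq_inner_of_zj hp2 hS hF hD (normInner_of_forall hle h)]

/-- A noninner system has a noninner normalizer of a self-centralizing normal subgroup of `S`. -/
theorem exists_centralizing_not_normInner (hp2 : p ≠ 2) :
    ∀ (n : ℕ) {Ω : Type v} [Group Ω] {S : Subgroup Ω} [Finite S] {F : FusionSystem S},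
      Nat.card S = n → IsPGroup p S → F.IsSaturated p → F ≠ innerFusionSystem S →
      ∃ R : Subgroup Ω, R ≤ S ∧ S ≤ Subgroup.normalizer (R : Set Ω) ∧ centralizerIn S R ≤ R ∧
        ¬ NormInner F R := by
  intro n
  induction n using Nat.strong_induction_on with
  | _ n ih =>
  intro Ω _ S _ F hn hS hF hne
  subst hn
  set W := ZJC.zjFunctor.{v} p
  set Q := W.W S
  have hQS : Q ≤ S := W.le S
  have hS1 : S ≠ ⊥ := by
    intro h
    refine hne (eq_innerFusionSystem_of_autGroup_pGroup hS hF fun P hP α => ⟨0, ?_⟩)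
    rw [pow_zero, pow_one]
    refine Subtype.ext (MulEquiv.ext fun x => Subtype.ext ?_)
    rw [Subgroup.mem_bot.1 (h.le (hP (((α : MulAut P) x).2))),
      Subgroup.mem_bot.1 (h.le (hP ((((1 : F.autGroup P) : MulAut P) x).2)))]
  have hQ1 : Q ≠ ⊥ := W.ne S hS hS1
  have hSQ : S ≤ Subgroup.normalizer (Q : Set Ω) := fun a ha =>
    W.mem_normalizer le_rfl ha (Subgroup.le_normalizer ha)
  have hQi : ¬ NormInner F Q := fun h => hne (eq_inner_of_zj hp2 hS hF (stronglyClosed_self F) (by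
    rwa [← ZJC.zjFunctor_apply (p := p) S]))
  obtain ⟨hR0c, hR0n⟩ := centric_sup_centralizer hS hF hQS hSQ
  set R0 := Q ⊔ centralizerIn S Q
  have hR0S : R0 ≤ S := hR0c.1
  by_cases hR0i : NormInner F R0
  swap
  · exact ⟨R0, hR0S, hR0n, hR0c.2 R0 (isConj_refl hR0S), hR0i⟩
  obtain ⟨E, hEs, hEF, hQn, hEiff⟩ := exists_normalizer_top hS hF hQS hSQ
  have hEne : E ≠ innerFusionSystem S := fun h => hQi fun A k hk hkQ hA => by
    have hm : IsMor E A k := (hEiff A k).2 ⟨hA.trans normalizerIn_le, k, hk, fun _ _ => rfl, hkQ⟩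
    rw [h] at hm
    obtain ⟨-, a, ha, hax⟩ := isMor_inner.1 hm
    exact ⟨a, ⟨ha, hSQ ha⟩, hax⟩
  have hAutQ : IsPGroup p (E.autGroup Q) := by
    refine (isPGroup_autInducedBy hS Q).to_le fun α hα => ?_
    have hαi := isIso_autFun hQS hα
    obtain ⟨k, hk, hke⟩ := exists_extension_centralizer
      (fullyNormalized_receptive hS hF ⟨hQS, fun R _ => by
        rw [show normalizerIn S Q = S from inf_eq_left.2 hSQ]
        exact Nat.card_le_card_of_injective (Subgroup.inclusion normalizerIn_le)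
          (Subgroup.inclusion_injective _)⟩).2 (hαi.of_le hEF)
    have hkR : IsIso F R0 R0 k := hk.isIso_self fun x hx => hk.apply_mem_sup
      (fun y hy => Subgroup.mem_sup_left (by rw [hke y hy]; exact autFun_mem _ hy))
      (fun y hy => Subgroup.mem_sup_right (hk.apply_mem_centralizerIn le_sup_left
        ((hαi.of_le hEF).congr hke) (Subgroup.mem_sup_right hy) hy)) hx
    obtain ⟨a, ha, hax⟩ := hR0i R0 k (by rw [sup_idem]; exact hk) hkR (le_normalizerIn hR0S)
    exact mem_autInducedBy.2 ⟨a, ha.1, hSQ ha.1, fun x => by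
      rw [← autFun_coe, ← hke x x.2, hax _ (Subgroup.mem_sup_left x.2)]⟩
  -- pass to the factor system
  set Qs := Q.subgroupOf S with hQsdef
  have hQsn : Qs.Normal := ⟨fun x hx a =>
    show ((a * x * a⁻¹ : S) : Ω) ∈ Q from conj_mem_of_mem_normalizer (hSQ a.2) hx⟩
  let θ : S →* S ⧸ Qs := QuotientGroup.mk' Qs
  have hθ : ∀ s : S, θ s = 1 ↔ (s : Ω) ∈ Q := fun s => QuotientGroup.eq_one_iff s
  have hθr : θ.range = (⊤ : Subgroup (S ⧸ Qs)) := MonoidHom.range_eq_top.2 (QuotientGroup.mk'_surjective _)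
  have hQsc := normal_stronglyClosed hQn
  obtain ⟨E', hE'⟩ := exists_factor (F := E) hθ hθr hQsc
  have hE'ne : E' ≠ innerFusionSystem ⊤ := fun h => hEne (inner_of_factor_inner hS hEs hQn hAutQ hE' h)
  have hlt' : Nat.card (⊤ : Subgroup (S ⧸ Qs)) < Nat.card S := by
    rw [Subgroup.card_top, Subgroup.card_eq_card_quotient_mul_card_subgroup Qs]
    refine lt_mul_of_one_lt_right Nat.card_pos ((Subgroup.one_lt_card_iff_ne_bot _).2 fun h0 => hQ1 ?_)
    refine eq_bot_iff.2 fun x hx => ?_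
    have hxm : (⟨x, hQS hx⟩ : S) ∈ Qs := hx
    rw [h0, Subgroup.mem_bot] at hxm
    exact congrArg Subtype.val hxm
  obtain ⟨R', -, hR'n, hR'c, hR'i⟩ := ih _ hlt' rfl ((hS.to_quotient Qs).to_subgroup ⊤)
    (factor_saturated hS hEs hQsc hE') hE'ne
  set R := preimageAlong θ R'
  have hRS : R ≤ S := preimageAlong_le
  have hSR : S ≤ Subgroup.normalizer (R : Set Ω) := fun a ha =>
    mem_normalizer_of_conj_mem hRS fun x hx => by
      obtain ⟨hxS, hxR⟩ := mem_preimageAlong.1 hx
      refine mem_preimageAlong.2 ⟨mul_mem (mul_mem ha hxS) (inv_mem ha), ?_⟩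
      rw [conj_mem_preimage ha hxS]
      exact conj_mem_of_mem_normalizer (hR'n (Subgroup.mem_top _)) hxR
  refine ⟨R, hRS, hSR, fun c hc => ?_, fun hRi => hR'i ?_⟩
  · obtain ⟨hcS, hcc⟩ := mem_centralizerIn.1 hc
    refine mem_preimageAlong.2 ⟨hcS, hR'c (mem_centralizerIn.2 ⟨Subgroup.mem_top _, fun y hy => ?_⟩)⟩
    obtain ⟨x, hx, rfl⟩ := exists_qfun_eq hθr le_top hy
    rw [qfun_apply θ hcS, qfun_apply θ (preimageAlong_le hx), ← map_mul, ← map_mul]
    exact congrArg θ (Subtype.ext (hcc x hx))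
  intro A k hk hkR hA
  obtain ⟨hAR, g, hg, hi⟩ := hk.factor_lift hE'
  set B := preimageAlong θ (A ⊔ R')
  have hRB : R ≤ B := fun x hx =>
    mem_preimageAlong.2 ⟨hRS hx, Subgroup.mem_sup_right (mem_preimageAlong.1 hx).2⟩
  have hgR : IsIso F R R g := ((hg.restrict hRB).of_le hEF).isIso_self fun x hx => by
    refine mem_preimageAlong.2 ⟨hg.mem (hRB hx), ?_⟩
    rw [← hi x (hRB hx)]
    exact hkR.apply_mem (mem_preimageAlong.1 hx).2
  obtain ⟨a, ha, hax⟩ := hRi B g (by rw [sup_eq_left.2 hRB]; exact hg.of_le hEF) hgR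
    fun x hx => ⟨preimageAlong_le hx, hSR (preimageAlong_le hx)⟩
  refine ⟨θ ⟨a, ha.1⟩, ⟨Subgroup.mem_top _, hR'n (Subgroup.mem_top _)⟩, fun y hy => ?_⟩
  obtain ⟨x, hx, rfl⟩ := exists_qfun_eq hθr le_top hy
  have hxB : x ∈ B := mem_preimageAlong.2 ⟨preimageAlong_le hx, Subgroup.mem_sup_left hy⟩
  rw [hi x hxB, hax x hxB, conj_mem_preimage ha.1 (preimageAlong_le hxB), qfun_apply θ ha.1]

/-- A noninner system contains a noninner constrained subsystem. -/
theorem exists_constrained_not_inner (hp2 : p ≠ 2) (hS : IsPGroup p S) (hF : F.IsSaturated p)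
    (hne : F ≠ innerFusionSystem S) :
    ∃ E : FusionSystem S, E ≤ F ∧ E.IsConstrained p ∧ E ≠ innerFusionSystem S := by
  obtain ⟨R, hRS, hSR, hRc, hRi⟩ := exists_centralizing_not_normInner hp2 _ rfl hS hF hne
  obtain ⟨E, hEs, hEF, hRn, hEiff⟩ := exists_normalizer_top hS hF hRS hSR
  have hfn : F.IsFullyNormalized R := ⟨hRS, fun R' _ => by
    rw [show normalizerIn S R = S from inf_eq_left.2 hSR]
    exact Nat.card_le_card_of_injective (Subgroup.inclusion normalizerIn_le)
      (Subgroup.inclusion_injective _)⟩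
  refine ⟨E, hEF, ⟨hEs, R, hRn, isCentric_of_sub hEF
    (isCentric_of_fullyCentralized hS hF (fullyNormalized_fullyCentralized hS hF hfn) hRc)⟩,
    fun h => hRi fun A k hk hkR hA => ?_⟩
  have hm : IsMor E A k := (hEiff A k).2 ⟨hA.trans normalizerIn_le, k, hk, fun _ _ => rfl, hkR⟩
  rw [h] at hm
  obtain ⟨-, a, ha, hax⟩ := isMor_inner.1 hm
  exact ⟨a, ⟨ha, hSR ha⟩, hax⟩

end Cfsg.Agent.Fusion
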