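import Cfsg.Agent.Lib.Fusion.SectionFree
import Cfsg.Agent.Lib.Fusion.SectionFactor
import Cfsg.Agent.Lib.Fusion.GroupSystem
import Cfsg.Agent.Lib.Fusion.ModelUnique

/-!
The model of the normalizer system of a centric subgroup in a group fusion system.
-/

set_option autoImplicit false
set_option linter.style.haveILetI false

universe u

namespace Cfsg.Agent.Fusion

open Cfsg Cfsg.FusionSystem

variable {G : Type u} [Group G] [Finite G] {p : ℕ} [hp : Fact p.Prime]

/-- The centralizer of a fully normalized centric subgroup is its centre times a `p'`-group. -/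
theorem centralizer_centric_group (S : Sylow p G) {Q : Subgroup G}
    (hQn : (groupFusionSystem (S : Subgroup G)).IsFullyNormalized Q)
    (hQc : (groupFusionSystem (S : Subgroup G)).IsCentric Q)
    (c : Subgroup.normalizer (Q : Set G)) (hc : (c : G) ∈ Subgroup.centralizer (Q : Set G)) :
    ∃ z : Subgroup.normalizer (Q : Set G), (z : G) ∈ Q ∧
      z⁻¹ * c ∈ pPrimeCore p (Subgroup.normalizer (Q : Set G)) := by
  set C := (Subgroup.centralizer (Q : Set G)).subgroupOf (Subgroup.normalizer (Q : Set G)) with hC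
  haveI : C.Normal := by
    rw [hC, ← Subgroup.normalizerMonoidHom_ker]
    exact MonoidHom.normal_ker _
  have hQS := hQc.1
  have hmax := ((fullyNormalized_group_iff S hQS).1 hQn).centralizer S
  obtain ⟨T, hT⟩ := (exists_sylow_subgroupOf_iff hmax.1 hmax.2.1).2 hmax
  have hle : Subgroup.centralizer (Q : Set G) ≤ Subgroup.normalizer (Q : Set G) := centralizer_le_normalizer' Q
  let e : C ≃* Subgroup.centralizer (Q : Set G) := Subgroup.subgroupOfEquivOfLe hle
  have he : ∀ x : C, ((e x : Subgroup.centralizer (Q : Set G)) : G) = ((x : Subgroup.normalizer (Q : Set G)) : G) := fun x => rfl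
  let T' : Sylow p C := T.comapOfInjective e.toMonoidHom e.injective (fun x _ => e.surjective x)
  have hT' : ∀ x : C, x ∈ (T' : Subgroup C) → ((x : Subgroup.normalizer (Q : Set G)) : G) ∈ Q := fun x hx => by
    have h1 : e x ∈ (T : Subgroup _) := hx
    rw [hT, Subgroup.mem_subgroupOf, he] at h1
    exact centralizerIn_le_of_isCentric hQc h1
  obtain ⟨z, hz, hzc⟩ := exists_mem_pPrimeCore_mul C T' (fun z hz d => Subtype.ext (Subtype.ext
    (Subgroup.mem_centralizer_iff.1 (show ((d : Subgroup.normalizer (Q : Set G)) : G) ∈ Subgroup.centralizer (Q : Set G) from d.2)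
      _ (hT' z hz)))) (c := c) hc
  exact ⟨z, hT' z hz, hzc⟩

theorem groupNormalizer_model (S : Sylow p G) {Q : Subgroup G}
    (hQn : (groupFusionSystem (S : Subgroup G)).IsFullyNormalized Q)
    (hQc : (groupFusionSystem (S : Subgroup G)).IsCentric Q)
    {E : FusionSystem (normalizerIn (S : Subgroup G) Q)}
    (hE : (groupFusionSystem (S : Subgroup G)).IsNormalizerSystem Q E) :
    E.IsModel p (Subgroup.normalizer (Q : Set G) ⧸ pPrimeCore p (Subgroup.normalizer (Q : Set G)))
      ((QuotientGroup.mk' _).comp (Subgroup.inclusion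
        (inf_le_right : normalizerIn (S : Subgroup G) Q ≤ Subgroup.normalizer (Q : Set G)))) := by
  set N := Subgroup.normalizer (Q : Set G) with hN
  set K := pPrimeCore p N with hK
  set π := QuotientGroup.mk' K with hπ
  set T := normalizerIn (S : Subgroup G) Q with hTdef
  have hTN : T ≤ N := inf_le_right
  set ι := π.comp (Subgroup.inclusion hTN) with hι
  have hQS := hQc.1
  have hmax := (fullyNormalized_group_iff S hQS).1 hQn
  obtain ⟨TN, hTN'⟩ := (exists_sylow_subgroupOf_iff hmax.1 hmax.2.1).2 hmax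
  have hKc := Solv.card_pPrimeCore_coprime p N
  have hTK : ∀ x : N, x ∈ (TN : Subgroup N) → x ∈ K → x = 1 := fun x h1 h2 => by
    have h3 : x ∈ (TN : Subgroup N) ⊓ K := ⟨h1, h2⟩
    rwa [Solv.inf_eq_bot_of_isPGroup TN.isPGroup' hKc, Subgroup.mem_bot] at h3
  have hmem : ∀ x : T, Subgroup.inclusion hTN x ∈ (TN : Subgroup N) := fun x => by
    rw [hTN', Subgroup.mem_subgroupOf]; exact x.2
  have hi : Function.Injective ι := by
    rw [← MonoidHom.ker_eq_bot_iff, eq_bot_iff]
    intro x hx
    rw [Subgroup.mem_bot]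
    have h2 := hTK _ (hmem x) ((QuotientGroup.eq_one_iff _).1 hx)
    exact Subtype.ext (congrArg Subtype.val h2 :)
  have hsurj := QuotientGroup.mk'_surjective K
  refine ⟨inferInstance, realized_intro hi (fun A f hf => ?_) (fun A hA γ hγ => ?_),
    ⟨TN.mapSurjective hsurj, ?_⟩, ?_⟩
  · obtain ⟨hA, hm, k, hk, hke, hkQ⟩ := (isMor_normalizer_iff hE).1 hf
    obtain ⟨-, -, g, hg⟩ := isMor_groupFusionSystem.1 hk
    have hgN : g ∈ N := mem_normalizer_of_conj_mem (S := ⊤) le_top (fun x hx => by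
      rw [← hg x (Subgroup.mem_sup_right hx)]
      exact hkQ.apply_mem hx)
    refine ⟨π ⟨g, hgN⟩, fun x y hx hy => ?_⟩
    have e : (Subgroup.inclusion hTN y : N) =
        ⟨g, hgN⟩ * Subgroup.inclusion hTN x * (⟨g, hgN⟩ : N)⁻¹ := Subtype.ext (by
      show (y : G) = g * (x : G) * g⁻¹
      rw [hy, ← hke _ hx, hg _ (Subgroup.mem_sup_left hx)])
    show π _ = π _ * π _ * (π _)⁻¹
    rw [e, map_mul, map_mul, map_inv]
  · obtain ⟨g, hg⟩ := exists_lift_conj (P := A.subgroupOf N) TN K
      (fun x hx => by rw [hTN', Subgroup.mem_subgroupOf]; exact hA hx) γ (fun x hx => by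
        obtain ⟨y, hy⟩ := hγ ⟨x, hA hx⟩ hx
        refine ⟨Subgroup.inclusion hTN y, hmem y, ?_⟩
        exact hy.trans rfl)
    refine ⟨fun x => (g : G) * x * (g : G)⁻¹, (isMor_normalizer_iff hE).2 ⟨hA, fun x hx => ?_,
      fun x => (g : G) * x * (g : G)⁻¹, ?_, fun _ _ => rfl, ?_⟩, fun x y hx hy => ?_⟩
    · have h1 := (hg ⟨x, hTN (hA hx)⟩ hx).1
      replace h1 : _ ∈ (TN : Subgroup N) := h1; rw [hTN', Subgroup.mem_subgroupOf] at h1
      exact h1
    · refine isMor_groupFusionSystem.2 ⟨sup_le (hA.trans normalizerIn_le) hQS, fun x hx => ?_, g,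
        fun _ _ => rfl⟩
      have : A ⊔ Q ≤ (S : Subgroup G).comap (MulAut.conj (g : G)).toMonoidHom := sup_le
        (fun a ha => by
          have h1 := (hg ⟨a, hTN (hA ha)⟩ ha).1
          replace h1 : _ ∈ (TN : Subgroup N) := h1; rw [hTN', Subgroup.mem_subgroupOf] at h1
          exact Subgroup.mem_comap.2 (normalizerIn_le h1 :))
        (fun a ha => hQS ((Subgroup.mem_normalizer_iff.1 g.2 a).1 ha))
      exact this hx
    · have hgQ : Q.map (MulAut.conj (g : G)).toMonoidHom = Q :=
        Subgroup.mem_normalizer_iff_map_conj_eq.1 g.2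
      have h1 := isIso_conj (T := (S : Subgroup G)) (g := (g : G)) hQS (le_trans (le_of_eq hgQ) hQS)
      rw [hgQ] at h1
      exact h1
    · have h1 := (hg (Subgroup.inclusion hTN x) hx).2
      have e : (Subgroup.inclusion hTN y : N) = g * Subgroup.inclusion hTN x * g⁻¹ := Subtype.ext hy
      show π _ = _
      rw [e]
      exact h1
  · rw [Sylow.mapSurjective]
    show (TN : Subgroup N).map π = ι.range
    ext z
    constructor
    · rintro ⟨x, hx, rfl⟩
      rw [hTN', SetLike.mem_coe, Subgroup.mem_subgroupOf] at hx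
      exact ⟨⟨x, hx⟩, rfl⟩
    · rintro ⟨x, rfl⟩
      exact ⟨_, hmem x, rfl⟩
  · -- the image of `Q` is a normal `p`-subgroup
    have hQN : Q ≤ N := Subgroup.le_normalizer
    haveI : (Q.subgroupOf N).Normal := Subgroup.normal_in_normalizer
    have hQp : IsPGroup p (Q.subgroupOf N) :=
      (S.isPGroup'.to_le hQS).of_equiv (Subgroup.subgroupOfEquivOfLe hQN).symm
    haveI : ((Q.subgroupOf N).map π).Normal := Subgroup.Normal.map inferInstance _ hsurj
    have hQcore : (Q.subgroupOf N).map π ≤ pCore p (N ⧸ K) := Solv.le_pCore (hQp.map π)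
    intro x hx
    obtain ⟨n, rfl⟩ := hsurj x
    have hc : ∀ q (hq : q ∈ Q), π (⟨q, hQN hq⟩ * n * (⟨q, hQN hq⟩ : N)⁻¹ * n⁻¹) = 1 := fun q hq => by
      have h1 := Subgroup.mem_centralizer_iff.1 hx (π ⟨q, hQN hq⟩)
        (hQcore (Subgroup.mem_map_of_mem π hq))
      show π _ = 1
      replace h1 : π ⟨q, hQN hq⟩ * π n = π n * π ⟨q, hQN hq⟩ := h1
      rw [map_mul, map_mul, map_mul, map_inv, map_inv, h1]
      group
    have hnC : (n : G) ∈ Subgroup.centralizer (Q : Set G) := by
      rw [Subgroup.mem_centralizer_iff]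
      intro q hq
      have h2 : q * (n : G) * q⁻¹ * (n : G)⁻¹ ∈ Q := by
        have := mul_mem hq ((Subgroup.mem_normalizer_iff.1 n.2 _).1 (inv_mem hq))
        simpa [mul_assoc] using this
      have h3 := hTK (⟨q, hQN hq⟩ * n * (⟨q, hQN hq⟩ : N)⁻¹ * n⁻¹)
        (by rw [hTN', Subgroup.mem_subgroupOf]; exact le_normalizerIn hQS h2)
        (by have h := hc q hq; rwa [← MonoidHom.mem_ker, hπ, QuotientGroup.ker_mk'] at h)
      have h4 : q * (n : G) * q⁻¹ * (n : G)⁻¹ = 1 := congrArg Subtype.val h3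
      rwa [mul_inv_eq_one, mul_inv_eq_iff_eq_mul] at h4
    obtain ⟨z, hz, hzn⟩ := centralizer_centric_group S hQn hQc n hnC
    have e : π n = π z := by
      have h5 : π (z⁻¹ * n) = 1 := (QuotientGroup.eq_one_iff _).2 hzn
      rwa [map_mul, map_inv, inv_mul_eq_one, eq_comm] at h5
    rw [e]
    exact hQcore (Subgroup.mem_map_of_mem π (show z ∈ Q.subgroupOf N from hz))

end Cfsg.Agent.Fusion
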