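import Mathlib
import Cfsg.Agent.Lib.Fusion.Weakly
import Cfsg.Agent.Lib.Fusion.Factor
import Cfsg.Agent.Lib.Fusion.Normal

/-!
A strongly invariant subsystem satisfies the Frattini condition.
-/

set_option autoImplicit false

namespace Cfsg.Agent.Fusion

open Cfsg Cfsg.FusionSystem

variable {Ω : Type*} [Group Ω] {S : Subgroup Ω} {F : FusionSystem S} {T P Q R : Subgroup Ω}
  {E : FusionSystem T} {f g h : Ω → Ω} {p : ℕ}

/-- Maps of `E` are carried to maps of `E` by maps of `F` inside `T`. -/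
def StrongInv (F : FusionSystem S) (E : FusionSystem T) : Prop :=
  ∀ (P Q : Subgroup Ω) (φ ψ : Ω → Ω), P ≤ Q → Q ≤ T → IsMor E P φ → (∀ x ∈ P, φ x ∈ Q) → IsMor F Q ψ →
    ∃ (P' : Subgroup Ω) (k : Ω → Ω), (∀ y, y ∈ P' ↔ ∃ x ∈ P, ψ x = y) ∧ IsMor E P' k ∧
      ∀ x ∈ P, k (ψ x) = ψ (φ x)

/-- A map decomposed as an automorphism of `T` after a map of `E`. -/
def Decomp (F : FusionSystem S) (E : FusionSystem T) (P : Subgroup Ω) (f : Ω → Ω) : Prop :=
  ∃ α ∈ F.autGroup T, ∃ g, IsMor E P g ∧ ∀ x ∈ P, f x = autFun α (g x)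

theorem Decomp.restrict (hd : Decomp F E R f) (hP : P ≤ R) : Decomp F E P f := by
  obtain ⟨α, hα, g, hg, he⟩ := hd
  exact ⟨α, hα, g, hg.restrict hP, fun x hx => he x (hP hx)⟩

theorem Decomp.congr (hd : Decomp F E P f) (he : ∀ x ∈ P, g x = f x) : Decomp F E P g := by
  obtain ⟨α, hα, k, hk, h⟩ := hd
  exact ⟨α, hα, k, hk, fun x hx => (he x hx).trans (h x hx)⟩

theorem Decomp.comp (hinv : StrongInv F E) (hTS : T ≤ S) (hf : Decomp F E P f) (hh : Decomp F E Q h)
    (hPQ : ∀ x ∈ P, f x ∈ Q) : Decomp F E P (fun x => h (f x)) := by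
  obtain ⟨α, hα, g, hg, hgx⟩ := hf
  obtain ⟨β, hβ, g', hg', hgx'⟩ := hh
  obtain ⟨Q', k, hQ', hk, hkx⟩ := hinv Q T g' (autFun α⁻¹) hg'.le le_rfl hg'
    (fun x hx => hg'.mem hx) (isMor_of_mem_autGroup hTS ((F.autGroup T).inv_mem hα))
  have hgQ : ∀ x ∈ P, g x ∈ Q' := fun x hx => (hQ' _).2 ⟨f x, hPQ x hx, by
    rw [hgx x hx, ← autFun_mul _ _ (hg.mem hx), inv_mul_cancel, autFun_one (hg.mem hx)]⟩
  refine ⟨β * α, (F.autGroup T).mul_mem hβ hα, k ∘ g, hg.comp hk hgQ, fun x hx => ?_⟩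
  have h1 := hkx (f x) (hPQ x hx)
  have e : autFun α⁻¹ (f x) = g x := by
    rw [hgx x hx, ← autFun_mul _ _ (hg.mem hx), inv_mul_cancel, autFun_one (hg.mem hx)]
  rw [e] at h1
  show h (f x) = autFun (β * α) (k (g x))
  rw [h1, autFun_mul _ _ (autFun_mem _ (hg'.mem (hPQ x hx))), hgx' _ (hPQ x hx)]
  congr 1
  rw [← autFun_mul _ _ (hg'.mem (hPQ x hx)), mul_inv_cancel, autFun_one (hg'.mem (hPQ x hx))]

variable [Finite S] [Fact p.Prime]

theorem decomp_of_strongInv (hS : IsPGroup p S) (hF : F.IsSaturated p) (hsub : E.IsSubsystemOf F)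
    (hT : F.StronglyClosed T) (hinv : StrongInv F E) :
    ∀ (P : Subgroup Ω) (f : Ω → Ω), P ≤ T → IsMor F P f → Decomp F E P f := by
  have hTS : T ≤ S := hT.1
  have hTn := le_normalizer_of_stronglyClosed hT
  have := finite_of_le hTS
  suffices H : ∀ n, ∀ (P : Subgroup Ω) (f : Ω → Ω), Nat.card T - Nat.card P = n → P ≤ T → IsMor F P f →
      Decomp F E P f from fun P f hP hf => H _ P f rfl hP hf
  intro n
  induction n using Nat.strong_induction_on with
  | _ n ih =>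
  intro P f hn hPT hf
  rcases eq_or_lt_of_le hPT with rfl | hlt
  · have hi := hf.isIso_self fun x hx => stronglyClosed_apply hT hf hx hx
    refine ⟨autOf hi, autOf_mem hi, id, isMor_id le_rfl, fun x hx => ?_⟩
    rw [id, autFun_apply _ hx, autOf_apply]
  -- maps extending to a larger subgroup of `T`
  have hbig : ∀ (P₁ : Subgroup Ω) (k : Ω → Ω), Nat.card P₁ = Nat.card P → P₁ < T →
      IsMor F (normalizerIn T P₁) k → Decomp F E P₁ k := by
    intro P₁ k hc hlt₁ hk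
    have h1 : P₁ < normalizerIn T P₁ := normalizerIn_self_lt (hS.to_le hTS) hlt₁
    have h2 : normalizerIn T P₁ ≤ T := inf_le_left
    refine (ih _ ?_ _ k rfl h2 hk).restrict h1.le
    have h3 := card_lt_of_lt (h2.trans hTS) h1
    have h4 : Nat.card (normalizerIn T P₁) ≤ Nat.card T :=
      Nat.card_le_card_of_injective (Subgroup.inclusion h2) (Subgroup.inclusion_injective _)
    omega
  have hltT : ∀ P₁ : Subgroup Ω, P₁ ≤ T → Nat.card P₁ = Nat.card P → P₁ < T := fun P₁ h1 h2 =>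
    lt_of_le_of_ne h1 fun h => absurd (card_lt_of_lt hTS hlt) (by rw [← h2, h]; exact lt_irrefl _)
  have hNS : ∀ P₁ : Subgroup Ω, normalizerIn T P₁ ≤ normalizerIn S P₁ := fun P₁ a ha => ⟨hTS ha.1, ha.2⟩
  obtain ⟨Q, hQc, hQn⟩ := exists_fullyNormalized (F := F) (hPT.trans hTS)
  have hiso := hf.isIso
  set P' := hf.image P le_rfl
  have hP'T : P' ≤ T := by rintro _ ⟨x, hx, rfl⟩; exact stronglyClosed_apply hT hf hx (hPT hx)
  obtain ⟨f₁, f₁', hf₁, hf₁', he₁, -⟩ := exists_iso_to_fullyNormalized hS hF hQc hQn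
  obtain ⟨f₂, f₂', hf₂, hf₂', he₂, hm₂⟩ := exists_iso_to_fullyNormalized hS hF
    (isConj_trans (isConj_symm hiso.isConj) hQc) hQn
  have hQT : Q ≤ T := fun y hy => by
    obtain ⟨x, hx, rfl⟩ := hf₁.exists_apply hy
    exact stronglyClosed_apply hT hf₁.1 hx (hPT hx)
  have hQcard : Nat.card Q = Nat.card P := hf₁.card_eq
  have hP'card : Nat.card P' = Nat.card P := hiso.card_eq
  have hd₁ : Decomp F E P f₁ :=
    (hbig P f₁' rfl hlt (hf₁'.restrict (hNS P))).congr fun x hx => (he₁ x hx).symm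
  obtain ⟨i₁, hi₁, hi₁l, -⟩ := hf₁.exists_symm
  obtain ⟨i₂, hi₂, hi₂l, hi₂r⟩ := hf₂.exists_symm
  -- the inverse of `f₂`
  have hd₂ : Decomp F E Q i₂ := by
    have hN := hf₂'.restrict (hNS P')
    obtain ⟨k, hk, hkl, -⟩ := hN.isIso.exists_symm
    have hPN : P' ≤ normalizerIn T P' := fun x hx => ⟨hP'T hx, Subgroup.le_normalizer hx⟩
    have hQW : Q ≤ hN.image _ le_rfl := fun y hy => by
      obtain ⟨x, hx, rfl⟩ := hf₂.exists_apply hy
      exact ⟨x, hPN hx, he₂ x hx⟩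
    have hWT : hN.image _ le_rfl ≤ T := by
      rintro _ ⟨x, hx, rfl⟩
      exact stronglyClosed_apply hT hN hx hx.1
    have hlt' : Q < hN.image _ le_rfl := lt_of_le_of_ne hQW fun h => by
      have h1 : Nat.card (normalizerIn T P') = Nat.card Q := by rw [← hN.isIso.card_eq, ← h]
      have h2 : Nat.card P' < Nat.card ↥(normalizerIn T P') := card_lt_of_lt ((inf_le_left : normalizerIn T P' ≤ T).trans hTS)
        (normalizerIn_self_lt (hS.to_le hTS) (hltT P' hP'T hP'card))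
      rw [h1, hQcard, hP'card] at h2
      exact lt_irrefl _ h2
    have h3 : Nat.card T - Nat.card ↥(hN.image _ le_rfl) < n := by
      have h4 := card_lt_of_lt (hWT.trans hTS) hlt'
      have h5 : Nat.card ↥(hN.image _ le_rfl) ≤ Nat.card T :=
        Nat.card_le_card_of_injective (Subgroup.inclusion hWT) (Subgroup.inclusion_injective _)
      rw [hQcard] at h4
      omega
    refine ((ih _ h3 _ k rfl hWT hk.1).restrict hQW).congr fun y hy => ?_
    obtain ⟨x, hx, rfl⟩ := hf₂.exists_apply hy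
    rw [hi₂l x hx, ← he₂ x hx, hkl x (hPN hx)]
  -- automorphisms of `Q`
  have hQS : Q ≤ S := hQT.trans hTS
  have := finite_autGroup (F := F) hQS
  have hauto : ∀ a ∈ F.autGroup Q, Decomp F E Q (autFun a) := by
    intro a ha
    obtain ⟨⟨-, RS, hRS⟩, hrec⟩ := fullyNormalized_receptive hS hF hQn
    let EQ : Subgroup (F.autGroup Q) := (E.autGroup Q).subgroupOf (F.autGroup Q)
    have hEQn : EQ.Normal := ⟨fun β hβ γ => by
      obtain ⟨Q', k, hQ', hk, hkx⟩ := hinv Q Q (autFun (β : MulAut Q)) (autFun (γ : MulAut Q)) le_rfl hQT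
        (isMor_of_mem_autGroup hQT hβ) (fun x hx => autFun_mem _ hx) (isMor_of_mem_autGroup hQS γ.2)
      have hsub' : Q ≤ Q' := fun y hy => (hQ' y).2 ⟨autFun ((γ : MulAut Q)⁻¹) y, autFun_mem _ hy, by
        rw [← autFun_mul _ _ hy, mul_inv_cancel, autFun_one hy]⟩
      refine mem_autGroup_of_isMor (hk.restrict hsub') fun x => ?_
      have h1 := hkx _ (autFun_mem ((γ : MulAut Q)⁻¹) x.2)
      rw [← autFun_mul _ _ x.2, mul_inv_cancel, autFun_one x.2, ← autFun_mul _ _ x.2,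
        ← autFun_mul _ _ x.2, autFun_coe] at h1
      rw [h1]
      simp only [Subgroup.coe_subtype, Subgroup.coe_mul, Subgroup.coe_inv, mul_assoc]⟩
    let M : Subgroup (F.autGroup Q) :=
      Subgroup.normalClosure ((autInducedBy T Q).subgroupOf (F.autGroup Q) : Set (F.autGroup Q))
    have hME : M ≤ EQ := Subgroup.normalClosure_le_normal fun β hβ => by
      obtain ⟨c, hc, hcn, hx⟩ := mem_autInducedBy.1 (Subgroup.mem_subgroupOf.1 hβ)
      exact mem_autGroup_of_isMor (isMor_conj hQT hc) hx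
    obtain ⟨m, hm, b, hb, hab⟩ := exists_mul_of_normal RS M ⟨a, ha⟩
    have hm' : (m : MulAut Q) ∈ E.autGroup Q := hME hm
    have hdm : Decomp F E Q (autFun (m : MulAut Q)) :=
      ⟨1, (F.autGroup T).one_mem, _, isMor_of_mem_autGroup hQT hm', fun x hx =>
        (autFun_one (hQT (autFun_mem _ hx))).symm⟩
    have hbiso := isIso_autFun hQS b.2
    have hcond : ∀ c ∈ normalizerIn T Q, ExtCond S Q (autFun (b : MulAut Q)) c := by
      intro c hc
      have hcS : c ∈ normalizerIn S Q := hNS Q hc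
      obtain ⟨h1, h2⟩ := conjAut_mem (F := F) hQS hcS
      have hmem : (⟨_, h2⟩ : F.autGroup Q) ∈ (RS : Subgroup (F.autGroup Q)) ⊓ M :=
        ⟨by rw [hRS]; exact h1,
          Subgroup.subset_normalClosure (mem_autInducedBy.2 ⟨c, hc.1, hc.2, fun _ => rfl⟩)⟩
      have h3 := ((Subgroup.mem_normalizer_iff.1 hb _).1 hmem).1
      rw [hRS] at h3
      obtain ⟨d, hd, -, hx⟩ := mem_autInducedBy.1 (Subgroup.mem_subgroupOf.1 h3)
      refine ⟨hcS.1, hcS.2, d, hd, fun x hxQ => ?_⟩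
      have h4 := hx ((b : MulAut Q) ⟨x, hxQ⟩)
      rw [Subgroup.coe_mul, Subgroup.coe_mul, Subgroup.coe_inv, MulAut.mul_apply, MulAut.mul_apply,
        MulAut.inv_apply_self] at h4
      rw [autFun_apply _ (conj_mem_of_mem_normalizer hc.2 hxQ), autFun_apply _ hxQ, ← h4]
      rfl
    obtain ⟨k, hk, hke⟩ := exists_extension hrec hbiso hcond
    have hdb : Decomp F E Q (autFun (b : MulAut Q)) :=
      (hbig Q k hQcard (hltT Q hQT hQcard) hk).congr fun x hx =>
        (hke x hx ⟨hQT hx, Subgroup.le_normalizer hx⟩).symm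
    refine (hdb.comp hinv hTS hdm fun x hx => autFun_mem _ hx).congr fun x hx => ?_
    rw [← autFun_mul _ _ hx, ← Subgroup.coe_mul, ← hab]
  -- assemble
  have hmid : IsMor F Q (fun y => f₂ (f (i₁ y))) :=
    (hi₁.1.comp hf fun y hy => hi₁.apply_mem hy).comp hf₂.1 fun y hy =>
      hiso.apply_mem (hi₁.apply_mem hy)
  have hmidi := hmid.isIso_self fun y hy => hf₂.apply_mem (hiso.apply_mem (hi₁.apply_mem hy))
  have hdmid : Decomp F E Q (fun y => f₂ (f (i₁ y))) :=
    (hauto _ (autOf_mem hmidi)).congr fun y hy => by rw [autFun_apply _ hy, autOf_apply]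
  refine ((hd₁.comp hinv hTS hdmid fun x hx => hf₁.apply_mem hx).comp hinv hTS hd₂
    fun x hx => hmidi.apply_mem (hf₁.apply_mem hx)).congr fun x hx => ?_
  rw [hi₁l x hx, hi₂l _ (hiso.apply_mem hx)]

end Cfsg.Agent.Fusion
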