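import Mathlib
import Cfsg.Agent.Lib.Fusion.Stabilize

/-!
Finite permutation representations with the same marks are equivalent; marks of a sum of coset
spaces; equalising marks after scaling.
-/

set_option autoImplicit false

namespace Cfsg.Agent.Fusion

section Equivalence

variable {H : Type*} [Group H] [Finite H] {X Y : Type*} [Finite X] [Finite Y]

/-- The points fixed by `U` under the permutation representation `a`. -/
def permFix (a : H →* Equiv.Perm X) (U : Subgroup H) : Set X := {x | ∀ u ∈ U, a u x = x}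

omit [Finite H] [Finite X] in
theorem permFix_smul_mem {a : H →* Equiv.Perm X} {x : X} {U : Subgroup H} {h : H}
    (hU : ∀ u ∈ U, a (h⁻¹ * u * h) x = x) : a h x ∈ permFix a U := fun u hu => by
  have := congrArg (a h) (hU u hu)
  rw [← Equiv.Perm.mul_apply, ← map_mul] at this
  rwa [show h * (h⁻¹ * u * h) = u * h by group, map_mul, Equiv.Perm.mul_apply] at this

theorem exists_bijOn_of_fix (a : H →* Equiv.Perm X) (b : H →* Equiv.Perm Y) :
    ∀ (A : Set X) (B : Set Y), (∀ h, ∀ x ∈ A, a h x ∈ A) → (∀ h, ∀ y ∈ B, b h y ∈ B) →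
      (∀ U : Subgroup H, (A ∩ permFix a U).ncard = (B ∩ permFix b U).ncard) → Nonempty Y →
        ∃ f : X → Y, Set.BijOn f A B ∧ ∀ h, ∀ x ∈ A, f (a h x) = b h (f x) := by
  classical
  intro A
  induction hn : A.ncard using Nat.strong_induction_on generalizing A with
  | _ n ih =>
  subst hn
  intro B hA hB hfix hY
  have htot : A.ncard = B.ncard := by
    have h1 : A ∩ permFix a ⊥ = A := Set.inter_eq_left.2 fun x _ u hu => by
      rw [Subgroup.mem_bot.1 hu, map_one]; rfl
    have h2 : B ∩ permFix b ⊥ = B := Set.inter_eq_left.2 fun x _ u hu => by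
      rw [Subgroup.mem_bot.1 hu, map_one]; rfl
    simpa only [h1, h2] using hfix ⊥
  rcases A.eq_empty_or_nonempty with hAe | hne
  · obtain ⟨y⟩ := hY
    refine ⟨fun _ => y, ?_, by simp [hAe]⟩
    rw [hAe, show B = ∅ from (Set.ncard_eq_zero).1 (by rw [← htot, hAe, Set.ncard_empty])]
    exact Set.bijOn_empty _
  let st : X → Subgroup H := fun x => (MulAction.stabilizer (Equiv.Perm X) x).comap a
  obtain ⟨x, hx, hmax⟩ := Set.Finite.exists_maximalFor (fun x => Nat.card (st x)) A (Set.toFinite _) hne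
  have hxfix : x ∈ A ∩ permFix a (st x) := ⟨hx, fun u hu => hu⟩
  obtain ⟨y, hy, hyfix⟩ : (B ∩ permFix b (st x)).Nonempty := by
    apply Set.nonempty_of_ncard_ne_zero
    rw [← hfix]
    exact ((Set.ncard_pos).2 ⟨x, hxfix⟩).ne'
  let sy : Subgroup H := (MulAction.stabilizer (Equiv.Perm Y) y).comap b
  have hle : st x ≤ sy := fun u hu => hyfix u hu
  have heq : st x = sy := by
    refine Subgroup.eq_of_le_of_card_ge hle ?_
    obtain ⟨z, hz, hzfix⟩ : (A ∩ permFix a sy).Nonempty := by
      apply Set.nonempty_of_ncard_ne_zero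
      rw [hfix]
      exact ((Set.ncard_pos (s := B ∩ permFix b sy)).2 ⟨y, hy, fun u hu => hu⟩).ne'
    have h1 : Nat.card sy ≤ Nat.card (st z) :=
      Nat.card_le_card_of_injective (Subgroup.inclusion (fun u hu => hzfix u hu : sy ≤ st z))
        (Subgroup.inclusion_injective _)
    refine h1.trans ?_
    rcases le_total (Nat.card (st z)) (Nat.card (st x)) with h | h
    · exact h
    · exact hmax hz h
  have key : ∀ h k : H, a h x = a k x ↔ b h y = b k y := by
    intro h k
    have e1 : a h x = a k x ↔ k⁻¹ * h ∈ st x := by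
      show _ ↔ a (k⁻¹ * h) x = x
      rw [map_mul, map_inv, Equiv.Perm.mul_apply]
      exact ⟨fun e => by rw [e]; exact (a k).symm_apply_apply x,
        fun e => by simpa using congrArg (a k) e⟩
    have e2 : b h y = b k y ↔ k⁻¹ * h ∈ sy := by
      show _ ↔ b (k⁻¹ * h) y = y
      rw [map_mul, map_inv, Equiv.Perm.mul_apply]
      exact ⟨fun e => by rw [e]; exact (b k).symm_apply_apply y,
        fun e => by simpa using congrArg (b k) e⟩
    rw [e1, e2, heq]
  set Ox : Set X := Set.range fun h => a h x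
  set Oy : Set Y := Set.range fun h => b h y
  have hOA : Ox ⊆ A := by rintro _ ⟨h, rfl⟩; exact hA h x hx
  have hOB : Oy ⊆ B := by rintro _ ⟨h, rfl⟩; exact hB h y hy
  have hOinv : ∀ h, ∀ z, a h z ∈ Ox ↔ z ∈ Ox := by
    intro h z
    constructor
    · rintro ⟨k, hk⟩
      exact ⟨h⁻¹ * k, by simpa [map_mul, map_inv] using congrArg (a h).symm hk⟩
    · rintro ⟨k, rfl⟩
      exact ⟨h * k, by simp [map_mul]⟩
  have hOyinv : ∀ h, ∀ z, b h z ∈ Oy ↔ z ∈ Oy := by
    intro h z
    constructor
    · rintro ⟨k, hk⟩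
      exact ⟨h⁻¹ * k, by simpa [map_mul, map_inv] using congrArg (b h).symm hk⟩
    · rintro ⟨k, rfl⟩
      exact ⟨h * k, by simp [map_mul]⟩
  have hfixO : ∀ (U : Subgroup H) (h : H), a h x ∈ permFix a U ↔ b h y ∈ permFix b U := by
    intro U h
    refine forall₂_congr fun u _ => ?_
    rw [← Equiv.Perm.mul_apply, ← map_mul, ← Equiv.Perm.mul_apply, ← map_mul]
    exact key _ _
  have hO : ∀ U : Subgroup H, (Ox ∩ permFix a U).ncard = (Oy ∩ permFix b U).ncard := by
    intro U
    refine Set.ncard_congr (fun z hz => b hz.1.choose y) ?_ ?_ ?_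
    · rintro z ⟨hz, hzf⟩
      have e : a hz.choose x = z := hz.choose_spec
      exact ⟨⟨_, rfl⟩, (hfixO U _).1 (by rw [e]; exact hzf)⟩
    · intro z w hz hw he
      rw [← hz.1.choose_spec, ← hw.1.choose_spec]
      exact (key _ _).2 he
    · rintro _ ⟨⟨h, rfl⟩, hwf⟩
      have hm : a h x ∈ Ox ∩ permFix a U := ⟨⟨h, rfl⟩, (hfixO U h).2 hwf⟩
      exact ⟨a h x, hm, (key _ _).1 hm.1.choose_spec⟩
  have hlt : (A \ Ox).ncard < A.ncard :=
    Set.ncard_lt_ncard ⟨Set.sdiff_subset, fun hh => (hh hx).2 ⟨1, by simp⟩⟩ (Set.toFinite _)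
  obtain ⟨f, hf, hfe⟩ := ih _ hlt (A \ Ox) rfl (B \ Oy)
    (fun h z hz => ⟨hA h z hz.1, fun hh => hz.2 ((hOinv h z).1 hh)⟩)
    (fun h z hz => ⟨hB h z hz.1, fun hh => hz.2 ((hOyinv h z).1 hh)⟩)
    (fun U => by
      have e1 : (A \ Ox) ∩ permFix a U = (A ∩ permFix a U) \ (Ox ∩ permFix a U) := by
        ext z; simp only [Set.mem_inter_iff, Set.mem_sdiff]; tauto
      have e2 : (B \ Oy) ∩ permFix b U = (B ∩ permFix b U) \ (Oy ∩ permFix b U) := by
        ext z; simp only [Set.mem_inter_iff, Set.mem_sdiff]; tauto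
      rw [e1, e2, Set.ncard_sdiff (Set.inter_subset_inter_left _ hOA),
        Set.ncard_sdiff (Set.inter_subset_inter_left _ hOB), hfix, hO]) hY
  refine ⟨fun z => if hz : z ∈ Ox then b hz.choose y else f z, ⟨?_, ?_, ?_⟩, ?_⟩
  · intro z hz
    simp only
    split_ifs with h
    · exact hOB ⟨_, rfl⟩
    · exact (hf.mapsTo ⟨hz, h⟩).1
  · intro z hz w hw he
    simp only at he
    split_ifs at he with h1 h2 h2
    · rw [← h1.choose_spec, ← h2.choose_spec]
      exact (key _ _).2 he
    · exact absurd ⟨h1.choose, he⟩ (hf.mapsTo ⟨hw, h2⟩).2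
    · exact absurd ⟨h2.choose, he.symm⟩ (hf.mapsTo ⟨hz, h1⟩).2
    · exact hf.injOn ⟨hz, h1⟩ ⟨hw, h2⟩ he
  · intro w hw
    by_cases h : w ∈ Oy
    · obtain ⟨k, rfl⟩ := h
      have hm : a k x ∈ Ox := ⟨k, rfl⟩
      exact ⟨a k x, hOA hm, by simp only; rw [dif_pos hm]; exact (key _ _).1 hm.choose_spec⟩
    · obtain ⟨z, hz, rfl⟩ := hf.surjOn ⟨hw, h⟩
      exact ⟨z, hz.1, by simp only; rw [dif_neg hz.2]⟩
  · intro h z hz
    simp only
    by_cases hm : z ∈ Ox
    · rw [dif_pos hm, dif_pos ((hOinv h z).2 hm)]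
      rw [← Equiv.Perm.mul_apply, ← map_mul]
      refine (key _ _).1 ?_
      have e : a hm.choose x = z := hm.choose_spec
      have e' : a ((hOinv h z).2 hm).choose x = a h z := ((hOinv h z).2 hm).choose_spec
      rw [map_mul, Equiv.Perm.mul_apply, e]
      exact e'
    · rw [dif_neg hm, dif_neg fun hh => hm ((hOinv h z).1 hh)]
      exact hfe h z ⟨hz, hm⟩

/-- Burnside: representations with the same marks are equivalent. -/
theorem exists_equiv_of_fix (a b : H →* Equiv.Perm X)
    (h : ∀ U : Subgroup H, (permFix a U).ncard = (permFix b U).ncard) :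
    ∃ g : Equiv.Perm X, ∀ k x, g (a k x) = b k (g x) := by
  rcases isEmpty_or_nonempty X with hX | hX
  · exact ⟨1, fun k x => isEmptyElim x⟩
  obtain ⟨f, hf, he⟩ := exists_bijOn_of_fix a b Set.univ Set.univ (fun _ _ _ => trivial)
    (fun _ _ _ => trivial) (fun U => by rw [Set.univ_inter, Set.univ_inter]; exact h U) hX
  exact ⟨Equiv.ofBijective f (Set.bijOn_univ.1 hf), fun k x => he k x trivial⟩

end Equivalence

variable {K : Type*} [Group K] [Finite K]

/-- The sum of coset spaces with multiplicities `c`. -/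
abbrev cosetSum (c : Subgroup K → ℕ) : Type _ := Σ i : (Σ D : Subgroup K, Fin (c D)), K ⧸ i.1

theorem smul_cosetSum_eq_iff {c : Subgroup K → ℕ} (i : Σ D : Subgroup K, Fin (c D)) (q : K ⧸ i.1) (z : K) :
    z • (⟨i, q⟩ : cosetSum c) = ⟨i, q⟩ ↔ z • q = q := by
  rw [Sigma.smul_mk]
  exact ⟨fun h => eq_of_heq (Sigma.mk.inj_iff.1 h).2, fun h => by rw [h]⟩

omit [Finite K] in
theorem smul_coset_eq_iff {D : Subgroup K} (z k : K) :
    z • (k : K ⧸ D) = (k : K ⧸ D) ↔ k⁻¹ * z * k ∈ D := by
  rw [MulAction.Quotient.smul_mk, eq_comm, QuotientGroup.eq, smul_eq_mul, mul_assoc]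

theorem ncard_fix_cosetSum (c : Subgroup K → ℕ) (E : Subgroup K) :
    {x : cosetSum c | ∀ e ∈ E, e • x = x}.ncard = mark c E := by
  letI := Fintype.ofFinite (Subgroup K)
  rw [← Nat.card_coe_set_eq]
  have e : {x : cosetSum c | ∀ e ∈ E, e • x = x} ≃ Σ i : (Σ D : Subgroup K, Fin (c D)), fixSet i.1 E :=
    { toFun := fun x => ⟨x.1.1, x.1.2, fun e he => by
        have := x.2 e he
        obtain ⟨⟨i, q⟩, hq⟩ := x
        simpa using this⟩
      invFun := fun x => ⟨⟨x.1, x.2.1⟩, fun e he => by
        show (⟨x.1, e • x.2.1⟩ : cosetSum c) = _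
        rw [x.2.2 e he]⟩
      left_inv := fun x => rfl
      right_inv := fun x => rfl }
  rw [Nat.card_congr e, Nat.card_sigma, Fintype.sum_sigma]
  unfold mark markOne
  simp

/-- Marks can be equalised on classes of a relation after scaling. -/
theorem exists_stable_scaled (Fam : Subgroup K → Prop) (rel : Subgroup K → Subgroup K → Prop)
    (hfam : ∀ D E, rel D E → Fam D ∧ Fam E) (hcard : ∀ D E : Subgroup K, rel D E → Nat.card D = Nat.card E)
    (hconj : ∀ D, Fam D → ∀ k : K, Fam (D.map (MulAut.conj k).toMonoidHom))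
    {c₀ : Subgroup K → ℕ} (hc₀ : ∀ D, c₀ D ≠ 0 → Fam D) (N : ℕ)
    (h : ∀ D E : Subgroup K, N ≤ Nat.card D → rel D E → mark c₀ D = mark c₀ E) :
    ∃ c : Subgroup K → ℕ, (∀ D E, rel D E → mark c D = mark c E) ∧ (∀ D, c D ≠ 0 → Fam D) ∧
      ∀ D, c₀ D ≤ c D := by
  classical
  induction N generalizing c₀ with
  | zero => exact ⟨c₀, fun D E => h D E (Nat.zero_le _), hc₀, fun D => le_rfl⟩
  | succ n ih =>
    letI := Fintype.ofFinite (Subgroup K)
    let M := ∏ D : Subgroup K, markOne D D
    have hM : 0 < M := Finset.prod_pos fun D _ => markOne_self_pos D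
    let c₁ : Subgroup K → ℕ := fun D => M * c₀ D
    have hc₁ : ∀ E, mark c₁ E = M * mark c₀ E := fun E => by
      simp only [mark, c₁, Finset.mul_sum, mul_assoc]
    let T := M * ∑ E : Subgroup K, mark c₀ E
    have hle : ∀ E, mark c₁ E ≤ T := fun E => by
      rw [hc₁]
      exact Nat.mul_le_mul_left _ (Finset.single_le_sum (fun F _ => Nat.zero_le (mark c₀ F))
        (Finset.mem_univ E))
    let st : Setoid (Subgroup K) :=
      { r := fun D E => ∃ k : K, E = D.map (MulAut.conj k).toMonoidHom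
        iseqv :=
          { refl := fun D => ⟨1, by ext; simp⟩
            symm := by
              rintro D _ ⟨k, rfl⟩
              refine ⟨k⁻¹, ?_⟩
              ext x
              simp [Subgroup.mem_map, mul_assoc]
            trans := by
              rintro D _ _ ⟨k, rfl⟩ ⟨l, rfl⟩
              exact ⟨l * k, by rw [Subgroup.map_map]; congr 1; ext x; simp [mul_assoc]⟩ } }
    let rep : Subgroup K → Subgroup K := fun D => (Quotient.mk st D).out
    let d : Subgroup K → ℕ := fun D =>
      if Fam D ∧ Nat.card D = n ∧ rep D = D then (T - mark c₁ D) / markOne D D else 0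
    have hd : ∀ D, d D ≠ 0 → Fam D ∧ Nat.card D = n := fun D hD => by
      by_contra hne
      exact hD (if_neg fun hh => hne ⟨hh.1, hh.2.1⟩)
    have hval : ∀ E : Subgroup K, Fam E → Nat.card E = n → mark c₁ E + mark d E = T := by
      intro E hE hEn
      obtain ⟨k, hk⟩ : st.r E (rep E) := st.symm (Quotient.exact (Quotient.out_eq (Quotient.mk st E)))
      have hr : Fam (rep E) ∧ Nat.card (rep E : Subgroup K) = n := by
        rw [hk]
        exact ⟨hconj E hE k,
          by rw [← hEn]; exact (Nat.card_congr (E.equivMapOfInjective _ (MulAut.conj k).injective).toEquiv).symm⟩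
      have hrr : rep (rep E) = rep E := by
        show (Quotient.mk st (Quotient.mk st E).out).out = _
        rw [Quotient.out_eq]
      have hmd : mark d E = d (rep E) * markOne (rep E) (rep E) := by
        unfold mark
        rw [Finset.sum_eq_single (rep E)]
        · congr 1
          conv_rhs => arg 2; rw [hk]
          rw [markOne_conj_left]
        · intro D _ hne
          by_contra h0
          obtain ⟨hd', hm⟩ := mul_ne_zero_iff.1 h0
          simp only [d] at hd'
          split_ifs at hd' with hh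
          · obtain ⟨l, hl⟩ := exists_conj_le_of_markOne hm
            apply hne
            rw [← hh.2.2]
            have hl' : D = E.map (MulAut.conj l⁻¹).toMonoidHom := by
              refine (Subgroup.eq_of_le_of_card_ge ?_ ?_).symm
              · rintro _ ⟨e, he, rfl⟩
                simpa using hl e he
              · rw [hh.2.1, ← hEn]
                exact (Nat.card_congr (E.equivMapOfInjective _ (MulAut.conj l⁻¹).injective).toEquiv).le
            exact congrArg Quotient.out (Quotient.sound (st.symm ⟨l⁻¹, hl'⟩))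
          · exact hd' rfl
        · exact fun h0 => absurd (Finset.mem_univ _) h0
      rw [hmd, show mark c₁ E = mark c₁ (rep E) by rw [hk, mark_conj]]
      simp only [d]
      rw [if_pos ⟨hr.1, hr.2, hrr⟩, Nat.div_mul_cancel ?_, Nat.add_sub_cancel' (hle _)]
      rw [hc₁, ← Nat.mul_sub]
      exact (Finset.dvd_prod_of_mem _ (Finset.mem_univ (rep E))).mul_right _
    have hzero : ∀ E : Subgroup K, n < Nat.card E → mark d E = 0 := fun E hE => by
      refine Finset.sum_eq_zero fun D _ => ?_
      by_contra hne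
      obtain ⟨hd', hm⟩ := mul_ne_zero_iff.1 hne
      exact absurd (card_le_of_markOne hm) (by have := (hd D hd').2; omega)
    obtain ⟨c, h1, h2, h3⟩ := ih (c₀ := fun D => c₁ D + d D) (fun D hD => by
        by_cases he : d D = 0
        · exact hc₀ D fun h0 => hD (by simp [c₁, h0, he])
        · exact (hd D he).1) (fun D E hn hr => by
        rw [mark_add, mark_add]
        rcases hn.eq_or_lt with he | hlt
        · rw [hval D (hfam D E hr).1 he.symm, hval E (hfam D E hr).2 (hcard D E hr ▸ he.symm)]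
        · rw [hzero D hlt, hzero E (hcard D E hr ▸ hlt), hc₁, hc₁, h D E hlt hr])
    exact ⟨c, h1, h2, fun D => le_trans (le_trans (Nat.le_mul_of_pos_left _ hM) (Nat.le_add_right _ _)) (h3 D)⟩

end Cfsg.Agent.Fusion
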