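import Mathlib
import Cfsg.Agent.Lib.Fusion.Alperin
import Cfsg.Agent.Lib.Fusion.Criteria
import Cfsg.Agent.Lib.Fusion.FullyNormalized

/-!
In a system on a group of maximal class, an automorphism of the second centre moving the centre
makes the centralizer of the second centre essential.
-/

set_option autoImplicit false

namespace Cfsg.Agent.Fusion.MaxClass

open Cfsg Cfsg.FusionSystem Cfsg.Agent.Fusion

theorem card_mul_le {G : Type*} [Group G] [Finite G] {p : ℕ} [Fact p.Prime] (hG : IsPGroup p G)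
    {H K : Subgroup G} (h : H < K) : Nat.card H * p ≤ Nat.card K := by
  obtain ⟨a, ha⟩ := IsPGroup.iff_card.1 (hG.to_subgroup H)
  obtain ⟨b, hb⟩ := IsPGroup.iff_card.1 (hG.to_subgroup K)
  have hlt : Nat.card H < Nat.card K := Set.Finite.card_lt_card (Set.toFinite (K : Set G)) (SetLike.coe_ssubset_coe.2 h)
  rw [ha, hb] at hlt ⊢
  rw [← pow_succ]
  exact Nat.pow_le_pow_right (Fact.out : p.Prime).pos ((Nat.pow_lt_pow_iff_right (Fact.out : p.Prime).one_lt).1 hlt)

theorem second_center {G : Type*} [Group G] [Finite G] {p n : ℕ} [Fact p.Prime] (hn : Nat.card G = p ^ n)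
    (h4 : 4 ≤ n) (htop : Subgroup.upperCentralSeries G (n - 2) ≠ ⊤) :
    ∃ w ∈ Subgroup.upperCentralSeries G 2, w ∉ Subgroup.center G ∧
      Subgroup.upperCentralSeries G 2 = Subgroup.center G ⊔ Subgroup.zpowers w ∧
      (Subgroup.centralizer ({w} : Set G)).index ≤ p := by
  have hG : IsPGroup p G := IsPGroup.of_card hn
  have hnil : Group.IsNilpotent G := hG.isNilpotent
  have hp := (Fact.out : p.Prime)
  have hlt : ∀ i, i < n - 2 → Subgroup.upperCentralSeries G i < Subgroup.upperCentralSeries G (i + 1) := by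
    intro i hi
    refine lt_of_le_of_ne (Subgroup.upperCentralSeries_mono G (Nat.le_succ i)) fun e => htop ?_
    have h1 := Subgroup.upperCentralSeries.eq_top (Nat.ne_of_lt (Nat.lt_succ_self i)) e
    exact top_le_iff.1 (h1.ge.trans (Subgroup.upperCentralSeries_mono G (by omega)))
  have hidx : p ^ 2 ≤ (Subgroup.upperCentralSeries G (n - 2)).index := by
    obtain ⟨k, hk⟩ := (Nat.dvd_prime_pow hp).1 (hn ▸ Subgroup.index_dvd_card (Subgroup.upperCentralSeries G (n - 2)))
    rw [hk.2]
    refine Nat.pow_le_pow_right hp.pos ?_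
    by_contra hcon
    rcases Nat.lt_or_ge k 1 with h0 | h1
    · exact htop (Subgroup.index_eq_one.1 (by rw [hk.2, show k = 0 by omega, pow_zero]))
    · have hk1 : k = 1 := by omega
      set N := Subgroup.upperCentralSeries G (n - 3)
      have hstep : Subgroup.upperCentralSeries G (n - 2) = (Subgroup.center (G ⧸ N)).comap (QuotientGroup.mk' N) := by
        rw [show n - 2 = n - 3 + 1 by omega]
        exact Subgroup.upperCentralSeriesStep_eq_comap_center N
      have hci : (Subgroup.center (G ⧸ N)).index = p := by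
        rw [← Subgroup.index_comap_of_surjective _ (QuotientGroup.mk'_surjective N), ← hstep, hk.2, hk1, pow_one]
      have : IsCyclic ((G ⧸ N) ⧸ Subgroup.center (G ⧸ N)) :=
        isCyclic_of_prime_card (p := p) (by rw [← Subgroup.index_eq_card]; exact hci)
      have : IsMulCommutative (G ⧸ N) := isMulCommutative_of_isCyclic_quotient_center_self _
      have hc : Subgroup.center (G ⧸ N) = ⊤ := eq_top_iff.2 fun x _ =>
        Subgroup.mem_center_iff.2 fun y => IsMulCommutative.is_comm.comm y x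
      rw [hc, Subgroup.index_top] at hci
      exact hp.one_lt.ne hci
  have hgrow : ∀ d i, i + d = n - 2 →
      Nat.card (Subgroup.upperCentralSeries G i) * p ^ d ≤ Nat.card (Subgroup.upperCentralSeries G (n - 2)) := by
    intro d
    induction d with
    | zero => intro i hi; rw [pow_zero, mul_one, show i = n - 2 by omega]
    | succ d ih =>
      intro i hi
      refine le_trans ?_ (ih (i + 1) (by omega))
      rw [pow_succ' p d, ← mul_assoc]
      exact Nat.mul_le_mul_right _ (card_mul_le hG (hlt i (by omega)))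
  have htopcard : Nat.card (Subgroup.upperCentralSeries G (n - 2)) * p ^ 2 ≤ p ^ n := by
    rw [← hn, ← Subgroup.card_mul_index (Subgroup.upperCentralSeries G (n - 2))]
    exact Nat.mul_le_mul_left _ hidx
  have hbound : ∀ i, i ≤ n - 2 → Nat.card (Subgroup.upperCentralSeries G i) ≤ p ^ i := by
    intro i hi
    refine Nat.le_of_mul_le_mul_right ?_ (pow_pos hp.pos (n - i))
    calc Nat.card (Subgroup.upperCentralSeries G i) * p ^ (n - i)
        = Nat.card (Subgroup.upperCentralSeries G i) * p ^ (n - 2 - i) * p ^ 2 := by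
          rw [mul_assoc, ← pow_add]; congr 2; omega
      _ ≤ Nat.card (Subgroup.upperCentralSeries G (n - 2)) * p ^ 2 :=
          Nat.mul_le_mul_right _ (hgrow (n - 2 - i) i (by omega))
      _ ≤ p ^ n := htopcard
      _ = p ^ i * p ^ (n - i) := by rw [← pow_add]; congr 1; omega
  have hZ : Nat.card (Subgroup.center G) ≤ p := by
    have := hbound 1 (by omega)
    rwa [Subgroup.upperCentralSeries_one, pow_one] at this
  have h12 := hlt 1 (by omega)
  rw [Subgroup.upperCentralSeries_one] at h12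
  obtain ⟨w, hw, hwn⟩ := SetLike.exists_of_lt h12
  have hZp : p ≤ Nat.card (Subgroup.center G) := by
    have := card_mul_le hG (hlt 0 (by omega))
    rw [Subgroup.upperCentralSeries_zero, Subgroup.upperCentralSeries_one, Subgroup.card_bot, one_mul] at this
    exact this
  refine ⟨w, hw, hwn, le_antisymm ?_ (sup_le h12.le (Subgroup.zpowers_le.2 hw)), ?_⟩
  · have hsub : Subgroup.center G ⊔ Subgroup.zpowers w ≤ Subgroup.upperCentralSeries G 2 :=
      sup_le h12.le (Subgroup.zpowers_le.2 hw)
    refine (Subgroup.eq_of_le_of_card_ge hsub ?_).ge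
    have h1 := card_mul_le hG (lt_of_le_of_ne (le_sup_left : Subgroup.center G ≤ Subgroup.center G ⊔ Subgroup.zpowers w)
      fun e => hwn (e ▸ Subgroup.mem_sup_right (Subgroup.mem_zpowers w)))
    have h2 := hbound 2 (by omega)
    have h3 : p * p ≤ Nat.card (Subgroup.center G) * p := Nat.mul_le_mul_right p hZp
    rw [pow_two] at h2
    omega
  · have hc : ∀ s : G, s * w * s⁻¹ * w⁻¹ ∈ Subgroup.center G := by
      intro s
      have h1 := (Subgroup.mem_upperCentralSeries_succ_iff.1 hw : ∀ y : G, _) s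
      rw [Subgroup.upperCentralSeries_one] at h1
      first
        | exact h1
        | (have h2 := (Subgroup.center G).inv_mem h1
           simpa [commutatorElement_def, mul_assoc] using h2)
    let f : G →* Subgroup.center G := MonoidHom.mk' (fun s => ⟨_, hc s⟩) fun s t => Subtype.ext (by
      show s * t * w * (s * t)⁻¹ * w⁻¹ = s * w * s⁻¹ * w⁻¹ * (t * w * t⁻¹ * w⁻¹)
      calc s * t * w * (s * t)⁻¹ * w⁻¹
          = s * ((t * w * t⁻¹ * w⁻¹) * (w * s⁻¹ * w⁻¹)) := by group
        _ = s * ((w * s⁻¹ * w⁻¹) * (t * w * t⁻¹ * w⁻¹)) := by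
            rw [← Subgroup.mem_center_iff.1 (hc t) (w * s⁻¹ * w⁻¹)]
        _ = _ := by group)
    have hker : f.ker = Subgroup.centralizer ({w} : Set G) := by
      ext s
      rw [MonoidHom.mem_ker, Subgroup.mem_centralizer_singleton_iff, Subtype.ext_iff]
      show s * w * s⁻¹ * w⁻¹ = 1 ↔ _
      rw [mul_inv_eq_one, mul_inv_eq_iff_eq_mul]
    rw [← hker, Subgroup.index_ker]
    exact (Subgroup.card_le_card_group _).trans hZ

variable {Ω : Type*} [Group Ω] {S : Subgroup Ω} [Finite S] {F : FusionSystem S} {p : ℕ} [Fact p.Prime]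

theorem main (hS : IsPGroup p S) {n : ℕ} (hn : Nat.card S = p ^ n) (h4 : 4 ≤ n)
    (hmax : Subgroup.lowerCentralSeries S (n - 2) ≠ ⊥) (hF : F.IsSaturated p)
    (φ : ((Subgroup.upperCentralSeries S 2).map S.subtype : Subgroup Ω) →* Ω)
    (hφ : φ ∈ F.Hom ((Subgroup.upperCentralSeries S 2).map S.subtype))
    (hφZ : φ.range = (Subgroup.upperCentralSeries S 2).map S.subtype)
    (hmove : ∃ (z : Ω) (hz : z ∈ (Subgroup.upperCentralSeries S 2).map S.subtype),
      z ∈ (Subgroup.center S).map S.subtype ∧ φ ⟨z, hz⟩ ∉ (Subgroup.center S).map S.subtype) :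
    F.IsEssential p (centralizerIn S ((Subgroup.upperCentralSeries S 2).map S.subtype)) := by
  have hnil : Group.IsNilpotent S := hS.isNilpotent
  have htop : Subgroup.upperCentralSeries S (n - 2) ≠ ⊤ := fun h => hmax (by
    rw [← Subgroup.top_subtype_lowerCentralSeries S (n - 2),
      Subgroup.lowerCentralSeries_eq_bot_iff_upperCentralSeries_eq_top.2 h, Subgroup.map_bot])
  obtain ⟨w, hw, hwn, hZ2, hidx⟩ := second_center hn h4 htop
  let Z2 : Subgroup Ω := (Subgroup.upperCentralSeries S 2).map S.subtype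
  let Z : Subgroup Ω := (Subgroup.center S).map S.subtype
  let C : Subgroup Ω := centralizerIn S Z2
  show F.IsEssential p C
  have hZ2S : Z2 ≤ S := Subgroup.map_subtype_le _
  have hZS : Z ≤ S := Subgroup.map_subtype_le _
  have hmemC : ∀ s : S, (s : Ω) ∈ C ↔ Subgroup.upperCentralSeries S 2 ≤ Subgroup.centralizer ({s} : Set S) := by
    intro s
    rw [show ((s : Ω) ∈ C) = ((s : Ω) ∈ centralizerIn S Z2) from rfl, mem_centralizerIn]
    constructor
    · intro h y hy
      exact Subgroup.mem_centralizer_singleton_iff.2 (Subtype.ext (h.2 y ⟨y, hy, rfl⟩))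
    · intro h
      refine ⟨s.2, ?_⟩
      rintro _ ⟨y, hy, rfl⟩
      exact congrArg Subtype.val (Subgroup.mem_centralizer_singleton_iff.1 (h hy))
  have hwC : ∀ s : S, s ∈ Subgroup.centralizer ({w} : Set S) → (s : Ω) ∈ C := by
    intro s hs
    rw [hmemC, hZ2]
    refine sup_le (Subgroup.center_le_centralizer _) (Subgroup.zpowers_le.2 ?_)
    exact Subgroup.mem_centralizer_singleton_iff.2 (Subgroup.mem_centralizer_singleton_iff.1 hs).symm
  have hCS : C ≤ S := centralizerIn_le
  have hne : C ≠ S := by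
    intro e
    obtain ⟨z, hz, hzZ, hφz⟩ := hmove
    obtain ⟨y, hy, hye⟩ : φ ⟨z, hz⟩ ∈ Z2 := hφZ.le ⟨_, rfl⟩
    refine hφz ⟨y, Subgroup.mem_center_iff.2 fun s => ?_, hye⟩
    have := (hmemC s).1 (e.symm.le s.2) hy
    exact (Subgroup.mem_centralizer_singleton_iff.1 this).symm
  have hlt : C < S := lt_of_le_of_ne hCS hne
  have hsucc : ∀ Q, C < Q → Q ≤ S → Q = S := by
    intro Q hCQ hQS
    have h1 : C.subgroupOf S < Q.subgroupOf S := by
      refine lt_of_le_of_ne (fun x hx => hCQ.le hx) fun e => hCQ.ne ?_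
      rwa [Subgroup.subgroupOf_inj, inf_eq_left.2 hCS, inf_eq_left.2 hQS] at e
    have h2 : Subgroup.centralizer ({w} : Set S) ≤ C.subgroupOf S := fun s hs => hwC s hs
    have h3 := card_mul_le hS h1
    have h4' := Subgroup.card_mul_index (Subgroup.centralizer ({w} : Set S))
    have h5 : Nat.card (Subgroup.centralizer ({w} : Set S)) ≤ Nat.card (C.subgroupOf S) :=
      Subgroup.card_le_of_le h2
    have h6 : Nat.card S ≤ Nat.card (Q.subgroupOf S) := by
      rw [← h4']
      exact (Nat.mul_le_mul h5 hidx).trans h3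
    have h7 := Subgroup.eq_top_of_le_card _ h6
    exact le_antisymm hQS (Subgroup.subgroupOf_eq_top.1 h7)
  have hnormal : ∀ W : Subgroup S, W.Normal → F.IsFullyNormalized (W.map S.subtype) := by
    intro W hW
    have : Finite (normalizerIn S (W.map S.subtype)) := finite_of_le normalizerIn_le
    refine ⟨Subgroup.map_subtype_le _, fun R _ => Subgroup.card_le_of_le ?_⟩
    refine normalizerIn_le.trans fun a ha => ⟨ha, ?_⟩
    refine mem_normalizer_of_conj_mem (Subgroup.map_subtype_le _) ?_
    rintro _ ⟨x, hx, rfl⟩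
    exact ⟨⟨a, ha⟩ * x * ⟨a, ha⟩⁻¹, hW.conj_mem x hx ⟨a, ha⟩, rfl⟩
  have hCn : F.IsFullyNormalized C := by
    have := hnormal (C.subgroupOf S) ⟨fun x hx a => (hmemC (a * x * a⁻¹)).2 fun y hy => ?_⟩
    · rwa [Subgroup.subgroupOf_map_subtype, inf_eq_left.2 hCS] at this
    · have hy' : a⁻¹ * y * a⁻¹⁻¹ ∈ Subgroup.upperCentralSeries S 2 :=
        (inferInstance : (Subgroup.upperCentralSeries S 2).Normal).conj_mem y hy a⁻¹
      have h1 := Subgroup.mem_centralizer_singleton_iff.1 ((hmemC x).1 hx hy')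
      refine Subgroup.mem_centralizer_singleton_iff.2 ?_
      calc y * (a * x * a⁻¹) = a * ((a⁻¹ * y * a⁻¹⁻¹) * x) * a⁻¹ := by group
        _ = a * (x * (a⁻¹ * y * a⁻¹⁻¹)) * a⁻¹ := by rw [h1]
        _ = a * x * a⁻¹ * y := by group
  have : Finite C := finite_of_le hCS
  refine (isEssential_of_closure_extSet_ne hS hF hlt hCn fun heq => ?_).1
  -- the extension of `φ`
  have hZ2C : Z2 ≤ C := by
    rintro _ ⟨y, hy, rfl⟩
    refine hwC y ?_
    rw [hZ2] at hy
    revert hy
    exact fun hy => (sup_le (Subgroup.center_le_centralizer _) (Subgroup.zpowers_le.2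
      (Subgroup.mem_centralizer_singleton_iff.2 rfl))) hy
  have hi : IsIso F Z2 Z2 (extFun φ) := ⟨isMor_extFun hφ, fun y => by
    show y ∈ (Subgroup.upperCentralSeries S 2).map S.subtype ↔ _
    conv_lhs => rw [← hφZ]
    exact ⟨fun ⟨x, hx⟩ => ⟨x, x.2, (extFun_coe φ x).trans hx⟩,
      fun ⟨x, hx, e⟩ => ⟨⟨x, hx⟩, (extFun_apply φ hx).symm.trans e⟩⟩⟩
  obtain ⟨k, hk, hke⟩ := exists_extension_centralizer
    (fullyNormalized_receptive hS hF (hnormal _ inferInstance)).2 hi
  have hkZ : IsIso F Z2 Z2 k := hi.congr hke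
  have hkC : IsIso F C C k := (hk.restrict le_sup_right).isIso_self fun c hc =>
    hk.apply_mem_centralizerIn le_sup_left hkZ (Subgroup.mem_sup_right hc) hc
  let K : Subgroup (MulAut C) :=
    { carrier := {α | (Z.subgroupOf C).map α.toMonoidHom = Z.subgroupOf C}
      one_mem' := Subgroup.map_id _
      mul_mem' := fun {a b} ha hb => by
        show (Z.subgroupOf C).map (a.toMonoidHom.comp b.toMonoidHom) = _
        rw [← Subgroup.map_map, hb, ha]
      inv_mem' := fun {a} ha => by
        show (Z.subgroupOf C).map a.symm.toMonoidHom = _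
        conv_lhs => rw [← ha, Subgroup.map_map]
        convert Subgroup.map_id (Z.subgroupOf C)
        ext x
        simp }
  have hle : Subgroup.closure (extSet F C) ≤ K := by
    refine (Subgroup.closure_le _).2 fun α hα => ?_
    obtain ⟨Q, f, hCQ, hf, hx⟩ := mem_extSet.1 hα
    obtain rfl := hsucc Q hCQ hf.le
    have hfi := hf.isIso_self fun x hx => hf.mem hx
    show (Z.subgroupOf C).map α.toMonoidHom = _
    refine Subgroup.eq_of_le_of_card_ge ?_ ?_
    · rintro _ ⟨c, ⟨z, hz, hzc⟩, rfl⟩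
      refine ⟨⟨f c, hfi.apply_mem (hCS c.2)⟩, Subgroup.mem_center_iff.2 fun s => Subtype.ext ?_, hx c⟩
      obtain ⟨t, ht, hte⟩ := hfi.exists_apply s.2
      show (s : Ω) * f c = f c * s
      rw [← hte, ← hf.map_mul ht (hCS c.2), ← hf.map_mul (hCS c.2) ht]
      congr 1
      have := congrArg Subtype.val (Subgroup.mem_center_iff.1 hz ⟨t, ht⟩)
      rw [← (show (z : Ω) = c from hzc)]
      exact this
    · rw [Nat.card_congr ((Z.subgroupOf C).equivMapOfInjective α.toMonoidHom α.injective).toEquiv]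
  have hψ : autOf hkC ∈ Subgroup.closure (extSet F C) := heq.ge (autOf_mem hkC)
  obtain ⟨z, hz, hzZ, hφz⟩ := hmove
  have hzC : z ∈ C := hZ2C hz
  have hK : (Z.subgroupOf C).map (autOf hkC).toMonoidHom = Z.subgroupOf C := hle hψ
  have h1 : autOf hkC ⟨z, hzC⟩ ∈ Z.subgroupOf C := hK.le ⟨⟨z, hzC⟩, hzZ, rfl⟩
  apply hφz
  rw [← extFun_apply φ hz, ← hke z hz]
  exact h1

end Cfsg.Agent.Fusion.MaxClass
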