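import Cfsg.Prelude.Def_PLocal
import Cfsg.Agent.Lib.Fusion.NormalCriteria
import Cfsg.Agent.Lib.Fusion.FixOmega

/-!
Normality of a strongly closed subgroup from a chain through its elements of order `p`.
-/

set_option autoImplicit false

open scoped commutatorElement

namespace Cfsg.Agent.Fusion.OmegaCrit

open Cfsg Cfsg.FusionSystem

universe u

variable {p : ℕ} [hp : Fact p.Prime]

/-- A coprime automorphism stabilizing a chain through the elements of order `p` of an invariant
subgroup and centralizing the factor is trivial. -/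
theorem eq_one_of_coprime {H : Type u} [Group H] [Finite H] (hH : IsPGroup p H) (hp2 : p ≠ 2)
    {U : Subgroup H} {m : ℕ} {K : ℕ → Subgroup H} (hK0 : K 0 = ⊥)
    (hKm : ∀ x ∈ U, x ^ p = 1 → x ∈ K m) {β : MulAut H} {n : ℕ} (hn : β ^ n = 1) (hpn : ¬ p ∣ n)
    (hK : ∀ i < m, ∀ x ∈ K (i + 1), x⁻¹ * β x ∈ K i) (hU : ∀ x : H, x⁻¹ * β x ∈ U) : β = 1 := by
  have trick : ∀ x : H, β (x⁻¹ * β x) = x⁻¹ * β x → β x = x := by
    intro x hfa
    have hk : ∀ k : ℕ, (β ^ k) x = x * (x⁻¹ * β x) ^ k := by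
      intro k
      induction k with
      | zero => simp
      | succ k ihk =>
        rw [pow_succ' β, MulAut.mul_apply, ihk, map_mul, map_pow, hfa, pow_succ' (x⁻¹ * β x),
          ← mul_assoc x, mul_inv_cancel_left]
    have h1 := hk n
    rw [hn, MulAut.one_apply, left_eq_mul] at h1
    obtain ⟨i, hi⟩ := hH (x⁻¹ * β x)
    have hd := Nat.dvd_gcd (orderOf_dvd_iff_pow_eq_one.2 h1) (orderOf_dvd_iff_pow_eq_one.2 hi)
    rw [Nat.Coprime.gcd_eq_one ((((Fact.out : p.Prime).coprime_iff_not_dvd.2 hpn).symm).pow_right i),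
      Nat.dvd_one, orderOf_eq_one_iff] at hd
    exact (inv_mul_eq_one.1 hd).symm
  have hfixK : ∀ i ≤ m, ∀ x ∈ K i, β x = x := by
    intro i
    induction i with
    | zero =>
      intro _ x hx
      rw [hK0, Subgroup.mem_bot] at hx
      rw [hx, map_one]
    | succ i ih => exact fun hi x hx => trick x (ih (Nat.le_of_succ_le hi) _ (hK i hi x hx))
  have hUinv : ∀ u ∈ U, β u ∈ U := fun u hu => by
    simpa using U.mul_mem hu (hU u)
  have hmap : U.map β.toMonoidHom = U := by
    refine Subgroup.eq_of_le_of_card_ge ?_ (Nat.card_congr (U.equivMapOfInjective _ β.injective).toEquiv).le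
    rintro _ ⟨v, hv, rfl⟩
    exact hUinv v hv
  let γ : MulAut U := (β.subgroupMap U).trans (MulEquiv.subgroupCongr hmap)
  have hγ : ∀ v : U, ((γ v : U) : H) = β v := fun v => rfl
  have hpow : ∀ (k : ℕ) (v : U), (((γ ^ k : MulAut U) v : U) : H) = (β ^ k) v := by
    intro k
    induction k with
    | zero => intro v; rfl
    | succ k ihk => intro v; rw [pow_succ', pow_succ', MulAut.mul_apply, MulAut.mul_apply, hγ, ihk]
  have hfixU : ∀ u ∈ U, β u = u := fun u hu => by
    have h := eq_of_coprime_fix (hH.to_subgroup U) γ (n := n)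
      (MulEquiv.ext fun v => Subtype.ext (by rw [hpow, hn]; rfl)) hpn
      (fun v hv => Subtype.ext ((hγ v).trans (hfixK m le_rfl _ (hKm v v.2 (by
        rcases hv with h | ⟨h2, -⟩
        · rw [← Subgroup.coe_pow, h]; rfl
        · exact absurd h2 hp2))))) ⟨u, hu⟩
    exact congrArg Subtype.val h
  exact MulEquiv.ext fun x => trick x (hfixU _ (hU x))

variable {Ω : Type u} [Group Ω] {S : Subgroup Ω} [Finite S] {F : FusionSystem S} {P R : Subgroup Ω}

/-- A strongly closed subgroup with a suitable chain through its elements of order `p` lies in every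
centric radical subgroup. -/
theorem le_radical (hS : IsPGroup p S) (hp2 : p ≠ 2) (hP : F.StronglyClosed P) (hR : F.IsCentric R)
    (hRr : F.IsRadical p R) {m : ℕ} (Q : ℕ → Subgroup Ω) (h0 : Q 0 = ⊥)
    (hm : ∀ x ∈ P, x ^ p = 1 → x ∈ Q m) (hQ : ∀ i ≤ m, F.StronglyClosed (Q i))
    (hc : ∀ i < m, ⁅Q (i + 1), P⁆ ≤ Q i) : P ≤ R := by
  have hRS := hR.1
  have hRf := finite_of_le hRS
  have := finite_autGroup (F := F) hRS
  -- the conditions: the steps of the chain and the displacement into `P`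
  let A : ℕ → Subgroup Ω := fun i => if i < m then R ⊓ Q (i + 1) else R
  let B : ℕ → Subgroup Ω := fun i => if i < m then R ⊓ Q i else R ⊓ P
  have hA : ∀ i, A i ≤ R := fun i => by
    show (if i < m then R ⊓ Q (i + 1) else R) ≤ R
    split_ifs
    · exact inf_le_left
    · exact le_rfl
  have hAB : ∀ i, ∀ x ∈ B i, x ∈ R := fun i x hx => by
    have hx : x ∈ (if i < m then R ⊓ Q i else R ⊓ P) := hx
    split_ifs at hx <;> exact hx.1
  have hinv : ∀ i, ∀ α ∈ F.autGroup R,
      (∀ x ∈ A i, autFun α x ∈ A i) ∧ ∀ x ∈ B i, autFun α x ∈ B i := by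
    intro i α hα
    have hcl : ∀ (T : Subgroup Ω), F.StronglyClosed T → ∀ x ∈ R ⊓ T, autFun α x ∈ R ⊓ T := fun T hT x hx =>
      ⟨autFun_mem α hx.1, stronglyClosed_apply hT (isMor_of_mem_autGroup hRS hα) hx.1 hx.2⟩
    by_cases hi : i < m
    · simp only [A, B, if_pos hi]
      exact ⟨hcl _ (hQ _ hi), hcl _ (hQ _ hi.le)⟩
    · simp only [A, B, if_neg hi]
      exact ⟨fun x hx => autFun_mem α hx, hcl _ hP⟩
  let St : Subgroup (F.autGroup R) :=
    { carrier := {α | ∀ i, ∀ x ∈ A i, x⁻¹ * autFun (α : MulAut R) x ∈ B i}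
      one_mem' := fun i x hx => by
        rw [Subgroup.coe_one, autFun_one (hA i hx)]
        simp
      mul_mem' := by
        intro α β hα hβ i x hx
        rw [Subgroup.coe_mul, autFun_mul _ _ (hA i hx)]
        have h1 := hα i _ ((hinv i _ β.2).1 x hx)
        have h2 := hβ i x hx
        have := mul_mem h2 h1
        simpa [mul_assoc] using this
      inv_mem' := by
        intro α hα i x hx
        have hy : autFun (↑α⁻¹ : MulAut R) x ∈ A i := (hinv i _ (α⁻¹).2).1 x hx
        have h1 := inv_mem (hα i _ hy)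
        rw [← autFun_mul _ _ (hA i hx), ← Subgroup.coe_mul, mul_inv_cancel, Subgroup.coe_one,
          autFun_one (hA i hx), mul_inv_rev, inv_inv] at h1
        exact h1 }
  have hStn : St.Normal := ⟨by
    intro α hα γ i x hx
    have hxP := hA i hx
    have hy : autFun (↑γ⁻¹ : MulAut R) x ∈ A i := (hinv i _ (γ⁻¹).2).1 x hx
    have hy' := hA i hy
    have h1 := (hinv i _ γ.2).2 _ (hα i _ hy)
    have hm : IsMor F R (autFun (γ : MulAut R)) := isMor_of_mem_autGroup hRS γ.2
    have e : autFun (γ : MulAut R) (autFun (↑γ⁻¹ : MulAut R) x) = x := by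
      rw [← autFun_mul _ _ hxP, ← Subgroup.coe_mul, mul_inv_cancel, Subgroup.coe_one, autFun_one hxP]
    rw [hm.map_mul (inv_mem hy') (autFun_mem _ hy'), hm.map_inv hy', e] at h1
    rw [Subgroup.coe_mul, Subgroup.coe_mul, autFun_mul _ _ hxP, autFun_mul _ _ (autFun_mem _ hxP)]
    exact h1⟩
  have hcop : ∀ α : F.autGroup R, α ∈ St → ∀ n : ℕ, ¬ p ∣ n → α ^ n = 1 → α = 1 := by
    intro α hα n hpn hn
    refine Subtype.ext (eq_one_of_coprime (hS.to_le hRS) hp2 (U := P.subgroupOf R) (m := m)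
      (K := fun i => (Q i).subgroupOf R) (by simp [h0])
      (fun x hx h1 => hm x hx (by rw [← Subgroup.coe_pow, h1]; rfl))
      (congrArg Subtype.val hn) hpn (fun i hi x hx => ?_) fun x => ?_)
    · have h := hα i (x : Ω) (by simp only [A, if_pos hi]; exact ⟨x.2, hx⟩)
      simp only [B, if_pos hi, autFun_coe] at h
      exact h.2
    · have h := hα m (x : Ω) (by simp only [A, if_neg (lt_irrefl m)]; exact x.2)
      simp only [B, if_neg (lt_irrefl m), autFun_coe] at h
      exact h.2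
  have hStp : IsPGroup p St := by
    rintro ⟨α, hα⟩
    have ho : orderOf α ≠ 0 := (orderOf_pos α).ne'
    refine ⟨(orderOf α).factorization p, Subtype.ext ?_⟩
    refine hcop (α ^ p ^ (orderOf α).factorization p) (St.pow_mem hα _)
      (orderOf α / p ^ (orderOf α).factorization p) (Nat.not_dvd_ordCompl (Fact.out : p.Prime) ho) ?_
    rw [← pow_mul, Nat.ordProj_mul_ordCompl_eq_self, pow_orderOf_eq_one]
  have hN : normalizerIn P R ≤ R := by
    intro a ha
    have haN : a ∈ normalizerIn S R := ⟨hP.1 ha.1, ha.2⟩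
    obtain ⟨h1, h2⟩ := conjAut_mem (F := F) hRS haN
    have hmem : (⟨_, h2⟩ : F.autGroup R) ∈ St := fun i x hx => by
      rw [autFun_apply _ (hA i hx)]
      show x⁻¹ * (a * x * a⁻¹) ∈ B i
      have hxR := hA i hx
      have hR' : x⁻¹ * (a * x * a⁻¹) ∈ R :=
        R.mul_mem (R.inv_mem hxR) (conj_mem_of_mem_normalizer ha.2 hxR)
      by_cases hi : i < m
      · simp only [A, if_pos hi] at hx
        simp only [B, if_pos hi]
        refine ⟨hR', hc i hi ?_⟩
        rw [show x⁻¹ * (a * x * a⁻¹) = ⁅x⁻¹, a⁆ by simp [commutatorElement_def, mul_assoc]]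
        exact Subgroup.commutator_mem_commutator (inv_mem hx.2) ha.1
      · simp only [B, if_neg hi]
        refine ⟨hR', ?_⟩
        rw [← mul_assoc, ← mul_assoc, mul_assoc (x⁻¹) a x]
        refine P.mul_mem ?_ (P.inv_mem ha.1)
        have := stronglyClosed_apply hP (isMor_conj hP.1 (S.inv_mem (hRS hxR))) ha.1 ha.1
        simpa [mul_assoc] using this
    refine mem_of_conjAut_mem_inn (centralizerIn_le_of_isCentric hR) hRS haN ?_
    rw [← hRr.2]
    exact ⟨_, Solv.le_pCore (hN := hStn) hStp hmem, rfl⟩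
  by_contra hC
  have hlt : R < R ⊔ P := lt_of_le_of_ne le_sup_left fun h => hC (h ▸ le_sup_right)
  have := finite_of_le (sup_le hRS hP.1)
  obtain ⟨u, hu, huP⟩ := SetLike.exists_of_lt
    (normalizerIn_self_lt (p := p) (hS.to_le (sup_le hRS hP.1)) hlt)
  obtain ⟨hu1, hu2⟩ := hu
  replace hu1 : u ∈ ((R ⊔ P : Subgroup Ω) : Set Ω) := hu1
  rw [Subgroup.coe_mul_of_left_le_normalizer_right _ _ (hRS.trans (le_normalizer_of_stronglyClosed hP))] at hu1
  obtain ⟨x, hx, c, hc, rfl⟩ := Set.mem_mul.1 hu1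
  have hcn : c ∈ Subgroup.normalizer (R : Set Ω) := by
    have := mul_mem (inv_mem (Subgroup.le_normalizer hx)) hu2
    rwa [inv_mul_cancel_left] at this
  exact huP (mul_mem hx (hN ⟨hc, hcn⟩))

omit hp [Finite S] in
theorem omegaOne_le (P : Subgroup Ω) : omegaOne p P ≤ P :=
  (Subgroup.closure_le _).2 fun _ hx => hx.1

omit hp [Finite S] in
theorem omegaOne_subgroupOf_characteristic (P : Subgroup Ω) :
    ((omegaOne p P).subgroupOf P).Characteristic := by
  refine Subgroup.characteristic_iff_le_comap.2 fun e => ?_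
  rintro ⟨x, hxP⟩ hx
  have hle : omegaOne p P ≤ (((omegaOne p P).subgroupOf P).comap e.toMonoidHom).map P.subtype :=
    (Subgroup.closure_le _).2 fun y hy => ⟨⟨y, hy.1⟩, Subgroup.subset_closure ⟨(e _).2, by
      show ((e ⟨y, hy.1⟩ : P) : Ω) ^ p = 1
      rw [← Subgroup.coe_pow, ← map_pow, show (⟨y, hy.1⟩ : P) ^ p = 1 from Subtype.ext hy.2, map_one]
      rfl⟩, rfl⟩
  obtain ⟨z, hz, hze⟩ := hle (show x ∈ omegaOne p P from hx)
  exact (Subtype.ext hze : z = ⟨x, hxP⟩) ▸ hz

/-- The criterion. -/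
theorem isNormal_iff_omega (hS : IsPGroup p S) (hF : F.IsSaturated p) (hp2 : p ≠ 2) (hP : F.StronglyClosed P) :
    F.IsNormal P ↔ ∃ (n : ℕ) (Q : Fin (n + 1) → Subgroup Ω), Q 0 = ⊥ ∧ Q (Fin.last n) = omegaOne p P ∧
      Monotone Q ∧ (∀ i : Fin (n + 1), F.StronglyClosed (Q i)) ∧ ∀ i : Fin n, ⁅Q i.succ, P⁆ ≤ Q i.castSucc := by
  constructor
  · intro h
    obtain ⟨n, C, h0, hn, hm, hc, hC⟩ := exists_central_series (p := p) hS h.1
    have hΩ : F.IsNormal (omegaOne p P) :=
      isNormal_of_characteristic h (omegaOne_le P) (omegaOne_subgroupOf_characteristic P)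
    refine ⟨n, fun i => C i ⊓ omegaOne p P, by simp [h0], ?_, fun a b hab => inf_le_inf_right _ (hm hab),
      fun i => ?_, fun i => le_inf ((Subgroup.commutator_mono inf_le_left le_rfl).trans (hc i))
        ((Subgroup.commutator_mono inf_le_right le_rfl).trans ?_)⟩
    · show C (Fin.last n) ⊓ omegaOne p P = omegaOne p P
      rw [hn, inf_eq_right.2 (omegaOne_le P)]
    · have hCi := normal_stronglyClosed (isNormal_of_characteristic h (hC i).1 (hC i).2)
      exact stronglyClosed_of_apply_mem (inf_le_right.trans hΩ.1) fun U f hU hf x hx =>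
        ⟨stronglyClosed_apply hCi hf hx (hU hx).1,
          stronglyClosed_apply (normal_stronglyClosed hΩ) hf hx (hU hx).2⟩
    · refine Subgroup.commutator_le.2 fun x hx y hy => ?_
      rw [commutatorElement_def, mul_assoc, mul_assoc]
      refine mul_mem hx ?_
      rw [← mul_assoc]
      exact conj_mem_of_mem_normalizer ((normal_le_normalizer hΩ) (h.1 hy)) (inv_mem hx)
  · rintro ⟨n, Q, h0, hn, hm, hQ, hc⟩
    refine isNormal_of_centric_radical hS hF hP fun R hR hRr => ?_
    refine le_radical hS hp2 hP hR hRr (m := n) (fun i => if h : i ≤ n then Q ⟨i, by omega⟩ else ⊥)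
      (by simp [h0]) (fun x hx hx1 => ?_) (fun i hi => ?_) fun i hi => ?_
    · rw [dif_pos le_rfl]
      exact hn.ge (Subgroup.subset_closure ⟨hx, hx1⟩)
    · rw [dif_pos hi]; exact hQ _
    · rw [dif_pos (show i + 1 ≤ n from hi), dif_pos (show i ≤ n by omega)]
      exact hc ⟨i, hi⟩

end Cfsg.Agent.Fusion.OmegaCrit
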