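import Cfsg.Prelude.Def_OddOrderLocal
import Cfsg.Agent.Lib.Fusion.GenExtraspecial
import Cfsg.Agent.Lib.Fusion.OmegaCriterion

/-!
Strongly closed metacyclic subgroups are normal at odd primes.
-/

set_option autoImplicit false

open scoped commutatorElement

universe v

namespace Cfsg.Agent.Fusion.MetaCl

open Cfsg Cfsg.FusionSystem

variable {p : ℕ} [hp : Fact p.Prime]

/-- An element of `p`-power order normalizing a group of order `p` centralizes it. -/
theorem commute_of_conj_mem {G : Type v} [Group G] {s z : G} (hzp : z ^ p = 1) {e : ℕ} (hs : s ^ p ^ e = 1)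
    (hmem : s * z * s⁻¹ ∈ Subgroup.zpowers z) : s * z = z * s := by
  by_cases hz1 : z = 1
  · simp [hz1]
  have hzord : orderOf z = p := orderOf_eq_prime hzp hz1
  obtain ⟨k, hk⟩ := GenES.exists_nat_pow hzp hmem
  have hpow : ∀ n : ℕ, s ^ n * z * (s ^ n)⁻¹ = z ^ (k ^ n) := by
    intro n
    induction n with
    | zero => simp
    | succ n ih =>
      calc s ^ (n + 1) * z * (s ^ (n + 1))⁻¹ = s * (s ^ n * z * (s ^ n)⁻¹) * s⁻¹ := by rw [pow_succ']; group
        _ = z ^ (k ^ (n + 1)) := by rw [ih, ← conj_pow, ← hk, ← pow_mul, ← pow_succ']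
  have h1 := hpow (p ^ e)
  rw [hs, one_mul, inv_one, mul_one] at h1
  conv_lhs at h1 => rw [← pow_one z]
  rw [pow_eq_pow_iff_modEq, hzord, ← ZMod.natCast_eq_natCast_iff, Nat.cast_pow, ZMod.pow_card_pow] at h1
  have h2 : z ^ k = z ^ 1 := by
    rw [pow_eq_pow_iff_modEq, hzord, ← ZMod.natCast_eq_natCast_iff]; exact h1.symm
  rw [pow_one, hk] at h2
  exact mul_inv_eq_iff_eq_mul.1 h2

theorem card_pow_le (G : Type v) [Group G] [Finite G] [IsCyclic G] : Nat.card {q : G // q ^ p = 1} ≤ p := by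
  classical
  have := Fintype.ofFinite G
  rw [Nat.card_eq_fintype_card, Fintype.card_subtype]
  exact IsCyclic.card_pow_eq_one_le hp.out.pos

section Group

variable {G : Type v} [Group G] [Finite G] {N : Subgroup G} [hNn : N.Normal]

/-- An element of order dividing `p` acts on a cyclic normal subgroup trivially modulo elements of order `p`. -/
theorem act_cyclic (hG : IsPGroup p G) (hp2 : p ≠ 2) (hN : IsCyclic N) {x : G} (hx : x ^ p = 1) {n : G} (hn : n ∈ N) :
    (x * n * x⁻¹ * n⁻¹) ^ p = 1 ∧ (n ^ p = 1 → x * n = n * x) := by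
  obtain ⟨⟨g, hgN⟩, hg⟩ := hN.exists_generator
  have hgen : ∀ w ∈ N, ∃ i : ℤ, g ^ i = w := fun w hw => by
    obtain ⟨i, hi⟩ := Subgroup.mem_zpowers_iff.1 (hg ⟨w, hw⟩)
    exact ⟨i, by simpa using congrArg Subtype.val hi⟩
  obtain ⟨r, hr⟩ := hgen _ (hNn.conj_mem g hgN x)
  have hconj : ∀ i : ℤ, x * g ^ i * x⁻¹ = g ^ (r * i) := fun i => by rw [← conj_zpow, ← hr, zpow_mul]
  have hpow : ∀ j : ℕ, x ^ j * g * (x ^ j)⁻¹ = g ^ (r ^ j) := by
    intro j
    induction j with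
    | zero => simp
    | succ j ih =>
      calc x ^ (j + 1) * g * (x ^ (j + 1))⁻¹ = x * (x ^ j * g * (x ^ j)⁻¹) * x⁻¹ := by rw [pow_succ']; group
        _ = g ^ (r ^ (j + 1)) := by rw [ih, hconj, ← pow_succ']
  have h1 : g ^ (r ^ p - 1) = 1 := by
    rw [zpow_sub, ← hpow p, hx]
    simp
  obtain ⟨m, hm⟩ := IsPGroup.iff_orderOf.1 hG g
  rcases Nat.eq_zero_or_pos m with rfl | hmp
  · rw [pow_zero, orderOf_eq_one_iff] at hm
    obtain ⟨i, rfl⟩ := hgen n hn
    subst hm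
    simp
  have hd : ((p : ℤ) ^ m) ∣ r ^ p - 1 := by
    have := orderOf_dvd_iff_zpow_eq_one.2 h1
    rw [hm] at this
    exact_mod_cast this
  have hr1 : (p : ℤ) ∣ r - 1 := by
    have h2 : (p : ℤ) ∣ r ^ p - 1 := (dvd_pow_self _ hmp.ne').trans hd
    rw [← ZMod.intCast_zmod_eq_zero_iff_dvd] at h2 ⊢
    push_cast at h2 ⊢
    rwa [ZMod.pow_card] at h2
  obtain ⟨b, hb⟩ := hr1
  have hS := odd_sq_dvd_geom_sum₂_sub (R := ℤ) (1 : ℤ) b (hp.out.odd_of_ne_two hp2)
  rw [show (1 : ℤ) + (p : ℤ) * b = r by linarith] at hS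
  simp only [one_pow, mul_one] at hS
  obtain ⟨s, hs⟩ := hS
  have hd2 : ((p : ℤ) ^ m) ∣ (r - 1) * p * (1 + p * s) := by
    have e : ∑ i ∈ Finset.range p, r ^ i = p * (1 + p * s) := by linear_combination hs
    rw [mul_assoc, ← e, mul_comm, geom_sum_mul]
    exact hd
  have hd3 : ((p : ℤ) ^ m) ∣ (r - 1) * p := by
    have hcop : IsCoprime ((p : ℤ) ^ m) (1 + p * s) := (IsCoprime.pow_left (⟨-s, 1, by ring⟩))
    exact hcop.dvd_of_dvd_mul_right hd2
  obtain ⟨i, rfl⟩ := hgen n hn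
  have e1 : x * g ^ i * x⁻¹ * (g ^ i)⁻¹ = g ^ ((r - 1) * i) := by
    rw [hconj, ← zpow_neg, ← zpow_add]; ring_nf
  refine ⟨?_, fun hnp => ?_⟩
  · rw [e1, ← zpow_natCast, ← zpow_mul]
    refine orderOf_dvd_iff_zpow_eq_one.1 ?_
    rw [hm]
    push_cast
    exact hd3.trans ⟨i, by ring⟩
  · refine mul_inv_eq_iff_eq_mul.1 (mul_inv_eq_one.1 ?_)
    rw [e1, hb, show (p : ℤ) * b * i = i * p * b by ring, zpow_mul, zpow_mul, zpow_natCast, hnp, one_zpow]

theorem mem_pow_mul (hp2 : p ≠ 2) (hG : IsPGroup p G) (hN : IsCyclic N) (hQ : IsCyclic (G ⧸ N)) {x y : G}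
    (hx : x ^ p = 1) (hxN : x ∉ N) (hy : y ^ p = 1) : ∃ i : ℕ, ∃ n ∈ N, n ^ p = 1 ∧ y = x ^ i * n := by
  have hxq : (QuotientGroup.mk x : G ⧸ N) ^ p = 1 := by rw [← QuotientGroup.mk_pow, hx, QuotientGroup.mk_one]
  have hxo : orderOf (QuotientGroup.mk x : G ⧸ N) = p :=
    orderOf_eq_prime hxq fun h => hxN ((QuotientGroup.eq_one_iff x).1 h)
  have hsub : ∀ q : G ⧸ N, q ^ p = 1 → q ∈ Subgroup.zpowers (QuotientGroup.mk x : G ⧸ N) := by
    intro q hq
    let ι : Subgroup.zpowers (QuotientGroup.mk x : G ⧸ N) → {q : G ⧸ N // q ^ p = 1} := fun w => ⟨w.1, by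
      obtain ⟨i, hi⟩ := w.2
      rw [← hi, ← zpow_natCast, zpow_comm, zpow_natCast, hxq, one_zpow]⟩
    have hb : Function.Bijective ι := by
      refine (Nat.bijective_iff_injective_and_card ι).2 ⟨fun u w h => Subtype.ext (congrArg Subtype.val h :), ?_⟩
      refine le_antisymm (Nat.card_le_card_of_injective ι fun u w h => Subtype.ext (congrArg Subtype.val h :)) ?_
      rw [Nat.card_zpowers, hxo]
      exact card_pow_le (p := p) (G ⧸ N)
    obtain ⟨w, hw⟩ := hb.2 ⟨q, hq⟩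
    rw [← show (w : G ⧸ N) = q from congrArg Subtype.val hw]
    exact w.2
  obtain ⟨j, hj⟩ := hsub (QuotientGroup.mk y) (by rw [← QuotientGroup.mk_pow, hy, QuotientGroup.mk_one])
  obtain ⟨i, hi⟩ := GenES.exists_nat_pow hx (zpow_mem (Subgroup.mem_zpowers x) j)
  refine ⟨i, (x ^ i)⁻¹ * y, ?_, ?_, (mul_inv_cancel_left _ _).symm⟩
  · rw [← QuotientGroup.eq, hi, QuotientGroup.mk_zpow]
    exact hj
  set n := (x ^ i)⁻¹ * y with hn
  have hnN : n ∈ N := by
    rw [hn, ← QuotientGroup.eq, hi, QuotientGroup.mk_zpow]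
    exact hj
  have hxi : (x ^ i) ^ p = 1 := by rw [← pow_mul, mul_comm, pow_mul, hx, one_pow]
  have hxi' : ((x ^ i)⁻¹) ^ p = 1 := by rw [inv_pow, hxi, inv_one]
  set c := n⁻¹ * (x ^ i)⁻¹ * n * x ^ i with hc
  have hab : ∀ u ∈ N, ∀ w ∈ N, u * w = w * u := fun u hu w hw => by
    have := hN.commutative
    exact congrArg Subtype.val (mul_comm' (⟨u, hu⟩ : N) ⟨w, hw⟩)
  have hcN : c ∈ N := by
    rw [show c = n⁻¹ * ((x ^ i)⁻¹ * n * (x ^ i)⁻¹⁻¹) by rw [hc]; group]
    exact mul_mem (inv_mem hnN) (hNn.conj_mem n hnN _)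
  have hcp : c ^ p = 1 := by
    have h1 := (act_cyclic hG hp2 hN hxi' hnN).1
    rwa [show (x ^ i)⁻¹ * n * (x ^ i)⁻¹⁻¹ * n⁻¹ = c by
      rw [hab _ (hNn.conj_mem n hnN _) _ (inv_mem hnN), hc]; group] at h1
  have h2 : y = x ^ i * n := by rw [hn, mul_inv_cancel_left]
  have hy' := hy
  rw [h2, Local.mul_pow_of_commutator (c := c) (by rw [hc]; group) ((act_cyclic hG hp2 hN hxi hcN).2 hcp).symm
    (hab _ hcN _ hnN), hxi, one_mul] at hy'
  obtain ⟨q, hq⟩ := hp.out.dvd_choose_self (show (2 : ℕ) ≠ 0 by norm_num)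
    (lt_of_le_of_ne hp.out.two_le (Ne.symm hp2))
  rwa [hq, pow_mul, hcp, one_pow, mul_one] at hy'

theorem commute_of_pow (hp2 : p ≠ 2) (hG : IsPGroup p G) (hN : IsCyclic N) (hQ : IsCyclic (G ⧸ N)) {x y : G}
    (hx : x ^ p = 1) (hy : y ^ p = 1) : x * y = y * x := by
  have key : ∀ x y : G, x ^ p = 1 → x ∉ N → y ^ p = 1 → x * y = y * x := fun x y hx hxN hy => by
    obtain ⟨i, n, hn, hnp, rfl⟩ := mem_pow_mul hp2 hG hN hQ hx hxN hy
    exact ((Commute.pow_right (Commute.refl x) i).mul_right ((act_cyclic hG hp2 hN hx hn).2 hnp)).eq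
  by_cases hxN : x ∈ N
  · by_cases hyN : y ∈ N
    · have := hN.commutative
      exact congrArg Subtype.val (mul_comm' (⟨x, hxN⟩ : N) ⟨y, hyN⟩)
    · exact (key y x hy hyN hx).symm
  · exact key x y hx hxN hy

theorem card_le_sq (hN : IsCyclic N) (hQ : IsCyclic (G ⧸ N)) (V : Subgroup G) (hV : ∀ x ∈ V, x ^ p = 1) :
    Nat.card V ≤ p ^ 2 ∧ Nat.card ↥(V ⊓ N) ≤ p := by
  have hVN : Nat.card ↥(V ⊓ N) ≤ p := le_trans (Nat.card_le_card_of_injective
    (fun w : ↥(V ⊓ N) => (⟨⟨w, w.2.2⟩, Subtype.ext (hV _ w.2.1)⟩ : {q : N // q ^ p = 1}))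
    fun u w h => Subtype.ext (congrArg (fun q : {q : N // q ^ p = 1} => ((q : N) : G)) h)) (card_pow_le (p := p) N)
  refine ⟨?_, hVN⟩
  let f := (QuotientGroup.mk' N).comp V.subtype
  rw [Subgroup.card_eq_card_quotient_mul_card_subgroup f.ker, pow_two,
    Nat.card_congr (QuotientGroup.quotientKerEquivRange f).toEquiv]
  refine Nat.mul_le_mul ?_ (le_trans ?_ hVN)
  · refine le_trans (Nat.card_le_card_of_injective
      (fun w : f.range => (⟨w.1, ?_⟩ : {q : G ⧸ N // q ^ p = 1})) fun u w h => Subtype.ext (congrArg Subtype.val h :))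
      (card_pow_le (p := p) (G ⧸ N))
    obtain ⟨x, hx⟩ := w.2
    rw [← hx, ← map_pow, show x ^ p = 1 from Subtype.ext (hV x x.2), map_one]
  · exact Nat.card_le_card_of_injective
      (fun w : f.ker => (⟨(w : V), (w : V).2, (QuotientGroup.eq_one_iff _).1 w.2⟩ : ↥(V ⊓ N)))
      fun u w h => Subtype.ext (Subtype.ext (congrArg Subtype.val h :))

end Group

variable {Ω : Type v} [Group Ω] {S : Subgroup Ω} [Finite S] {F : FusionSystem S} {P : Subgroup Ω}

theorem isNormal_of_metacyclic (hS : IsPGroup p S) (hF : F.IsSaturated p) (hP : F.StronglyClosed P) (hp2 : p ≠ 2)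
    (hm : IsMetacyclic ↥P) : F.IsNormal P := by
  have hPS := hP.1
  have hPfin := finite_of_le hPS
  have hPp : IsPGroup p P := hS.to_le hPS
  obtain ⟨N, hNn, hN, hQ⟩ := hm
  have hcomm : ∀ x ∈ P, ∀ y ∈ P, x ^ p = 1 → y ^ p = 1 → x * y = y * x := fun x hx y hy hxp hyp =>
    congrArg Subtype.val (commute_of_pow hp2 hPp hN hQ (x := (⟨x, hx⟩ : P)) (y := ⟨y, hy⟩)
      (Subtype.ext hxp) (Subtype.ext hyp))
  let V : Subgroup Ω :=
    { carrier := {x | x ∈ P ∧ x ^ p = 1}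
      one_mem' := ⟨one_mem P, one_pow p⟩
      mul_mem' := fun {x y} hx hy => ⟨mul_mem hx.1 hy.1, by
        rw [Commute.mul_pow (hcomm x hx.1 y hy.1 hx.2 hy.2), hx.2, hy.2, one_mul]⟩
      inv_mem' := fun {x} hx => ⟨inv_mem hx.1, by rw [inv_pow, hx.2, inv_one]⟩ }
  have hVP : V ≤ P := fun x hx => hx.1
  have hVp : ∀ x ∈ V, x ^ p = 1 := fun x hx => hx.2
  have hVc : ∀ u ∈ V, ∀ w ∈ V, u * w = w * u := fun u hu w hw => hcomm u hu.1 w hw.1 hu.2 hw.2
  have hΩ : omegaOne p P = V := le_antisymm ((Subgroup.closure_le _).2 fun x hx => hx)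
    fun x hx => Subgroup.subset_closure hx
  have hVsc : F.StronglyClosed V := stronglyClosed_of_apply_mem (hVP.trans hPS) fun R k hR hk x hx => by
    refine ⟨stronglyClosed_apply hP hk hx (hR hx).1, ?_⟩
    have : ∀ n : ℕ, k (x ^ n) = k x ^ n := by
      intro n
      induction n with
      | zero => simp [hk.map_one]
      | succ n ih => rw [pow_succ, hk.map_mul (pow_mem hx n) hx, ih, pow_succ]
    rw [← this, (hR hx).2, hk.map_one]
  have hVn : F.IsNormal V := isNormal_of_abelian hS hF hVsc (le_bot_iff.1 (Subgroup.commutator_le.2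
    fun u hu w hw => Subgroup.mem_bot.2 (commutatorElement_eq_one_iff_mul_comm.2 (hVc u hu w hw))))
  refine (OmegaCrit.isNormal_iff_omega hS hF hp2 hP).2 ?_
  rw [hΩ]
  by_cases hcen : ∀ u ∈ V, ∀ x ∈ P, u * x = x * u
  · refine ⟨1, ![⊥, V], rfl, rfl, Fin.monotone_iff_le_succ.2 fun i => ?_, fun i => ?_, fun i => ?_⟩
    · fin_cases i
      exact bot_le
    · fin_cases i
      exacts [normal_stronglyClosed isNormal_bot, hVsc]
    · fin_cases i
      exact Subgroup.commutator_le.2 fun u hu x hx =>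
        Subgroup.mem_bot.2 (commutatorElement_eq_one_iff_mul_comm.2 (hcen u hu x hx))
  push_neg at hcen
  obtain ⟨v, hv, a, ha, hva⟩ := hcen
  have hSV := le_normalizer_of_stronglyClosed hVsc
  have hSP := le_normalizer_of_stronglyClosed hP
  set M := N.map P.subtype
  have hcM : ∀ x ∈ P, ∀ u ∈ P, x * u * x⁻¹ * u⁻¹ ∈ M := fun x hx u hu => by
    refine ⟨⟨x, hx⟩ * ⟨u, hu⟩ * (⟨x, hx⟩ : P)⁻¹ * (⟨u, hu⟩ : P)⁻¹, (QuotientGroup.eq_one_iff _).1 ?_, rfl⟩
    have := hQ.commutative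
    rw [QuotientGroup.mk_mul, QuotientGroup.mk_mul, QuotientGroup.mk_mul, QuotientGroup.mk_inv, QuotientGroup.mk_inv,
      mul_comm' (QuotientGroup.mk (⟨x, hx⟩ : P) : P ⧸ N), mul_inv_cancel_right, mul_inv_cancel]
  obtain ⟨hcardV, hcardVM⟩ : Nat.card V ≤ p ^ 2 ∧ Nat.card ↥(V ⊓ M) ≤ p := by
    obtain ⟨h1, h2⟩ := card_le_sq hN hQ (V.subgroupOf P) fun x hx => Subtype.ext hx.2
    refine ⟨by rwa [← Subgroup.card_map_of_injective P.subtype_injective, Subgroup.subgroupOf_map_subtype,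
      inf_eq_left.2 hVP] at h1, ?_⟩
    rwa [← Subgroup.card_map_of_injective P.subtype_injective, Subgroup.map_inf _ _ P.subtype P.subtype_injective,
      Subgroup.subgroupOf_map_subtype, inf_eq_left.2 hVP] at h2
  have hVfin := finite_of_le (hVP.trans hPS)
  set z := a * v * a⁻¹ * v⁻¹
  have hzV : z ∈ V := mul_mem (conj_mem_of_mem_normalizer (hSV (hPS ha)) hv) (inv_mem hv)
  have hzM : z ∈ V ⊓ M := ⟨hzV, hcM a ha v (hVP hv)⟩
  have hz1 : z ≠ 1 := fun h => hva (mul_inv_eq_iff_eq_mul.1 (mul_inv_eq_one.1 h)).symm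
  have hzp : z ^ p = 1 := hVp z hzV
  have hzord : orderOf z = p := orderOf_eq_prime hzp hz1
  have hVM : ∀ u ∈ V ⊓ M, u ∈ Subgroup.zpowers z := by
    have := finite_of_le ((inf_le_left : V ⊓ M ≤ V).trans (hVP.trans hPS))
    have e := Subgroup.eq_of_le_of_card_ge (Subgroup.zpowers_le.2 hzM) (by rw [Nat.card_zpowers, hzord]; exact hcardVM)
    exact fun u hu => e.ge hu
  have haV : ∀ x ∈ P, ∀ u ∈ V, x * u * x⁻¹ * u⁻¹ ∈ Subgroup.zpowers z := fun x hx u hu =>
    hVM _ ⟨mul_mem (conj_mem_of_mem_normalizer (hSV (hPS hx)) hu) (V.inv_mem hu), hcM x hx u (hVP hu)⟩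
  have hzP : ∀ x ∈ P, x * z = z * x := fun x hx => by
    obtain ⟨e, he⟩ := hS ⟨x, hPS hx⟩
    refine commute_of_conj_mem hzp (congrArg Subtype.val he) ?_
    rw [show x * z * x⁻¹ = (x * z * x⁻¹ * z⁻¹) * z by group]
    exact mul_mem (haV x hx z hzV) (Subgroup.mem_zpowers z)
  -- the line of `z` is the centre part of `V`
  have hline : ∀ x ∈ P, (∃ u ∈ V, x * u ≠ u * x) → ∀ u ∈ V, x * u = u * x → u ∈ Subgroup.zpowers z := by
    intro x hx hne u hu hxu
    by_contra hu0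
    have hle : Subgroup.zpowers z ⊔ Subgroup.zpowers u ≤ V := sup_le (Subgroup.zpowers_le.2 hzV) (Subgroup.zpowers_le.2 hu)
    have := finite_of_le (hle.trans (hVP.trans hPS))
    have hlt : Subgroup.zpowers z < Subgroup.zpowers z ⊔ Subgroup.zpowers u :=
      lt_of_le_of_ne le_sup_left fun h => hu0 (h ▸ Subgroup.mem_sup_right (Subgroup.mem_zpowers u))
    have h1 := card_lt_of_lt (hle.trans (hVP.trans hPS)) hlt
    rw [Nat.card_zpowers, hzord] at h1
    obtain ⟨j, hj⟩ := IsPGroup.iff_card.1 (hS.to_le (hle.trans (hVP.trans hPS)))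
    have hj2 : 2 ≤ j := by
      by_contra h
      rw [hj] at h1; have h2 : p ^ j ≤ p ^ 1 := Nat.pow_le_pow_right hp.out.pos (by omega); rw [pow_one] at h2; omega
    have e := Subgroup.eq_of_le_of_card_ge hle (hcardV.trans (hj ▸ Nat.pow_le_pow_right hp.out.pos hj2))
    obtain ⟨w, hw, hxw⟩ := hne
    refine hxw ?_
    have hc : Subgroup.zpowers z ⊔ Subgroup.zpowers u ≤ Subgroup.centralizer ({x} : Set Ω) :=
      sup_le (Subgroup.zpowers_le.2 (Subgroup.mem_centralizer_singleton_iff.2 (hzP x hx).symm))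
        (Subgroup.zpowers_le.2 (Subgroup.mem_centralizer_singleton_iff.2 hxu.symm))
    exact (Subgroup.mem_centralizer_singleton_iff.1 (hc (e.ge hw))).symm
  have hne : ∃ u ∈ V, a * u ≠ u * a := ⟨v, hv, fun h => hva h.symm⟩
  have hzS : ∀ s ∈ S, s * z = z * s := fun s hs => by
    obtain ⟨e, he⟩ := hS ⟨s, hs⟩
    refine commute_of_conj_mem hzp (congrArg Subtype.val he) ?_
    refine hline a ha hne _ (conj_mem_of_mem_normalizer (hSV hs) hzV) ?_
    have h1 := hzP _ ((Subgroup.mem_normalizer_iff''.1 (hSP hs) a).1 ha)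
    calc a * (s * z * s⁻¹) = s * ((s⁻¹ * a * s) * z) * s⁻¹ := by group
      _ = s * (z * (s⁻¹ * a * s)) * s⁻¹ := by rw [h1]
      _ = s * z * s⁻¹ * a := by group
  set Z0 := Subgroup.zpowers z
  have hZV : Z0 ≤ V := Subgroup.zpowers_le.2 hzV
  have hZS : Z0 ≤ S := hZV.trans (hVP.trans hPS)
  have hfix : ∀ f, IsMor F Z0 f → f z ∈ Z0 := by
    intro f hf
    by_contra hfz
    have hyV : f z ∈ V := stronglyClosed_apply hVsc hf (Subgroup.mem_zpowers z) hzV
    obtain ⟨k, hk, hke, -⟩ := (isNormal_iff.1 hVn).2 _ f hf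
    have hkV : IsMor F V k := hk.restrict le_sup_right
    have hkz : k z = f z := hke z (Subgroup.mem_zpowers z)
    refine NoSwap.no_swap hS hF hp2 hP hVn hVP hVc hVp hzV (hzP a ha) ha (haV a ha) hkV
      (fun h => hfz (hline a ha hne _ hyV (by rwa [hkz] at h))) (fun u hu huz h => ?_) fun c hc hcne => ?_
    · obtain ⟨n, rfl⟩ := GenES.exists_nat_pow hzp (hline a ha hne u hu h)
      have hn : k (z ^ n) = f z ^ n := by
        clear hu huz h
        induction n with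
        | zero => simp [hkV.map_one]
        | succ n ih => rw [pow_succ, hkV.map_mul (pow_mem hzV n) hzV, ih, hkz, pow_succ]
      rw [hn] at huz
      rw [GenES.eq_one_of_pow_mem (hVp _ hyV) (H := Z0) hfz (pow_mem (Subgroup.mem_zpowers _) n)
        (by rw [huz]; exact Subgroup.mem_zpowers z)] at huz
      exact hz1 huz.symm
    · obtain ⟨e, he⟩ := IsPGroup.iff_orderOf.1 hPp ⟨c, hc⟩
      have he' : orderOf c = p ^ e := by rw [← he, ← orderOf_injective P.subtype P.subtype_injective ⟨c, hc⟩]; rfl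
      rcases e with _ | e
      · rw [pow_zero, orderOf_eq_one_iff] at he'
        obtain ⟨u, -, hu⟩ := hcne
        simp [he'] at hu
      refine ⟨e, hline c hc hcne _ ⟨pow_mem hc _, ?_⟩ (Commute.self_pow c _).eq, fun h => ?_⟩
      · rw [← pow_mul, ← pow_succ, ← he', pow_orderOf_eq_one]
      · have := orderOf_dvd_of_pow_eq_one h
        rw [he', Nat.pow_dvd_pow_iff_le_right hp.out.one_lt] at this
        omega
  have hZsc : F.StronglyClosed Z0 := stronglyClosed_of_apply_mem hZS fun R f hR hf x hx => by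
    by_cases hx1 : x = 1
    · rw [hx1, hf.map_one]; exact one_mem _
    have hzR : z ∈ R := by
      by_contra hzR
      exact hx1 (GenES.eq_one_of_pow_mem hzp hzR (hR hx) hx)
    have hfR : IsMor F Z0 f := hf.restrict (Subgroup.zpowers_le.2 hzR)
    obtain ⟨n, rfl⟩ := GenES.exists_nat_pow hzp (hR hx)
    have hn : f (z ^ n) = f z ^ n := by
      clear hx1 hx
      induction n with
      | zero => simp [hf.map_one]
      | succ n ih => rw [pow_succ, hf.map_mul (pow_mem hzR n) hzR, ih, pow_succ]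
    rw [hn]
    exact pow_mem (hfix f hfR) n
  refine ⟨2, ![⊥, Z0, V], rfl, rfl, Fin.monotone_iff_le_succ.2 fun i => ?_, fun i => ?_, fun i => ?_⟩
  · fin_cases i
    exacts [bot_le, hZV]
  · fin_cases i
    exacts [normal_stronglyClosed isNormal_bot, hZsc, hVsc]
  · fin_cases i
    · show ⁅Z0, P⁆ ≤ ⊥
      rw [Subgroup.commutator_le]
      intro w hw x hx
      obtain ⟨n, rfl⟩ := GenES.exists_nat_pow hzp hw
      rw [Subgroup.mem_bot, commutatorElement_eq_one_iff_mul_comm]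
      exact (Commute.pow_left (show Commute z x from (hzP x hx).symm) n).eq
    · show ⁅V, P⁆ ≤ Z0
      refine Subgroup.commutator_le.2 fun u hu x hx => ?_
      rw [← commutatorElement_inv x u]
      exact inv_mem (haV x hx u hu)

end Cfsg.Agent.Fusion.MetaCl
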