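import Cfsg.Agent.S1896
import Cfsg.Agent.S4398
import Cfsg.Agent.Lib.Classical.DihedralRecog
import Cfsg.Agent.Lib.Fusion.Alperin

/-!
Centric radical subgroups in saturated systems on metacyclic 2-groups.
-/

set_option autoImplicit false

namespace Cfsg.Agent.Fusion.MetacyclicTwo

open Cfsg

section Abstract

variable {G : Type*} [Group G]

theorem isMetacyclic_subgroup (h : IsMetacyclic G) (H : Subgroup G) : IsMetacyclic ↥H := by
  obtain ⟨N, hN, hc, hq⟩ := h
  refine ⟨N.subgroupOf H, inferInstance, ?_, ?_⟩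
  · exact isCyclic_of_injective
      (MonoidHom.mk' (fun x : N.subgroupOf H => (⟨((x : H) : G), x.2⟩ : N)) fun _ _ => rfl)
      fun x y e => Subtype.ext (Subtype.ext (congrArg (fun t : N => (t : G)) e))
  · let f : H ⧸ N.subgroupOf H →* G ⧸ N :=
      QuotientGroup.map _ N H.subtype fun x hx => hx
    refine isCyclic_of_injective f ?_
    intro a b e
    induction a using QuotientGroup.induction_on with
    | H a =>
      induction b using QuotientGroup.induction_on with
      | H b =>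
        have e' : ((a : G) : G ⧸ N) = ((b : G) : G ⧸ N) := e
        rw [QuotientGroup.eq] at e' ⊢
        exact e'

theorem isMetacyclic_map {H : Type*} [Group H] (f : G →* H) (hf : Function.Surjective f)
    (h : IsMetacyclic G) : IsMetacyclic H := by
  obtain ⟨N, hN, hc, hq⟩ := h
  have := hN.map f hf
  refine ⟨N.map f, this, isCyclic_of_surjective (f.subgroupMap N) (f.subgroupMap_surjective N), ?_⟩
  refine isCyclic_of_surjective (QuotientGroup.map N (N.map f) f fun x hx => ⟨x, hx, rfl⟩) ?_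
  intro q
  induction q using QuotientGroup.induction_on with
  | H y =>
    obtain ⟨x, rfl⟩ := hf y
    exact ⟨x, rfl⟩

theorem card_le_two_of_cyclic {C : Type*} [Group C] [Finite C] [IsCyclic C]
    (h : ∀ x : C, x ^ 2 = 1) : Nat.card C ≤ 2 := by
  obtain ⟨g, hg⟩ := IsCyclic.exists_generator (α := C)
  rw [← orderOf_eq_card_of_forall_mem_zpowers hg]
  exact Nat.le_of_dvd two_pos (orderOf_dvd_of_pow_eq_one (h g))

theorem sectional_of_metacyclic [Finite G] (h : IsMetacyclic G) : SectionalPRankLE 2 2 G := by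
  intro H N _ A hA hexp
  obtain ⟨K, hK, hc, hq⟩ :=
    isMetacyclic_subgroup (isMetacyclic_map _ (QuotientGroup.mk'_surjective N) (isMetacyclic_subgroup h H)) A
  have h1 : Nat.card K ≤ 2 := card_le_two_of_cyclic fun x =>
    Subtype.ext (Subtype.ext (hexp _ (x : A).2))
  have h2 : Nat.card (A ⧸ K) ≤ 2 := card_le_two_of_cyclic fun q => by
    induction q using QuotientGroup.induction_on with
    | H a =>
      rw [← QuotientGroup.mk_pow, show a ^ 2 = 1 from Subtype.ext (hexp _ a.2)]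
      rfl
  rw [Subgroup.card_eq_card_quotient_mul_card_subgroup K]
  calc Nat.card (A ⧸ K) * Nat.card K ≤ 2 * 2 := Nat.mul_le_mul h2 h1
    _ = 2 ^ 2 := by norm_num

/-- A dihedral subgroup of order eight. -/
theorem exists_dihedral [Finite G] {A s : G} (hA : orderOf A = 4) (hs : s * s = 1)
    (hsA : s ∉ Subgroup.zpowers A) (hc : s * A * s = A⁻¹) :
    ∃ H : Subgroup G, Nonempty (↥H ≃* DihedralGroup 4) := by
  have hs' : s⁻¹ = s := inv_eq_of_mul_eq_one_right hs
  have hz : ∀ i : ℤ, s * A ^ i = A ^ (-i) * s := by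
    intro i
    have h1 := conj_zpow (a := s) (b := A) (i := i)
    rw [hs', hc, inv_zpow, ← zpow_neg] at h1
    rw [h1, mul_assoc, hs, mul_one]
  let H : Subgroup G :=
    { carrier := {g | (∃ i : ℤ, g = A ^ i) ∨ ∃ i : ℤ, g = A ^ i * s}
      one_mem' := Or.inl ⟨0, (zpow_zero A).symm⟩
      mul_mem' := by
        rintro _ _ (⟨i, rfl⟩ | ⟨i, rfl⟩) (⟨j, rfl⟩ | ⟨j, rfl⟩)
        · exact Or.inl ⟨i + j, (zpow_add A i j).symm⟩
        · exact Or.inr ⟨i + j, by rw [zpow_add, mul_assoc]⟩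
        · exact Or.inr ⟨i + -j, by rw [mul_assoc, hz, zpow_add, mul_assoc]⟩
        · exact Or.inl ⟨i + -j, by
            rw [mul_assoc, ← mul_assoc s, hz, mul_assoc (A ^ (-j)), hs, mul_one, zpow_add]⟩
      inv_mem' := by
        rintro _ (⟨i, rfl⟩ | ⟨i, rfl⟩)
        · exact Or.inl ⟨-i, (zpow_neg A i).symm⟩
        · exact Or.inr ⟨i, by rw [mul_inv_rev, hs', ← zpow_neg, hz, neg_neg]⟩ }
  let R : Subgroup.zpowers A →* H :=
    MonoidHom.mk' (fun c => ⟨(c : G), by
      obtain ⟨i, hi⟩ := Subgroup.mem_zpowers_iff.1 c.2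
      exact Or.inl ⟨i, hi.symm⟩⟩) fun _ _ => rfl
  have key := Cfsg.Agent.Classical.nonempty_dihedral R
    (fun a b e => Subtype.ext (congrArg (fun t : H => (t : G)) e))
    ⟨s, Or.inr ⟨0, by rw [zpow_zero, one_mul]⟩⟩ (Subtype.ext hs)
    (fun c e => hsA (by
      have e' := congrArg (fun t : H => (t : G)) e
      change (c : G) = s at e'
      exact e' ▸ c.2))
    (fun c => by
      obtain ⟨i, hi⟩ := Subgroup.mem_zpowers_iff.1 c.2
      refine Subtype.ext ?_
      show s * (c : G) * s = (c : G)⁻¹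
      rw [← hi, hz, mul_assoc, hs, mul_one, zpow_neg])
    (fun g => by
      rcases g.2 with ⟨i, hi⟩ | ⟨i, hi⟩
      · exact ⟨⟨A ^ i, zpow_mem (Subgroup.mem_zpowers A) i⟩, Or.inl (Subtype.ext hi)⟩
      · exact ⟨⟨A ^ i, zpow_mem (Subgroup.mem_zpowers A) i⟩, Or.inr (Subtype.ext hi)⟩)
  rw [Nat.card_zpowers, hA] at key
  exact ⟨H, key⟩

theorem square_of_pow_eq_one {n : ℕ} (hn : 1 ≤ n) (v : ZMod (2 ^ n))
    (h : (2 ^ (n - 1) : ℕ) • v = 0) : ∃ w, v = w + w := by
  have : NeZero (2 ^ n) := ⟨pow_ne_zero _ two_ne_zero⟩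
  rw [← ZMod.natCast_zmod_val v, nsmul_eq_mul, ← Nat.cast_mul, ZMod.natCast_eq_zero_iff] at h
  obtain ⟨m, rfl⟩ : ∃ m, n = m + 1 := ⟨n - 1, by omega⟩
  rw [Nat.add_sub_cancel] at h
  obtain ⟨k, hk⟩ := (Nat.mul_dvd_mul_iff_left (pow_pos two_pos m)).1
    ((dvd_of_eq (pow_succ 2 m).symm).trans h)
  refine ⟨(k : ZMod _), ?_⟩
  rw [← Nat.cast_add, ← two_mul, ← hk, ZMod.natCast_zmod_val]

/-- The automorphisms trivial modulo squares form a 2-group. -/
theorem isTwoElement {P : Type*} [CommGroup P] {n : ℕ} (hexp : ∀ x : P, x ^ 2 ^ n = 1)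
    (α : MulAut P) (h : ∀ x, ∃ y, α x = x * y ^ 2) : α ^ 2 ^ n = 1 := by
  have key : ∀ i : ℕ, ∀ x, ∃ y, (α ^ 2 ^ i) x = x * y ^ 2 ^ (i + 1) := by
    intro i
    induction i with
    | zero => simpa using h
    | succ i ih =>
      intro x
      obtain ⟨y, hy⟩ := ih x
      obtain ⟨z, hz⟩ := ih y
      refine ⟨y * z ^ 2 ^ i, ?_⟩
      rw [pow_succ 2 i, pow_mul, pow_two, MulAut.mul_apply, hy, map_mul, hy, map_pow, hz, mul_pow y,
        mul_pow y, ← pow_mul z, ← pow_mul z, pow_succ 2 (i + 1), pow_mul y, pow_two (y ^ 2 ^ (i + 1))]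
      have e : 2 ^ i * (2 ^ (i + 1) * 2) = 2 ^ (i + 1) * 2 ^ (i + 1) := by rw [pow_succ]; ring
      rw [e]
      simp only [mul_assoc]
  refine MulEquiv.ext fun x => ?_
  obtain ⟨y, hy⟩ := key n x
  rw [hy, pow_succ, pow_mul, hexp, one_pow, mul_one]
  rfl

end Abstract

variable {Ω : Type*} [Group Ω] {S : Subgroup Ω}

/-- A proper centric radical subgroup of a metacyclic 2-group is not homocyclic of rank two. -/
theorem key [Finite S] (hS : IsPGroup 2 S) {F : FusionSystem S} (hm : IsMetacyclic ↥S)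
    {P : Subgroup Ω} (hPS : P < S) (hC : FusionSystem.centralizerIn S P ≤ P) (hrad : F.IsRadical 2 P)
    {n : ℕ} (e : P ≃* Multiplicative (ZMod (2 ^ n)) × Multiplicative (ZMod (2 ^ n))) :
    ∃ H : Subgroup ↥S, Nonempty (↥H ≃* DihedralGroup 4) := by
  haveI : Fact (Nat.Prime 2) := ⟨Nat.prime_two⟩
  have := finite_of_le hPS.le
  have hcomm : ∀ a b : P, a * b = b * a := fun a b => e.injective (by rw [map_mul, map_mul, mul_comm])
  letI : CommGroup P := { (inferInstance : Group P) with mul_comm := hcomm }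
  have hcΩ : ∀ a ∈ P, ∀ b ∈ P, a * b = b * a := fun a ha b hb =>
    congrArg Subtype.val (hcomm ⟨a, ha⟩ ⟨b, hb⟩)
  have hexp : ∀ x : P, x ^ 2 ^ n = 1 := by
    intro x
    have hM : ∀ v : Multiplicative (ZMod (2 ^ n)), v ^ 2 ^ n = 1 := fun v =>
      Multiplicative.toAdd.injective (by rw [toAdd_pow, nsmul_eq_mul, ZMod.natCast_self, zero_mul, toAdd_one])
    exact e.injective (by rw [map_pow, map_one]; exact Prod.ext (hM _) (hM _))
  obtain ⟨hn, -⟩ : 1 ≤ n ∧ True := by
    refine ⟨Nat.one_le_iff_ne_zero.2 fun h0 => ?_, trivial⟩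
    obtain ⟨g, hg, hgP⟩ := SetLike.exists_of_lt hPS
    refine hgP (hC (mem_centralizerIn.2 ⟨hg, fun z hz => ?_⟩))
    have : (⟨z, hz⟩ : P) = 1 := by
      have := hexp ⟨z, hz⟩
      rwa [h0, pow_zero, pow_one] at this
    have hz1 : z = 1 := congrArg Subtype.val this
    rw [hz1, one_mul, mul_one]
  -- an element of the normalizer squaring into `P`
  obtain ⟨g₀, hg₀, hg₀P⟩ := SetLike.exists_of_lt (normalizerIn_self_lt (p := 2) hS hPS)
  obtain ⟨g, hg, hgP, hg2⟩ : ∃ g, g ∈ FusionSystem.normalizerIn S P ∧ g ∉ P ∧ g ^ 2 ∈ P := by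
    obtain ⟨k, hk⟩ := hS ⟨g₀, hg₀.1⟩
    have hk' : g₀ ^ 2 ^ k ∈ P := by
      have : g₀ ^ 2 ^ k = 1 := congrArg Subtype.val hk
      rw [this]; exact one_mem P
    clear hk
    induction k with
    | zero => exact absurd (by simpa using hk') hg₀P
    | succ k ih =>
      by_cases h : g₀ ^ 2 ^ k ∈ P
      · exact ih h
      · exact ⟨g₀ ^ 2 ^ k, pow_mem hg₀ _, h, by rwa [← pow_mul, ← pow_succ]⟩
  have hgn := hg.2
  have hmove : ∃ x : P, ∀ y : P, g * (x : Ω) * g⁻¹ ≠ ((x * y ^ 2 : P) : Ω) := by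
    by_contra hne
    push Not at hne
    have := finite_autGroup (F := F) hPS.le
    obtain ⟨γ, hγ⟩ : ∃ γ : MulAut P, ∀ x : P, ((γ x : P) : Ω) = g * x * g⁻¹ :=
      ⟨P.normalizerMonoidHom ⟨g, hgn⟩, fun x => rfl⟩
    have hγF : γ ∈ F.autGroup P := mem_autGroup_of_isMor (isMor_conj hPS.le hg.1) hγ
    let L : Subgroup (F.autGroup P) :=
      { carrier := {α | ∀ x : P, ∃ y, (α : MulAut P) x = x * y ^ 2}
        one_mem' := fun x => ⟨1, by simp⟩
        mul_mem' := by
          intro a b ha hb x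
          obtain ⟨y, hy⟩ := hb x
          obtain ⟨z, hz⟩ := ha x
          refine ⟨z * (a : MulAut P) y, ?_⟩
          show (a : MulAut P) ((b : MulAut P) x) = _
          rw [hy, map_mul, hz, map_pow, mul_pow, mul_assoc]
        inv_mem' := by
          intro a ha x
          obtain ⟨y, hy⟩ := ha ((a : MulAut P)⁻¹ x)
          refine ⟨y⁻¹, ?_⟩
          rw [show (a : MulAut P) ((a : MulAut P)⁻¹ x) = x from (a : MulAut P).apply_symm_apply x] at hy
          show (a : MulAut P)⁻¹ x = x * y⁻¹ ^ 2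
          rw [inv_pow, eq_mul_inv_iff_mul_eq]
          exact hy.symm }
    have hLn : L.Normal := ⟨fun a ha b x => by
      obtain ⟨y, hy⟩ := ha ((b : MulAut P)⁻¹ x)
      refine ⟨(b : MulAut P) y, ?_⟩
      show (b : MulAut P) ((a : MulAut P) ((b : MulAut P)⁻¹ x)) = _
      rw [hy, map_mul, map_pow, show (b : MulAut P) ((b : MulAut P)⁻¹ x) = x from (b : MulAut P).apply_symm_apply x]⟩
    have hLp : IsPGroup 2 L := fun a => ⟨n, Subtype.ext (Subtype.ext (by
      simpa using isTwoElement hexp ((a : F.autGroup P) : MulAut P) a.2))⟩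
    have hin : γ ∈ Inn P := by
      rw [← hrad.2]
      refine ⟨⟨γ, hγF⟩, Solv.le_pCore (hN := hLn) hLp ?_, rfl⟩
      intro x
      obtain ⟨y, hy⟩ := hne x
      exact ⟨y, Subtype.ext ((hγ x).trans hy)⟩
    obtain ⟨a, ha⟩ := hin
    refine hgP (hC (mem_centralizerIn.2 ⟨hg.1, fun z hz => ?_⟩))
    have h1 := hγ ⟨z, hz⟩
    rw [← ha] at h1
    change ((a : Ω) * z * (a : Ω)⁻¹) = g * z * g⁻¹ at h1
    rw [hcΩ _ a.2 z hz, mul_inv_cancel_right] at h1
    exact eq_mul_inv_iff_mul_eq.1 h1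
  obtain ⟨x, hx⟩ := hmove
  set c : Ω := (x : Ω)⁻¹ * (g * x * g⁻¹) with hcdef
  have hxc : g * (x : Ω) * g⁻¹ = x * c := by rw [hcdef]; group
  have hcP : c ∈ P := mul_mem (inv_mem x.2) (conj_mem_of_mem_normalizer hgn x.2)
  have hord : orderOf c = 2 ^ n := by
    obtain ⟨m, rfl⟩ : ∃ m, n = m + 1 := ⟨n - 1, by omega⟩
    refine orderOf_eq_prime_pow (fun h => ?_) (congrArg Subtype.val (hexp ⟨c, hcP⟩))
    have h1 : (⟨c, hcP⟩ : P) ^ 2 ^ m = 1 := Subtype.ext h
    have h2 := congrArg e h1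
    rw [map_pow, map_one] at h2
    obtain ⟨w₁, hw₁⟩ := square_of_pow_eq_one (n := m + 1) (by omega) (e ⟨c, hcP⟩).1.toAdd
      (congrArg (fun t => t.1.toAdd) h2)
    obtain ⟨w₂, hw₂⟩ := square_of_pow_eq_one (n := m + 1) (by omega) (e ⟨c, hcP⟩).2.toAdd
      (congrArg (fun t => t.2.toAdd) h2)
    have h3 : (⟨c, hcP⟩ : P) = (e.symm (Multiplicative.ofAdd w₁, Multiplicative.ofAdd w₂)) ^ 2 := by
      refine e.injective ?_
      rw [map_pow, e.apply_symm_apply, pow_two]
      exact Prod.ext (Multiplicative.toAdd.injective hw₁) (Multiplicative.toAdd.injective hw₂)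
    refine hx (e.symm (Multiplicative.ofAdd w₁, Multiplicative.ofAdd w₂)) ?_
    rw [hxc, ← h3]; rfl
  -- the cyclic normal subgroup
  obtain ⟨N, hN, hNc, hNq⟩ := hm
  let g' : S := ⟨g, hg.1⟩
  let x' : S := ⟨x, hPS.le x.2⟩
  let c' : S := ⟨c, hPS.le hcP⟩
  have hcN : c' ∈ N := by
    have h1 : ((x'⁻¹ * (g' * x' * g'⁻¹) : S) : S ⧸ N) = 1 := by
      have := hNq.isMulCommutative.is_comm.comm (g' : S ⧸ N) (x' : S ⧸ N)
      simp [this]
    exact (QuotientGroup.eq_one_iff _).1 h1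
  have hNP : ∀ y : S, y ∈ N → (y : Ω) ∈ P → (y : Ω) ∈ Subgroup.zpowers c := by
    intro y hy hyP
    have h1 : Nat.card (Subgroup.zpowers (⟨c', hcN⟩ : N)) = 2 ^ n := by
      rw [Nat.card_zpowers, ← Subgroup.orderOf_coe, ← Subgroup.orderOf_coe]
      exact hord
    let M : Subgroup N := P.comap (S.subtype.comp N.subtype)
    have hle : Subgroup.zpowers (⟨c', hcN⟩ : N) ≤ M := Subgroup.zpowers_le.2 hcP
    have hM : Nat.card M ≤ 2 ^ n := by
      obtain ⟨m, hm'⟩ := IsCyclic.exists_generator (α := M)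
      rw [← orderOf_eq_card_of_forall_mem_zpowers hm']
      refine Nat.le_of_dvd (pow_pos two_pos n) (orderOf_dvd_of_pow_eq_one ?_)
      exact Subtype.ext (Subtype.ext (Subtype.ext (congrArg Subtype.val (hexp ⟨_, m.2⟩) :)))
    have heq := Subgroup.eq_of_le_of_card_ge hle (by rw [h1]; exact hM)
    have hyM : (⟨y, hy⟩ : N) ∈ M := hyP
    rw [← heq] at hyM
    obtain ⟨i, hi⟩ := Subgroup.mem_zpowers_iff.1 hyM
    exact Subgroup.mem_zpowers_iff.2 ⟨i, congrArg (fun t : N => ((t : S) : Ω)) hi⟩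
  -- the action of `g` on `c`
  have hg2c : ∀ z ∈ P, g * (g * z * g⁻¹) * g⁻¹ = z := by
    intro z hz
    have : g * (g * z * g⁻¹) * g⁻¹ = g ^ 2 * z * (g ^ 2)⁻¹ := by rw [pow_two]; group
    rw [this, hcΩ _ hg2 z hz, mul_inv_cancel_right]
  have hgc : g * c * g⁻¹ = c⁻¹ := by
    have h1 := hg2c _ x.2
    rw [hxc] at h1
    have : g * ((x : Ω) * c) * g⁻¹ = (g * x * g⁻¹) * (g * c * g⁻¹) := by group
    rw [this, hxc, mul_assoc] at h1
    rw [← mul_right_inj c, mul_inv_cancel]
    exact mul_left_cancel (h1.trans (mul_one _).symm)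
  rcases Nat.lt_or_ge n 2 with hn2 | hn2
  · -- a four-group
    obtain rfl : n = 1 := by omega
    have hsq : ∀ z ∈ P, z * z = 1 := fun z hz => by
      have := congrArg Subtype.val (hexp ⟨z, hz⟩)
      simpa [pow_two] using this
    have hinv : ∀ z ∈ P, z⁻¹ = z := fun z hz => inv_eq_of_mul_eq_one_right (hsq z hz)
    have hcx := hcΩ _ hcP _ x.2
    have hc1 : c ≠ 1 := fun h => by rw [h, orderOf_one] at hord; norm_num at hord
    have hgx : g * (x : Ω) = x * c * g := mul_inv_eq_iff_eq_mul.1 hxc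
    -- a generator of order four
    obtain ⟨A, hA, hAP, hAc, hAx⟩ : ∃ A : Ω, A ∈ S ∧ A ∉ P ∧ A ^ 2 = c ∧ (x : Ω) * A * x = A⁻¹ := by
      have hxS : (x : Ω) ∈ S := hPS.le x.2
      by_cases h2 : g ^ 2 = 1
      · have hgi : g⁻¹ = g := inv_eq_of_mul_eq_one_right (by rw [← pow_two]; exact h2)
        refine ⟨x * g, mul_mem hxS hg.1, fun h => hgP (by simpa using mul_mem (inv_mem x.2) h), ?_, ?_⟩
        · calc ((x : Ω) * g) ^ 2 = x * (g * x) * g := by rw [pow_two]; group
            _ = (x * x) * c * (g * g) := by rw [hgx]; group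
            _ = c := by rw [hsq _ x.2, ← pow_two g, h2, one_mul, mul_one]
        · rw [mul_inv_rev, hgi, hinv _ x.2, ← mul_assoc, hsq _ x.2, one_mul]
      · have hg2c' : g ^ 2 = c := by
          -- the fixed points of `g`
          have hxP : Subgroup.zpowers c ≤ P := Subgroup.zpowers_le.2 hcP
          have hxnc : (x : Ω) ∉ Subgroup.zpowers c := by
            intro h
            obtain ⟨i, hi⟩ := Subgroup.mem_zpowers_iff.1 h
            have h3 : g * (x : Ω) * g⁻¹ = x := by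
              rw [← hi, ← conj_zpow, hgc, hinv _ hcP]
            rw [hxc] at h3
            exact hc1 (mul_eq_left.1 h3)
          have hcard : Nat.card P = 4 := by
            rw [Nat.card_congr e.toEquiv, Nat.card_prod]
            simp
          have hall : ∀ z ∈ P, z = 1 ∨ z = c ∨ z = (x : Ω) ∨ z = x * c := by
            intro z hz
            by_contra hne
            push Not at hne
            obtain ⟨h1, h2, h3, h4⟩ := hne
            have hxc1 : (x : Ω) * c ≠ 1 := fun h => hxnc (by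
              rw [eq_inv_of_mul_eq_one_left h]; exact inv_mem (Subgroup.mem_zpowers c))
            have hx1 : (x : Ω) ≠ 1 := fun h => hxnc (h ▸ one_mem _)
            have hxc' : (x : Ω) ≠ c := fun h => hxnc (h ▸ Subgroup.mem_zpowers c)
            let f : Fin 5 → P := ![1, ⟨c, hcP⟩, x, ⟨(x : Ω) * c, mul_mem x.2 hcP⟩, ⟨z, hz⟩]
            have hf : Function.Injective f := by
              intro i j hij
              have hij' := congrArg Subtype.val hij
              fin_cases i <;> fin_cases j <;>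
                simp [f, hc1, hc1.symm, hx1, hx1.symm, hxc1, hxc1.symm, hxc', hxc'.symm, h1, h1.symm, h2, h2.symm, h3,
                  h3.symm, h4, h4.symm] at hij' ⊢
            have := Nat.card_le_card_of_injective f hf
            rw [hcard, Nat.card_eq_fintype_card, Fintype.card_fin] at this
            omega
          rcases hall _ hg2 with h | h | h | h
          · exact absurd h h2
          · exact h
          · have : g * (x : Ω) * g⁻¹ = x := by rw [← h]; group
            rw [hxc] at this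
            exact absurd (mul_eq_left.1 this) hc1
          · have : g * ((x : Ω) * c) * g⁻¹ = x * c := by rw [← h]; group
            have e' : g * ((x : Ω) * c) * g⁻¹ = (g * x * g⁻¹) * (g * c * g⁻¹) := by group
            rw [e', hxc, hgc, mul_inv_cancel_right] at this
            exact absurd (left_eq_mul.1 this) hc1
        refine ⟨g, hg.1, hgP, hg2c', ?_⟩
        rw [mul_assoc, hgx, ← mul_assoc, ← mul_assoc, hsq _ x.2, one_mul]
        refine eq_inv_of_mul_eq_one_left ?_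
        rw [mul_assoc, ← pow_two, hg2c', hsq _ hcP]
    have hA4 : orderOf (⟨A, hA⟩ : S) = 4 := by
      rw [← Subgroup.orderOf_coe]
      refine orderOf_eq_prime_pow (p := 2) (n := 1) ?_ ?_
      · rw [pow_one, hAc]; exact hc1
      · show A ^ (2 * 2) = 1
        rw [pow_mul, hAc, pow_two]; exact hsq _ hcP
    refine exists_dihedral hA4 (s := x') (Subtype.ext (hsq _ x.2)) ?_ (Subtype.ext hAx)
    intro h
    obtain ⟨i, hi⟩ := Subgroup.mem_zpowers_iff.1 h
    have hi' : A ^ i = (x : Ω) := congrArg Subtype.val hi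
    rcases Int.even_or_odd i with ⟨j, hj⟩ | ⟨j, hj⟩
    · have h3 : (x : Ω) = c ^ j := by rw [← hi', hj, ← two_mul, zpow_mul, zpow_two, ← pow_two, hAc]
      have h4 : g * (x : Ω) * g⁻¹ = x := by rw [h3, ← conj_zpow, hgc, hinv _ hcP]
      rw [hxc] at h4
      exact hc1 (mul_eq_left.1 h4)
    · refine hAP ?_
      have h3 : A = (c ^ j)⁻¹ * x := by
        rw [← hi', hj, zpow_add_one, zpow_mul, zpow_two, ← pow_two, hAc, inv_mul_cancel_left]
      rw [h3]
      exact mul_mem (inv_mem (zpow_mem hcP j)) x.2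
  · exfalso
    have hc2 : g * c * g⁻¹ ≠ c := by
      rw [hgc]
      intro h
      have : c ^ 2 = 1 := by
        rw [pow_two]; nth_rewrite 1 [← h]; exact inv_mul_cancel c
      have h2 := Nat.le_of_dvd two_pos (hord ▸ orderOf_dvd_of_pow_eq_one this)
      have : 2 ^ 2 ≤ 2 ^ n := Nat.pow_le_pow_right two_pos hn2
      omega
    -- no element of `P g` lies in `N`
    have hout : ∀ y : S, y ∈ N → (y : Ω) * g ∈ P → False := by
      intro y hy hyg
      have h1 : (y : Ω) * c = c * y :=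
        congrArg (fun t : N => ((t : S) : Ω)) (hNc.isMulCommutative.is_comm.comm ⟨y, hy⟩ ⟨c', hcN⟩)
      have hy' : (y : Ω) = ((y : Ω) * g) * g⁻¹ := by group
      refine hc2 ?_
      have h2 : ((y : Ω) * g) * (g⁻¹ * c * g) = c * ((y : Ω) * g) := by
        calc ((y : Ω) * g) * (g⁻¹ * c * g) = (y : Ω) * c * g := by group
          _ = _ := by rw [h1, mul_assoc]
      have h3 : g⁻¹ * c * g ∈ P := by
        simpa using conj_mem_of_mem_normalizer (inv_mem hgn) hcP
      rw [hcΩ _ hyg _ h3] at h2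
      have h4 : g⁻¹ * c * g = c := mul_right_cancel h2
      calc g * c * g⁻¹ = g * (g⁻¹ * c * g) * g⁻¹ := by rw [h4]
        _ = c := by group
    obtain ⟨q, hq⟩ := IsCyclic.exists_generator (α := S ⧸ N)
    obtain ⟨i, hi⟩ := Subgroup.mem_zpowers_iff.1 (hq (g' : S ⧸ N))
    obtain ⟨j, hj⟩ := Subgroup.mem_zpowers_iff.1 (hq (x' : S ⧸ N))
    obtain ⟨k, hk⟩ : ∃ k : ℤ, (x' : S ⧸ N) = (g' : S ⧸ N) ^ k := by
      -- compare the subgroups generated in a cyclic 2-group
      have hd : ∀ a b : S ⧸ N, a ∈ Subgroup.zpowers b ∨ b ∈ Subgroup.zpowers a := by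
        intro a b
        obtain ⟨s, hs⟩ := IsPGroup.iff_orderOf.1 (hS.to_quotient N) a
        obtain ⟨t, ht⟩ := IsPGroup.iff_orderOf.1 (hS.to_quotient N) b
        have hsub : ∀ a b : S ⧸ N, orderOf a ∣ orderOf b → a ∈ Subgroup.zpowers b := by
          intro a b hab
          letI : CommGroup (S ⧸ N) := IsCyclic.commGroup
          have hle : Subgroup.zpowers b ≤ (powMonoidHom (orderOf b) : (S ⧸ N) →* (S ⧸ N)).ker :=
            Subgroup.zpowers_le.2 (pow_orderOf_eq_one b)
          have heq := Subgroup.eq_of_le_of_card_ge hle (by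
            obtain ⟨m, hm⟩ := IsCyclic.exists_generator (α := (powMonoidHom (orderOf b) : (S ⧸ N) →* (S ⧸ N)).ker)
            rw [← orderOf_eq_card_of_forall_mem_zpowers hm, Nat.card_zpowers]
            exact Nat.le_of_dvd (orderOf_pos b) (orderOf_dvd_of_pow_eq_one (Subtype.ext m.2)))
          rw [heq]
          exact orderOf_dvd_iff_pow_eq_one.1 hab
        rcases le_total s t with h | h
        · left
          exact hsub _ _ (by rw [hs, ht]; exact pow_dvd_pow 2 h)
        · right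
          exact hsub _ _ (by rw [hs, ht]; exact pow_dvd_pow 2 h)
      rcases hd (x' : S ⧸ N) (g' : S ⧸ N) with h | h
      · obtain ⟨k, hk⟩ := Subgroup.mem_zpowers_iff.1 h
        exact ⟨k, hk.symm⟩
      · obtain ⟨k, hk⟩ := Subgroup.mem_zpowers_iff.1 h
        exfalso
        rw [← QuotientGroup.mk_zpow, QuotientGroup.eq] at hk
        refine hout _ (N.inv_mem hk) ?_
        show (((x : Ω) ^ k)⁻¹ * g)⁻¹ * g ∈ P
        have : (((x : Ω) ^ k)⁻¹ * g)⁻¹ * g = g⁻¹ * (x : Ω) ^ k * g := by group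
        rw [this]
        simpa using conj_mem_of_mem_normalizer (inv_mem hgn) (zpow_mem x.2 k)
    rw [← QuotientGroup.mk_zpow, QuotientGroup.eq] at hk
    rcases Int.even_or_odd k with ⟨l, hl⟩ | ⟨l, hl⟩
    · have hw : (g ^ 2) ^ l = g ^ k := by rw [hl, ← two_mul, zpow_mul, zpow_two, pow_two]
      have hmem : ((x'⁻¹ * g' ^ k : S) : Ω) ∈ P := by
        show (x : Ω)⁻¹ * g ^ k ∈ P
        rw [← hw]
        exact mul_mem (inv_mem x.2) (zpow_mem hg2 l)
      obtain ⟨i, hi⟩ := Subgroup.mem_zpowers_iff.1 (hNP _ hk hmem)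
      have hx' : (x : Ω) = g ^ k * (c ^ i)⁻¹ := by
        rw [show c ^ i = (x : Ω)⁻¹ * g ^ k from hi]; group
      have h1 : g * (x : Ω) * g⁻¹ = g ^ k * c ^ i := by
        rw [hx']
        have : g * (g ^ k * (c ^ i)⁻¹) * g⁻¹ = g ^ k * ((g * c ^ i * g⁻¹))⁻¹ := by group
        rw [this, ← conj_zpow, hgc, inv_zpow, inv_inv]
      rw [hxc, hx', mul_assoc] at h1
      have h2 := mul_left_cancel h1
      have h3 : c ^ (-(i + i) + 1) = 1 := by
        have e1 : (c ^ i)⁻¹ * ((c ^ i)⁻¹ * c) = 1 := by rw [h2, inv_mul_cancel]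
        rw [← e1]; group
      have h5 : (2 : ℤ) ∣ -(i + i) + 1 := by
        have := orderOf_dvd_iff_zpow_eq_one.2 h3
        rw [hord] at this
        exact (Int.natCast_dvd_natCast.2 (dvd_pow_self 2 (by omega : n ≠ 0))).trans this
      omega
    · refine hout _ hk ?_
      show (x : Ω)⁻¹ * g ^ k * g ∈ P
      have : (x : Ω)⁻¹ * g ^ k * g = (x : Ω)⁻¹ * (g ^ 2) ^ (l + 1) := by
        rw [hl, pow_two, ← zpow_two, ← zpow_mul, mul_assoc, ← zpow_add_one]
        congr 2
        ring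
      rw [this]
      exact mul_mem (inv_mem x.2) (zpow_mem hg2 _)

end Cfsg.Agent.Fusion.MetacyclicTwo
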