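import Cfsg.Agent.Lib.Fusion.MetacyclicTwo
import Cfsg.Agent.Lib.Fusion.Normal

/-!
Strongly closed metacyclic subgroups in saturated 2-systems.
-/

set_option autoImplicit false

namespace Cfsg.Agent.Fusion.MetacyclicTwoNormal

open Cfsg Cfsg.Agent.Fusion.MetacyclicTwo

variable {Ω : Type*} [Group Ω] {S : Subgroup Ω}

/-- An outer 2-element moving a homocyclic subgroup modulo squares. -/
theorem moved [Finite S] (hS : IsPGroup 2 S) (hm : IsMetacyclic ↥S)
    {P : Subgroup Ω} (hPS : P ≤ S)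
    {n : ℕ} (e : P ≃* Multiplicative (ZMod (2 ^ n)) × Multiplicative (ZMod (2 ^ n)))
    {g : Ω} (hg : g ∈ FusionSystem.normalizerIn S P) (hgP : g ∉ P) (hg2 : g ^ 2 ∈ P)
    (hmove : ∃ x : P, ∀ y : P, g * (x : Ω) * g⁻¹ ≠ ((x * y ^ 2 : P) : Ω)) :
    ∃ H : Subgroup ↥S, Nonempty (↥H ≃* DihedralGroup 4) := by
  haveI : Fact (Nat.Prime 2) := ⟨Nat.prime_two⟩
  have := finite_of_le hPS
  have hcomm : ∀ a b : P, a * b = b * a := fun a b => e.injective (by rw [map_mul, map_mul, mul_comm])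
  have hcΩ : ∀ a ∈ P, ∀ b ∈ P, a * b = b * a := fun a ha b hb =>
    congrArg Subtype.val (hcomm ⟨a, ha⟩ ⟨b, hb⟩)
  have hexp : ∀ x : P, x ^ 2 ^ n = 1 := by
    intro x
    have hM : ∀ v : Multiplicative (ZMod (2 ^ n)), v ^ 2 ^ n = 1 := fun v =>
      Multiplicative.toAdd.injective (by rw [toAdd_pow, nsmul_eq_mul, ZMod.natCast_self, zero_mul, toAdd_one])
    exact e.injective (by rw [map_pow, map_one]; exact Prod.ext (hM _) (hM _))
  obtain ⟨x, hx⟩ := hmove
  have hn : 1 ≤ n := by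
    refine Nat.one_le_iff_ne_zero.2 fun h0 => ?_
    have h1 : ∀ y : P, y = 1 := fun y => by
      have := hexp y
      rwa [h0, pow_zero, pow_one] at this
    refine hx 1 ?_
    rw [h1 x]
    simp
  have hgn := hg.2
  set c : Ω := (x : Ω)⁻¹ * (g * x * g⁻¹) with hcdef
  have hxc : g * (x : Ω) * g⁻¹ = x * c := by rw [hcdef]; group
  have hcP : c ∈ P := mul_mem (inv_mem x.2) (conj_mem_of_mem_normalizer hgn x.2)
  have hord : orderOf c = 2 ^ n := by
    obtain ⟨m, rfl⟩ : ∃ m, n = m + 1 := ⟨n - 1, by omega⟩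
    refine orderOf_eq_prime_pow (fun h => ?_) (congrArg Subtype.val (hexp ⟨c, hcP⟩))
    have h1 : (⟨c, hcP⟩ : P) ^ 2 ^ m = 1 := Subtype.ext h
    have h2 := congrArg e h1
    rw [map_pow, map_one] at h2
    obtain ⟨w₁, hw₁⟩ := square_of_pow_eq_one (n := m + 1) (by omega) (e ⟨c, hcP⟩).1.toAdd
      (congrArg (fun t => t.1.toAdd) h2)
    obtain ⟨w₂, hw₂⟩ := square_of_pow_eq_one (n := m + 1) (by omega) (e ⟨c, hcP⟩).2.toAdd
      (congrArg (fun t => t.2.toAdd) h2)
    have h3 : (⟨c, hcP⟩ : P) = (e.symm (Multiplicative.ofAdd w₁, Multiplicative.ofAdd w₂)) ^ 2 := by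
      refine e.injective ?_
      rw [map_pow, e.apply_symm_apply, pow_two]
      exact Prod.ext (Multiplicative.toAdd.injective hw₁) (Multiplicative.toAdd.injective hw₂)
    refine hx (e.symm (Multiplicative.ofAdd w₁, Multiplicative.ofAdd w₂)) ?_
    rw [hxc, ← h3]; rfl
  -- the cyclic normal subgroup
  obtain ⟨N, hN, hNc, hNq⟩ := hm
  let g' : S := ⟨g, hg.1⟩
  let x' : S := ⟨x, hPS x.2⟩
  let c' : S := ⟨c, hPS hcP⟩
  have hcN : c' ∈ N := by
    have h1 : ((x'⁻¹ * (g' * x' * g'⁻¹) : S) : S ⧸ N) = 1 := by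
      have := hNq.isMulCommutative.is_comm.comm (g' : S ⧸ N) (x' : S ⧸ N)
      simp [this]
    exact (QuotientGroup.eq_one_iff _).1 h1
  have hNP : ∀ y : S, y ∈ N → (y : Ω) ∈ P → (y : Ω) ∈ Subgroup.zpowers c := by
    intro y hy hyP
    have h1 : Nat.card (Subgroup.zpowers (⟨c', hcN⟩ : N)) = 2 ^ n := by
      rw [Nat.card_zpowers, ← Subgroup.orderOf_coe, ← Subgroup.orderOf_coe]
      exact hord
    let M : Subgroup N := P.comap (S.subtype.comp N.subtype)
    have hle : Subgroup.zpowers (⟨c', hcN⟩ : N) ≤ M := Subgroup.zpowers_le.2 hcP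
    have hM : Nat.card M ≤ 2 ^ n := by
      obtain ⟨m, hm'⟩ := IsCyclic.exists_generator (α := M)
      rw [← orderOf_eq_card_of_forall_mem_zpowers hm']
      refine Nat.le_of_dvd (pow_pos two_pos n) (orderOf_dvd_of_pow_eq_one ?_)
      exact Subtype.ext (Subtype.ext (Subtype.ext (congrArg Subtype.val (hexp ⟨_, m.2⟩) :)))
    have heq := Subgroup.eq_of_le_of_card_ge hle (by rw [h1]; exact hM)
    have hyM : (⟨y, hy⟩ : N) ∈ M := hyP
    rw [← heq] at hyM
    obtain ⟨i, hi⟩ := Subgroup.mem_zpowers_iff.1 hyM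
    exact Subgroup.mem_zpowers_iff.2 ⟨i, congrArg (fun t : N => ((t : S) : Ω)) hi⟩
  -- the action of `g` on `c`
  have hg2c : ∀ z ∈ P, g * (g * z * g⁻¹) * g⁻¹ = z := by
    intro z hz
    have : g * (g * z * g⁻¹) * g⁻¹ = g ^ 2 * z * (g ^ 2)⁻¹ := by rw [pow_two]; group
    rw [this, hcΩ _ hg2 z hz, mul_inv_cancel_right]
  have hgc : g * c * g⁻¹ = c⁻¹ := by
    have h1 := hg2c _ x.2
    rw [hxc] at h1
    have : g * ((x : Ω) * c) * g⁻¹ = (g * x * g⁻¹) * (g * c * g⁻¹) := by group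
    rw [this, hxc, mul_assoc] at h1
    rw [← mul_right_inj c, mul_inv_cancel]
    exact mul_left_cancel (h1.trans (mul_one _).symm)
  rcases Nat.lt_or_ge n 2 with hn2 | hn2
  · -- a four-group
    obtain rfl : n = 1 := by omega
    have hsq : ∀ z ∈ P, z * z = 1 := fun z hz => by
      have := congrArg Subtype.val (hexp ⟨z, hz⟩)
      simpa [pow_two] using this
    have hinv : ∀ z ∈ P, z⁻¹ = z := fun z hz => inv_eq_of_mul_eq_one_right (hsq z hz)
    have hcx := hcΩ _ hcP _ x.2
    have hc1 : c ≠ 1 := fun h => by rw [h, orderOf_one] at hord; norm_num at hord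
    have hgx : g * (x : Ω) = x * c * g := mul_inv_eq_iff_eq_mul.1 hxc
    -- a generator of order four
    obtain ⟨A, hA, hAP, hAc, hAx⟩ : ∃ A : Ω, A ∈ S ∧ A ∉ P ∧ A ^ 2 = c ∧ (x : Ω) * A * x = A⁻¹ := by
      have hxS : (x : Ω) ∈ S := hPS x.2
      by_cases h2 : g ^ 2 = 1
      · have hgi : g⁻¹ = g := inv_eq_of_mul_eq_one_right (by rw [← pow_two]; exact h2)
        refine ⟨x * g, mul_mem hxS hg.1, fun h => hgP (by simpa using mul_mem (inv_mem x.2) h), ?_, ?_⟩
        · calc ((x : Ω) * g) ^ 2 = x * (g * x) * g := by rw [pow_two]; group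
            _ = (x * x) * c * (g * g) := by rw [hgx]; group
            _ = c := by rw [hsq _ x.2, ← pow_two g, h2, one_mul, mul_one]
        · rw [mul_inv_rev, hgi, hinv _ x.2, ← mul_assoc, hsq _ x.2, one_mul]
      · have hg2c' : g ^ 2 = c := by
          -- the fixed points of `g`
          have hxP : Subgroup.zpowers c ≤ P := Subgroup.zpowers_le.2 hcP
          have hxnc : (x : Ω) ∉ Subgroup.zpowers c := by
            intro h
            obtain ⟨i, hi⟩ := Subgroup.mem_zpowers_iff.1 h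
            have h3 : g * (x : Ω) * g⁻¹ = x := by
              rw [← hi, ← conj_zpow, hgc, hinv _ hcP]
            rw [hxc] at h3
            exact hc1 (mul_eq_left.1 h3)
          have hcard : Nat.card P = 4 := by
            rw [Nat.card_congr e.toEquiv, Nat.card_prod]
            simp
          have hall : ∀ z ∈ P, z = 1 ∨ z = c ∨ z = (x : Ω) ∨ z = x * c := by
            intro z hz
            by_contra hne
            push Not at hne
            obtain ⟨h1, h2, h3, h4⟩ := hne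
            have hxc1 : (x : Ω) * c ≠ 1 := fun h => hxnc (by
              rw [eq_inv_of_mul_eq_one_left h]; exact inv_mem (Subgroup.mem_zpowers c))
            have hx1 : (x : Ω) ≠ 1 := fun h => hxnc (h ▸ one_mem _)
            have hxc' : (x : Ω) ≠ c := fun h => hxnc (h ▸ Subgroup.mem_zpowers c)
            let f : Fin 5 → P := ![1, ⟨c, hcP⟩, x, ⟨(x : Ω) * c, mul_mem x.2 hcP⟩, ⟨z, hz⟩]
            have hf : Function.Injective f := by
              intro i j hij
              have hij' := congrArg Subtype.val hij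
              fin_cases i <;> fin_cases j <;>
                simp [f, hc1, hc1.symm, hx1, hx1.symm, hxc1, hxc1.symm, hxc', hxc'.symm, h1, h1.symm, h2, h2.symm, h3,
                  h3.symm, h4, h4.symm] at hij' ⊢
            have := Nat.card_le_card_of_injective f hf
            rw [hcard, Nat.card_eq_fintype_card, Fintype.card_fin] at this
            omega
          rcases hall _ hg2 with h | h | h | h
          · exact absurd h h2
          · exact h
          · have : g * (x : Ω) * g⁻¹ = x := by rw [← h]; group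
            rw [hxc] at this
            exact absurd (mul_eq_left.1 this) hc1
          · have : g * ((x : Ω) * c) * g⁻¹ = x * c := by rw [← h]; group
            have e' : g * ((x : Ω) * c) * g⁻¹ = (g * x * g⁻¹) * (g * c * g⁻¹) := by group
            rw [e', hxc, hgc, mul_inv_cancel_right] at this
            exact absurd (left_eq_mul.1 this) hc1
        refine ⟨g, hg.1, hgP, hg2c', ?_⟩
        rw [mul_assoc, hgx, ← mul_assoc, ← mul_assoc, hsq _ x.2, one_mul]
        refine eq_inv_of_mul_eq_one_left ?_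
        rw [mul_assoc, ← pow_two, hg2c', hsq _ hcP]
    have hA4 : orderOf (⟨A, hA⟩ : S) = 4 := by
      rw [← Subgroup.orderOf_coe]
      refine orderOf_eq_prime_pow (p := 2) (n := 1) ?_ ?_
      · rw [pow_one, hAc]; exact hc1
      · show A ^ (2 * 2) = 1
        rw [pow_mul, hAc, pow_two]; exact hsq _ hcP
    refine exists_dihedral hA4 (s := x') (Subtype.ext (hsq _ x.2)) ?_ (Subtype.ext hAx)
    intro h
    obtain ⟨i, hi⟩ := Subgroup.mem_zpowers_iff.1 h
    have hi' : A ^ i = (x : Ω) := congrArg Subtype.val hi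
    rcases Int.even_or_odd i with ⟨j, hj⟩ | ⟨j, hj⟩
    · have h3 : (x : Ω) = c ^ j := by rw [← hi', hj, ← two_mul, zpow_mul, zpow_two, ← pow_two, hAc]
      have h4 : g * (x : Ω) * g⁻¹ = x := by rw [h3, ← conj_zpow, hgc, hinv _ hcP]
      rw [hxc] at h4
      exact hc1 (mul_eq_left.1 h4)
    · refine hAP ?_
      have h3 : A = (c ^ j)⁻¹ * x := by
        rw [← hi', hj, zpow_add_one, zpow_mul, zpow_two, ← pow_two, hAc, inv_mul_cancel_left]
      rw [h3]
      exact mul_mem (inv_mem (zpow_mem hcP j)) x.2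
  · exfalso
    have hc2 : g * c * g⁻¹ ≠ c := by
      rw [hgc]
      intro h
      have : c ^ 2 = 1 := by
        rw [pow_two]; nth_rewrite 1 [← h]; exact inv_mul_cancel c
      have h2 := Nat.le_of_dvd two_pos (hord ▸ orderOf_dvd_of_pow_eq_one this)
      have : 2 ^ 2 ≤ 2 ^ n := Nat.pow_le_pow_right two_pos hn2
      omega
    -- no element of `P g` lies in `N`
    have hout : ∀ y : S, y ∈ N → (y : Ω) * g ∈ P → False := by
      intro y hy hyg
      have h1 : (y : Ω) * c = c * y :=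
        congrArg (fun t : N => ((t : S) : Ω)) (hNc.isMulCommutative.is_comm.comm ⟨y, hy⟩ ⟨c', hcN⟩)
      have hy' : (y : Ω) = ((y : Ω) * g) * g⁻¹ := by group
      refine hc2 ?_
      have h2 : ((y : Ω) * g) * (g⁻¹ * c * g) = c * ((y : Ω) * g) := by
        calc ((y : Ω) * g) * (g⁻¹ * c * g) = (y : Ω) * c * g := by group
          _ = _ := by rw [h1, mul_assoc]
      have h3 : g⁻¹ * c * g ∈ P := by
        simpa using conj_mem_of_mem_normalizer (inv_mem hgn) hcP
      rw [hcΩ _ hyg _ h3] at h2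
      have h4 : g⁻¹ * c * g = c := mul_right_cancel h2
      calc g * c * g⁻¹ = g * (g⁻¹ * c * g) * g⁻¹ := by rw [h4]
        _ = c := by group
    obtain ⟨q, hq⟩ := IsCyclic.exists_generator (α := S ⧸ N)
    obtain ⟨i, hi⟩ := Subgroup.mem_zpowers_iff.1 (hq (g' : S ⧸ N))
    obtain ⟨j, hj⟩ := Subgroup.mem_zpowers_iff.1 (hq (x' : S ⧸ N))
    obtain ⟨k, hk⟩ : ∃ k : ℤ, (x' : S ⧸ N) = (g' : S ⧸ N) ^ k := by
      -- compare the subgroups generated in a cyclic 2-group
      have hd : ∀ a b : S ⧸ N, a ∈ Subgroup.zpowers b ∨ b ∈ Subgroup.zpowers a := by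
        intro a b
        obtain ⟨s, hs⟩ := IsPGroup.iff_orderOf.1 (hS.to_quotient N) a
        obtain ⟨t, ht⟩ := IsPGroup.iff_orderOf.1 (hS.to_quotient N) b
        have hsub : ∀ a b : S ⧸ N, orderOf a ∣ orderOf b → a ∈ Subgroup.zpowers b := by
          intro a b hab
          letI : CommGroup (S ⧸ N) := IsCyclic.commGroup
          have hle : Subgroup.zpowers b ≤ (powMonoidHom (orderOf b) : (S ⧸ N) →* (S ⧸ N)).ker :=
            Subgroup.zpowers_le.2 (pow_orderOf_eq_one b)
          have heq := Subgroup.eq_of_le_of_card_ge hle (by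
            obtain ⟨m, hm⟩ := IsCyclic.exists_generator (α := (powMonoidHom (orderOf b) : (S ⧸ N) →* (S ⧸ N)).ker)
            rw [← orderOf_eq_card_of_forall_mem_zpowers hm, Nat.card_zpowers]
            exact Nat.le_of_dvd (orderOf_pos b) (orderOf_dvd_of_pow_eq_one (Subtype.ext m.2)))
          rw [heq]
          exact orderOf_dvd_iff_pow_eq_one.1 hab
        rcases le_total s t with h | h
        · left
          exact hsub _ _ (by rw [hs, ht]; exact pow_dvd_pow 2 h)
        · right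
          exact hsub _ _ (by rw [hs, ht]; exact pow_dvd_pow 2 h)
      rcases hd (x' : S ⧸ N) (g' : S ⧸ N) with h | h
      · obtain ⟨k, hk⟩ := Subgroup.mem_zpowers_iff.1 h
        exact ⟨k, hk.symm⟩
      · obtain ⟨k, hk⟩ := Subgroup.mem_zpowers_iff.1 h
        exfalso
        rw [← QuotientGroup.mk_zpow, QuotientGroup.eq] at hk
        refine hout _ (N.inv_mem hk) ?_
        show (((x : Ω) ^ k)⁻¹ * g)⁻¹ * g ∈ P
        have : (((x : Ω) ^ k)⁻¹ * g)⁻¹ * g = g⁻¹ * (x : Ω) ^ k * g := by group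
        rw [this]
        simpa using conj_mem_of_mem_normalizer (inv_mem hgn) (zpow_mem x.2 k)
    rw [← QuotientGroup.mk_zpow, QuotientGroup.eq] at hk
    rcases Int.even_or_odd k with ⟨l, hl⟩ | ⟨l, hl⟩
    · have hw : (g ^ 2) ^ l = g ^ k := by rw [hl, ← two_mul, zpow_mul, zpow_two, pow_two]
      have hmem : ((x'⁻¹ * g' ^ k : S) : Ω) ∈ P := by
        show (x : Ω)⁻¹ * g ^ k ∈ P
        rw [← hw]
        exact mul_mem (inv_mem x.2) (zpow_mem hg2 l)
      obtain ⟨i, hi⟩ := Subgroup.mem_zpowers_iff.1 (hNP _ hk hmem)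
      have hx' : (x : Ω) = g ^ k * (c ^ i)⁻¹ := by
        rw [show c ^ i = (x : Ω)⁻¹ * g ^ k from hi]; group
      have h1 : g * (x : Ω) * g⁻¹ = g ^ k * c ^ i := by
        rw [hx']
        have : g * (g ^ k * (c ^ i)⁻¹) * g⁻¹ = g ^ k * ((g * c ^ i * g⁻¹))⁻¹ := by group
        rw [this, ← conj_zpow, hgc, inv_zpow, inv_inv]
      rw [hxc, hx', mul_assoc] at h1
      have h2 := mul_left_cancel h1
      have h3 : c ^ (-(i + i) + 1) = 1 := by
        have e1 : (c ^ i)⁻¹ * ((c ^ i)⁻¹ * c) = 1 := by rw [h2, inv_mul_cancel]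
        rw [← e1]; group
      have h5 : (2 : ℤ) ∣ -(i + i) + 1 := by
        have := orderOf_dvd_iff_zpow_eq_one.2 h3
        rw [hord] at this
        exact (Int.natCast_dvd_natCast.2 (dvd_pow_self 2 (by omega : n ≠ 0))).trans this
      omega
    · refine hout _ hk ?_
      show (x : Ω)⁻¹ * g ^ k * g ∈ P
      have : (x : Ω)⁻¹ * g ^ k * g = (x : Ω)⁻¹ * (g ^ 2) ^ (l + 1) := by
        rw [hl, pow_two, ← zpow_two, ← zpow_mul, mul_assoc, ← zpow_add_one]
        congr 2
        ring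
      rw [this]
      exact mul_mem (inv_mem x.2) (zpow_mem hg2 _)

variable {F : FusionSystem S}

/-- An element acting on a radical subgroup like an element of a normal 2-subgroup lies in it. -/
theorem mem_of_stab [Finite S] (hS : IsPGroup 2 S) {R A : Subgroup Ω} (hR : F.IsCentric R)
    (hRr : F.IsRadical 2 R) (hAR : A ≤ R)
    (hinv : ∀ α ∈ F.autGroup R, ∀ x ∈ A, autFun α x ∈ A)
    (M : Subgroup (MulAut A)) [M.Normal] (hM : IsPGroup 2 M)
    {a : Ω} (ha : a ∈ FusionSystem.normalizerIn S R) (haR : ∀ x ∈ R, x⁻¹ * (a * x * a⁻¹) ∈ A)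
    (haA : ∀ β : MulAut A, (∀ x : A, ((β x : A) : Ω) = a * (x : Ω) * a⁻¹) → β ∈ M) : a ∈ R := by
  haveI : Fact (Nat.Prime 2) := ⟨Nat.prime_two⟩
  have hPS := hR.1
  have := finite_of_le hPS
  have := finite_of_le (hAR.trans hPS)
  have := finite_autGroup (F := F) hPS
  have hiso : ∀ α : F.autGroup R, IsIso F A A (autFun (α : MulAut R)) := fun α =>
    ((isMor_of_mem_autGroup hPS α.2).restrict hAR).isIso_self (hinv _ α.2)
  let res : F.autGroup R →* MulAut A := MonoidHom.mk' (fun α => autOf (hiso α)) (fun α β => by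
    refine MulEquiv.ext fun x => Subtype.ext ?_
    rw [autOf_apply, Subgroup.coe_mul, autFun_mul _ _ (hAR x.2), MulAut.mul_apply, autOf_apply, autOf_apply])
  let St : Subgroup (F.autGroup R) :=
    { carrier := {α | ∀ x ∈ R, x⁻¹ * autFun (α : MulAut R) x ∈ A}
      one_mem' := fun x hx => by
        rw [Subgroup.coe_one, autFun_one hx, inv_mul_cancel]
        exact one_mem A
      mul_mem' := by
        intro α β hα hβ x hx
        rw [Subgroup.coe_mul, autFun_mul _ _ hx]
        simpa [mul_assoc] using mul_mem (hβ x hx) (hα _ (autFun_mem (β : MulAut R) hx))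
      inv_mem' := by
        intro α hα x hx
        have h1 := inv_mem (hα _ (autFun_mem (↑α⁻¹ : MulAut R) hx))
        rw [← autFun_mul _ _ hx, ← Subgroup.coe_mul, mul_inv_cancel, Subgroup.coe_one,
          autFun_one hx, mul_inv_rev, inv_inv] at h1
        exact h1 }
  have hStn : St.Normal := ⟨by
    intro α hα γ x hx
    have hy := autFun_mem (↑γ⁻¹ : MulAut R) hx
    have h1 := hinv _ γ.2 _ (hα _ hy)
    have hm : IsMor F R (autFun (γ : MulAut R)) := isMor_of_mem_autGroup hPS γ.2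
    have e : autFun (γ : MulAut R) (autFun (↑γ⁻¹ : MulAut R) x) = x := by
      rw [← autFun_mul _ _ hx, ← Subgroup.coe_mul, mul_inv_cancel, Subgroup.coe_one, autFun_one hx]
    rw [hm.map_mul (inv_mem hy) (autFun_mem _ hy), hm.map_inv hy, e] at h1
    rw [Subgroup.coe_mul, Subgroup.coe_mul, autFun_mul _ _ hx, autFun_mul _ _ (autFun_mem _ hx)]
    exact h1⟩
  let L : Subgroup (F.autGroup R) := St ⊓ M.comap res
  have hLn : L.Normal := ⟨fun x hx g => ⟨hStn.conj_mem x hx.1 g,
    (inferInstance : (M.comap res).Normal).conj_mem x hx.2 g⟩⟩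
  have hLp : IsPGroup 2 L := by
    rintro ⟨α, hα1, hα2⟩
    obtain ⟨k, hk⟩ := hM ⟨res α, hα2⟩
    have hk' : res (α ^ 2 ^ k) = 1 := by rw [map_pow]; exact congrArg Subtype.val hk
    have hst : α ^ 2 ^ k ∈ St := pow_mem hα1 _
    obtain ⟨l, hl⟩ := exists_pow_eq_one_of_stabilizes (p := 2) (hS.to_le hPS) (m := 2)
      (fun i => if i = 0 then ⊥ else if i = 1 then A.subgroupOf R else ⊤)
      (α := ((α ^ 2 ^ k : F.autGroup R) : MulAut R)) (by simp) (by simp)
      (fun i hi => by interval_cases i <;> simp) (fun i hi x hx => by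
        interval_cases i
        · have h1 := congrArg (fun β : MulAut A => ((β ⟨(x : Ω), by simpa [Subgroup.mem_subgroupOf] using hx⟩ : A) : Ω)) hk'
          change autFun ((α ^ 2 ^ k : F.autGroup R) : MulAut R) (x : Ω) = (x : Ω) at h1
          rw [autFun_coe] at h1
          simp only [if_true, Subgroup.mem_bot]
          rw [inv_mul_eq_one]
          exact (Subtype.ext h1).symm
        · show _ ∈ A.subgroupOf R
          rw [Subgroup.mem_subgroupOf, Subgroup.coe_mul, Subgroup.coe_inv, ← autFun_coe]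
          exact hst x x.2)
    refine ⟨k + l, Subtype.ext (Subtype.ext ?_)⟩
    rw [pow_add, pow_mul]
    simpa using hl
  obtain ⟨-, h2⟩ := conjAut_mem (F := F) hPS ha
  refine mem_of_conjAut_mem_inn (centralizerIn_le_of_isCentric hR) hPS ha ?_
  rw [← hRr.2]
  refine ⟨⟨_, h2⟩, Solv.le_pCore (hN := hLn) hLp ⟨fun x hx => ?_, haA _ fun x => ?_⟩, rfl⟩
  · rw [autFun_apply _ hx]
    exact haR x hx
  · show autFun _ (x : Ω) = _
    rw [autFun_apply _ (hAR x.2)]
    rfl

theorem isNormal [Finite S] (hS : IsPGroup 2 S) (hF : F.IsSaturated 2) {P : Subgroup Ω}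
    (hP : F.StronglyClosed P) (hm : IsMetacyclic ↥P)
    (hno : ¬ ∃ H : Subgroup ↥P, Nonempty (↥H ≃* DihedralGroup 4) ∨ Nonempty (↥H ≃* QuaternionGroup 2)) :
    F.IsNormal P := by
  haveI : Fact (Nat.Prime 2) := ⟨Nat.prime_two⟩
  have hSP := le_normalizer_of_stronglyClosed hP
  refine isNormal_of_centric_radical hS hF hP fun R hR hRr => ?_
  by_contra hPR
  have hRS := hR.1
  have hlt : R < R ⊔ P := lt_of_le_of_ne le_sup_left fun h => hPR (h ▸ le_sup_right)
  have := finite_of_le (sup_le hRS hP.1)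
  have := finite_of_le hP.1
  obtain ⟨u, hu, huR⟩ := SetLike.exists_of_lt
    (normalizerIn_self_lt (p := 2) (hS.to_le (sup_le hRS hP.1)) hlt)
  obtain ⟨hu1, hu2⟩ := hu
  replace hu1 : u ∈ ((R ⊔ P : Subgroup Ω) : Set Ω) := hu1
  rw [Subgroup.coe_mul_of_left_le_normalizer_right _ _ (hRS.trans hSP)] at hu1
  obtain ⟨r, hr, c, hc, rfl⟩ := Set.mem_mul.1 hu1
  have hcn : c ∈ Subgroup.normalizer (R : Set Ω) := by
    have := mul_mem (inv_mem (Subgroup.le_normalizer hr)) hu2
    rwa [inv_mul_cancel_left] at this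
  have hcR : c ∉ R := fun h => huR (mul_mem hr h)
  obtain ⟨a, haP, haR, han, ha2⟩ : ∃ a, a ∈ P ∧ a ∉ R ∧ a ∈ Subgroup.normalizer (R : Set Ω) ∧ a ^ 2 ∈ R := by
    obtain ⟨k, hk⟩ := hS ⟨c, hP.1 hc⟩
    have hk' : c ^ 2 ^ k ∈ R := by
      have : c ^ 2 ^ k = 1 := congrArg Subtype.val hk
      rw [this]; exact one_mem R
    clear hk
    induction k with
    | zero => exact absurd (by simpa using hk') hcR
    | succ k ih =>
      by_cases h : c ^ 2 ^ k ∈ R
      · exact ih h
      · exact ⟨c ^ 2 ^ k, pow_mem hc _, h, pow_mem hcn _, by rwa [← pow_mul, ← pow_succ]⟩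
  let A : Subgroup Ω := R ⊓ P
  have hAP : A ≤ P := inf_le_right
  have hAR : A ≤ R := inf_le_left
  have := finite_of_le (hAR.trans hRS)
  have hinv : ∀ α ∈ F.autGroup R, ∀ x ∈ A, autFun α x ∈ A := fun α hα x hx =>
    ⟨autFun_mem α hx.1, stronglyClosed_apply hP (isMor_of_mem_autGroup hRS hα) hx.1 hx.2⟩
  have haS : a ∈ FusionSystem.normalizerIn S R := ⟨hP.1 haP, han⟩
  have hact : ∀ x ∈ R, x⁻¹ * (a * x * a⁻¹) ∈ A := by
    intro x hx
    refine ⟨R.mul_mem (R.inv_mem hx) (conj_mem_of_mem_normalizer han hx), ?_⟩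
    have h1 : x⁻¹ * a * x ∈ P := by
      simpa using conj_mem_of_mem_normalizer (hSP (S.inv_mem (hRS hx))) haP
    have := mul_mem h1 (inv_mem haP)
    rwa [show x⁻¹ * a * x * a⁻¹ = x⁻¹ * (a * x * a⁻¹) by group] at this
  by_cases hA : IsPGroup 2 (MulAut A)
  · exact haR (mem_of_stab hS hR hRr hAR hinv ⊤ (hA.to_subgroup _) haS hact fun _ _ => Subgroup.mem_top _)
  have hmA : IsMetacyclic ↥A :=
    isMetacyclic_map (Subgroup.subgroupOfEquivOfLe hAP).toMonoidHom
      (Subgroup.subgroupOfEquivOfLe hAP).surjective (isMetacyclic_subgroup hm (A.subgroupOf P))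
  rcases Cfsg.Agent.S1896.result (hS.to_le (hAR.trans hRS)) hmA hA with ⟨⟨e⟩⟩ | ⟨n, ⟨e⟩⟩
  · exact hno ⟨A.subgroupOf P, Or.inr ⟨(Subgroup.subgroupOfEquivOfLe hAP).trans e⟩⟩
  have hcomm : ∀ x y : A, x * y = y * x := fun x y => e.injective (by rw [map_mul, map_mul, mul_comm])
  letI : CommGroup A := { (inferInstance : Group A) with mul_comm := hcomm }
  let M : Subgroup (MulAut A) :=
    { carrier := {α | ∀ x : A, ∃ y, α x = x * y ^ 2}
      one_mem' := fun x => ⟨1, by simp⟩
      mul_mem' := by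
        intro a b ha hb x
        obtain ⟨y, hy⟩ := hb x
        obtain ⟨z, hz⟩ := ha x
        refine ⟨z * a y, ?_⟩
        show a (b x) = _
        rw [hy, map_mul, hz, map_pow, mul_pow, mul_assoc]
      inv_mem' := by
        intro a ha x
        obtain ⟨y, hy⟩ := ha (a⁻¹ x)
        refine ⟨y⁻¹, ?_⟩
        rw [show a (a⁻¹ x) = x from a.apply_symm_apply x] at hy
        rw [inv_pow, eq_mul_inv_iff_mul_eq]
        exact hy.symm }
  have hMn : M.Normal := ⟨fun a ha b x => by
    obtain ⟨y, hy⟩ := ha (b⁻¹ x)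
    refine ⟨b y, ?_⟩
    show b (a (b⁻¹ x)) = _
    rw [hy, map_mul, map_pow, show b (b⁻¹ x) = x from b.apply_symm_apply x]⟩
  have hexp : ∀ x : A, x ^ 2 ^ n = 1 := by
    intro x
    have hM : ∀ v : Multiplicative (ZMod (2 ^ n)), v ^ 2 ^ n = 1 := fun v =>
      Multiplicative.toAdd.injective (by rw [toAdd_pow, nsmul_eq_mul, ZMod.natCast_self, zero_mul, toAdd_one])
    exact e.injective (by rw [map_pow, map_one]; exact Prod.ext (hM _) (hM _))
  have hMp : IsPGroup 2 M := fun α => ⟨n, Subtype.ext (isTwoElement hexp (α : MulAut A) α.2)⟩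
  have hanA : a ∈ Subgroup.normalizer (A : Set Ω) := by
    refine mem_normalizer_of_conj_mem (hAR.trans hRS) fun x hx => ?_
    exact ⟨conj_mem_of_mem_normalizer han hx.1, P.mul_mem (P.mul_mem haP hx.2) (P.inv_mem haP)⟩
  by_cases hmv : ∀ x : A, ∃ y : A, a * (x : Ω) * a⁻¹ = ((x * y ^ 2 : A) : Ω)
  · refine haR (mem_of_stab hS hR hRr hAR hinv M hMp haS hact fun β hβ x => ?_)
    obtain ⟨y, hy⟩ := hmv x
    exact ⟨y, Subtype.ext ((hβ x).trans hy)⟩
  push Not at hmv
  obtain ⟨H, hH⟩ := moved (hS.to_le hP.1) hm hAP e ⟨haP, hanA⟩ (fun h => haR h.1)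
    ⟨ha2, pow_mem haP 2⟩ hmv
  exact hno ⟨H, Or.inl hH⟩

end Cfsg.Agent.Fusion.MetacyclicTwoNormal
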