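import Mathlib
import Cfsg.Agent.Lib.Solv.NormalPComplement
import Cfsg.Agent.Lib.Fusion.QuasiDihedralAut
import Cfsg.Agent.Lib.Fusion.EssentialControl

/-!
The modular 2-groups of order at least 16 as Sylow subgroups.
-/

set_option autoImplicit false

namespace Cfsg.Agent.Fusion.ModularTwoGroup

open Cfsg Cfsg.FusionSystem

variable {X : Type*} [Group X] [Finite X] {m : ℕ} {a b : X}
  (hX : Nat.card X = 2 ^ (m + 4)) (ha : orderOf a = 2 ^ (m + 3)) (hb : orderOf b = 2)
  (hrel : b * a * b⁻¹ = a ^ (2 ^ (m + 2) + 1))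

include ha in
theorem zpow_eq_one_iff (i : ℤ) : a ^ i = 1 ↔ (2 : ℤ) ^ (m + 3) ∣ i := by
  rw [← orderOf_dvd_iff_zpow_eq_one, ha]; push_cast; rfl

include hb in
theorem b_sq : b * b = 1 := by rw [← pow_two, ← hb, pow_orderOf_eq_one]

include hrel in
theorem conj_zpow_a (i : ℤ) : b * a ^ i * b⁻¹ = a ^ (i * (2 ^ (m + 2) + 1)) := by
  rw [← conj_zpow, hrel, ← zpow_natCast, ← zpow_mul]
  push_cast
  ring_nf

include ha hrel in
theorem commute_sq : Commute (a ^ (2 : ℤ)) b := by
  have h := conj_zpow_a hrel 2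
  have h1 : a ^ ((2 : ℤ) * (2 ^ (m + 2) + 1)) = a ^ (2 : ℤ) := by
    rw [show (2 : ℤ) * (2 ^ (m + 2) + 1) = 2 ^ (m + 3) + 2 by ring, zpow_add, (zpow_eq_one_iff ha _).2 dvd_rfl, one_mul]
  rw [h1] at h
  calc a ^ (2 : ℤ) * b = b * a ^ (2 : ℤ) * b⁻¹ * b := by rw [h]
    _ = b * a ^ (2 : ℤ) := by group

include hX ha hb hrel in
theorem rep (x : X) : ∃ i : ℤ, x = a ^ i ∨ x = a ^ i * b := by
  have hidx : (Subgroup.zpowers a).index = 2 := by
    have h1 := (Subgroup.zpowers a).card_mul_index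
    rw [hX, Nat.card_zpowers, ha, pow_succ _ (m + 3)] at h1
    exact Nat.eq_of_mul_eq_mul_left (pow_pos two_pos _) h1
  have hb' : b ∉ Subgroup.zpowers a := by
    rintro ⟨k, hk⟩
    have hk' : a ^ k = b := hk
    have h1 : b * a * b⁻¹ = a := by rw [← hk']; group
    rw [hrel, pow_succ, mul_eq_right] at h1
    exact (Nat.pow_right_injective le_rfl).ne (by omega : m + 3 ≠ m + 2)
      (Nat.le_antisymm (Nat.pow_le_pow_right two_pos (by omega) |>.trans' (ha ▸ orderOf_le_of_pow_eq_one (pow_pos two_pos _) h1)) (Nat.pow_le_pow_right two_pos (by omega)))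
  by_cases hx : x ∈ Subgroup.zpowers a
  · obtain ⟨i, hi⟩ := Subgroup.mem_zpowers_iff.mp hx
    exact ⟨i, Or.inl hi.symm⟩
  · obtain ⟨i, hi⟩ := Subgroup.mem_zpowers_iff.mp ((Subgroup.mul_mem_iff_of_index_two hidx).2 (iff_of_false hx hb'))
    exact ⟨i, Or.inr (by rw [hi, mul_assoc, b_sq hb, mul_one])⟩

include hb hrel in
theorem sq_outer (i : ℤ) : (a ^ i * b) ^ 2 = a ^ (2 * i * (2 ^ (m + 1) + 1)) := by
  have hbi : b⁻¹ = b := inv_eq_of_mul_eq_one_right (b_sq hb)
  have h := conj_zpow_a hrel i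
  rw [hbi] at h
  rw [pow_two, mul_assoc, ← mul_assoc b, h, ← zpow_add]
  congr 1
  ring

include hb hrel in
theorem pow_big_outer (i : ℤ) : (a ^ i * b) ^ (2 ^ (m + 2)) = a ^ (2 ^ (m + 2) * i * (2 ^ (m + 1) + 1)) := by
  rw [pow_succ' 2 (m + 1), pow_mul, sq_outer hb hrel, ← zpow_natCast, ← zpow_mul]
  congr 1
  push_cast
  ring

include ha hb hrel in
theorem not_pow_big {i : ℤ} (hi : Odd i) {x : X} (hx : x = a ^ i ∨ x = a ^ i * b) : x ^ (2 ^ (m + 2)) ≠ 1 := by
  have key : ∀ c : ℤ, Odd c → a ^ ((2 : ℤ) ^ (m + 2) * c) ≠ 1 := fun c hc h => by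
    rw [zpow_eq_one_iff ha, pow_succ (2 : ℤ) (m + 2)] at h
    exact (Int.not_even_iff_odd.2 hc) (even_iff_two_dvd.2 ((Int.mul_dvd_mul_iff_left (pow_ne_zero _ two_ne_zero)).1 h))
  rcases hx with rfl | rfl
  · rw [← zpow_natCast, ← zpow_mul, mul_comm]
    push_cast
    exact key i hi
  · rw [pow_big_outer hb hrel, mul_assoc]
    exact key _ (hi.mul (Even.add_one (by simp [Int.even_pow, even_two])))

include hX ha hb hrel in
/-- Self-centralizing subgroups have no automorphisms of odd order. -/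
theorem isPGroup_mulAut (Y : Subgroup X) (hY : Subgroup.centralizer (Y : Set X) ≤ Y) : IsPGroup 2 (MulAut Y) := by
  haveI : Fact (Nat.Prime 2) := ⟨Nat.prime_two⟩
  obtain ⟨M, -, hM⟩ := (Nat.dvd_prime_pow Nat.prime_two).mp (hX ▸ Subgroup.card_subgroup_dvd_card Y)
  have hbb := b_sq hb
  have hc2 := commute_sq ha hrel
  have hcen : ∀ k : ℤ, ∀ x : X, x * a ^ (2 * k) = a ^ (2 * k) * x := by
    intro k x
    have h1 : Commute (a ^ (2 * k)) b := by rw [zpow_mul]; exact hc2.zpow_left k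
    obtain ⟨i, rfl | rfl⟩ := rep hX ha hb hrel x
    · exact ((Commute.refl a).zpow_zpow i (2 * k)).eq
    · exact (((Commute.refl a).zpow_zpow i (2 * k)).mul_left h1.symm).eq
  have hA : ∀ k : ℤ, a ^ (2 * k) ∈ Y := fun k => hY (Subgroup.mem_centralizer_iff.2 fun x _ => hcen k x)
  have hpow : ∀ (N : ℕ) (k : ℤ) (e : X), (e = 1 ∨ e = b) → (a ^ (2 * k) * e) ^ (2 * N) = a ^ (4 * k * (N : ℤ)) := by
    intro N k e he
    have hce : Commute (a ^ (2 * k)) e := (hcen k e).symm
    have he2 : e ^ 2 = 1 := by rcases he with rfl | rfl <;> simp [pow_two, hbb]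
    rw [hce.mul_pow, pow_mul e, he2, one_pow, mul_one, ← zpow_natCast, ← zpow_mul]
    congr 1
    push_cast
    ring
  by_cases hodd : ∃ y ∈ Y, ∃ i : ℤ, Odd i ∧ (y = a ^ i ∨ y = a ^ i * b)
  · obtain ⟨y, hy, i, hi, hyi⟩ := hodd
    by_cases hbY : b ∈ Y
    · -- the whole group
      have haY : a ^ i ∈ Y := by
        rcases hyi with rfl | rfl
        · exact hy
        · simpa [mul_assoc, hbb] using Y.mul_mem hy hbY
      have hall : ∀ x, x ∈ Y := by
        intro x
        obtain ⟨j, hj⟩ := hi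
        have ha1 : a ∈ Y := by
          have := Y.mul_mem haY (hA (-j))
          rwa [← zpow_add, hj, show 2 * j + 1 + 2 * -j = 1 by ring, zpow_one] at this
        obtain ⟨l, rfl | rfl⟩ := rep hX ha hb hrel x
        · exact zpow_mem ha1 l
        · exact Y.mul_mem (zpow_mem ha1 l) hbY
      have hsq : ∀ x : X, ∃ j : ℤ, x ^ 2 = a ^ (2 * j) := by
        intro x
        obtain ⟨l, rfl | rfl⟩ := rep hX ha hb hrel x
        · exact ⟨l, by rw [← zpow_natCast, ← zpow_mul, mul_comm]; rfl⟩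
        · exact ⟨l * (2 ^ (m + 1) + 1), by rw [sq_outer hb hrel, mul_assoc]⟩
      set z : Y := ⟨a ^ (2 * 1 : ℤ), hA 1⟩
      set w : Y := ⟨b, hbY⟩
      have hzw : Commute z w := Subtype.ext (hcen 1 b).symm
      have hzpow : ∀ j : ℤ, ((z ^ j : Y) : X) = a ^ (2 * j) := fun j => by
        rw [SubgroupClass.coe_zpow]; show (a ^ (2 * 1 : ℤ)) ^ j = _; rw [← zpow_mul, mul_one]
      have hzmem : ∀ u : Y, u ∈ Subgroup.zpowers z ↔ ∃ j : ℤ, (u : X) = a ^ (2 * j) := fun u => by
        rw [Subgroup.mem_zpowers_iff]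
        constructor
        · rintro ⟨j, rfl⟩; exact ⟨j, hzpow j⟩
        · rintro ⟨j, hj⟩; exact ⟨j, Subtype.ext (by rw [hzpow, hj])⟩
      have hCmem : ∀ u : Y, u ∈ Subgroup.zpowers z ⊔ Subgroup.zpowers w ↔ (u : X) ^ (2 ^ (m + 2)) = 1 := by
        intro u
        constructor
        · intro hu
          have hle : Subgroup.zpowers z ⊔ Subgroup.zpowers w ≤ Subgroup.centralizer ((Subgroup.zpowers z : Set Y)) := by
            refine sup_le ?_ ?_ <;> rw [Subgroup.zpowers_le, Subgroup.mem_centralizer_iff] <;> rintro x ⟨j, rfl⟩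
            · exact ((Commute.refl z).zpow_left j).eq
            · exact (hzw.zpow_left j).eq
          haveI : (Subgroup.zpowers z).Normal := ⟨fun x hx g => by
            obtain ⟨j, hj⟩ := (hzmem x).1 hx
            refine (hzmem _).2 ⟨j, ?_⟩
            rw [Subgroup.coe_mul, Subgroup.coe_mul, hj, hcen, Subgroup.coe_inv, mul_inv_cancel_right]⟩
          obtain ⟨p, ⟨k, rfl⟩, q, ⟨l, rfl⟩, rfl⟩ := Subgroup.mem_sup_of_normal_left.1 hu
          have hq : ((w ^ l : Y) : X) = 1 ∨ ((w ^ l : Y) : X) = b := by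
            rcases Int.even_or_odd l with ⟨t, ht⟩ | ⟨t, ht⟩
            · left; simp [w, ht, zpow_add, ← (Commute.refl b).mul_zpow, hbb]
            · right; simp [w, ht, zpow_add, two_mul, ← (Commute.refl b).mul_zpow, hbb]
          show (((z ^ k : Y) : X) * ((w ^ l : Y) : X)) ^ (2 ^ (m + 2)) = 1
          rw [hzpow, pow_succ' 2 (m + 1), hpow _ _ _ hq, zpow_eq_one_iff ha]
          exact ⟨k, by push_cast; ring⟩
        · intro hu
          obtain ⟨l, hl⟩ := rep hX ha hb hrel (u : X)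
          rcases Int.even_or_odd l with ⟨t, ht⟩ | hlo
          · rcases hl with hl | hl
            · exact Subgroup.mem_sup_left ((hzmem u).2 ⟨t, by rw [hl, ht, two_mul]⟩)
            · have : u = ⟨a ^ (2 * t), hA t⟩ * w := Subtype.ext (by rw [Subgroup.coe_mul, hl, ht]; show a ^ (t + t) * b = a ^ (2 * t) * b; rw [two_mul])
              rw [this]
              exact mul_mem (Subgroup.mem_sup_left ((hzmem _).2 ⟨t, rfl⟩)) (Subgroup.mem_sup_right (Subgroup.mem_zpowers w))
          · exact absurd hu (not_pow_big ha hb hrel hlo hl)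
      refine Wreathed.isPGroup_mulAut hM _ _ z w rfl rfl hzw (fun α => ?_) (fun α u hu => ?_) ?_
      · obtain ⟨j, hj⟩ := hsq ((α ⟨a, hall a⟩ : Y) : X)
        refine (hzmem _).2 ⟨j, ?_⟩
        rw [← hj, ← SubmonoidClass.coe_pow, ← map_pow]
        congr 2
        exact Subtype.ext (by simp [z, zpow_ofNat])
      · rw [hCmem] at hu ⊢
        rw [← SubmonoidClass.coe_pow, ← map_pow,
          (Subtype.ext (by rw [SubmonoidClass.coe_pow, hu]; rfl) : u ^ (2 ^ (m + 2)) = 1), map_one, Subgroup.coe_one]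
      · refine le_of_eq (Subgroup.index_eq_two_iff'.2 ⟨⟨a, hall a⟩, fun u => ?_⟩)
        have hnot : (⟨a, hall a⟩ : Y) ∉ Subgroup.zpowers z ⊔ Subgroup.zpowers w := fun h =>
          not_pow_big ha hb hrel odd_one (Or.inl (zpow_one a).symm) ((hCmem _).1 h)
        by_cases hu : u ∈ Subgroup.zpowers z ⊔ Subgroup.zpowers w
        · exact Or.inr ⟨hu, fun h => hnot ((Subgroup.mul_mem_cancel_right _ hu).1 h)⟩
        · refine Or.inl ⟨?_, hu⟩
          rw [hCmem] at hu ⊢
          obtain ⟨l, hl⟩ := rep hX ha hb hrel (u : X)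
          have hlo : Odd l := by
            by_contra hle
            rw [Int.not_odd_iff_even] at hle
            obtain ⟨t, rfl⟩ := hle
            refine hu ?_
            rcases hl with hl | hl <;> rw [hl, ← two_mul, pow_succ' 2 (m + 1)]
            · have := hpow (2 ^ (m + 1)) t 1 (Or.inl rfl)
              rw [mul_one] at this
              rw [this, zpow_eq_one_iff ha]; exact ⟨t, by push_cast; ring⟩
            · rw [hpow _ _ _ (Or.inr rfl), zpow_eq_one_iff ha]; exact ⟨t, by push_cast; ring⟩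
          obtain ⟨t, rfl⟩ := hlo
          have h2 : ((⟨a, hall a⟩ * u : Y) : X) = a ^ (2 * (t + 1)) * 1 ∨ ((⟨a, hall a⟩ * u : Y) : X) = a ^ (2 * (t + 1)) * b := by
            rcases hl with hl | hl
            · left; rw [Subgroup.coe_mul, hl, mul_one, show 2 * (t + 1) = 1 + (2 * t + 1) by ring, zpow_add _ 1, zpow_one]
            · right; rw [Subgroup.coe_mul, hl, show 2 * (t + 1) = 1 + (2 * t + 1) by ring, zpow_add _ 1, zpow_one, mul_assoc]
          rcases h2 with h2 | h2 <;> rw [h2, pow_succ' 2 (m + 1)]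
          · rw [hpow _ _ _ (Or.inl rfl), zpow_eq_one_iff ha]; exact ⟨t + 1, by push_cast; ring⟩
          · rw [hpow _ _ _ (Or.inr rfl), zpow_eq_one_iff ha]; exact ⟨t + 1, by push_cast; ring⟩
    · -- a cyclic maximal subgroup
      have ho : orderOf y = 2 ^ (m + 3) := by
        refine orderOf_eq_prime_pow (not_pow_big ha hb hrel hi hyi) ?_
        rcases hyi with rfl | rfl
        · rw [← zpow_natCast, ← zpow_mul, zpow_eq_one_iff ha]; exact ⟨i, by push_cast; ring⟩
        · rw [pow_succ 2 (m + 2), pow_mul, pow_big_outer hb hrel, ← zpow_natCast, ← zpow_mul, zpow_eq_one_iff ha]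
          exact ⟨i * (2 ^ (m + 1) + 1), by push_cast; ring⟩
      refine QuasiDihedral.isPGroup_mulAut_of_cyclic_part hM ⟨y, hy⟩ ?_ (fun α => ?_) <;>
        have htop : Subgroup.zpowers (⟨y, hy⟩ : Y) = ⊤ := by
          refine Subgroup.eq_top_of_card_eq _ (Nat.dvd_antisymm (Subgroup.card_subgroup_dvd_card _) ?_)
          rw [Nat.card_zpowers, Subgroup.orderOf_mk, ho, hM]
          refine Nat.pow_dvd_pow 2 ?_
          by_contra hMbig
          refine hbY ?_
          have hYt : Y = ⊤ := by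
            refine Subgroup.eq_top_of_le_card _ ?_
            rw [hM, hX]
            exact Nat.pow_le_pow_right two_pos (by omega)
          rw [hYt]; exact Subgroup.mem_top b
      · rw [htop, Subgroup.index_top]; norm_num
      · rw [htop]; exact Subgroup.mem_top _
  · -- the abelian maximal subgroup
    push Not at hodd
    have hev : ∀ y ∈ Y, ∃ k : ℤ, ∃ e : X, (e = 1 ∨ e = b) ∧ y = a ^ (2 * k) * e := by
      intro y hy
      obtain ⟨l, hl⟩ := rep hX ha hb hrel y
      rcases Int.even_or_odd l with ⟨t, ht⟩ | hlo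
      · rcases hl with hl | hl
        · exact ⟨t, 1, Or.inl rfl, by rw [mul_one, hl, ht, two_mul]⟩
        · exact ⟨t, b, Or.inr rfl, by rw [hl, ht, two_mul]⟩
      · exact absurd hl (by have := hodd y hy l hlo; tauto)
    have hbY : b ∈ Y := hY (Subgroup.mem_centralizer_iff.2 fun x hx => by
      obtain ⟨k, e, he, rfl⟩ := hev x hx
      have h1 : Commute e b := by rcases he with he | he <;> rw [he]; exact Commute.one_left b
      exact ((show Commute (a ^ (2 * k)) b from (hcen k b).symm).mul_left h1).eq)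
    set z : Y := ⟨a ^ (2 * 2 : ℤ), hA 2⟩
    set w : Y := ⟨b, hbY⟩
    have hzw : Commute z w := Subtype.ext (hcen 2 b).symm
    have hzpow : ∀ j : ℤ, ((z ^ j : Y) : X) = a ^ (4 * j) := fun j => by
      rw [SubgroupClass.coe_zpow]; show (a ^ (2 * 2 : ℤ)) ^ j = _; rw [← zpow_mul]; norm_num
    have hzmem : ∀ u : Y, u ∈ Subgroup.zpowers z ↔ ∃ j : ℤ, (u : X) = a ^ (4 * j) := fun u => by
      rw [Subgroup.mem_zpowers_iff]
      constructor
      · rintro ⟨j, rfl⟩; exact ⟨j, hzpow j⟩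
      · rintro ⟨j, hj⟩; exact ⟨j, Subtype.ext (by rw [hzpow, hj])⟩
    have hCmem : ∀ u : Y, (u ∈ Subgroup.zpowers z ⊔ Subgroup.zpowers w) ↔ (u : X) ^ (2 ^ (m + 1)) = 1 := by
      intro u
      obtain ⟨k, e, he, hk⟩ := hev u u.2
      constructor
      · intro hu
        haveI : (Subgroup.zpowers z).Normal := ⟨fun x hx g => by
          obtain ⟨j, hj⟩ := (hzmem x).1 hx
          refine (hzmem _).2 ⟨j, ?_⟩
          rw [Subgroup.coe_mul, Subgroup.coe_mul, hj, show 4 * j = 2 * (2 * j) by ring, hcen, Subgroup.coe_inv, mul_inv_cancel_right]⟩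
        obtain ⟨p, ⟨k, rfl⟩, q, ⟨l, rfl⟩, rfl⟩ := Subgroup.mem_sup_of_normal_left.1 hu
        have hq : ((w ^ l : Y) : X) = 1 ∨ ((w ^ l : Y) : X) = b := by
          rcases Int.even_or_odd l with ⟨t, ht⟩ | ⟨t, ht⟩
          · left; simp [w, ht, zpow_add, ← (Commute.refl b).mul_zpow, hbb]
          · right; simp [w, ht, zpow_add, two_mul, ← (Commute.refl b).mul_zpow, hbb]
        show (((z ^ k : Y) : X) * ((w ^ l : Y) : X)) ^ (2 ^ (m + 1)) = 1
        rw [hzpow, show 4 * k = 2 * (2 * k) by ring, pow_succ' 2 m, hpow _ _ _ hq, zpow_eq_one_iff ha]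
        exact ⟨k, by push_cast; ring⟩
      · intro hu
        rw [hk, pow_succ' 2 m, hpow _ _ _ he, zpow_eq_one_iff ha, show (2 : ℤ) ^ (m + 3) = (4 * 2 ^ m) * 2 by ring,
          show 4 * k * ((2 ^ m : ℕ) : ℤ) = (4 * 2 ^ m) * k by push_cast; ring, Int.mul_dvd_mul_iff_left (by positivity)] at hu
        obtain ⟨t, rfl⟩ := hu
        rcases he with rfl | rfl
        · exact Subgroup.mem_sup_left ((hzmem u).2 ⟨t, by rw [hk, mul_one]; ring_nf⟩)
        · have : u = ⟨a ^ (2 * (2 * t)), hA _⟩ * w := Subtype.ext hk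
          rw [this]
          exact mul_mem (Subgroup.mem_sup_left ((hzmem _).2 ⟨t, by show a ^ (2 * (2 * t)) = _; ring_nf⟩)) (Subgroup.mem_sup_right (Subgroup.mem_zpowers w))
    refine Wreathed.isPGroup_mulAut hM _ _ z w rfl rfl hzw (fun α => ?_) (fun α u hu => ?_) ?_
    · set v : Y := ⟨a ^ (2 * 1 : ℤ), hA 1⟩
      have hv : z = v ^ 2 := Subtype.ext (by
        show a ^ (2 * 2 : ℤ) = (a ^ (2 * 1 : ℤ)) ^ 2
        rw [← zpow_natCast, ← zpow_mul]; norm_num)
      obtain ⟨k, e, he, hk⟩ := hev _ (α v).2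
      refine (hzmem _).2 ⟨k, ?_⟩
      rw [hv, map_pow, SubmonoidClass.coe_pow, hk]
      simpa using hpow 1 k e he
    · rw [hCmem] at hu ⊢
      rw [← SubmonoidClass.coe_pow, ← map_pow,
        (Subtype.ext (by rw [SubmonoidClass.coe_pow, hu]; rfl) : u ^ (2 ^ (m + 1)) = 1), map_one, Subgroup.coe_one]
    · refine le_of_eq (Subgroup.index_eq_two_iff'.2 ⟨⟨a ^ (2 * 1 : ℤ), hA 1⟩, fun u => ?_⟩)
      have hnot : (⟨a ^ (2 * 1 : ℤ), hA 1⟩ : Y) ∉ Subgroup.zpowers z ⊔ Subgroup.zpowers w := by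
        rw [hCmem]
        intro h
        change (a ^ (2 * 1 : ℤ)) ^ (2 ^ (m + 1)) = 1 at h
        rw [← zpow_natCast, ← zpow_mul, zpow_eq_one_iff ha] at h
        push_cast at h
        have h' : (2 : ℤ) ^ (m + 3) ∣ 2 ^ (m + 2) := by convert h using 1; ring
        have := Int.le_of_dvd (by positivity) h'
        have h2 : (2 : ℤ) ^ (m + 3) = 2 * 2 ^ (m + 2) := by ring
        have h3 : (0 : ℤ) < 2 ^ (m + 2) := by positivity
        omega
      by_cases hu : u ∈ Subgroup.zpowers z ⊔ Subgroup.zpowers w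
      · exact Or.inr ⟨hu, fun h => hnot ((Subgroup.mul_mem_cancel_right _ hu).1 h)⟩
      · refine Or.inl ⟨?_, hu⟩
        rw [hCmem] at hu ⊢
        obtain ⟨k, e, he, hk⟩ := hev u u.2
        rw [hk, pow_succ' 2 m, hpow _ _ _ he, zpow_eq_one_iff ha] at hu
        rw [Subgroup.coe_mul, hk]
        show (a ^ (2 * 1 : ℤ) * (a ^ (2 * k) * e)) ^ (2 ^ (m + 1)) = 1
        rw [← mul_assoc, ← zpow_add, ← mul_add, pow_succ' 2 m, hpow _ _ _ he, zpow_eq_one_iff ha]
        rcases Int.even_or_odd k with ⟨t, ht⟩ | ⟨t, ht⟩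
        · exact absurd ⟨t, by rw [ht]; push_cast; ring⟩ hu
        · exact ⟨t + 1, by rw [ht]; push_cast; ring⟩

/-- A modular Sylow 2-subgroup gives a normal 2-complement. -/
theorem hasNormalPComplement {G : Type*} [Group G] [Finite G] (S : Sylow 2 G) {m : ℕ} (a b : (S : Subgroup G))
    (hX : Nat.card (S : Subgroup G) = 2 ^ (m + 4)) (ha : orderOf a = 2 ^ (m + 3)) (hb : orderOf b = 2)
    (hrel : b * a * b⁻¹ = a ^ (2 ^ (m + 2) + 1)) : HasNormalPComplement 2 G := by
  haveI : Fact (Nat.Prime 2) := ⟨Nat.prime_two⟩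
  refine Solv.hasNormalPComplement_of_fusion S fun x hx g hg => ?_
  have hno : ∀ P, ¬ (groupFusionSystem (S : Subgroup G)).IsEssential 2 P := fun P hP => by
    refine EssentialControl.not_isPGroup_autGroup S.2 (isSaturated_groupFusionSystem S) hP ?_
    have hPS : P ≤ (S : Subgroup G) := hP.1.1
    have hC := hP.1.2 P (isConj_refl hPS)
    have h1 := isPGroup_mulAut hX ha hb hrel (P.subgroupOf (S : Subgroup G)) fun u hu => hC ⟨u.2, fun q hq => by
      simpa using congrArg Subtype.val (hu ⟨q, hPS hq⟩ hq)⟩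
    exact (h1.of_equiv (MulAut.congr (Subgroup.subgroupOfEquivOfLe hPS))).to_subgroup _
  have hS : IsPGroup 2 ((groupFusionSystem (S : Subgroup G)).autGroup (S : Subgroup G)) :=
    ((isPGroup_mulAut hX ha hb hrel ⊤ le_top).of_equiv (MulAut.congr Subgroup.topEquiv)).to_subgroup _
  have hle := EssentialControl.le_inner S.2 (isSaturated_groupFusionSystem S) hS hno
  have hm : IsMor (groupFusionSystem (S : Subgroup G))
      ((S : Subgroup G) ⊓ (S : Subgroup G).comap (MulAut.conj g).toMonoidHom) (fun y => g * y * g⁻¹) :=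
    isMor_groupFusionSystem.2 ⟨inf_le_left, fun y hy => hy.2, g, fun _ _ => rfl⟩
  obtain ⟨-, z, hz, h'⟩ := isMor_inner.1 (le_iff_isMor.1 hle _ _ hm)
  exact ⟨z, hz, (h' x ⟨hx, hg⟩).symm⟩

end Cfsg.Agent.Fusion.ModularTwoGroup
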