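import Mathlib
import Cfsg.Agent.Lib.Solv.Coprime
import Cfsg.Agent.Lib.Fusion.GroupSystem
import Cfsg.Agent.Lib.Fusion.KNormalizer

/-!
An element of a strongly closed `p`-subgroup acting on an abelian subgroup that is inverted in the group.
-/

set_option autoImplicit false

universe u

namespace Cfsg.Agent.Fusion.NoFlip

open Subgroup

variable {L : Type u} [Group L] {p : ℕ}

/-- Powers of a transvection. -/
theorem conj_pow_of_conj {c x t : L} (hc : c * x * c⁻¹ = x * t) (ht : c * t * c⁻¹ = t) (k : ℕ) :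
    c ^ k * x * (c ^ k)⁻¹ = x * t ^ k := by
  induction k with
  | zero => simp
  | succ k ih =>
    calc c ^ (k + 1) * x * (c ^ (k + 1))⁻¹ = c * (c ^ k * x * (c ^ k)⁻¹) * c⁻¹ := by rw [pow_succ']; group
      _ = (c * x * c⁻¹) * (c * t * c⁻¹) ^ k := by rw [ih, conj_pow]; group
      _ = x * t ^ (k + 1) := by rw [hc, ht, mul_assoc, ← pow_succ']

/-- Two opposite transvections produce an element inverting the plane. -/
theorem exists_inverting [Fact p.Prime] {z y a b : L} (hzy : z * y = y * z) (hz : z ^ p = 1) (hy : y ^ p = 1)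
    {i j : ℕ} (hi : ¬ p ∣ i) (hj : ¬ p ∣ j) (haz : a * z * a⁻¹ = z) (hay : a * y * a⁻¹ = y * z ^ i)
    (hby : b * y * b⁻¹ = y) (hbz : b * z * b⁻¹ = z * y ^ j) :
    ∃ δ : L, ∀ w ∈ closure ({z, y} : Set L), δ * w * δ⁻¹ = w⁻¹ := by
  have hexp : ∀ (x : L), x ^ p = 1 → ∀ m n : ℕ, (m : ZMod p) = n → x ^ m = x ^ n := fun x hx m n h => by
    rw [pow_eq_pow_mod m hx, pow_eq_pow_mod n hx, (ZMod.natCast_eq_natCast_iff' m n p).1 h]
  have hne : ∀ i : ℕ, ¬ p ∣ i → (i : ZMod p) ≠ 0 := fun i h h0 => h ((ZMod.natCast_eq_zero_iff i p).1 h0)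
  set A := a ^ ((i : ZMod p)⁻¹).val
  set B := b ^ (-((j : ZMod p)⁻¹)).val
  have hAy : MulAut.conj A y = y * z := by
    rw [MulAut.conj_apply, conj_pow_of_conj hay (by rw [← conj_pow, haz]), ← pow_mul]
    congr 1
    conv_rhs => rw [← pow_one z]
    refine hexp z hz _ _ ?_
    rw [Nat.cast_mul, ZMod.natCast_val, ZMod.cast_id, mul_inv_cancel₀ (hne i hi), Nat.cast_one]
  have hAz : MulAut.conj A z = z := by
    rw [MulAut.conj_apply, conj_pow_of_conj (t := 1) (by rw [mul_one]; exact haz) (by simp), one_pow, mul_one]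
  have hBy : MulAut.conj B y = y := by
    rw [MulAut.conj_apply, conj_pow_of_conj (t := 1) (by rw [mul_one]; exact hby) (by simp), one_pow, mul_one]
  have hBz : MulAut.conj B z = z * y⁻¹ := by
    rw [MulAut.conj_apply, conj_pow_of_conj hbz (by rw [← conj_pow, hby]), ← pow_mul]
    congr 1
    rw [eq_inv_iff_mul_eq_one, ← pow_succ, ← pow_zero y]
    refine hexp y hy _ _ ?_
    rw [Nat.cast_add, Nat.cast_mul, ZMod.natCast_val, ZMod.cast_id, mul_neg, mul_inv_cancel₀ (hne j hj),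
      Nat.cast_one, neg_add_cancel, Nat.cast_zero]
  have hwz : MulAut.conj (A * B * A) z = y⁻¹ := by
    rw [map_mul, map_mul, MulAut.mul_apply, MulAut.mul_apply, hAz, hBz, map_mul, map_inv, hAz, hAy]
    rw [mul_inv_rev, ← mul_assoc, mul_inv_cancel, one_mul]
  have hwy : MulAut.conj (A * B * A) y = z := by
    rw [map_mul, map_mul, MulAut.mul_apply, MulAut.mul_apply, hAy, map_mul, hBy, hBz]
    rw [show y * (z * y⁻¹) = z by rw [← mul_assoc, ← hzy, mul_inv_cancel_right], hAz]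
  refine ⟨A * B * A * (A * B * A), fun w hw => ?_⟩
  have hgen : ∀ x ∈ ({z, y} : Set L), MulAut.conj (A * B * A * (A * B * A)) x = x⁻¹ := by
    rintro x (rfl | rfl)
    · rw [map_mul, MulAut.mul_apply, hwz, map_inv, hwy]
    · rw [map_mul, MulAut.mul_apply, hwy, hwz]
  have hcomm : ∀ x ∈ closure ({z, y} : Set L), ∀ x' ∈ closure ({z, y} : Set L), x * x' = x' * x := by
    intro x hx x' hx'
    have : IsMulCommutative (closure ({z, y} : Set L)) := isMulCommutative_closure (by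
      rintro _ (rfl | rfl) _ (rfl | rfl) <;> first | rfl | exact hzy | exact hzy.symm)
    exact congrArg Subtype.val (mul_comm' (⟨x, hx⟩ : closure ({z, y} : Set L)) ⟨x', hx'⟩)
  rw [← MulAut.conj_apply]
  induction hw using closure_induction with
  | mem x hx => exact hgen x hx
  | one => simp
  | mul x x' hx hx' e e' => rw [map_mul, e, e', hcomm x hx x' hx', mul_inv_rev]
  | inv x _ e => rw [map_inv, e]

/-- No element of a strongly closed subgroup moves an inverted abelian subgroup, under a power condition. -/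
theorem no_flip [Finite L] [Fact p.Prime] (hp2 : p ≠ 2) (T : Sylow p L) {Pg : Subgroup L}
    (hcl : ∀ g : L, ∀ x ∈ Pg, g * x * g⁻¹ ∈ (T : Subgroup L) → g * x * g⁻¹ ∈ Pg)
    {W : Subgroup L} (hWp : IsPGroup p W) {a δ : L} (ha : a ∈ Pg) (haW : a ∈ normalizer (W : Set L))
    (hac : a ∉ centralizer (W : Set L)) (hap : a ^ p ∈ centralizer (W : Set L))
    (haT : ∃ n : ℕ, a ^ p ^ n = 1) (hδ : ∀ w ∈ W, δ * w * δ⁻¹ = w⁻¹)
    (hH : ∀ l : L, l * a * l⁻¹ ∈ Pg → ∀ c : L, l * c * l⁻¹ ∈ Pg → c ∈ normalizer (W : Set L) →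
      c ∉ centralizer (W : Set L) → ∃ k : ℕ, c ^ p ^ k ∈ W ∧ c ^ p ^ k ≠ 1) : False := by
  set C := centralizer (W : Set L) with hCdef
  have hnorm : ∀ g : L, (∀ w ∈ W, g * w * g⁻¹ ∈ W) → g ∈ normalizer (W : Set L) := fun g hg => by
    have hmap : W.map (MulAut.conj g).toMonoidHom = W := by
      refine eq_of_le_of_card_ge ?_ (card_map_of_injective (MulAut.conj g).injective).ge
      rintro _ ⟨w, hw, rfl⟩
      exact hg w hw
    refine mem_normalizer_iff.2 fun x => ⟨hg x, fun hx => ?_⟩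
    obtain ⟨w, hw, he⟩ := hmap.ge hx
    rwa [← (MulAut.conj g).injective (show MulAut.conj g w = MulAut.conj g x from he)]
  have hCn : ∀ g ∈ normalizer (W : Set L), ∀ c ∈ C, g * c * g⁻¹ ∈ C := fun g hg c hc => by
    refine mem_centralizer_iff.2 fun w hw => ?_
    have h1 := mem_centralizer_iff.1 hc _ ((mem_normalizer_iff''.1 hg w).1 hw)
    calc w * (g * c * g⁻¹) = g * (g⁻¹ * w * g * c) * g⁻¹ := by group
      _ = g * (c * (g⁻¹ * w * g)) * g⁻¹ := by rw [h1]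
      _ = g * c * g⁻¹ * w := by group
  have hδn : δ ∈ normalizer (W : Set L) := hnorm δ fun w hw => by rw [hδ w hw]; exact W.inv_mem hw
  have hδa : ∀ w ∈ W, δ * (a * w * a⁻¹) * δ⁻¹ = a * (δ * w * δ⁻¹) * a⁻¹ := fun w hw => by
    rw [hδ w hw, hδ _ ((mem_normalizer_iff.1 haW w).1 hw)]
    group
  -- the group `M = C⟨a⟩`
  set M := C ⊔ zpowers a with hMdef
  have haN : zpowers a ≤ normalizer (C : Set L) := by
    refine zpowers_le.2 (mem_normalizer_iff.2 fun c => ⟨hCn a haW c, fun hc => ?_⟩)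
    have := hCn a⁻¹ (inv_mem haW) _ hc
    simpa [mul_assoc] using this
  have hMdec : ∀ m ∈ M, ∃ c ∈ C, ∃ i : ℤ, m = c * a ^ i := fun m hm => by
    replace hm : m ∈ ((C ⊔ zpowers a : Subgroup L) : Set L) := hm
    rw [coe_mul_of_right_le_normalizer_left _ _ haN] at hm
    obtain ⟨c, hc, x, hx, rfl⟩ := Set.mem_mul.1 hm
    obtain ⟨i, rfl⟩ := hx
    exact ⟨c, hc, i, rfl⟩
  have hda : δ * a * δ⁻¹ * a⁻¹ ∈ C := mem_centralizer_iff.2 fun w hw => by
    have hw' : a⁻¹ * w * a ∈ W := (mem_normalizer_iff''.1 haW w).1 hw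
    have h1 := hδa _ (W.inv_mem hw')
    rw [hδ _ (W.inv_mem hw'), inv_inv] at h1
    have h2 : δ * w⁻¹ * δ⁻¹ = w := by rw [hδ _ (W.inv_mem hw), inv_inv]
    calc w * (δ * a * δ⁻¹ * a⁻¹) = δ * w⁻¹ * δ⁻¹ * (δ * a * δ⁻¹ * a⁻¹) := by rw [h2]
      _ = δ * a * (a⁻¹ * w * a)⁻¹ * δ⁻¹ * a⁻¹ := by group
      _ = δ * a * δ⁻¹ * (a⁻¹ * w * a) * a⁻¹ := by
        rw [show (a⁻¹ * w * a)⁻¹ = δ⁻¹ * (a⁻¹ * w * a) * δ from ?_]
        · group
        have h3 := hδ _ (W.inv_mem hw')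
        rw [inv_inv] at h3
        calc (a⁻¹ * w * a)⁻¹ = δ⁻¹ * (δ * (a⁻¹ * w * a)⁻¹ * δ⁻¹) * δ := by group
          _ = δ⁻¹ * (a⁻¹ * w * a) * δ := by rw [h3]
      _ = δ * a * δ⁻¹ * a⁻¹ * w := by group
  have hδM : ∀ m ∈ M, δ * m * δ⁻¹ ∈ M := by
    intro m hm
    obtain ⟨c, hc, i, rfl⟩ := hMdec m hm
    have h1 : δ * a * δ⁻¹ ∈ M := by
      rw [show δ * a * δ⁻¹ = (δ * a * δ⁻¹ * a⁻¹) * a by group]
      exact mul_mem_sup hda (mem_zpowers a)
    rw [show δ * (c * a ^ i) * δ⁻¹ = (δ * c * δ⁻¹) * (δ * a * δ⁻¹) ^ i by rw [conj_zpow]; group]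
    exact M.mul_mem (mem_sup_left (hCn δ hδn c hc)) (M.zpow_mem h1 i)
  -- a Sylow subgroup of `M` through `a`
  have haM : a ∈ M := mem_sup_right (mem_zpowers a)
  obtain ⟨na, hna⟩ := haT
  obtain ⟨S1, hS1⟩ := (show IsPGroup p (zpowers (⟨a, haM⟩ : M)) from fun x => by
    obtain ⟨i, hi⟩ := mem_zpowers_iff.1 x.2
    refine ⟨na, Subtype.ext ?_⟩
    rw [coe_pow, ← hi, ← zpow_natCast, zpow_comm, zpow_natCast,
      show (⟨a, haM⟩ : M) ^ p ^ na = 1 from Subtype.ext hna, one_zpow]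
    rfl).exists_le_sylow
  set Q := (S1 : Subgroup M).map M.subtype with hQdef
  have hQM : Q ≤ M := map_subtype_le _
  have hQp : IsPGroup p Q := S1.isPGroup'.map _
  have hQi : ¬ p ∣ Q.relIndex M := by
    rw [relIndex, hQdef, ← comap_subtype, comap_map_eq_self_of_injective M.subtype_injective]
    exact S1.not_dvd_index
  have haQ : a ∈ Q := ⟨⟨a, haM⟩, hS1 (mem_zpowers _), rfl⟩
  obtain ⟨w, hwM, hw⟩ := exists_conj_le_of_sylow (W := M) (J := Q) (B := Q.map (MulAut.conj δ).toMonoidHom)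
    (by rintro _ ⟨q, hq, rfl⟩; exact hδM q (hQM hq)) hQp (hQp.map _) hQM hQi
  set d := w * δ with hddef
  have hdQ : ∀ q ∈ Q, d * q * d⁻¹ ∈ Q := fun q hq => by
    have := hw _ ⟨q, hq, rfl⟩
    simpa [d, mul_assoc] using this
  obtain ⟨cw, hcw, iw, hiw⟩ := hMdec w hwM
  have hcwW : ∀ x ∈ W, cw * x * cw⁻¹ = x := fun x hx => by
    rw [← mem_centralizer_iff.1 hcw x hx, mul_inv_cancel_right]
  have hd : ∀ x ∈ W, d * x * d⁻¹ = (a ^ iw * x * (a ^ iw)⁻¹)⁻¹ := fun x hx => by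
    have h1 : a ^ iw * x⁻¹ * (a ^ iw)⁻¹ ∈ W := (mem_normalizer_iff.1 (zpow_mem haW iw) _).1 (W.inv_mem hx)
    calc d * x * d⁻¹ = cw * (a ^ iw * (δ * x * δ⁻¹) * (a ^ iw)⁻¹) * cw⁻¹ := by rw [hddef, hiw]; group
      _ = _ := by rw [hδ x hx, hcwW _ h1]; group
  have hdpow : ∀ (j : ℕ), ∀ x ∈ W, d ^ j * x * (d ^ j)⁻¹ =
      a ^ (iw * j) * x ^ ((-1 : ℤ) ^ j) * (a ^ (iw * j))⁻¹ := by
    intro j
    induction j with
    | zero => intro x _; simp
    | succ j ih =>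
      intro x hx
      have h1 : a ^ (iw * j) * x ^ ((-1 : ℤ) ^ j) * (a ^ (iw * j))⁻¹ ∈ W :=
        (mem_normalizer_iff.1 (zpow_mem haW _) _).1 (W.zpow_mem hx _)
      calc d ^ (j + 1) * x * (d ^ (j + 1))⁻¹ = d * (d ^ j * x * (d ^ j)⁻¹) * d⁻¹ := by rw [pow_succ']; group
        _ = (a ^ iw * (a ^ (iw * j) * x ^ ((-1 : ℤ) ^ j) * (a ^ (iw * j))⁻¹) * (a ^ iw)⁻¹)⁻¹ := by
          rw [ih x hx, hd _ h1]
        _ = a ^ (iw + iw * j) * (x ^ ((-1 : ℤ) ^ j))⁻¹ * (a ^ (iw + iw * j))⁻¹ := by rw [zpow_add]; group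
        _ = _ := by
          rw [← zpow_neg, Nat.cast_succ, mul_add, mul_one, add_comm (iw * (j : ℤ)), pow_succ, mul_neg_one]
  set e := (orderOf d).factorization p with he
  set n := orderOf d / p ^ e with hn
  set d₁ := d ^ p ^ (e + 1) with hd₁
  have hod : orderOf d ≠ 0 := (orderOf_pos d).ne'
  have hd₁n : d₁ ^ n = 1 := by
    rw [hd₁, ← pow_mul, pow_succ', mul_assoc, hn, he, Nat.ordProj_mul_ordCompl_eq_self, mul_comm p, pow_mul,
      pow_orderOf_eq_one, one_pow]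
  have hd₁W : ∀ x ∈ W, d₁ * x * d₁⁻¹ = x⁻¹ := fun x hx => by
    have hodd : Odd (p ^ (e + 1)) := ((Fact.out : p.Prime).odd_of_ne_two hp2).pow
    have h2 : a ^ (iw * ((p ^ (e + 1) : ℕ) : ℤ)) ∈ C := by
      rw [mul_comm, zpow_mul, zpow_natCast, pow_succ', pow_mul]
      exact zpow_mem (pow_mem hap _) _
    rw [hd₁, hdpow _ x hx, hodd.neg_one_pow, zpow_neg_one,
      ← mem_centralizer_iff.1 h2 _ (W.inv_mem hx), mul_inv_cancel_right]
  obtain ⟨l, hl⟩ := exists_conj_le_sylow T hQp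
  have hlT : ∀ q ∈ Q, l * q * l⁻¹ ∈ (T : Subgroup L) := fun q hq => hl ⟨q, hq, rfl⟩
  let R₁ : Subgroup L := Q ⊓ Pg.comap (MulAut.conj l).toMonoidHom
  have hd₁Q : ∀ q ∈ Q, d₁ * q * d₁⁻¹ ∈ Q := by
    suffices ∀ j : ℕ, ∀ q ∈ Q, d ^ j * q * (d ^ j)⁻¹ ∈ Q from this _
    intro j
    induction j with
    | zero => intro q hq; simpa using hq
    | succ j ih =>
      intro q hq
      have := hdQ _ (ih q hq)
      simpa [pow_succ', mul_assoc] using this
  have hla : l * a * l⁻¹ ∈ Pg := hcl l a ha (hlT a haQ)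
  have hR1 : ∀ x ∈ R₁, d₁ * x * d₁⁻¹ ∈ R₁ := fun x hx => by
    refine ⟨hd₁Q x hx.1, ?_⟩
    have h1 := hcl (l * d₁ * l⁻¹) _ hx.2 (by
      have := hlT _ (hd₁Q x hx.1)
      simpa [mul_assoc] using this)
    simpa [mul_assoc] using h1
  let A := zpowers d₁
  have hAR : A ≤ normalizer (R₁ : Set L) := by
    have hmap : R₁.map (MulAut.conj d₁).toMonoidHom = R₁ := by
      refine eq_of_le_of_card_ge ?_ (card_map_of_injective (MulAut.conj d₁).injective).ge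
      rintro _ ⟨x, hx, rfl⟩
      exact hR1 x hx
    refine zpowers_le.2 (mem_normalizer_iff.2 fun x => ⟨hR1 x, fun hx => ?_⟩)
    obtain ⟨q, hq, hqe⟩ := hmap.ge hx
    rwa [← (MulAut.conj d₁).injective (show MulAut.conj d₁ q = MulAut.conj d₁ x from hqe)]
  have hd₁n' : d₁ ∈ normalizer (W : Set L) := hnorm d₁ fun x hx => by rw [hd₁W x hx]; exact W.inv_mem hx
  have hAC : A ≤ normalizer (C : Set L) := by
    refine zpowers_le.2 (mem_normalizer_iff.2 fun c => ⟨hCn d₁ hd₁n' c, fun hc => ?_⟩)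
    have := hCn d₁⁻¹ (inv_mem hd₁n') _ hc
    simpa [mul_assoc] using this
  have haR : a ∈ R₁ := ⟨haQ, hla⟩
  have hRC : R₁ ≤ normalizer (((R₁ ⊓ C : Subgroup L)) : Set L) := fun r hr => by
    obtain ⟨c, hc, i, rfl⟩ := hMdec r (hQM hr.1)
    have hn' : c * a ^ i ∈ normalizer (W : Set L) :=
      mul_mem (centralizer_le_normalizer (W : Set L) hc) (zpow_mem haW i)
    refine mem_normalizer_iff.2 fun x => ⟨fun hx => ⟨R₁.mul_mem (R₁.mul_mem hr hx.1) (R₁.inv_mem hr),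
      hCn _ hn' x hx.2⟩, fun hx => ?_⟩
    refine ⟨?_, ?_⟩
    · have := R₁.mul_mem (R₁.mul_mem (R₁.inv_mem hr) hx.1) hr
      simpa [mul_assoc] using this
    · have := hCn _ (inv_mem hn') _ hx.2
      simpa [mul_assoc] using this
  have hcop : (Nat.card A).Coprime (Nat.card R₁) := by
    obtain ⟨r, hr⟩ := IsPGroup.iff_card.1 (hQp.to_le (inf_le_left : R₁ ≤ Q))
    rw [Nat.card_zpowers, hr]
    exact ((((Fact.out : p.Prime).coprime_iff_not_dvd.2 (Nat.not_dvd_ordCompl (Fact.out : p.Prime) hod)).symm).pow_right r).coprime_dvd_left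
      (orderOf_dvd_of_pow_eq_one hd₁n)
  have hsolv : Group.IsSolvable A ∨ Group.IsSolvable R₁ := Or.inl inferInstance
  obtain ⟨c, ⟨hcR, hcA⟩, hac'⟩ := Solv.exists_centralizer_lift A R₁ hAR hcop hsolv (R₁ ⊓ C) inf_le_left hRC
    ((le_inf hAR hAC).trans inf_normalizer_le_normalizer_inf) a haR (fun g hg => by
      obtain ⟨j, rfl⟩ := (mem_powers_iff_mem_zpowers (x := d₁)).2 hg
      have hjR : d₁ ^ j ∈ normalizer (R₁ : Set L) := hAR (pow_mem (mem_zpowers d₁) j)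
      refine ⟨R₁.mul_mem ((mem_normalizer_iff.1 hjR a).1 haR) (R₁.inv_mem haR), ?_⟩
      show d₁ ^ j * a * (d₁ ^ j)⁻¹ * a⁻¹ ∈ C
      refine mem_centralizer_iff.2 fun x hx => ?_
      have hj : ∀ x ∈ W, d₁ ^ j * x * (d₁ ^ j)⁻¹ = x ^ ((-1 : ℤ) ^ j) := by
        clear hjR hg
        induction j with
        | zero => intro x _; simp
        | succ j ih =>
          intro x hx
          calc d₁ ^ (j + 1) * x * (d₁ ^ (j + 1))⁻¹ = d₁ * (d₁ ^ j * x * (d₁ ^ j)⁻¹) * d₁⁻¹ := by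
                rw [pow_succ']; group
            _ = _ := by rw [ih x hx, hd₁W _ (W.zpow_mem hx _), ← zpow_neg, pow_succ, mul_neg_one]
      set D := d₁ ^ j
      set s := (-1 : ℤ) ^ j
      have hx' : a⁻¹ * x * a ∈ W := (mem_normalizer_iff''.1 haW x).1 hx
      have h1 := hj x hx
      have h2 : D * (a⁻¹ * x * a) * D⁻¹ = a⁻¹ * (D * x * D⁻¹) * a := by
        rw [hj _ hx', h1]
        simpa using conj_zpow (a := a⁻¹) (b := x) (i := s)
      have hy : D⁻¹ * x * D ∈ W := (mem_normalizer_iff''.1 (pow_mem hd₁n' j) x).1 hx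
      have h3 : D * (a⁻¹ * (D⁻¹ * x * D) * a) * D⁻¹ = a⁻¹ * x * a := by
        rw [hj _ ((mem_normalizer_iff''.1 haW _).1 hy),
          show (a⁻¹ * (D⁻¹ * x * D) * a) ^ s = a⁻¹ * (D⁻¹ * x * D) ^ s * a by
            simpa using conj_zpow (a := a⁻¹) (b := D⁻¹ * x * D) (i := s), ← hj _ hy]
        group
      calc x * (D * a * D⁻¹ * a⁻¹) = D * a * (a⁻¹ * (D⁻¹ * x * D) * a) * D⁻¹ * a⁻¹ := by group
        _ = D * a * D⁻¹ * (D * (a⁻¹ * (D⁻¹ * x * D) * a) * D⁻¹) * a⁻¹ := by group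
        _ = D * a * D⁻¹ * a⁻¹ * x := by rw [h3]; group)
  have hcN : c ∈ normalizer (W : Set L) := by
    rw [show c = a * (a⁻¹ * c) by group]
    exact mul_mem haW (centralizer_le_normalizer (W : Set L) hac'.2)
  have hcC : c ∉ C := fun hcC => hac (by
    rw [show a = c * (a⁻¹ * c)⁻¹ by group]
    exact mul_mem hcC (inv_mem hac'.2))
  obtain ⟨k, hkW, hk1⟩ := hH l hla c hcR.2 hcN hcC
  have h1 : d₁ * c ^ p ^ k * d₁⁻¹ = c ^ p ^ k := by
    rw [mem_centralizer_iff.1 (pow_mem hcA (p ^ k)) d₁ (mem_zpowers d₁), mul_inv_cancel_right]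
  rw [hd₁W _ hkW] at h1
  refine hk1 ?_
  obtain ⟨m, hm⟩ := hWp ⟨_, hkW⟩
  have hsq : (c ^ p ^ k) ^ 2 = 1 := by rw [pow_two]; nth_rewrite 1 [← h1]; rw [inv_mul_cancel]
  have hm' : (c ^ p ^ k) ^ p ^ m = 1 := congrArg Subtype.val hm
  have hg := Nat.dvd_gcd (orderOf_dvd_of_pow_eq_one hsq) (orderOf_dvd_of_pow_eq_one hm')
  rw [Nat.Coprime.gcd_eq_one ((((Fact.out : p.Prime).coprime_iff_not_dvd.2 fun h =>
    hp2 ((Nat.prime_dvd_prime_iff_eq Fact.out Nat.prime_two).1 h)).symm).pow_right m), Nat.dvd_one,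
    orderOf_eq_one_iff] at hg
  exact hg

end Cfsg.Agent.Fusion.NoFlip
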