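import Mathlib
import Cfsg.Agent.Lib.Fusion.GroupSystem
import Cfsg.Agent.Lib.Fusion.Weakly
import Cfsg.Agent.Lib.Fusion.ModelBasic

/-!
The fusion system of a normal subgroup of a finite group is a normal subsystem of the fusion system
of the group.
-/

set_option autoImplicit false

namespace Cfsg.Agent.Fusion

open Cfsg Cfsg.FusionSystem

variable {G : Type*} [Group G] {p : ℕ}

theorem isRealizedBy_fusionSystemOfSubgroup {H T : Subgroup G} (hTH : T ≤ H) :
    (fusionSystemOfSubgroup H T hTH).IsRealizedBy (Subgroup.inclusion hTH) := by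
  refine ⟨Subgroup.inclusion_injective hTH, fun P hP φ hφ => ⟨?_, ?_⟩⟩
  · rintro ⟨-, -, g, hgH, hg⟩
    exact ⟨⟨g, hgH⟩, fun x => Subtype.ext (hg x)⟩
  · rintro ⟨g, hg⟩
    exact ⟨hP, hφ, g, g.2, fun x => congrArg Subtype.val (hg x)⟩

variable [Finite G] [Fact p.Prime] (S : Sylow p G) (H : Subgroup G) [hn : H.Normal]

theorem isMaxP_sylow_inf_normal : IsMaxP p ((S : Subgroup G) ⊓ H) H := by
  refine ⟨inf_le_right, isPGroup_inf_left S H, fun U hU hUp => ?_⟩
  obtain ⟨g, hg⟩ := exists_conj_le_sylow S hUp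
  rw [← card_map_conj g U]
  have hle : U.map (MulAut.conj g).toMonoidHom ≤ (S : Subgroup G) ⊓ H := by
    rintro _ ⟨u, hu, rfl⟩
    exact ⟨hg ⟨u, hu, rfl⟩, hn.conj_mem u (hU hu) g⟩
  exact Nat.card_le_card_of_injective (Subgroup.inclusion hle) (Subgroup.inclusion_injective _)

theorem isSaturated_normal_subsystem :
    (fusionSystemOfSubgroup H ((S : Subgroup G) ⊓ H) inf_le_right).IsSaturated p := by
  have h := isMaxP_sylow_inf_normal S H
  obtain ⟨T, hT⟩ := (exists_sylow_subgroupOf_iff h.1 h.2.1).2 h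
  exact realized_saturated (isRealizedBy_fusionSystemOfSubgroup inf_le_right)
    ⟨T, hT.trans (Subgroup.inclusion_range _).symm⟩

theorem sylow_le_normalizer_inf :
    (S : Subgroup G) ≤ Subgroup.normalizer (((S : Subgroup G) ⊓ H : Subgroup G) : Set G) := fun s hs =>
  Subgroup.mem_normalizer_fintype fun x hx =>
    ⟨mul_mem (mul_mem hs hx.1) (Subgroup.inv_mem _ hs), hn.conj_mem x hx.2 s⟩

/-- The Frattini argument for `H`. -/
theorem exists_normalizer_mul (g : G) :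
    ∃ n ∈ Subgroup.normalizer (((S : Subgroup G) ⊓ H : Subgroup G) : Set G), ∃ h ∈ H, g = n * h := by
  set T := (S : Subgroup G) ⊓ H
  have h := isMaxP_sylow_inf_normal S H
  have hgT : T.map (MulAut.conj g).toMonoidHom ≤ H := by
    rintro _ ⟨u, hu, rfl⟩
    exact hn.conj_mem u hu.2 g
  obtain ⟨k, hk, hle⟩ := h.exists_conj_le hgT (isPGroup_map_conj h.2.1 g)
  rw [map_conj_mul] at hle
  have hN : k * g ∈ Subgroup.normalizer (T : Set G) :=
    Subgroup.mem_normalizer_fintype fun x hx => hle ⟨x, hx, rfl⟩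
  exact ⟨k * g, hN, g⁻¹ * k⁻¹ * g, by simpa using hn.conj_mem _ (Subgroup.inv_mem _ hk) g⁻¹, by group⟩

/-- An element of `H` normalizing `S ⊓ H` can be changed by an element of `C_H(S ⊓ H)` to one that
also normalizes `C_S(S ⊓ H)`. -/
theorem exists_centralizer_adjust {h : G} (hhH : h ∈ H)
    (hhn : h ∈ Subgroup.normalizer (((S : Subgroup G) ⊓ H : Subgroup G) : Set G)) :
    ∃ c ∈ H, c ∈ Subgroup.centralizer (((S : Subgroup G) ⊓ H : Subgroup G) : Set G) ∧
      ∀ x ∈ centralizerIn (S : Subgroup G) ((S : Subgroup G) ⊓ H),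
        c * h * x * (c * h)⁻¹ ∈ centralizerIn (S : Subgroup G) ((S : Subgroup G) ⊓ H) := by
  set T := (S : Subgroup G) ⊓ H with hT
  set C := Subgroup.centralizer (T : Set G) with hC
  set Q := centralizerIn (S : Subgroup G) T with hQ
  have hTS : T ≤ S := inf_le_left
  have hSN : (S : Subgroup G) ≤ Subgroup.normalizer (T : Set G) := sylow_le_normalizer_inf S H
  have hNI : normalizerIn (S : Subgroup G) T = S := inf_eq_left.2 hSN
  have hmaxN : IsMaxP p (normalizerIn (S : Subgroup G) T) (Subgroup.normalizer (T : Set G)) := by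
    rw [hNI]
    refine ⟨hSN, S.isPGroup', fun U _ hU => ?_⟩
    obtain ⟨g, hg⟩ := exists_conj_le_sylow S hU
    rw [← card_map_conj g U]
    exact Nat.card_le_card_of_injective (Subgroup.inclusion hg) (Subgroup.inclusion_injective _)
  have hmaxQ : IsMaxP p Q C := hmaxN.centralizer S
  set M := Q ⊔ H ⊓ C with hM
  have hMC : M ≤ C := sup_le inf_le_right inf_le_right
  have hmaxM : IsMaxP p Q M :=
    ⟨le_sup_left, hmaxQ.2.1, fun U hU hUp => hmaxQ.2.2 U (hU.trans hMC) hUp⟩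
  have hQh : Q.map (MulAut.conj h).toMonoidHom ≤ M := by
    rintro _ ⟨x, hx, rfl⟩
    have hxC : h * x * h⁻¹ ∈ C := by
      refine Subgroup.mem_centralizer_iff.2 fun t ht => ?_
      have ht' : h⁻¹ * t * h ∈ T := by
        simpa using conj_mem_of_mem_normalizer (Subgroup.inv_mem _ hhn) ht
      have := Subgroup.mem_centralizer_iff.1 hx.2 _ ht'
      calc t * (h * x * h⁻¹) = h * ((h⁻¹ * t * h) * x) * h⁻¹ := by group
        _ = h * (x * (h⁻¹ * t * h)) * h⁻¹ := by rw [this]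
        _ = h * x * h⁻¹ * t := by group
    have hH : x⁻¹ * (h * x * h⁻¹) ∈ H := by
      have h1 : x⁻¹ * h * x ∈ H := by simpa using hn.conj_mem h hhH x⁻¹
      simpa [mul_assoc] using mul_mem h1 (Subgroup.inv_mem _ hhH)
    show h * x * h⁻¹ ∈ M
    rw [← mul_inv_cancel_left x (h * x * h⁻¹)]
    exact Subgroup.mul_mem_sup hx ⟨hH, mul_mem (Subgroup.inv_mem _ hx.2) hxC⟩
  obtain ⟨k, hk, hle⟩ := hmaxM.exists_conj_le hQh (isPGroup_map_conj hmaxQ.2.1 h)
  rw [map_conj_mul] at hle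
  have hnor : Q ≤ Subgroup.normalizer ((H ⊓ C : Subgroup G) : Set G) := fun x hx =>
    Subgroup.mem_normalizer_fintype fun y hy =>
      ⟨hn.conj_mem y hy.1 x, mul_mem (mul_mem hx.2 hy.2) (Subgroup.inv_mem _ hx.2)⟩
  obtain ⟨q, hq, c, hc, rfl⟩ : ∃ q ∈ Q, ∃ c ∈ H ⊓ C, q * c = k := by
    have hk' : k ∈ ((Q ⊔ H ⊓ C : Subgroup G) : Set G) := hk
    rw [Subgroup.coe_mul_of_left_le_normalizer_right Q (H ⊓ C) hnor] at hk'
    exact hk'
  refine ⟨c, hc.1, hc.2, fun x hx => ?_⟩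
  have h2 := hle ⟨x, hx, rfl⟩
  have h3 : q⁻¹ * (q * c * h * x * (q * c * h)⁻¹) * q ∈ Q :=
    mul_mem (mul_mem (Subgroup.inv_mem _ hq) h2) hq
  have e : q⁻¹ * (q * c * h * x * (q * c * h)⁻¹) * q = c * h * x * (c * h)⁻¹ := by group
  rwa [e] at h3

/-- `F_{S ⊓ H}(H)` is normal in `F_S(G)` for a normal subgroup `H`. -/
theorem isNormalIn_normal_subsystem :
    (fusionSystemOfSubgroup H ((S : Subgroup G) ⊓ H) inf_le_right).IsNormalIn
      (groupFusionSystem (S : Subgroup G)) p := by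
  set T := (S : Subgroup G) ⊓ H with hT
  have hTS : T ≤ S := inf_le_left
  refine ⟨⟨isSaturated_normal_subsystem S H, isSaturated_groupFusionSystem S, ?_, ?_, ?_, ?_⟩, ?_⟩
  · rintro P φ ⟨hP, hφ, g, -, hg⟩
    exact ⟨hP.trans hTS, fun x => hTS (hφ x), g, hg⟩
  · refine ⟨hTS, fun R hR φ hφ x => ⟨hφ.2.1 x, ?_⟩⟩
    obtain ⟨-, -, g, hg⟩ := hφ
    rw [hg]
    exact hn.conj_mem _ (hR x.2).2 g
  · intro P hPT φ hφ α hα
    obtain ⟨-, hφT, k, hkH, hk⟩ := hφ
    rw [autGroup_groupFusionSystem hTS] at hα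
    obtain ⟨n, -, hnn, hx⟩ := mem_autInducedBy.1 hα
    refine ⟨conjHom _ (n * k * n⁻¹), ⟨?_, ?_, n * k * n⁻¹, hn.conj_mem k hkH n, fun _ => rfl⟩, ?_⟩
    · rintro _ ⟨y, -, rfl⟩
      exact (α y).2
    · rintro ⟨_, y, hy, rfl⟩
      show n * k * n⁻¹ * ((α y : T) : G) * (n * k * n⁻¹)⁻¹ ∈ T
      rw [hx]
      have := conj_mem_of_mem_normalizer hnn (hφT ⟨y, hy⟩)
      rw [hk] at this
      have e : n * k * n⁻¹ * (n * (y : G) * n⁻¹) * (n * k * n⁻¹)⁻¹ = n * (k * y * k⁻¹) * n⁻¹ := by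
        group
      rw [e]
      exact this
    · intro x hφx hαx
      show n * k * n⁻¹ * ((α ⟨x, hPT x.2⟩ : T) : G) * (n * k * n⁻¹)⁻¹ = _
      rw [hx, hx]
      show _ = n * φ x * n⁻¹
      rw [hk]
      group
  · rintro P hPT φ ⟨-, hφS, g, hg⟩
    obtain ⟨n, hnn, k, hk, rfl⟩ := exists_normalizer_mul S H g
    have hmem : ∀ x : P, k * (x : G) * k⁻¹ ∈ T := by
      intro x
      have h1 : φ x ∈ T := ⟨hφS x, by rw [hg]; exact hn.conj_mem _ (hPT x.2).2 _⟩
      have h2 := conj_mem_of_mem_normalizer (Subgroup.inv_mem _ hnn) h1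
      rw [hg] at h2
      have e : n⁻¹ * (n * k * (x : G) * (n * k)⁻¹) * n⁻¹⁻¹ = k * x * k⁻¹ := by group
      rwa [e] at h2
    refine ⟨T.normalizerMonoidHom ⟨n, hnn⟩, ?_, conjHom P k, ⟨hPT, hmem, k, hk, fun _ => rfl⟩,
      fun x hx => ?_⟩
    · rw [autGroup_groupFusionSystem hTS]
      exact mem_autInducedBy.2 ⟨n, trivial, hnn, fun _ => rfl⟩
    · show φ x = n * (k * (x : G) * k⁻¹) * n⁻¹
      rw [hg]
      group
  · intro α hα
    obtain ⟨φ, ⟨-, hφT, k, hkH, hk⟩, hfx⟩ := isMor_of_mem_autGroup (le_refl T) hα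
    have hx : ∀ x : T, ((α x : T) : G) = k * x * k⁻¹ := fun x => by
      rw [← autFun_coe α x, ← hfx x, hk]
    have hkn : k ∈ Subgroup.normalizer (T : Set G) :=
      Subgroup.mem_normalizer_fintype fun x hxT => hx ⟨x, hxT⟩ ▸ (α ⟨x, hxT⟩).2
    obtain ⟨c, hcH, hcC, hQ⟩ := exists_centralizer_adjust S H hkH hkn
    set Q := centralizerIn (S : Subgroup G) T with hQdef
    have hcx : ∀ x ∈ T, c * k * x * (c * k)⁻¹ = k * x * k⁻¹ := by
      intro x hxT
      have := Subgroup.mem_centralizer_iff.1 hcC _ (conj_mem_of_mem_normalizer hkn hxT)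
      calc c * k * x * (c * k)⁻¹ = c * (k * x * k⁻¹) * c⁻¹ := by group
        _ = (k * x * k⁻¹) * c * c⁻¹ := by rw [this]
        _ = k * x * k⁻¹ := by group
    have hU : T ⊔ Q ≤ S := sup_le hTS inf_le_left
    have hcn : c * k ∈ Subgroup.normalizer ((T ⊔ Q : Subgroup G) : Set G) := by
      refine Subgroup.mem_normalizer_fintype fun x hxU => ?_
      have hle : (T ⊔ Q).map (MulAut.conj (c * k)).toMonoidHom ≤ T ⊔ Q := by
        rw [Subgroup.map_sup]
        refine sup_le_sup ?_ ?_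
        · rintro _ ⟨y, hy, rfl⟩
          show c * k * y * (c * k)⁻¹ ∈ T
          rw [hcx y hy]
          exact conj_mem_of_mem_normalizer hkn hy
        · rintro _ ⟨y, hy, rfl⟩
          exact hQ y hy
      exact hle ⟨x, hxU, rfl⟩
    refine ⟨(T ⊔ Q).normalizerMonoidHom ⟨c * k, hcn⟩, ?_, fun x => ?_, fun y hy => ?_⟩
    · rw [autGroup_groupFusionSystem hU]
      exact mem_autInducedBy.2 ⟨c * k, trivial, hcn, fun _ => rfl⟩
    · show c * k * (x : G) * (c * k)⁻¹ = _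
      rw [hcx x x.2, hx]
    · show (y : G)⁻¹ * (c * k * (y : G) * (c * k)⁻¹) ∈ T ⊓ Subgroup.centralizer (T : Set G)
      have h1 := hQ y hy
      have hH : (y : G)⁻¹ * (c * k * (y : G) * (c * k)⁻¹) ∈ H := by
        have h2 : (y : G)⁻¹ * (c * k) * (y : G) ∈ H := by
          simpa using hn.conj_mem _ (mul_mem hcH hkH) (y : G)⁻¹
        simpa [mul_assoc] using mul_mem h2 (Subgroup.inv_mem _ (mul_mem hcH hkH))
      exact ⟨⟨mul_mem (Subgroup.inv_mem _ hy.1) h1.1, hH⟩, mul_mem (Subgroup.inv_mem _ hy.2) h1.2⟩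

end Cfsg.Agent.Fusion
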