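import Mathlib
import Cfsg.Agent.Lib.Fusion.SubSystem
import Cfsg.Agent.Lib.Fusion.Alperin
import Cfsg.Agent.Lib.Fusion.FactorHyperfocal
import Cfsg.Agent.Lib.Solv.NormalPComplement

/-!
A saturated subsystem over a subgroup of `U` lies in every subsystem over `U` of p-power index.
-/

set_option autoImplicit false

namespace Cfsg.Agent.Fusion.PPowerIndex

open Cfsg Cfsg.FusionSystem Cfsg.Agent.Fusion

variable {Ω : Type*} [Group Ω] {S T U : Subgroup Ω} [Finite S] {F : FusionSystem S}
  {E : FusionSystem T} {F₀ : FusionSystem U} {p : ℕ} [Fact p.Prime]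

theorem subsystem_of_le (hS : IsPGroup p S) (hTS : T ≤ S) (hTU : T ≤ U) (hE : E.IsSaturated p)
    (hEF : E.IsSubsystemOf F) (hidx : F₀.HasPPowerIndexIn F p) : E.IsSubsystemOf F₀ := by
  have : Finite T := finite_of_le hTS
  have hT : IsPGroup p T := hS.to_le hTS
  let c : MapCond E T :=
    { C := fun P f => IsMor F₀ P f
      le := le_rfl
      congr := fun _ h he => h.congr he
      conj := fun hP ha => isMor_conj (hP.trans hTU) (hTU ha)
      comp := fun _ hc _ hc' h => hc.comp hc' h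
      symm := fun {P R f g} hi hc hg hgl hgr => by
        obtain ⟨g', hg', hgl', -⟩ := (IsIso.exists_symm (F := F₀) ⟨hc, hi.2⟩)
        refine hg'.1.congr fun y hy => ?_
        obtain ⟨x, hx, rfl⟩ := hi.exists_apply hy
        rw [hgl x hx, hgl' x hx] }
  have hle : E ≤ c.system := by
    refine alperin_induction hT hE fun P hP α hα _ => ?_
    refine c.isMor_system.2 ⟨isMor_of_mem_autGroup hP.1 hα, ?_⟩
    show IsMor F₀ P (autFun α)
    refine isMor_of_mem_autGroup (hP.1.trans hTU) ?_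
    have := finite_autGroup (F := E) hP.1
    obtain ⟨R, hR⟩ := (fullyNormalized_receptive hT hE hP).1.2
    have hsub : E.autGroup P ≤ F.autGroup P := Subgroup.closure_mono fun β hβ => hEF P hβ
    have htop := Solv.sup_pResidual_eq_top R
    suffices h : (⊤ : Subgroup (E.autGroup P)).map (E.autGroup P).subtype ≤ F₀.autGroup P from
      h ⟨⟨α, hα⟩, Subgroup.mem_top _, rfl⟩
    rw [← htop, Subgroup.map_sup]
    refine sup_le ?_ (le_trans ?_ (hidx.2.2 P (hP.1.trans hTU)))
    · rw [hR]
      rintro _ ⟨β, hβ, rfl⟩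
      obtain ⟨a, ha, -, hx⟩ := mem_autInducedBy.1 hβ
      exact mem_autGroup_of_isMor (isMor_conj (hP.1.trans hTU) (hTU ha)) hx
    · rintro _ ⟨β, hβ, rfl⟩
      exact ⟨Subgroup.inclusion hsub β, map_pResidual_le _ ⟨β, hβ, rfl⟩, rfl⟩
  intro P φ hφ
  obtain ⟨-, hc⟩ := c.isMor_system.1 (isMor_extFun (hle P hφ))
  exact mem_hom_of_isMor hc fun x => (extFun_coe φ x).symm

end Cfsg.Agent.Fusion.PPowerIndex
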