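import Mathlib
import Cfsg.Agent.Lib.Fusion.SubSystem
import Cfsg.Agent.Lib.Fusion.Normal
import Cfsg.Agent.Lib.Fusion.Hyperfocal
import Cfsg.Agent.Lib.Fusion.FactorHyperfocal

/-!
A saturated subsystem of p-power index over a normal subgroup is normal.
-/

set_option autoImplicit false

namespace Cfsg.Agent.Fusion.PPowerIndex

open Cfsg Cfsg.FusionSystem Cfsg.Agent.Fusion

variable {Ω : Type*} [Group Ω] {S T P Q : Subgroup Ω} [Finite S] {F : FusionSystem S}
  {E : FusionSystem T} {p : ℕ} [Fact p.Prime] {f g : Ω → Ω}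

theorem le_normalizer_T (hTS : T ≤ S) (hTn : (T.subgroupOf S).Normal) :
    S ≤ Subgroup.normalizer (T : Set Ω) := fun a ha =>
  mem_normalizer_of_conj_mem hTS fun x hx =>
    (Subgroup.mem_subgroupOf.1 (hTn.conj_mem ⟨x, hTS hx⟩ hx ⟨a, ha⟩) :)

theorem stronglyClosed (hS : IsPGroup p S) (hF : F.IsSaturated p) (hTS : T ≤ S)
    (hn : S ≤ Subgroup.normalizer (T : Set Ω)) (hT : F.hyperfocalSubgroup p ≤ T) :
    F.StronglyClosed T := by
  let c : MapCond F :=
    { C := fun P f => ∀ x ∈ P, x ∈ T ↔ f x ∈ T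
      le := le_rfl
      congr := fun _ h he x hx => (he x hx).symm ▸ h x hx
      conj := fun {P a} _ ha x _ => Subgroup.mem_normalizer_iff.1 (hn ha) x
      comp := fun {P Q f g} _ h1 _ h2 hm x hx => (h1 x hx).trans (h2 _ (hm x hx))
      symm := fun {P R f g} _ h hg _ hfg y hy => by
        have h1 := h _ (hg.apply_mem hy)
        rw [hfg y hy] at h1
        exact h1.symm }
  have hle : F ≤ c.system := alperin_induction hS hF fun P hP α hα _ => by
    refine c.isMor_system.2 ⟨isMor_of_mem_autGroup hP.1 hα, fun x hx => ?_⟩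
    obtain ⟨a, ha, h⟩ := exists_conj_mod_hyperfocal hS hF hP hα
    have e : autFun α x = a * x * a⁻¹ * ((a * x * a⁻¹)⁻¹ * autFun α x) := by group
    rw [e, T.mul_mem_cancel_right (hT (h x hx))]
    exact Subgroup.mem_normalizer_iff.1 (hn ha) x
  exact stronglyClosed_of_apply_mem hTS fun R f hR hf x hx =>
    ((c.isMor_system.1 (le_iff_isMor.1 hle R f hf)).2 x hx).1 (hR hx)

/-- The image of a subgroup of `T` under an automorphism of `T`. -/
def transport (β : MulAut T) (P : Subgroup Ω) : Subgroup Ω :=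
  (P.subgroupOf T).map (T.subtype.comp β.toMonoidHom)

omit [Finite S] in
theorem mem_transport {β : MulAut T} {y : Ω} :
    y ∈ transport β P ↔ y ∈ T ∧ autFun β⁻¹ y ∈ P := by
  constructor
  · rintro ⟨x, hx, rfl⟩
    refine ⟨(β x).2, ?_⟩
    show autFun β⁻¹ ((β x : T) : Ω) ∈ P
    rw [autFun_coe, MulAut.inv_apply_self]
    exact hx
  · rintro ⟨hy, h⟩
    rw [autFun_apply _ hy] at h
    exact ⟨β⁻¹ ⟨y, hy⟩, h, by simp⟩

omit [Finite S] in
theorem autFun_inv_apply (β : MulAut T) {x : Ω} (hx : x ∈ T) : autFun β⁻¹ (autFun β x) = x := by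
  rw [← autFun_mul _ _ hx, inv_mul_cancel, autFun_one hx]

omit [Finite S] in
theorem autFun_apply_inv (β : MulAut T) {x : Ω} (hx : x ∈ T) : autFun β (autFun β⁻¹ x) = x := by
  rw [← autFun_mul _ _ hx, mul_inv_cancel, autFun_one hx]

omit [Finite S] in
theorem apply_mem_transport {β : MulAut T} {x : Ω} (hP : P ≤ T) (hx : x ∈ P) :
    autFun β x ∈ transport β P :=
  mem_transport.2 ⟨autFun_mem _ (hP hx), by rw [autFun_inv_apply β (hP hx)]; exact hx⟩

/-- The automorphisms of `T` in `F` act on `E`. -/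
theorem transport_isMor (hS : IsPGroup p S) (hTS : T ≤ S) (hE : E.IsSaturated p)
    (hidx : E.HasPPowerIndexIn F p) {β : MulAut T} (hβ : β ∈ F.autGroup T) (hf : IsMor E P f) :
    IsMor E (transport β P) (fun y => autFun β (f (autFun β⁻¹ y))) := by
  have := finite_of_le hTS
  have hT : IsPGroup p T := hS.to_le hTS
  let c : MapCond E T :=
    { C := fun P f => IsMor E (transport β P) (fun y => autFun β (f (autFun β⁻¹ y)))
      le := le_rfl
      congr := fun _ h he => h.congr fun y hy => by rw [he _ (mem_transport.1 hy).2]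
      conj := fun {P a} hP ha => (isMor_conj (fun y hy => (mem_transport.1 hy).1)
        (autFun_mem β ha)).congr fun y hy => by
          obtain ⟨hyT, hy'⟩ := mem_transport.1 hy
          have h1 : autFun β (a * autFun β⁻¹ y * a⁻¹) = autFun β a * autFun β (autFun β⁻¹ y) * (autFun β a)⁻¹ := by
            rw [autFun_apply β (T.mul_mem (T.mul_mem ha (hP hy')) (T.inv_mem ha)), autFun_apply β ha,
              autFun_apply β (hP hy'), show (⟨a * autFun β⁻¹ y * a⁻¹, T.mul_mem (T.mul_mem ha (hP hy'))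
              (T.inv_mem ha)⟩ : T) = ⟨a, ha⟩ * ⟨autFun β⁻¹ y, hP hy'⟩ * ⟨a, ha⟩⁻¹ from rfl]
            simp only [map_mul, map_inv, Subgroup.coe_mul, Subgroup.coe_inv]
          rw [autFun_apply_inv β hyT] at h1
          exact h1
      comp := fun {P Q f g} hfm hc hgm hc' hm => by
        refine (hc.comp hc' fun y hy => ?_).congr fun y hy => ?_
        · exact apply_mem_transport hgm.le (hm _ (mem_transport.1 hy).2)
        · show _ = autFun β (g (autFun β⁻¹ (autFun β (f (autFun β⁻¹ y)))))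
          rw [autFun_inv_apply β (hfm.mem (mem_transport.1 hy).2)]
          rfl
      symm := fun {P R f g} hi hc hg hgl hgr => by
        have himg : hc.image _ le_rfl = transport β R := by
          ext z
          constructor
          · rintro ⟨y, hy, rfl⟩
            exact apply_mem_transport hi.le' (hi.apply_mem (mem_transport.1 hy).2)
          · intro hz
            obtain ⟨hzT, hz'⟩ := mem_transport.1 hz
            refine ⟨autFun β (g (autFun β⁻¹ z)), apply_mem_transport hi.le (hg.apply_mem hz'), ?_⟩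
            show autFun β (f (autFun β⁻¹ (autFun β (g (autFun β⁻¹ z))))) = z
            rw [autFun_inv_apply β (hi.le (hg.apply_mem hz')), hgr _ hz', autFun_apply_inv β hzT]
        obtain ⟨k, hk, hkl, -⟩ := hc.isIso.exists_symm
        rw [himg] at hk
        refine hk.1.congr fun z hz => ?_
        obtain ⟨hzT, hz'⟩ := mem_transport.1 hz
        have hy : autFun β (g (autFun β⁻¹ z)) ∈ transport β P := apply_mem_transport hi.le (hg.apply_mem hz')
        have h1 := hkl _ hy
        rw [autFun_inv_apply β (hi.le (hg.apply_mem hz')), hgr _ hz', autFun_apply_inv β hzT] at h1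
        exact h1.symm }
  have hle : E ≤ c.system := by
    refine alperin_induction hT hE fun P hP α hα _ => ?_
    refine c.isMor_system.2 ⟨isMor_of_mem_autGroup hP.1 hα, ?_⟩
    show IsMor E (transport β P) (fun y => autFun β (autFun α (autFun β⁻¹ y)))
    have hPT : P ≤ T := hP.1
    have hPS : P ≤ S := hPT.trans hTS
    set P' := transport β P
    have hP'T : P' ≤ T := fun y hy => (mem_transport.1 hy).1
    have hu : IsIso F P P' (autFun β) := ⟨(isMor_of_mem_autGroup hTS hβ).restrict hPT, fun y =>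
      ⟨fun hy => ⟨_, (mem_transport.1 hy).2, autFun_apply_inv β (hP'T hy)⟩,
        fun ⟨x, hx, e⟩ => e ▸ apply_mem_transport hPT hx⟩⟩
    set e := MulAut.congr hu.toMulEquiv
    have hsymm : ∀ y : P', ((hu.toMulEquiv.symm y : P) : Ω) = autFun β⁻¹ y := fun y => by
      have h1 := hu.toMulEquiv_symm_apply y
      have h2 := congrArg (autFun β⁻¹) h1
      rwa [autFun_inv_apply β (hPT (hu.toMulEquiv.symm y).2)] at h2
    suffices h : e α ∈ E.autGroup P' by
      refine (isMor_of_mem_autGroup hP'T h).congr fun y hy => ?_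
      rw [autFun_apply _ hy, congr_apply, hu.toMulEquiv_apply, ← autFun_coe α,
        hsymm]
    have := finite_autGroup (F := E) hPT
    have := finite_autGroup (F := F) hPS
    obtain ⟨R, hR⟩ := (fullyNormalized_receptive hT hE hP).1.2
    have hsub : E.autGroup P ≤ F.autGroup P := Subgroup.closure_mono fun γ hγ => hidx.1 P hγ
    suffices hgen : ((⊤ : Subgroup (E.autGroup P)).map (E.autGroup P).subtype).map e.toMonoidHom
        ≤ E.autGroup P' from hgen ⟨α, ⟨⟨α, hα⟩, Subgroup.mem_top _, rfl⟩, rfl⟩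
    rw [← Solv.sup_pResidual_eq_top R, Subgroup.map_sup, Subgroup.map_sup]
    refine sup_le ?_ ?_
    · rw [hR]
      rintro _ ⟨_, ⟨γ, hγ, rfl⟩, rfl⟩
      obtain ⟨a, ha, han, hx⟩ := mem_autInducedBy.1 (Subgroup.mem_subgroupOf.1 hγ)
      refine mem_autGroup_of_isMor (isMor_conj hP'T (autFun_mem β ha)) fun y => ?_
      show ((hu.toMulEquiv ((γ : MulAut P) (hu.toMulEquiv.symm y)) : P') : Ω) = _
      rw [hu.toMulEquiv_apply, hx, autFun_apply β (T.mul_mem (T.mul_mem ha (hPT (hu.toMulEquiv.symm y).2))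
        (T.inv_mem ha)), autFun_apply β ha]
      have e1 : autFun β⁻¹ (y : Ω) ∈ T := autFun_mem _ (hP'T y.2)
      conv_rhs => rw [← autFun_apply_inv β (hP'T y.2), autFun_apply β e1]
      rw [show (⟨a * ((hu.toMulEquiv.symm y : P) : Ω) * a⁻¹, T.mul_mem (T.mul_mem ha (hPT (hu.toMulEquiv.symm y).2))
        (T.inv_mem ha)⟩ : T) = ⟨a, ha⟩ * ⟨_, e1⟩ * ⟨a, ha⟩⁻¹ from Subtype.ext (by simp [hsymm])]
      simp only [map_mul, map_inv, Subgroup.coe_mul, Subgroup.coe_inv]
    · rintro _ ⟨_, ⟨γ, hγ, rfl⟩, rfl⟩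
      have hmem : ∀ δ : F.autGroup P, e (δ : MulAut P) ∈ F.autGroup P' := fun δ => by
        rw [← autGroup_map_congr hu]
        exact ⟨δ, δ.2, rfl⟩
      let ρ : F.autGroup P →* F.autGroup P' := (e.toMonoidHom.comp (F.autGroup P).subtype).codRestrict _ hmem
      refine hidx.2.2 P' hP'T ⟨ρ (Subgroup.inclusion hsub γ), ?_, rfl⟩
      exact map_pResidual_le ρ ⟨_, map_pResidual_le _ ⟨γ, hγ, rfl⟩, rfl⟩
  exact (c.isMor_system.1 (le_iff_isMor.1 hle _ _ hf)).2

/-- The maps of `F` factor through `E` and an automorphism of `T`. -/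
def Frat (F : FusionSystem S) (E : FusionSystem T) (P : Subgroup Ω) (f : Ω → Ω) : Prop :=
  ∃ α ∈ F.autGroup T, ∃ g, IsMor E (P ⊓ T) g ∧ ∀ x ∈ P ⊓ T, f x = autFun α (g x)

theorem frattini (hS : IsPGroup p S) (hF : F.IsSaturated p) (hTS : T ≤ S)
    (hsc : F.StronglyClosed T) (hE : E.IsSaturated p) (hidx : E.HasPPowerIndexIn F p)
    (hf : IsMor F P f) : Frat F E P f := by
  have hn := le_normalizer_of_stronglyClosed hsc
  let c : MapCond F :=
    { C := fun P f => Frat F E P f
      le := le_rfl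
      congr := fun _ ⟨α, hα, g, hg, hgx⟩ he => ⟨α, hα, g, hg, fun x hx => (he x hx.1).trans (hgx x hx)⟩
      conj := fun {P a} hP ha => by
        obtain ⟨hi, -⟩ : IsIso F T T (fun x => a * x * a⁻¹) ∧ True :=
          ⟨(isMor_conj hTS ha).isIso_self fun x hx => conj_mem_of_mem_normalizer (hn ha) hx, trivial⟩
        exact ⟨autOf hi, autOf_mem hi, id, isMor_id inf_le_right, fun x hx => by
          rw [id, autFun_apply _ hx.2, autOf_apply]⟩
      comp := fun {P Q f g} hfm ⟨α, hα, u, hu, hux⟩ hgm ⟨β, hβ, v, hv, hvx⟩ hm => by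
        have hk := transport_isMor hS hTS hE hidx ((F.autGroup T).inv_mem hα) hv
        have huQ : ∀ x ∈ P ⊓ T, f x ∈ Q ⊓ T := fun x hx =>
          ⟨hm x hx.1, stronglyClosed_apply hsc hfm hx.1 hx.2⟩
        have hum : ∀ x ∈ P ⊓ T, u x ∈ transport α⁻¹ (Q ⊓ T) := fun x hx =>
          mem_transport.2 ⟨hu.mem hx, by rw [inv_inv, ← hux x hx]; exact huQ x hx⟩
        refine ⟨β * α, (F.autGroup T).mul_mem hβ hα, _, hu.comp hk hum, fun x hx => ?_⟩
        show g (f x) = autFun (β * α) (autFun α⁻¹ (v (autFun α⁻¹⁻¹ (u x))))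
        rw [inv_inv, ← hux x hx, autFun_mul _ _ (autFun_mem _ (hv.mem (huQ x hx))),
          autFun_apply_inv α (hv.mem (huQ x hx)), hvx _ (huQ x hx)]
      symm := fun {P R f g} hi ⟨α, hα, u, hu, hux⟩ hg hgl hgr => by
        obtain ⟨ui, hui, huil, -⟩ := hu.isIso.exists_symm
        have hk := transport_isMor hS hTS hE hidx hα hui.1
        have hsub : R ⊓ T ≤ transport α (hu.image _ le_rfl) := fun y hy => by
          have hx : g y ∈ P ⊓ T := ⟨hg.apply_mem hy.1, stronglyClosed_apply hsc hg.1 hy.1 hy.2⟩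
          exact mem_transport.2 ⟨hy.2, g y, hx, ((congrArg (autFun α⁻¹)
            ((hgr y hy.1).symm.trans (hux _ hx))).trans (autFun_inv_apply α (hu.mem hx))).symm⟩
        refine ⟨α⁻¹, (F.autGroup T).inv_mem hα, _, hk.restrict hsub, fun y hy => ?_⟩
        have hx : g y ∈ P ⊓ T := ⟨hg.apply_mem hy.1, stronglyClosed_apply hsc hg.1 hy.1 hy.2⟩
        show g y = autFun α⁻¹ (autFun α (ui (autFun α⁻¹ y)))
        have e : autFun α⁻¹ y = u (g y) := (congrArg (autFun α⁻¹)
          ((hgr y hy.1).symm.trans (hux _ hx))).trans (autFun_inv_apply α (hu.mem hx))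
        rw [e, huil _ hx, autFun_inv_apply α hx.2] }
  have hle : F ≤ c.system := alperin_induction hS hF fun P hP α hα _ => by
    have hPS := hP.1
    have := finite_autGroup (F := F) hPS
    obtain ⟨R, hR⟩ := (fullyNormalized_receptive hS hF hP).1.2
    obtain ⟨k, hk, b, hb, hkb⟩ := Subgroup.mem_sup_of_normal_left.1
      (show (⟨α, hα⟩ : F.autGroup P) ∈ pResidual p _ ⊔ (R : Subgroup (F.autGroup P)) by
        rw [sup_comm, Solv.sup_pResidual_eq_top]; exact Subgroup.mem_top _)
    rw [hR] at hb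
    obtain ⟨a, ha, han, hax⟩ := mem_autInducedBy.1 hb
    have hbm : IsMor c.system P (autFun (b : MulAut P)) := by
      refine (c.isMor_system.2 ⟨isMor_conj hPS ha, c.conj hPS ha⟩).congr fun x hx => ?_
      rw [autFun_apply _ hx]
      exact hax ⟨x, hx⟩
    have hkm : IsMor c.system P (autFun (k : MulAut P)) := by
      refine c.isMor_system.2 ⟨isMor_of_mem_autGroup hPS k.2, 1, (F.autGroup T).one_mem, ?_⟩
      have hm : ∀ (δ : F.autGroup P), IsIso F (P ⊓ T) (P ⊓ T) (autFun (δ : MulAut P)) := fun δ =>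
        ((isMor_of_mem_autGroup hPS δ.2).restrict inf_le_left).isIso_self fun x hx =>
          ⟨autFun_mem _ hx.1, stronglyClosed_apply hsc (isMor_of_mem_autGroup hPS δ.2) hx.1 hx.2⟩
      let ρ : F.autGroup P →* F.autGroup (P ⊓ T) := MonoidHom.mk'
        (fun δ => ⟨autOf (hm δ), autOf_mem (hm δ)⟩) fun δ ε => Subtype.ext <| MulEquiv.ext fun x =>
          Subtype.ext (by
            show autFun ((δ * ε : F.autGroup P) : MulAut P) x = _
            rw [Subgroup.coe_mul, autFun_mul _ _ (inf_le_left (a := P) x.2)]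
            rfl)
      have hres : (ρ k : MulAut ↥(P ⊓ T)) ∈ E.autGroup (P ⊓ T) :=
        hidx.2.2 _ inf_le_right ⟨_, map_pResidual_le ρ ⟨k, hk, rfl⟩, rfl⟩
      refine ⟨_, isMor_of_mem_autGroup inf_le_right hres, fun x hx => ?_⟩
      rw [autFun_one (autFun_mem _ hx).2, autFun_apply _ hx]
      rfl
    refine (hbm.comp hkm fun x hx => autFun_mem _ hx).congr fun x hx => ?_
    show autFun α x = autFun (k : MulAut P) (autFun (b : MulAut P) x)
    rw [← autFun_mul _ _ hx, ← Subgroup.coe_mul, hkb]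
  exact (c.isMor_system.1 (le_iff_isMor.1 hle _ _ hf)).2

theorem extension (hS : IsPGroup p S) (hF : F.IsSaturated p) (hsc : F.StronglyClosed T)
    (hE : E.IsSaturated p) (hidx : E.HasPPowerIndexIn F p) {α : MulAut T} (hα : α ∈ E.autGroup T) :
    ∃ β ∈ F.autGroup (T ⊔ centralizerIn S T),
      (∀ x : T, ((β (Subgroup.inclusion le_sup_left x) : ↥(T ⊔ centralizerIn S T)) : Ω) = ((α x : T) : Ω)) ∧
      ∀ c : ↥(T ⊔ centralizerIn S T), (c : Ω) ∈ centralizerIn S T →
        (c : Ω)⁻¹ * ((β c : ↥(T ⊔ centralizerIn S T)) : Ω) ∈ T ⊓ Subgroup.centralizer (T : Set Ω) := by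
  have hTS := hsc.1
  have := finite_of_le hTS
  have hT : IsPGroup p T := hS.to_le hTS
  set U := T ⊔ centralizerIn S T with hU
  have hUS : U ≤ S := sup_le hTS inf_le_left
  let K : Submonoid (MulAut T) :=
    { carrier := {α | ∃ β ∈ F.autGroup U,
        (∀ x : T, ((β (Subgroup.inclusion le_sup_left x) : U) : Ω) = ((α x : T) : Ω)) ∧
        ∀ c : U, (c : Ω) ∈ centralizerIn S T →
          (c : Ω)⁻¹ * ((β c : U) : Ω) ∈ T ⊓ Subgroup.centralizer (T : Set Ω)}
      one_mem' := ⟨1, (F.autGroup U).one_mem, fun _ => rfl, fun c _ => by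
        rw [MulAut.one_apply, inv_mul_cancel]; exact one_mem _⟩
      mul_mem' := by
        rintro α₁ α₂ ⟨β₁, h1, e1, z1⟩ ⟨β₂, h2, e2, z2⟩
        refine ⟨β₁ * β₂, (F.autGroup U).mul_mem h1 h2, fun x => ?_, fun c hc => ?_⟩
        · rw [MulAut.mul_apply, MulAut.mul_apply, ← e1]
          exact congrArg (fun z : U => ((β₁ z : U) : Ω)) (Subtype.ext (e2 x))
        · have hz := z2 c hc
          have hcC : ((β₂ c : U) : Ω) ∈ centralizerIn S T := by
            refine ⟨hUS (β₂ c).2, ?_⟩
            have := Subgroup.mul_mem _ hc.2 hz.2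
            rwa [mul_inv_cancel_left] at this
          have := Subgroup.mul_mem _ hz (z1 _ hcC)
          rw [MulAut.mul_apply]
          simpa [mul_assoc] using this }
  have := finite_mulAut hTS
  have key : ∀ γ ∈ Subgroup.closure (K : Set (MulAut T)), γ ∈ K := fun γ hγ => by
    rw [← Subgroup.mem_toSubmonoid, Subgroup.closure_toSubmonoid_of_finite, Submonoid.closure_eq] at hγ
    exact hγ
  refine key α ?_
  have := finite_autGroup (F := E) (le_refl T)
  have : Finite ↥(normalizerIn T T) := finite_of_le (inf_le_left.trans hTS : normalizerIn T T ≤ S)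
  obtain ⟨R, hR⟩ := (fullyNormalized_receptive hT hE ⟨le_rfl, fun Q hQ =>
    Nat.card_le_card_of_injective (Subgroup.inclusion (inf_le_left.trans (le_normalizerIn le_rfl)))
      (Subgroup.inclusion_injective _)⟩).1.2
  have hsub : E.autGroup T ≤ F.autGroup T := Subgroup.closure_mono fun γ hγ => hidx.1 T hγ
  suffices h : (⊤ : Subgroup (E.autGroup T)).map (E.autGroup T).subtype ≤ Subgroup.closure (K : Set (MulAut T)) from
    h ⟨⟨α, hα⟩, Subgroup.mem_top _, rfl⟩
  rw [← Solv.sup_pResidual_eq_top R, Subgroup.map_sup]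
  refine sup_le ?_ ?_
  · rw [hR]
    rintro _ ⟨γ, hγ, rfl⟩
    obtain ⟨a, ha, -, hx⟩ := mem_autInducedBy.1 hγ
    have haU : a ∈ U := Subgroup.mem_sup_left ha
    refine Subgroup.subset_closure ⟨MulAut.conj ⟨a, haU⟩, inn_le_autGroup hUS ⟨_, rfl⟩,
      fun x => (hx x).symm, fun c hc => ?_⟩
    have e : a * (c : Ω) * a⁻¹ = c := by rw [Subgroup.mem_centralizer_iff.1 hc.2 a ha, mul_inv_cancel_right]
    show (c : Ω)⁻¹ * (a * c * a⁻¹) ∈ _
    rw [e, inv_mul_cancel]
    exact one_mem _
  · refine le_trans (b := (pResidual p (F.autGroup T)).map (F.autGroup T).subtype) ?_ ?_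
    · rintro _ ⟨γ, hγ, rfl⟩
      exact ⟨_, map_pResidual_le (Subgroup.inclusion hsub) ⟨γ, hγ, rfl⟩, rfl⟩
    rw [pResidual, MonoidHom.map_closure, Subgroup.closure_le]
    rintro _ ⟨γ, hγ, rfl⟩
    refine Subgroup.subset_closure ?_
    have : Finite ↥(normalizerIn S T) := finite_of_le (inf_le_left : normalizerIn S T ≤ S)
    have hfn : F.IsFullyNormalized T := ⟨hTS, fun Q hQ =>
      Nat.card_le_card_of_injective (Subgroup.inclusion (le_inf inf_le_left (inf_le_left.trans (le_normalizer_of_stronglyClosed hsc)) : normalizerIn S Q ≤ normalizerIn S T))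
        (Subgroup.inclusion_injective _)⟩
    have hγi := isIso_autFun hTS γ.2
    obtain ⟨f, hf, hfx⟩ := exists_extension_centralizer (fullyNormalized_receptive hS hF hfn).2 hγi
    have hTU : T ≤ U := le_sup_left
    have hfi : IsIso F U U f := hf.isIso_self fun x hx => hf.mapsTo_sup
      (fun x hx => Subgroup.mem_sup_left (hfx x hx ▸ autFun_mem _ hx))
      (fun x hx => Subgroup.mem_sup_right (hf.apply_mem_centralizerIn hTU (hγi.congr hfx)
        (Subgroup.mem_sup_right hx) hx)) hx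
    set β₀ : F.autGroup U := ⟨autOf hfi, autOf_mem hfi⟩
    have := finite_autGroup (F := F) hUS
    have hp : p.Prime := Fact.out
    obtain ⟨k, m, hkm, hm⟩ := Nat.exists_eq_pow_mul_and_not_dvd (orderOf_pos β₀).ne' p hp.ne_one
    have hco : Nat.Coprime (p ^ k) (orderOf γ) := (Nat.Coprime.pow_left _ (Nat.Coprime.symm hγ))
    obtain ⟨j, hj⟩ := exists_pow_eq_self_of_coprime (x := γ) hco
    set β := β₀ ^ (p ^ k * j)
    have hpow : ∀ n : ℕ, ∀ x : T,
        (((β₀ ^ n : F.autGroup U) : MulAut U) (Subgroup.inclusion hTU x) : Ω) = (((γ ^ n : F.autGroup T) : MulAut T) x : Ω) := by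
      intro n
      induction n with
      | zero => intro x; rfl
      | succ n ih =>
        intro x
        rw [pow_succ, pow_succ, Subgroup.coe_mul, Subgroup.coe_mul, MulAut.mul_apply, MulAut.mul_apply, ← ih]
        exact congrArg (fun z : U => ((((β₀ ^ n : F.autGroup U) : MulAut U) z : U) : Ω))
          (Subtype.ext ((hfx x x.2).trans (autFun_coe _ x)))
    have hβ : β ∈ pResidual p (F.autGroup U) := by
      refine Subgroup.subset_closure (Nat.Coprime.coprime_dvd_left ?_ ((hp.coprime_iff_not_dvd.2 hkm).symm))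
      refine orderOf_dvd_of_pow_eq_one ?_
      rw [← pow_mul, mul_assoc, mul_comm j m, ← mul_assoc, ← hm, pow_mul, pow_orderOf_eq_one, one_pow]
    refine ⟨β, β.2, fun x => ?_, fun c hc => ⟨hidx.2.1 (Subgroup.subset_closure ⟨U, β, c, hUS, hβ, rfl⟩), ?_⟩⟩
    · rw [hpow]
      have hg1 : γ ^ (p ^ k * j) = γ := by rw [pow_mul, hj]
      rw [hg1]
      rfl
    · have hi : IsIso F T T (autFun (β : MulAut U)) := by
        refine ((isMor_of_mem_autGroup hUS β.2).restrict hTU).isIso_self fun x hx => ?_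
        exact stronglyClosed_apply hsc (isMor_of_mem_autGroup hUS β.2) (hTU hx) hx
      have h2 := ((isMor_of_mem_autGroup hUS β.2).apply_mem_centralizerIn hTU hi c.2 hc).2
      rw [autFun_coe] at h2
      exact Subgroup.mul_mem _ (Subgroup.inv_mem _ hc.2) h2

/-- A saturated subsystem of p-power index over a normal subgroup is normal. -/
theorem isNormalIn (hS : IsPGroup p S) (hF : F.IsSaturated p) (hTS : T ≤ S)
    (hTn : (T.subgroupOf S).Normal) (hT : F.hyperfocalSubgroup p ≤ T) (hE : E.IsSaturated p)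
    (hidx : E.HasPPowerIndexIn F p) : E.IsNormalIn F p := by
  have hsc := stronglyClosed hS hF hTS (le_normalizer_T hTS hTn) hT
  refine ⟨⟨hE, hF, hidx.1, hsc, fun P hPT φ hφ α hα => ?_, fun P hPT φ hφ => ?_⟩,
    fun α hα => extension hS hF hsc hE hidx hα⟩
  · obtain ⟨χ, hχ, hx⟩ := transport_isMor hS hTS hE hidx hα (isMor_extFun hφ)
    refine ⟨χ, hχ, fun x hφx hαx => (hx ⟨_, hαx⟩).trans ?_⟩
    show autFun α (extFun φ (autFun α⁻¹ ((α ⟨x, hPT x.2⟩ : T) : Ω))) = _
    rw [autFun_coe, MulAut.inv_apply_self]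
    show autFun α (extFun φ (x : Ω)) = _
    rw [extFun_coe φ x, autFun_apply α hφx]
  · obtain ⟨α, hα, g, hg, hx⟩ := frattini hS hF hTS hsc hE hidx (isMor_extFun hφ)
    rw [inf_of_le_left hPT] at hg hx
    obtain ⟨φ₀, hφ₀, he⟩ := hg
    refine ⟨α, hα, φ₀, hφ₀, fun x hm => ?_⟩
    rw [← extFun_coe φ x, hx x x.2, ← he x, autFun_apply α hm]

end Cfsg.Agent.Fusion.PPowerIndex
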