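import Mathlib
import Cfsg.Agent.Lib.Fusion.PPowerNormal
import Cfsg.Agent.Lib.Fusion.EssentialControl

/-!
Subsystems containing `O^{p'}(Aut_F(P))` for centric `P`: the Frattini condition.
-/

set_option autoImplicit false

namespace Cfsg.Agent.Fusion.PPrimeFrattini

open Cfsg Cfsg.FusionSystem Cfsg.Agent.Fusion Cfsg.Agent.Fusion.PPowerIndex

variable {Ω : Type*} [Group Ω] {S P Q R : Subgroup Ω} {F E : FusionSystem S} {p : ℕ}
  {f g : Ω → Ω}

/-- The subgroup generated by the elements of `p`-power order. -/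
abbrev pGen (F : FusionSystem S) (p : ℕ) (P : Subgroup Ω) : Subgroup (F.autGroup P) :=
  Subgroup.closure {α | ∃ k : ℕ, orderOf α = p ^ k}

theorem pGen_normal : (pGen F p P).Normal := by
  refine ⟨fun n hn g => ?_⟩
  induction hn using Subgroup.closure_induction with
  | mem x hx =>
    obtain ⟨k, hk⟩ := hx
    exact Subgroup.subset_closure ⟨k, by rw [orderOf_conj_of_eq hk]⟩
  | one => simp
  | mul x y _ _ hx hy => simpa [mul_assoc] using Subgroup.mul_mem _ hx hy
  | inv x _ hx => simpa [mul_assoc] using Subgroup.inv_mem _ hx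
where
  orderOf_conj_of_eq {g x : F.autGroup P} {n : ℕ} (h : orderOf x = n) : orderOf (g * x * g⁻¹) = n := by
    rw [← h]
    exact orderOf_injective (MulAut.conj g).toMonoidHom (MulAut.conj g).injective x

/-- The maps all of whose transports under `Aut_F(S)` lie in `E`. -/
def Good (F E : FusionSystem S) (P : Subgroup Ω) (f : Ω → Ω) : Prop :=
  ∀ β ∈ F.autGroup S, IsMor E (transport β P) (fun y => autFun β (f (autFun β⁻¹ y)))

theorem transport_isIso {β : MulAut S} (hβ : β ∈ F.autGroup S) (hP : P ≤ S) :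
    IsIso F P (transport β P) (autFun β) :=
  ⟨(isMor_of_mem_autGroup le_rfl hβ).restrict hP, fun y =>
    ⟨fun hy => ⟨_, (mem_transport.1 hy).2, autFun_apply_inv β (mem_transport.1 hy).1⟩,
      fun ⟨x, hx, e⟩ => e ▸ apply_mem_transport hP hx⟩⟩

variable [Finite S]

theorem isCentric_of_isConj (h : F.IsCentric P) (hc : F.IsConj P Q) : F.IsCentric Q :=
  ⟨(le_of_isConj hc).2, fun R hR => h.2 R (isConj_trans hc hR)⟩

/-- The subsystem of good maps. -/
noncomputable def goodCond (F E : FusionSystem S) : MapCond F where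
  C := Good F E
  le := le_rfl
  congr := fun _ h he β hβ => (h β hβ).congr fun y hy => by rw [he _ (mem_transport.1 hy).2]
  conj := fun {P a} hP ha β _ => (isMor_conj (fun y hy => (mem_transport.1 hy).1)
      (autFun_mem β ha)).congr fun y hy => by
    obtain ⟨hyT, hy'⟩ := mem_transport.1 hy
    have h1 : autFun β (a * autFun β⁻¹ y * a⁻¹) = autFun β a * autFun β (autFun β⁻¹ y) * (autFun β a)⁻¹ := by
      rw [autFun_apply β (S.mul_mem (S.mul_mem ha (hP hy')) (S.inv_mem ha)), autFun_apply β ha,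
        autFun_apply β (hP hy'), show (⟨a * autFun β⁻¹ y * a⁻¹, S.mul_mem (S.mul_mem ha (hP hy'))
          (S.inv_mem ha)⟩ : S) = ⟨a, ha⟩ * ⟨autFun β⁻¹ y, hP hy'⟩ * ⟨a, ha⟩⁻¹ from rfl]
      simp only [map_mul, map_inv, Subgroup.coe_mul, Subgroup.coe_inv]
    rw [autFun_apply_inv β hyT] at h1
    exact h1
  comp := fun {P Q f g} hfm hc hgm hc' hm β hβ => by
    refine ((hc β hβ).comp (hc' β hβ) fun y hy => ?_).congr fun y hy => ?_
    · exact apply_mem_transport hgm.le (hm _ (mem_transport.1 hy).2)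
    · show _ = autFun β (g (autFun β⁻¹ (autFun β (f (autFun β⁻¹ y)))))
      rw [autFun_inv_apply β (hfm.mem (mem_transport.1 hy).2)]
      rfl
  symm := fun {P R f g} hi hc hg hgl hgr β hβ => by
    have hcm := hc β hβ
    have himg : hcm.image _ le_rfl = transport β R := by
      ext z
      constructor
      · rintro ⟨y, hy, rfl⟩
        exact apply_mem_transport hi.le' (hi.apply_mem (mem_transport.1 hy).2)
      · intro hz
        obtain ⟨hzT, hz'⟩ := mem_transport.1 hz
        refine ⟨autFun β (g (autFun β⁻¹ z)), apply_mem_transport hi.le (hg.apply_mem hz'), ?_⟩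
        show autFun β (f (autFun β⁻¹ (autFun β (g (autFun β⁻¹ z))))) = z
        rw [autFun_inv_apply β (hi.le (hg.apply_mem hz')), hgr _ hz', autFun_apply_inv β hzT]
    obtain ⟨k, hk, hkl, -⟩ := hcm.isIso.exists_symm
    rw [himg] at hk
    refine hk.1.congr fun z hz => ?_
    obtain ⟨hzT, hz'⟩ := mem_transport.1 hz
    have h1 := hkl _ (apply_mem_transport (β := β) hi.le (hg.apply_mem hz'))
    rw [autFun_inv_apply β (hi.le (hg.apply_mem hz')), hgr _ hz', autFun_apply_inv β hzT] at h1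
    exact h1.symm

/-- The good subsystem. -/
noncomputable abbrev goodSystem (F E : FusionSystem S) : FusionSystem S := (goodCond F E).system

theorem good_le (h : IsMor (goodSystem F E) P f) : IsMor E P f := by
  have h1 := ((goodCond F E).isMor_system.1 h).2 1 (F.autGroup S).one_mem
  have hP : P ≤ S := h.le
  refine (h1.restrict fun x hx => mem_transport.2 ⟨hP hx, by rw [inv_one, autFun_one (hP hx)]; exact hx⟩).congr
    fun x hx => ?_
  rw [inv_one, autFun_one (hP hx), autFun_one (h.mem hx)]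

theorem good_transport {β : MulAut S} (hβ : β ∈ F.autGroup S) (h : IsMor (goodSystem F E) P f) :
    IsMor (goodSystem F E) (transport β P) (fun y => autFun β (f (autFun β⁻¹ y))) := by
  obtain ⟨hf, hg⟩ := (goodCond F E).isMor_system.1 h
  have hP : P ≤ S := h.le
  refine (goodCond F E).isMor_system.2 ⟨?_, fun γ hγ => ?_⟩
  · refine (((isMor_of_mem_autGroup le_rfl ((F.autGroup S).inv_mem hβ)).restrict
      fun y hy => (mem_transport.1 hy).1).comp hf fun y hy => (mem_transport.1 hy).2).comp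
      (isMor_of_mem_autGroup le_rfl hβ) fun y hy => hf.mem (mem_transport.1 hy).2
  · refine ((hg (γ * β) ((F.autGroup S).mul_mem hγ hβ)).restrict fun y hy => ?_).congr fun y hy => ?_
    · obtain ⟨hy1, hy2⟩ := mem_transport.1 hy
      refine mem_transport.2 ⟨hy1, ?_⟩
      rw [mul_inv_rev, autFun_mul _ _ hy1]
      exact (mem_transport.1 hy2).2
    · obtain ⟨hy1, hy2⟩ := mem_transport.1 hy
      rw [mul_inv_rev, autFun_mul _ _ hy1, autFun_mul _ _ (hf.mem (mem_transport.1 hy2).2)]

variable [Fact p.Prime]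

/-- Hypothesis: `Aut_E(P)` contains the p-elements of `Aut_F(P)` for centric `P`. -/
def Contains (F E : FusionSystem S) (p : ℕ) : Prop :=
  ∀ P : Subgroup Ω, F.IsCentric P → (pGen F p P).map (F.autGroup P).subtype ≤ E.autGroup P

theorem good_of_pGen (h : Contains F E p) (hP : F.IsCentric P) {α : F.autGroup P} (hα : α ∈ pGen F p P) :
    IsMor (goodSystem F E) P (autFun (α : MulAut P)) := by
  refine (goodCond F E).isMor_system.2 ⟨isMor_of_mem_autGroup hP.1 α.2, fun β hβ => ?_⟩
  have hu := transport_isIso hβ hP.1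
  set P' := transport β P
  set e := MulAut.congr hu.toMulEquiv
  have hsymm : ∀ y : P', ((hu.toMulEquiv.symm y : P) : Ω) = autFun β⁻¹ y := fun y => by
    have h1 := hu.toMulEquiv_symm_apply y
    have h2 := congrArg (autFun β⁻¹) h1
    rwa [autFun_inv_apply β (hP.1 (hu.toMulEquiv.symm y).2)] at h2
  have hmem : ∀ δ : F.autGroup P, e (δ : MulAut P) ∈ F.autGroup P' := fun δ => by
    rw [← autGroup_map_congr hu]
    exact ⟨δ, δ.2, rfl⟩
  let ρ : F.autGroup P →* F.autGroup P' := (e.toMonoidHom.comp (F.autGroup P).subtype).codRestrict _ hmem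
  have hρ : ρ α ∈ pGen F p P' := by
    refine (?_ : (pGen F p P).map ρ ≤ pGen F p P') ⟨α, hα, rfl⟩
    rw [MonoidHom.map_closure]
    refine Subgroup.closure_mono ?_
    rintro _ ⟨x, ⟨k, hk⟩, rfl⟩
    obtain ⟨j, -, hj⟩ := (Nat.dvd_prime_pow (Fact.out : p.Prime)).1 (hk ▸ orderOf_map_dvd ρ x)
    exact ⟨j, hj⟩
  refine (isMor_of_mem_autGroup hu.le' (h P' (isCentric_of_isConj hP hu.isConj) ⟨_, hρ, rfl⟩)).congr
    fun y hy => ?_
  rw [autFun_apply _ hy]
  show autFun β (autFun (α : MulAut P) (autFun β⁻¹ y)) = _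
  rw [show (((F.autGroup P').subtype (ρ α)) ⟨y, hy⟩ : P') = hu.toMulEquiv ((α : MulAut P) (hu.toMulEquiv.symm ⟨y, hy⟩)) from rfl,
    hu.toMulEquiv_apply, ← autFun_coe (α : MulAut P), hsymm]

/-- Every map is a good map followed by an automorphism of `S`. -/
def Frat (F E : FusionSystem S) (P : Subgroup Ω) (f : Ω → Ω) : Prop :=
  ∃ β ∈ F.autGroup S, ∃ g, IsMor (goodSystem F E) P g ∧ ∀ x ∈ P, f x = autFun β (g x)

theorem fratDecomp (hS : IsPGroup p S) (hF : F.IsSaturated p) (h : Contains F E p) (hf : IsMor F P f) :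
    Frat F E P f := by
  let c : MapCond F :=
    { C := Frat F E
      le := le_rfl
      congr := fun _ ⟨α, hα, g, hg, hgx⟩ he => ⟨α, hα, g, hg, fun x hx => (he x hx).trans (hgx x hx)⟩
      conj := fun {P a} hP ha => ⟨1, (F.autGroup S).one_mem, _, isMor_conj hP ha, fun x hx => by
        rw [autFun_one (S.mul_mem (S.mul_mem ha (hP hx)) (S.inv_mem ha))]⟩
      comp := fun {P Q f g} _ ⟨α, hα, u, hu, hux⟩ _ ⟨β, hβ, v, hv, hvx⟩ hm => by
        have hk := good_transport ((F.autGroup S).inv_mem hα) hv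
        have hum : ∀ x ∈ P, u x ∈ transport α⁻¹ Q := fun x hx =>
          mem_transport.2 ⟨hu.mem hx, by rw [inv_inv, ← hux x hx]; exact hm x hx⟩
        refine ⟨β * α, (F.autGroup S).mul_mem hβ hα, _, hu.comp hk hum, fun x hx => ?_⟩
        show g (f x) = autFun (β * α) (autFun α⁻¹ (v (autFun α⁻¹⁻¹ (u x))))
        rw [inv_inv, ← hux x hx, autFun_mul _ _ (autFun_mem _ (hv.mem (hm x hx))),
          autFun_apply_inv α (hv.mem (hm x hx)), hvx _ (hm x hx)]
      symm := fun {P R f g} hi ⟨α, hα, u, hu, hux⟩ hg hgl hgr => by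
        obtain ⟨ui, hui, huil, -⟩ := hu.isIso.exists_symm
        have hk := good_transport hα hui.1
        have e : ∀ y ∈ R, autFun α⁻¹ y = u (g y) := fun y hy => (congrArg (autFun α⁻¹)
          ((hgr y hy).symm.trans (hux _ (hg.apply_mem hy)))).trans (autFun_inv_apply α (hu.mem (hg.apply_mem hy)))
        have hsub : R ≤ transport α (hu.image _ le_rfl) := fun y hy =>
          mem_transport.2 ⟨hg.le hy, g y, hg.apply_mem hy, (e y hy).symm⟩
        refine ⟨α⁻¹, (F.autGroup S).inv_mem hα, _, hk.restrict hsub, fun y hy => ?_⟩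
        show g y = autFun α⁻¹ (autFun α (ui (autFun α⁻¹ y)))
        rw [e y hy, huil _ (hg.apply_mem hy), autFun_inv_apply α (hi.le (hg.apply_mem hy))] }
  have hle : F ≤ c.system := alperin_induction hS hF fun P hP α hα hbig => by
    rcases eq_or_lt_of_le hP.1 with rfl | hlt
    · exact c.isMor_system.2 ⟨isMor_of_mem_autGroup le_rfl hα, α, hα, id, isMor_id le_rfl, fun _ _ => rfl⟩
    refine isMor_of_mem_autGroup hP.1 ?_
    by_cases hH : Subgroup.closure (extSet F P) = F.autGroup P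
    · rw [← hH] at hα
      refine (Subgroup.closure_le _).2 (fun β hβ => ?_) hα
      obtain ⟨Q, f, hPQ, hf, hx⟩ := mem_extSet.1 hβ
      exact mem_autGroup_of_isMor ((hbig Q f (card_lt_of_lt hf.le hPQ) hf).restrict hPQ.le)
        fun x => (hx x).symm
    have hcen : F.IsCentric P := (isEssential_of_closure_extSet_ne hS hF hlt hP hH).1.1
    have := finite_autGroup (F := F) hP.1
    obtain ⟨⟨-, Sy, hSy⟩, hrec⟩ := fullyNormalized_receptive hS hF hP
    haveI := pGen_normal (F := F) (p := p) (P := P)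
    have hSyO : (Sy : Subgroup (F.autGroup P)) ≤ pGen F p P := fun x hx => by
      obtain ⟨k, hk⟩ := IsPGroup.iff_orderOf.1 Sy.isPGroup' ⟨x, hx⟩
      exact Subgroup.subset_closure ⟨k, by rwa [← Subgroup.orderOf_mk x hx] at *⟩
    obtain ⟨o, ho, n, hn, hon⟩ := Subgroup.mem_sup_of_normal_left.1
      (show (⟨α, hα⟩ : F.autGroup P) ∈ pGen F p P ⊔ Subgroup.normalizer (Sy : Set (F.autGroup P)) by
        rw [sup_comm, Sylow.normalizer_sup_eq_top' Sy hSyO]; exact Subgroup.mem_top _)
    have hgood := good_of_pGen h hcen ho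
    have hoc : IsMor c.system P (autFun (o : MulAut P)) := c.isMor_system.2
      ⟨isMor_of_mem_autGroup hP.1 o.2, 1, (F.autGroup S).one_mem, _, hgood, fun x hx => by
        rw [autFun_one (hP.1 (autFun_mem _ hx))]⟩
    have hnc : IsMor c.system P (autFun (n : MulAut P)) := by
      have hi := isIso_autFun hP.1 n.2
      obtain ⟨f, hf, hfx⟩ := exists_extension hrec hi (R := normalizerIn S P) fun a ha => by
        have hm : (⟨_, autInducedBy_le_autGroup (F := F) hP.1 (conjAut_mem (F := F) hP.1 ha).1⟩ : F.autGroup P)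
            ∈ (Sy : Subgroup (F.autGroup P)) := by
          rw [hSy]; exact Subgroup.mem_subgroupOf.2 (conjAut_mem (F := F) hP.1 ha).1
        have hm2 := (Subgroup.mem_normalizer_iff.1 hn _).1 hm
        rw [hSy] at hm2
        obtain ⟨b, hb, -, hbx⟩ := mem_autInducedBy.1 (Subgroup.mem_subgroupOf.1 hm2)
        refine ⟨ha.1, ha.2, b, hb, fun x hx => ?_⟩
        have e := hbx ((n : MulAut P) ⟨x, hx⟩)
        rw [autFun_apply _ hx, ← e, autFun_apply _ (conj_mem_of_mem_normalizer ha.2 hx)]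
        simp only [Subgroup.coe_mul, Subgroup.coe_inv, MulAut.mul_apply, MulAut.inv_apply_self]
        rfl
      have hcard : Nat.card P < Nat.card (normalizerIn S P) :=
        card_lt_of_lt normalizerIn_le (normalizerIn_self_lt hS hlt)
      exact ((hbig _ f hcard hf).restrict (le_normalizerIn hP.1)).congr fun x hx =>
        (hfx x hx (le_normalizerIn hP.1 hx)).symm
    refine mem_autGroup_of_isMor (hnc.comp hoc fun x hx => autFun_mem _ hx) fun x => ?_
    show _ = autFun (o : MulAut P) (autFun (n : MulAut P) x)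
    rw [← autFun_mul _ _ x.2, ← Subgroup.coe_mul, hon, autFun_coe]
  exact (c.isMor_system.1 (le_iff_isMor.1 hle _ _ hf)).2

theorem pGen_le (hS : IsPGroup p S) (hF : F.IsSaturated p) (h : Contains F E p) (hP : P ≤ S) :
    (pGen F p P).map (F.autGroup P).subtype ≤ E.autGroup P := by
  rw [MonoidHom.map_closure, Subgroup.closure_le]
  rintro _ ⟨α, ⟨k, hk⟩, rfl⟩
  obtain ⟨Q, hQc, hQn⟩ := exists_fullyNormalized (F := F) hP
  obtain ⟨f, hf⟩ := isConj_iff_exists_isIso.1 hQc
  obtain ⟨hA, -⟩ := fullyNormalized_receptive hS hF hQn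
  set e := MulAut.congr hf.toMulEquiv
  have hαQ : e (α : MulAut P) ∈ F.autGroup Q := by
    rw [← autGroup_map_congr hf]; exact ⟨α, α.2, rfl⟩
  obtain ⟨γ, hγ, hconj⟩ := exists_conj_le_autInducedBy hA (T := Subgroup.zpowers (e (α : MulAut P)))
    (Subgroup.zpowers_le.2 hαQ) (by
      rintro ⟨_, n, rfl⟩
      refine ⟨k, Subtype.ext ?_⟩
      show (e (α : MulAut P) ^ n) ^ (p ^ k) = 1
      rw [← map_zpow, ← map_pow, ← zpow_natCast, ← zpow_mul, mul_comm, zpow_mul, zpow_natCast, ← hk,
        ← Subgroup.coe_pow, pow_orderOf_eq_one, Subgroup.coe_one, one_zpow, map_one])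
  obtain ⟨s, hs, -, hsx⟩ := mem_autInducedBy.1 (hconj _ (Subgroup.mem_zpowers _))
  have hh : IsIso F P Q (autFun γ ∘ f) := hf.trans (isIso_autFun hQn.1 hγ)
  obtain ⟨β, hβ, g, hg, hgx⟩ := fratDecomp hS hF h hh.1
  have hgE := good_le hg
  obtain ⟨gi, hgi, hgl, -⟩ := hgE.isIso.exists_symm
  set t := autFun β⁻¹ s
  have ht : t ∈ S := autFun_mem _ hs
  have key : ∀ x ∈ P, g (autFun (α : MulAut P) x) = t * g x * t⁻¹ := by
    intro x hx
    have hax := autFun_mem (α : MulAut P) hx
    have h1 : autFun γ (f (autFun (α : MulAut P) x)) = s * autFun γ (f x) * s⁻¹ := by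
      have := hsx (γ ⟨f x, hf.apply_mem hx⟩)
      rw [autFun_apply γ (hf.apply_mem hx), ← this, autFun_apply γ (hf.apply_mem hax)]
      simp only [MulAut.mul_apply, MulAut.inv_apply_self]
      refine congrArg (fun z : Q => ((γ z : Q) : Ω)) (Subtype.ext ?_)
      show f (autFun (α : MulAut P) x) = (hf.toMulEquiv ((α : MulAut P) (hf.toMulEquiv.symm ⟨f x, _⟩)) : Q)
      rw [hf.toMulEquiv_apply, autFun_apply _ hx]
      congr 3
      exact (hf.toMulEquiv.symm_apply_apply ⟨x, hx⟩).symm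
    have h2 := hgx _ hax
    have h3 := hgx x hx
    simp only [Function.comp_apply] at h2 h3
    rw [h1, h3] at h2
    have h4 := congrArg (autFun β⁻¹) h2.symm
    rw [autFun_inv_apply β (hgE.mem hax)] at h4
    have hgS := autFun_mem β (hgE.mem hx)
    rw [h4, autFun_apply _ (S.mul_mem (S.mul_mem hs hgS) (S.inv_mem hs)),
      show (⟨s * autFun β (g x) * s⁻¹, S.mul_mem (S.mul_mem hs hgS) (S.inv_mem hs)⟩ : S)
        = ⟨s, hs⟩ * ⟨autFun β (g x), hgS⟩ * ⟨s, hs⟩⁻¹ from rfl]
    simp only [map_mul, map_inv, Subgroup.coe_mul, Subgroup.coe_inv]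
    rw [← autFun_apply β⁻¹ hgS, ← autFun_apply β⁻¹ hs, autFun_inv_apply β (hgE.mem hx)]
  refine mem_autGroup_of_isMor ((hgE.conj_after ht).comp hgi.1 fun x hx =>
    ⟨_, autFun_mem _ hx, key x hx⟩) fun x => ?_
  show _ = gi (t * g x * t⁻¹)
  rw [← key x x.2, hgl _ (autFun_mem _ x.2), autFun_coe]
  rfl

theorem isCentric_iff (hS : IsPGroup p S) (hF : F.IsSaturated p) (h : Contains F E p)
    (hEF : E.IsSubsystemOf F) : E.IsCentric P ↔ F.IsCentric P := by
  refine ⟨fun hE => ⟨hE.1, fun Q hQ => ?_⟩, fun hFc => ⟨hFc.1, fun Q hQ => hFc.2 Q ?_⟩⟩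
  · obtain ⟨f, hf⟩ := isConj_iff_exists_isIso.1 hQ
    obtain ⟨β, hβ, g, hg, hgx⟩ := fratDecomp hS hF h hf.1
    have hgE := good_le hg
    intro c hc
    have hc' : autFun β⁻¹ c ∈ centralizerIn S (hgE.image P le_rfl) := by
      refine mem_centralizerIn.2 ⟨autFun_mem _ hc.1, ?_⟩
      rintro _ ⟨x, hx, rfl⟩
      have e := (mem_centralizerIn.1 hc).2 _ (hf.apply_mem hx)
      rw [hgx x hx] at e
      have hgS := hgE.mem hx
      have hm := isMor_of_mem_autGroup (le_refl S) ((F.autGroup S).inv_mem hβ)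
      have h2 := congrArg (autFun β⁻¹) e
      rwa [hm.map_mul (autFun_mem β hgS) hc.1, hm.map_mul hc.1 (autFun_mem β hgS),
        autFun_inv_apply β hgS] at h2
    obtain ⟨x, hx, e⟩ := hE.2 _ hgE.isIso.isConj hc'
    have := hf.apply_mem hx
    rwa [hgx x hx, e, autFun_apply_inv β hc.1] at this
  · obtain ⟨f, hf⟩ := isConj_iff_exists_isIso.1 hQ
    exact isConj_iff_exists_isIso.2 ⟨f, hf.1.mono_sys hEF, hf.2⟩

end Cfsg.Agent.Fusion.PPrimeFrattini
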