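import Mathlib
import Cfsg.Agent.Lib.Fusion.Model
import Cfsg.Agent.Lib.Fusion.ModelUnique
import Cfsg.Agent.Lib.Fusion.Normal
import Cfsg.Agent.Lib.Solv.PSolvable

/-!
Fusion systems of p-solvable groups.
-/

set_option autoImplicit false

universe v w

namespace Cfsg.Agent.Fusion.PSolv

open Cfsg Cfsg.FusionSystem Cfsg.Agent.Fusion
open scoped Pointwise

variable {Ω : Type v} [Group Ω] {S : Subgroup Ω} {F : FusionSystem S} {p : ℕ} [Fact p.Prime]
  {G : Type w} [Group G] {ι : S →* G} {N : Subgroup G}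

omit [Fact p.Prime] in
theorem eq_one_of_mem {T : Subgroup G} (hT : IsPGroup p T) (hN : (Nat.card N).Coprime p) {x : G}
    (hxT : x ∈ T) (hxN : x ∈ N) : x = 1 := by
  obtain ⟨k, hk⟩ := hT ⟨x, hxT⟩
  have h2 : orderOf x ∣ p ^ k := orderOf_dvd_of_pow_eq_one (congrArg Subtype.val hk)
  have h3 := Subgroup.orderOf_dvd_natCard _ hxN
  exact orderOf_eq_one_iff.1 (Nat.eq_one_of_dvd_coprimes (hN.pow_right k) h3 h2)

theorem exists_conj_into [Finite G] [N.Normal] (T : Sylow p G) {X : Subgroup G} (hX : IsPGroup p X)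
    (hle : X ≤ (T : Subgroup G) ⊔ N) : ∃ n ∈ N, ∀ x ∈ X, n⁻¹ * x * n ∈ (T : Subgroup G) := by
  set H := (T : Subgroup G) ⊔ N
  obtain ⟨R, hR⟩ := (hX.comap_subtype (K := H)).exists_le_sylow
  obtain ⟨h, hh⟩ := MulAction.exists_smul_eq H (T.subtype (le_sup_left : (T : Subgroup G) ≤ H)) R
  have h2 : (h : G) ∈ ((T : Subgroup G) : Set G) * (N : Set G) := by
    rw [← Subgroup.mul_normal]
    exact h.2
  obtain ⟨t, ht, n, hn, hhe⟩ := h2
  refine ⟨t * n * t⁻¹, (inferInstance : N.Normal).conj_mem n hn t, fun x hx => ?_⟩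
  have hxR : (⟨x, hle hx⟩ : H) ∈ (R : Subgroup H) := hR hx
  rw [← hh, Sylow.coe_subgroup_smul, Subgroup.mem_pointwise_smul_iff_inv_smul_mem] at hxR
  have h3 : (h : G)⁻¹ * x * h ∈ (T : Subgroup G) := by
    simpa [Subgroup.mem_subgroupOf, mul_assoc] using hxR
  rw [← hhe] at h3
  have h4 := (T : Subgroup G).mul_mem ((T : Subgroup G).mul_mem ht h3) ((T : Subgroup G).inv_mem ht)
  convert h4 using 1
  group

theorem realized_quotient [Finite G] [N.Normal] (hS : IsPGroup p S) (h : F.IsRealizedBy ι)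
    (T : Sylow p G) (hT : (T : Subgroup G) = ι.range) (hN : (Nat.card N).Coprime p) :
    F.IsRealizedBy ((QuotientGroup.mk' N).comp ι) := by
  set π := QuotientGroup.mk' N
  have hinj : ∀ a ∈ (T : Subgroup G), ∀ b ∈ (T : Subgroup G), π a = π b → a = b := fun a ha b hb hab =>
    inv_mul_eq_one.1 (eq_one_of_mem T.isPGroup' hN
      ((T : Subgroup G).mul_mem ((T : Subgroup G).inv_mem ha) hb) (QuotientGroup.eq.1 hab))
  have hiT : ∀ s : S, ι s ∈ (T : Subgroup G) := fun s => hT ▸ ⟨s, rfl⟩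
  refine realized_intro (fun a b hab => h.1 (hinj _ (hiT a) _ (hiT b) hab)) (fun P f hf => ?_)
    fun P hP g hg => ?_
  · obtain ⟨g, hg⟩ := realized_exists_conj h hf
    exact ⟨π g, fun x y hx hy => by
      show π (ι y) = π g * π (ι x) * (π g)⁻¹
      rw [hg x y hx hy, map_mul, map_mul, map_inv]⟩
  · obtain ⟨g₀, rfl⟩ := QuotientGroup.mk'_surjective N g
    let X : Subgroup G := ((mImg ι P).map (MulAut.conj g₀).toMonoidHom)
    have hX : IsPGroup p X := ((hS.to_subgroup _).map ι).map _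
    have hle : X ≤ (T : Subgroup G) ⊔ N := by
      rintro _ ⟨_, ⟨x, hx, rfl⟩, rfl⟩
      obtain ⟨y, hy⟩ := hg x hx
      have h1 : (ι y)⁻¹ * (g₀ * ι x * g₀⁻¹) ∈ N := QuotientGroup.eq.1 hy
      have := Subgroup.mul_mem_sup (hiT y) h1
      simpa using this
    obtain ⟨n, hn, hnX⟩ := exists_conj_into T hX hle
    obtain ⟨f, hf, hfg⟩ := realized_exists_mor h hP (n⁻¹ * g₀) fun x hx => by
      have := hnX _ ⟨ι x, ⟨x, hx, rfl⟩, rfl⟩
      rw [hT] at this
      simpa [mul_assoc] using this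
    refine ⟨f, hf, fun x y hx hy => ?_⟩
    show π (ι y) = π g₀ * π (ι x) * (π g₀)⁻¹
    rw [hfg x y hx hy]
    have hn1 : π n = 1 := (QuotientGroup.eq_one_iff n).2 hn
    simp [hn1, mul_assoc]

omit [Fact p.Prime] in
theorem exists_action (h : F.IsRealizedBy ι) (hS : IsPGroup p S) {C : Subgroup Ω} (hC : C ≤ S)
    (hn : NormCent ι C) :
    ∃ ρ : G →* F.autGroup C, Function.Surjective ρ ∧ IsPGroup p ρ.ker := by
  have : (mImg ι C).Normal := ⟨fun _ hy g => by
    obtain ⟨x, hx, rfl⟩ := hy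
    obtain ⟨y, hy, he⟩ := hn.norm g x hx
    exact ⟨y, hy, he.symm⟩⟩
  let e : C ≃* mImg ι C :=
    (Subgroup.subgroupOfEquivOfLe hC).symm.trans (Subgroup.equivMapOfInjective _ ι h.1)
  have he : ∀ x : C, ((e x : mImg ι C) : G) = ι ⟨x, hC x.2⟩ := fun x => rfl
  let σ : G →* MulAut C := (MulAut.congr e.symm).toMonoidHom.comp MulAut.conjNormal
  have hσ : ∀ g x, ι ⟨(σ g x : C), hC (σ g x).2⟩ = g * ι ⟨(x : C), hC x.2⟩ * g⁻¹ := fun g x => by
    rw [← he, ← he]
    show ((e (e.symm (MulAut.conjNormal g (e x))) : mImg ι C) : G) = _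
    rw [e.apply_symm_apply, MulAut.conjNormal_apply]
  have hmem : ∀ g, σ g ∈ F.autGroup C := fun g =>
    Subgroup.subset_closure ((h.2 C hC (C.subtype.comp (σ g).toMonoidHom) fun x => hC (σ g x).2).2
      ⟨g, fun x => hσ g x⟩)
  refine ⟨σ.codRestrict _ hmem, fun α => ?_, ?_⟩
  · obtain ⟨g, hg⟩ := (h.2 C hC (C.subtype.comp (α : MulAut C).toMonoidHom)
      fun x => hC ((α : MulAut C) x).2).1 ((mem_autGroup hC).1 α.2)
    refine ⟨g, Subtype.ext (MulEquiv.ext fun x => e.injective (Subtype.ext ?_))⟩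
    rw [he, he]
    exact (hσ g x).trans (hg x).symm
  · refine ((hS.to_subgroup (C.subgroupOf S)).map ι).to_le fun g hg => ?_
    have hg1 : σ g = 1 := congrArg Subtype.val (MonoidHom.mem_ker.1 hg)
    obtain ⟨z, hz, hzg⟩ := hn.cent g fun x hx => by
      have := hσ g ⟨x, hx⟩
      rw [hg1] at this
      exact this.symm
    exact ⟨z, hz, hzg⟩

theorem core_isCentric [Finite S] (h : F.IsConstrained p) : F.IsCentric F.core := by
  obtain ⟨-, Q, hQn, hQc⟩ := h
  exact isCentric_of_ge hQc (le_sSup hQn) (isNormal_core F).1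

theorem main [Finite S] (hS : IsPGroup p S) (hF : F.IsSaturated p) :
    (∃ (G : Type v) (_ : Group G) (_ : Finite G) (ι : S →* G), Cfsg.IsPSolvable p G ∧
        F.IsRealizedBy ι ∧ ∃ T : Sylow p G, (T : Subgroup G) = ι.range) ↔
      (F.IsConstrained p ∧ Cfsg.IsPSolvable p (F.autGroup F.core)) := by
  constructor
  · rintro ⟨G, _, _, ι, hsol, hr, T, hT⟩
    set N := pPrimeCore p G
    have : N.Normal := by
      have := Solv.pPrimeCore_characteristic p G
      infer_instance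
    have hM : F.IsModel p (G ⧸ N) ((QuotientGroup.mk' N).comp ι) :=
      ⟨inferInstance, realized_quotient hS hr T hT (Solv.card_pPrimeCore_coprime p G),
        ⟨T.mapSurjective (QuotientGroup.mk'_surjective N), by
          rw [Sylow.coe_mapSurjective, hT, MonoidHom.map_range]⟩,
        Solv.centralizer_pCore_le_of_isPSolvable (Solv.isPSolvable_quotient hsol N)
          (Solv.pPrimeCore_quotient_pPrimeCore p)⟩
    have hcons := model_constrained hM
    obtain ⟨ρ, hρ, -⟩ := exists_action hM.2.1 hS (isNormal_core F).1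
      (normCent_of_model hS hM (isNormal_core F) (core_isCentric hcons))
    exact ⟨hcons, Solv.isPSolvable_of_surjective ρ hρ (Solv.isPSolvable_quotient hsol N)⟩
  · rintro ⟨hcons, hsol⟩
    obtain ⟨L, _, ι, hM⟩ := exists_model hS hF (isNormal_core F) (core_isCentric hcons)
    have : Finite L := hM.1
    obtain ⟨ρ, hρ, hker⟩ := exists_action hM.2.1 hS (isNormal_core F).1
      (normCent_of_model hS hM (isNormal_core F) (core_isCentric hcons))
    have := finite_autGroup (F := F) (isNormal_core F).1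
    refine ⟨L, inferInstance, inferInstance, ι, Solv.isPSolvable_of_extension ρ.ker
      (Solv.isPSolvable_of_isPGroup hker) ?_, hM.2.1, hM.2.2.1⟩
    exact Solv.isPSolvable_of_mulEquiv (QuotientGroup.quotientKerEquivOfSurjective ρ hρ).symm hsol

end Cfsg.Agent.Fusion.PSolv
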