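import Mathlib
import Cfsg.Prelude.Def_Solvable
import Cfsg.Agent.Lib.Fusion.FullyNormalized
import Cfsg.Agent.Lib.Fusion.ModelSection
import Cfsg.Agent.Lib.Solv.Basic

/-!
p-stability of a saturated fusion system and of its normalizer systems.
-/

set_option autoImplicit false

universe v

namespace Cfsg.Agent.Fusion.PStab

open Cfsg Cfsg.FusionSystem

variable {Ω : Type v} [Group Ω] {S : Subgroup Ω} [Finite S] {F : FusionSystem S} {p : ℕ} [Fact p.Prime]
  {P Q R : Subgroup Ω}

/-- The quadratic identity for an automorphism. -/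
def Quad {A : Type*} [Group A] (χ : MulAut A) : Prop :=
  ∀ a : A, (χ a⁻¹) * a * (χ a⁻¹) * (χ (χ a)) = 1

/-- The stability condition at one subgroup. -/
def StableAt (p : ℕ) (F : FusionSystem S) (Q : Subgroup Ω) : Prop :=
  ∀ χ : MulAut Q, χ ∈ F.autGroup Q → Quad χ →
    χ ∈ (Cfsg.pCore p (F.autGroup Q)).map (F.autGroup Q).subtype

theorem quad_congr {A B : Type*} [Group A] [Group B] (e : A ≃* B) {χ : MulAut A} (h : Quad χ) :
    Quad (MulAut.congr e χ) := fun b => by
  obtain ⟨a, rfl⟩ := e.surjective b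
  have := congrArg e (h a)
  simp only [map_mul, map_one] at this
  simpa [congr_apply] using this

omit [Finite S] [Fact p.Prime] in
theorem stableAt_of_iso {f : Ω → Ω} (hf : IsIso F P Q f) (h : StableAt p F Q) : StableAt p F P := by
  intro χ hχ hq
  let c := MulAut.congr hf.toMulEquiv
  have hm : (F.autGroup P).map (c : MulAut P →* MulAut Q) = F.autGroup Q := autGroup_map_congr hf
  let e : F.autGroup P ≃* F.autGroup Q :=
    (c.subgroupMap (F.autGroup P)).trans (MulEquiv.subgroupCongr hm)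
  obtain ⟨y, hy, hyx⟩ := h (c χ) (hm ▸ Subgroup.mem_map_of_mem _ hχ) (quad_congr _ hq)
  rw [← Solv.pCore_map_equiv p e] at hy
  obtain ⟨z, hz, rfl⟩ := hy
  refine ⟨z, hz, c.injective ?_⟩
  exact hyx

omit [Fact p.Prime] in
theorem stableAt_all (h : ∀ Q, F.IsFullyNormalized Q → StableAt p F Q) (hP : P ≤ S) :
    StableAt p F P := by
  obtain ⟨Q, hc, hQ⟩ := exists_fullyNormalized (F := F) hP
  obtain ⟨f, hf⟩ := isConj_iff_exists_isIso.1 hc
  exact stableAt_of_iso hf (h Q hQ)

omit [Finite S] [Fact p.Prime] in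
theorem autGroup_normalizerSystem_le {N : FusionSystem (normalizerIn S R)}
    (hN : F.IsNormalizerSystem R N) : N.autGroup Q ≤ F.autGroup Q :=
  Subgroup.closure_mono fun α hα => by
    have : Q.subtype.comp α.toMonoidHom ∈ F.normalizerHom R Q := hN Q ▸ hα
    exact this.1

omit [Finite S] [Fact p.Prime] in
theorem stableAt_sub {T : Subgroup Ω} {N : FusionSystem T} (hle : N.autGroup Q ≤ F.autGroup Q)
    (h : StableAt p F Q) : StableAt p N Q := by
  intro χ hχ hq
  obtain ⟨y, hy, rfl⟩ := h χ (hle hχ) hq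
  let i : N.autGroup Q →* F.autGroup Q := Subgroup.inclusion hle
  have : ((Cfsg.pCore p (F.autGroup Q)).comap i).Normal :=
    Subgroup.Normal.comap inferInstance _
  have hle' := Solv.le_pCore (p := p) (N := (Cfsg.pCore p (F.autGroup Q)).comap i)
    ((Solv.isPGroup_pCore p _).comap_of_injective _ (Subgroup.inclusion_injective hle))
  exact ⟨⟨(y : MulAut Q), hχ⟩, hle' (show i ⟨(y : MulAut Q), hχ⟩ ∈ _ from hy), rfl⟩

theorem stableAt_of_cyclic (hS : IsPGroup p S) (hQ : Q ≤ S) [IsCyclic Q] : StableAt p F Q := by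
  intro χ hχ hq
  obtain ⟨g, hg⟩ := IsCyclic.exists_generator (α := Q)
  obtain ⟨m, hm⟩ := MonoidHom.map_cyclic χ.toMonoidHom
  replace hm : ∀ a, χ a = a ^ m := hm
  obtain ⟨n, hn⟩ := (IsPGroup.iff_orderOf.1 (hS.to_le hQ)) g
  have hd : ((p : ℤ) ^ n) ∣ (m - 1) ^ 2 := by
    have h1 := hq g
    rw [hm g⁻¹, hm (χ g), hm g, ← zpow_mul] at h1
    have h2 : g ^ ((m - 1) ^ 2) = 1 := by
      rw [← h1]
      group
    have := orderOf_dvd_iff_zpow_eq_one.2 h2
    rw [hn] at this
    exact_mod_cast this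
  have hd2 : ((p : ℤ) ^ n) ∣ m ^ p ^ n - 1 := by
    rcases n with _ | k
    · simp
    · have hpm : (p : ℤ) ∣ m - 1 :=
        (Nat.prime_iff_prime_int.1 (Fact.out : p.Prime)).dvd_of_dvd_pow
          ((dvd_pow_self _ (Nat.succ_ne_zero k)).trans hd)
      have := dvd_sub_pow_of_dvd_sub hpm (k + 1)
      rw [one_pow] at this
      exact (pow_dvd_pow _ (Nat.le_succ _)).trans this
  have hpow : ∀ (k : ℕ) (a : Q), (χ ^ k) a = a ^ (m ^ k) := by
    intro k
    induction k with
    | zero => intro a; simp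
    | succ k ih => intro a; rw [pow_succ', MulAut.mul_apply, ih, map_zpow, hm, ← zpow_mul, pow_succ, mul_comm]
  have hone : χ ^ p ^ n = 1 := by
    refine MulEquiv.ext fun a => ?_
    rw [hpow, MulAut.one_apply]
    obtain ⟨j, rfl⟩ := Subgroup.mem_zpowers_iff.1 (hg a)
    have h3 : g ^ (m ^ p ^ n - 1) = 1 := by
      refine orderOf_dvd_iff_zpow_eq_one.1 ?_
      rw [hn]
      exact_mod_cast hd2
    rw [zpow_sub, zpow_one, mul_inv_eq_one] at h3
    rw [← zpow_mul, mul_comm, zpow_mul, h3]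
  let x : F.autGroup Q := ⟨χ, hχ⟩
  have hcomm : ∀ u v : F.autGroup Q, u * v = v * u := fun u v => by
    obtain ⟨i, hi⟩ := MonoidHom.map_cyclic (u : MulAut Q).toMonoidHom
    obtain ⟨j, hj⟩ := MonoidHom.map_cyclic (v : MulAut Q).toMonoidHom
    replace hi : ∀ a, (u : MulAut Q) a = a ^ i := hi
    replace hj : ∀ a, (v : MulAut Q) a = a ^ j := hj
    refine Subtype.ext (MulEquiv.ext fun a => ?_)
    show (u : MulAut Q) ((v : MulAut Q) a) = (v : MulAut Q) ((u : MulAut Q) a)
    rw [hj, hi, hi, hj, ← zpow_mul, ← zpow_mul, mul_comm]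
  have : (Subgroup.zpowers x).Normal :=
    ⟨fun y hy c => by rw [hcomm c y, mul_inv_cancel_right]; exact hy⟩
  refine ⟨x, Solv.le_pCore (p := p) (N := Subgroup.zpowers x) (fun y => ⟨n, ?_⟩)
    (Subgroup.mem_zpowers x), rfl⟩
  obtain ⟨j, hj⟩ := Subgroup.mem_zpowers_iff.1 y.2
  apply Subtype.ext
  rw [Subgroup.coe_pow, ← hj, ← zpow_natCast, ← zpow_mul, mul_comm, zpow_mul, zpow_natCast,
    show x ^ p ^ n = 1 from Subtype.ext hone, one_zpow, Subgroup.coe_one]

theorem main (hS : IsPGroup p S) :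
    (∀ Q : Subgroup Ω, F.IsFullyNormalized Q → StableAt p F Q) ↔
      ∀ R : Subgroup Ω, F.IsFullyNormalized R → ¬ IsCyclic R →
        ∀ N : FusionSystem (normalizerIn S R), F.IsNormalizerSystem R N →
          ∀ Q : Subgroup Ω, N.IsFullyNormalized Q → StableAt p N Q := by
  constructor
  · intro h R _ _ N hN Q hQ
    exact stableAt_sub (autGroup_normalizerSystem_le hN)
      (stableAt_all h (hQ.1.trans normalizerIn_le))
  · intro h Q hQ
    by_cases hc : IsCyclic Q
    · exact stableAt_of_cyclic hS hQ.1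
    · obtain ⟨N, hN⟩ := exists_normalizerSystem F hQ.1
      have hQT : Q ≤ normalizerIn S Q := le_normalizerIn hQ.1
      have hfn : N.IsFullyNormalized Q := ⟨hQT, fun Q' hc' => by
        obtain ⟨f, hf⟩ := isConj_iff_exists_isIso.1 hc'
        obtain ⟨-, -, k, -, hke, hkQ⟩ := (isMor_normalizer_iff hN).1 hf.1
        have hQ' : Q' = Q := by
          ext y
          rw [hf.2, hkQ.2]
          exact ⟨fun ⟨x, hx, e⟩ => ⟨x, hx, (hke x hx).trans e⟩,
            fun ⟨x, hx, e⟩ => ⟨x, hx, (hke x hx).symm.trans e⟩⟩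
        rw [hQ']⟩
      have heq : N.autGroup Q = F.autGroup Q := by
        refine le_antisymm (autGroup_normalizerSystem_le hN) fun α hα => ?_
        refine mem_autGroup_of_isMor (f := autFun α) ?_ fun x => (autFun_coe α x).symm
        refine (isMor_normalizer_iff hN).2
          ⟨hQT, fun x hx => hQT (autFun_mem α hx), autFun α, ?_, fun _ _ => rfl,
            isIso_autFun hQ.1 hα⟩
        rw [sup_idem]
        exact isMor_of_mem_autGroup hQ.1 hα
      have := h Q hQ hc N hN Q hfn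
      unfold StableAt at this ⊢
      rw [heq] at this
      exact this

end Cfsg.Agent.Fusion.PStab
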