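import Mathlib
import Cfsg.Agent.Lib.Fusion.PStableNormalizers
import Cfsg.Agent.Lib.Fusion.Centric
import Cfsg.Agent.Lib.Fusion.Criteria

/-!
p-stability is decided on the normalizer systems of centric radical subgroups.
-/

set_option autoImplicit false

universe v

namespace Cfsg.Agent.Fusion.PStab

open Cfsg Cfsg.FusionSystem

variable {Ω : Type v} [Group Ω] {S : Subgroup Ω} [Finite S] {F : FusionSystem S} {p : ℕ} [Fact p.Prime]
  {P Q R : Subgroup Ω}

/-- Every automorphism of `Q` in the system extends over `P`, stabilising `P`. -/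
def Ext (F : FusionSystem S) (Q P : Subgroup Ω) : Prop :=
  Q ≤ normalizerIn S P ∧ ∀ f : Ω → Ω, IsIso F Q Q f →
    ∃ k, IsMor F (Q ⊔ P) k ∧ (∀ x ∈ Q, k x = f x) ∧ IsIso F P P k

omit [Finite S] [Fact p.Prime] in
theorem autGroup_le_of_ext (h : Ext F Q P) {N : FusionSystem (normalizerIn S P)}
    (hN : F.IsNormalizerSystem P N) : F.autGroup Q ≤ N.autGroup Q := fun α hα => by
  have hQS : Q ≤ S := h.1.trans normalizerIn_le
  obtain ⟨k, hk, hke, hkP⟩ := h.2 _ (isIso_autFun hQS hα)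
  exact mem_autGroup_of_isMor (f := autFun α) ((isMor_normalizer_iff hN).2
    ⟨h.1, fun x hx => h.1 (autFun_mem α hx), k, hk, hke, hkP⟩) fun x => (autFun_coe α x).symm

theorem exists_ext_centric (hS : IsPGroup p S) (hF : F.IsSaturated p) (hQ : F.IsFullyNormalized Q) :
    ∃ P, F.IsCentric P ∧ Ext F Q P := by
  have hC := fullyNormalized_fullyCentralized hS hF hQ
  have hR := (fullyNormalized_receptive hS hF hQ).2
  have hle : Q ⊔ centralizerIn S Q ≤ S := sup_le hQ.1 centralizerIn_le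
  refine ⟨Q ⊔ centralizerIn S Q, ⟨hle, fun R hc => ?_⟩, ?_, fun f hf => ?_⟩
  · obtain ⟨u, hu⟩ := isConj_iff_exists_isIso.1 hc
    have hQ' := (hu.1.restrict (le_sup_left : Q ≤ Q ⊔ centralizerIn S Q)).isIso
    set Q' := (hu.1.restrict (le_sup_left : Q ≤ Q ⊔ centralizerIn S Q)).image Q le_rfl
    have hcard := hC.2 Q' (isConj_iff_exists_isIso.2 ⟨u, hQ'⟩)
    have hC' := (hu.1.restrict (le_sup_right : centralizerIn S Q ≤ Q ⊔ centralizerIn S Q)).isIso
    set C' := (hu.1.restrict (le_sup_right : centralizerIn S Q ≤ Q ⊔ centralizerIn S Q)).image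
      (centralizerIn S Q) le_rfl
    have hCle : C' ≤ centralizerIn S Q' := by
      rintro _ ⟨c, hc', rfl⟩
      exact hu.1.apply_mem_centralizerIn le_sup_left hQ' (Subgroup.mem_sup_right hc') hc'
    have : Finite (centralizerIn S Q') := finite_of_le centralizerIn_le
    have heq : C' = centralizerIn S Q' :=
      Subgroup.eq_of_le_of_card_ge hCle (hcard.trans hC'.card_eq.ge)
    intro x hx
    have hx' : x ∈ centralizerIn S Q' := mem_centralizerIn.2 ⟨hx.1, fun y hy => by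
      obtain ⟨a, ha, rfl⟩ := hQ'.exists_apply hy
      exact (mem_centralizerIn.1 hx).2 _ (hu.apply_mem (Subgroup.mem_sup_left ha))⟩
    rw [← heq] at hx'
    obtain ⟨c, hc', rfl⟩ := hx'
    exact hu.apply_mem (Subgroup.mem_sup_right hc')
  · exact le_sup_left.trans (le_normalizerIn hle)
  · obtain ⟨k, hk, hke⟩ := exists_extension_centralizer hR hf
    have hkQ : IsIso F Q Q k := hf.congr hke
    refine ⟨k, by rwa [← sup_assoc, sup_idem], hke, hk.isIso_self fun x hx => ?_⟩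
    exact hk.apply_mem_sup (fun y hy => Subgroup.mem_sup_left (hkQ.apply_mem hy))
      (fun y hy => Subgroup.mem_sup_right
        (hk.apply_mem_centralizerIn le_sup_left hkQ (Subgroup.mem_sup_right hy) hy)) hx

theorem ext_transport (hS : IsPGroup p S) (hF : F.IsSaturated p) (h : Ext F Q P) (hPS : P ≤ S) :
    ∃ P' Q' g, F.IsFullyNormalized P' ∧ F.IsConj P P' ∧ IsIso F Q Q' g ∧ Ext F Q' P' := by
  obtain ⟨P', hc, hP'⟩ := exists_fullyNormalized (F := F) hPS
  obtain ⟨u, ρ, hu, hρ, hρe, hρN⟩ := exists_iso_to_fullyNormalized hS hF hc hP'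
  have hρP : IsIso F P P' ρ := hu.congr hρe
  have hsup : Q ⊔ P ≤ normalizerIn S P := sup_le h.1 (le_normalizerIn hPS)
  have hρQ := (hρ.restrict h.1).isIso
  set Q' := (hρ.restrict h.1).image Q le_rfl
  refine ⟨P', Q', ρ, hP', hc, hρQ, ?_, fun f hf => ?_⟩
  · rintro _ ⟨x, hx, rfl⟩
    exact hρN x (h.1 hx)
  · obtain ⟨σ, hσ, hσρ, hρσ⟩ := (hρ.restrict hsup).isIso.exists_symm
    obtain ⟨τ, hτ, hτρ, hρτ⟩ := hρQ.exists_symm
    obtain ⟨k, hk, hke, hkP⟩ := h.2 _ ((hρQ.trans hf).trans hτ)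
    have hkQ : IsIso F Q Q k := ((hρQ.trans hf).trans hτ).congr hke
    have hle : Q' ⊔ P' ≤ (hρ.restrict hsup).image (Q ⊔ P) le_rfl := by
      refine sup_le ?_ fun y hy => ?_
      · rintro _ ⟨x, hx, rfl⟩
        exact ⟨x, Subgroup.mem_sup_left hx, rfl⟩
      · obtain ⟨x, hx, rfl⟩ := hρP.exists_apply hy
        exact ⟨x, Subgroup.mem_sup_right hx, rfl⟩
    have h1 : ∀ x ∈ Q ⊔ P, k x ∈ Q ⊔ P := fun x hx =>
      hk.apply_mem_sup (fun y hy => Subgroup.mem_sup_left (hkQ.apply_mem hy))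
        (fun y hy => Subgroup.mem_sup_right (hkP.apply_mem hy)) hx
    have hk1 : IsMor F (Q' ⊔ P') (ρ ∘ (k ∘ σ)) :=
      ((hσ.1.restrict hle).comp hk fun x hx => hσ.apply_mem (hle hx)).comp
        (hρ.restrict hsup) fun x hx => h1 _ (hσ.apply_mem (hle hx))
    refine ⟨_, hk1, fun y hy => ?_, (hk1.restrict le_sup_right).isIso_self fun y hy => ?_⟩
    · obtain ⟨x, hx, rfl⟩ := hρQ.exists_apply hy
      show ρ (k (σ (ρ x))) = f (ρ x)
      rw [hσρ x (Subgroup.mem_sup_left hx), hke x hx]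
      exact hρτ _ (hf.apply_mem hy)
    · obtain ⟨x, hx, rfl⟩ := hρP.exists_apply hy
      show ρ (k (σ (ρ x))) ∈ P'
      rw [hσρ x (Subgroup.mem_sup_right hx)]
      exact hρP.apply_mem (hkP.apply_mem hx)

theorem ext_enlarge (hS : IsPGroup p S) (hF : F.IsSaturated p) (hP : F.IsFullyNormalized P)
    (hPc : F.IsCentric P) (hr : ¬ F.IsRadical p P) (h : Ext F Q P) :
    ∃ U, P < U ∧ F.IsCentric U ∧ Ext F Q U := by
  obtain ⟨hA, hR⟩ := fullyNormalized_receptive hS hF hP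
  have hPS := hP.1
  have := finite_autGroup (F := F) hPS
  let A := F.autGroup P
  let pm : Subgroup (MulAut P) := (Cfsg.pCore p A).map A.subtype
  have hpmS : pm ≤ autInducedBy S P := by
    obtain ⟨T, hT⟩ := hA.2
    rintro _ ⟨x, hx, rfl⟩
    have := Solv.pCore_le_sylow T hx
    rw [hT] at this
    exact this
  have hinnle : Inn P ≤ pm := by
    intro α hα
    have hn : ((Inn P).subgroupOf A).Normal := by
      have : (Inn P).Normal := ⟨by
        rintro _ ⟨a, rfl⟩ β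
        exact ⟨β a, MulEquiv.ext fun x => by simp⟩⟩
      exact Subgroup.normal_subgroupOf
    have hp' : IsPGroup p ((Inn P).subgroupOf A) :=
      ((isPGroup_autInducedBy hS P).to_le (inn_le_autInducedBy hPS)).comap_of_injective
        A.subtype Subtype.val_injective
    exact ⟨⟨α, inn_le_autGroup hPS hα⟩, Solv.le_pCore hp' hα, rfl⟩
  let U : Subgroup Ω := S ⊓ (pm.comap P.normalizerMonoidHom).map
    (Subgroup.normalizer (P : Set Ω)).subtype
  have hmem : ∀ g, g ∈ U ↔ g ∈ S ∧ ∃ hg : g ∈ Subgroup.normalizer (P : Set Ω),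
      P.normalizerMonoidHom ⟨g, hg⟩ ∈ pm := fun g => by
    constructor
    · rintro ⟨hg, ⟨⟨g', hg'⟩, hgp, rfl⟩⟩
      exact ⟨hg, hg', hgp⟩
    · rintro ⟨hg, hg', hgp⟩
      exact ⟨hg, ⟨⟨g, hg'⟩, hgp, rfl⟩⟩
  have hUS : U ≤ S := inf_le_left
  have hPU : P ≤ U := fun a ha => (hmem a).2
    ⟨hPS ha, Subgroup.le_normalizer ha, hinnle ⟨⟨a, ha⟩, by ext x; rfl⟩⟩
  have hne : P ≠ U := fun heq => hr ⟨hPS, le_antisymm (fun α hα => by
    obtain ⟨a, ha, han, hx⟩ := mem_autInducedBy.1 (hpmS hα)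
    have hα' : P.normalizerMonoidHom ⟨a, han⟩ = α := MulEquiv.ext fun x => Subtype.ext (hx x).symm
    have haP : a ∈ P := heq ▸ (hmem a).2 ⟨ha, han, hα'.symm ▸ hα⟩
    exact ⟨⟨a, haP⟩, MulEquiv.ext fun x => Subtype.ext (hx x).symm⟩) hinnle⟩
  have hUn : U ≤ normalizerIn S P := fun g hg => ⟨hUS hg, ((hmem g).1 hg).2.1⟩
  refine ⟨U, lt_of_le_of_ne hPU hne, isCentric_of_ge hPc hPU hUS, ?_, fun f hf => ?_⟩
  · intro q hq
    refine ⟨(h.1 hq).1, mem_normalizer_of_conj_mem hUS fun g hg => ?_⟩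
    obtain ⟨hgS, hgn, hgp⟩ := (hmem g).1 hg
    have hqn : q ∈ Subgroup.normalizer (P : Set Ω) := (h.1 hq).2
    refine (hmem _).2 ⟨S.mul_mem (S.mul_mem (h.1 hq).1 hgS) (S.inv_mem (h.1 hq).1),
      Subgroup.mul_mem _ (Subgroup.mul_mem _ hqn hgn) (Subgroup.inv_mem _ hqn), ?_⟩
    have hqA : P.normalizerMonoidHom ⟨q, hqn⟩ ∈ A :=
      autInducedBy_le_autGroup hPS (mem_autInducedBy.2 ⟨q, (h.1 hq).1, hqn, fun x => rfl⟩)
    obtain ⟨x, hx, hxe⟩ := hgp
    refine ⟨⟨_, hqA⟩ * x * ⟨_, hqA⟩⁻¹, (inferInstance : (Cfsg.pCore p A).Normal).conj_mem _ hx _, ?_⟩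
    rw [map_mul, map_mul, map_inv, hxe]
    show P.normalizerMonoidHom ⟨q, hqn⟩ * _ * (P.normalizerMonoidHom ⟨q, hqn⟩)⁻¹ = _
    rw [← map_inv, ← map_mul, ← map_mul]
    rfl
  · obtain ⟨k, hk, hke, hkP⟩ := h.2 f hf
    have hkQ : IsIso F Q Q k := hf.congr hke
    let α := autOf hkP
    have hαA : α ∈ A := mem_autGroup_of_isMor hkP.1 fun x => rfl
    -- elements of `U` transported by `α`
    have htr : ∀ g ∈ U, ∃ hh ∈ S, ∃ hn : hh ∈ Subgroup.normalizer (P : Set Ω),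
        P.normalizerMonoidHom ⟨hh, hn⟩ ∈ pm ∧ ∀ x ∈ P, k (g * x * g⁻¹) = hh * k x * hh⁻¹ := by
      intro g hg
      obtain ⟨hgS, hgn, hgp⟩ := (hmem g).1 hg
      obtain ⟨y, hy, hye⟩ := hgp
      have hc : α * P.normalizerMonoidHom ⟨g, hgn⟩ * α⁻¹ ∈ pm :=
        ⟨⟨α, hαA⟩ * y * ⟨α, hαA⟩⁻¹, (inferInstance : (Cfsg.pCore p A).Normal).conj_mem _ hy _, by
          rw [map_mul, map_mul, map_inv, hye]; rfl⟩
      obtain ⟨hh, hhS, hhn, hx⟩ := mem_autInducedBy.1 (hpmS hc)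
      refine ⟨hh, hhS, hhn, ?_, fun x hxP => ?_⟩
      · convert hc using 1
        exact MulEquiv.ext fun z => Subtype.ext (hx z).symm
      · have := hx (α ⟨x, hxP⟩)
        simp only [MulAut.mul_apply, MulAut.inv_apply, MulEquiv.symm_apply_apply] at this
        exact this
    have hX : Q ⊔ U ≤ extSubgroup S P k := by
      refine sup_le (fun q hq => ?_) (fun g hg => ?_)
      · exact ⟨(h.1 hq).1, (h.1 hq).2, k q, hkQ.le (hkQ.apply_mem hq), fun x hx =>
          hk.map_conj (Subgroup.mem_sup_right hx) (Subgroup.mem_sup_left hq)⟩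
      · obtain ⟨hh, hhS, -, -, he⟩ := htr g hg
        exact ⟨hUS hg, (hUn hg).2, hh, hhS, he⟩
    obtain ⟨ψ, hψ, hψe⟩ := exists_extension hR hkP fun a ha => hX ha
    have hψP : ∀ x ∈ P, ψ x = k x := fun x hx => hψe x hx (Subgroup.mem_sup_right (hPU hx))
    have hψU : ∀ g ∈ U, ψ g ∈ U := fun g hg => by
      obtain ⟨hh, hhS, hhn, hhp, he⟩ := htr g hg
      have hψPP : IsIso F P P ψ := hkP.congr hψP
      have hn' := hψ.apply_mem_normalizerIn (hPU.trans le_sup_right) hψPP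
        (Subgroup.mem_sup_right hg) (hUn hg).2
      refine (hmem _).2 ⟨hn'.1, hn'.2, ?_⟩
      convert hhp using 1
      refine MulEquiv.ext fun z => Subtype.ext ?_
      obtain ⟨x, hxP, hxe⟩ := hkP.exists_apply z.2
      show ψ g * (z : Ω) * (ψ g)⁻¹ = hh * (z : Ω) * hh⁻¹
      rw [← hxe, ← he x hxP, ← hψP x hxP,
        ← hψ.map_conj (Subgroup.mem_sup_right (hPU hxP)) (Subgroup.mem_sup_right hg),
        hψP _ (conj_mem_of_mem_normalizer (hUn hg).2 hxP)]
    obtain ⟨z, hz, -, htw⟩ := exists_twist_of_eqOn_centric hS hF hPc (le_sup_right : P ≤ Q ⊔ P)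
      (hψ.restrict (sup_le le_sup_left (hPU.trans le_sup_right))) hk hψP
    have hzU : z ∈ U := hPU hz
    have hc : IsMor F (Q ⊔ U) (ψ ∘ fun y => z * y * z⁻¹) :=
      (isMor_conj hψ.le (hUS hzU)).comp hψ fun y hy =>
        Subgroup.mul_mem _ (Subgroup.mul_mem _ (Subgroup.mem_sup_right hzU) hy)
          (Subgroup.inv_mem _ (Subgroup.mem_sup_right hzU))
    refine ⟨_, hc, fun x hx => ?_, (hc.restrict le_sup_right).isIso_self fun y hy => ?_⟩
    · show ψ (z * x * z⁻¹) = f x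
      rw [← htw x (Subgroup.mem_sup_left hx), hke x hx]
    · exact hψU _ (U.mul_mem (U.mul_mem hzU hy) (U.inv_mem hzU))

theorem exists_radical (hS : IsPGroup p S) (hF : F.IsSaturated p) :
    ∀ (n : ℕ) (P Q : Subgroup Ω), Nat.card S - Nat.card P ≤ n → F.IsCentric P → Ext F Q P →
      ∃ R Q' g, F.IsFullyNormalized R ∧ F.IsCentric R ∧ F.IsRadical p R ∧
        IsIso F Q Q' g ∧ Ext F Q' R := by
  intro n
  induction n using Nat.strong_induction_on with
  | _ n ih =>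
    intro P Q hn hPc h
    obtain ⟨P', Q', g, hP', hc, hg, h'⟩ := ext_transport hS hF h hPc.1
    have hP'c : F.IsCentric P' :=
      ⟨hP'.1, fun R hR => hPc.2 R (isConj_trans hc hR)⟩
    obtain ⟨u, hu⟩ := isConj_iff_exists_isIso.1 hc
    by_cases hr : F.IsRadical p P'
    · exact ⟨P', Q', g, hP', hP'c, hr, hg, h'⟩
    · obtain ⟨U, hlt, hUc, hU⟩ := ext_enlarge hS hF hP' hP'c hr h'
      have : Finite U := finite_of_le hUc.1
      have h1 : Nat.card P < Nat.card U := by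
        rw [← hu.card_eq]
        exact Set.Finite.card_lt_card (Set.toFinite (U : Set Ω)) (SetLike.coe_ssubset_coe.2 hlt)
      have h2 : Nat.card U ≤ Nat.card S := Subgroup.card_le_of_le hUc.1
      obtain ⟨R, Q'', g', hR1, hR2, hR3, hg', h''⟩ := ih (Nat.card S - Nat.card U) (by omega) U Q' le_rfl hUc hU
      exact ⟨R, Q'', g' ∘ g, hR1, hR2, hR3, hg.trans hg', h''⟩

theorem main_radical (hS : IsPGroup p S) (hF : F.IsSaturated p) :
    (∀ Q : Subgroup Ω, F.IsFullyNormalized Q → StableAt p F Q) ↔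
      ∀ R : Subgroup Ω, F.IsFullyNormalized R → F.IsCentric R → F.IsRadical p R →
        ∀ N : FusionSystem (normalizerIn S R), F.IsNormalizerSystem R N →
          ∀ Q : Subgroup Ω, N.IsFullyNormalized Q → StableAt p N Q := by
  constructor
  · intro h R _ _ _ N hN Q hQ
    exact stableAt_sub (autGroup_normalizerSystem_le hN)
      (stableAt_all h (hQ.1.trans normalizerIn_le))
  · intro h Q hQ
    obtain ⟨P, hPc, hP⟩ := exists_ext_centric hS hF hQ
    obtain ⟨R, Q', g, hR1, hR2, hR3, hg, hE⟩ := exists_radical hS hF _ P Q le_rfl hPc hP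
    obtain ⟨N, hN⟩ := exists_normalizerSystem F hR1.1
    have : Finite (normalizerIn S R) := finite_of_le normalizerIn_le
    have hs := stableAt_all (p := p) (h R hR1 hR2 hR3 N hN) hE.1
    have heq : N.autGroup Q' = F.autGroup Q' :=
      le_antisymm (autGroup_normalizerSystem_le hN) (autGroup_le_of_ext hE hN)
    refine stableAt_of_iso hg ?_
    unfold StableAt at hs ⊢
    rw [heq] at hs
    exact hs

end Cfsg.Agent.Fusion.PStab
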