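import Mathlib
import Cfsg.Agent.Lib.Fusion.Biset
import Cfsg.Agent.Lib.Fusion.MarksEquiv

/-!
Park's theorem: every fusion system on a finite group is induced by conjugation in some finite group.
-/

set_option autoImplicit false

universe u

namespace Cfsg.Agent.Fusion

open Cfsg Cfsg.FusionSystem

variable {Ω : Type u} [Group Ω] {S : Subgroup Ω}

theorem exists_park_realization [Finite S] (F : FusionSystem S) :
    ∃ (G : Type u) (_ : Group G) (_ : Finite G) (ι : S →* G), F.IsRealizedBy ι := by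
  classical
  let Δ : Subgroup (S × S) := ((MonoidHom.id S).prod (MonoidHom.id S)).range
  have hΔ : ∀ z : S × S, z ∈ Δ ↔ z.1 = z.2 :=
    fun z => ⟨fun ⟨s, hs⟩ => hs ▸ rfl, fun h => ⟨z.1, Prod.ext rfl h⟩⟩
  have hΔF : TwFam F Δ := ⟨id, isMor_id prOne_le, fun z hz => by rw [(hΔ z).1 hz]; rfl⟩
  obtain ⟨c, hcst, hcF, hc0⟩ := exists_stable_scaled (K := S × S) (TwFam F) (TwRel F)
    (fun D E h => ⟨h.1, h.symm.1⟩) (fun D E h => h.card) (fun D hD k => (hD.conj k).symm.1)
    (c₀ := fun D => if D = Δ then 1 else 0) (fun D hD => by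
      split_ifs at hD with h
      · exact h ▸ hΔF
      · exact absurd rfl hD) (Nat.card S + 1) (fun D E hD hr => by
      exfalso
      have := hr.1.card_prOne
      have h2 : Nat.card (prOne D) ≤ Nat.card S :=
        Nat.card_le_card_of_injective (Subgroup.inclusion prOne_le) (Subgroup.inclusion_injective _)
      omega)
  have hzero : ∀ E : Subgroup (S × S), ¬ TwFam F E → mark c E = 0 := by
    intro E hE
    refine Finset.sum_eq_zero fun D _ => ?_
    by_contra h
    obtain ⟨hcD, hm⟩ := mul_ne_zero_iff.1 h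
    obtain ⟨k, hk⟩ := exists_conj_le_of_markOne hm
    refine hE (((hcF D hcD).conj k).symm.1.mono fun e he => ⟨k⁻¹ * e * k, hk e he, ?_⟩)
    simp [mul_assoc]
  let act : S × S →* Equiv.Perm (cosetSum c) := MulAction.toPermHom (S × S) (cosetSum c)
  have hact : ∀ z x, act z x = z • x := fun z x => rfl
  let G : Subgroup (Equiv.Perm (cosetSum c)) :=
    Subgroup.centralizer (Set.range fun t : S => act (1, t))
  let ι : S →* G := (act.comp (MonoidHom.inl S S)).codRestrict G fun s =>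
    Subgroup.mem_centralizer_iff.2 (by
      rintro _ ⟨t, rfl⟩
      show act (1, t) * act (s, 1) = act (s, 1) * act (1, t)
      rw [← map_mul, ← map_mul]
      simp)
  have h0 : 0 < c Δ := lt_of_lt_of_le (by simp) (hc0 Δ)
  let e₀ : cosetSum c := ⟨⟨Δ, ⟨0, h0⟩⟩, ((1 : S × S) : (S × S) ⧸ Δ)⟩
  have he₀ : ∀ z : S × S, z • e₀ = e₀ ↔ z.1 = z.2 := fun z => by
    refine (smul_cosetSum_eq_iff (c := c) ⟨Δ, ⟨0, h0⟩⟩ _ z).trans ?_
    rw [smul_coset_eq_iff, inv_one, one_mul, mul_one, hΔ]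
  have hinj : Function.Injective ι := by
    rw [injective_iff_map_eq_one]
    intro s hs
    have h1 : act (s, 1) = 1 := congrArg Subtype.val hs
    have h2 : act (s, 1) e₀ = e₀ := by rw [h1, Equiv.Perm.one_apply]
    rw [hact] at h2
    exact (he₀ (s, 1)).1 h2
  refine ⟨G, inferInstance, inferInstance, ι, hinj, fun P hP φ hφ => ⟨fun h => ?_, ?_⟩⟩
  · have : Finite P := finite_of_le hP
    let φS : P →* S := φ.codRestrict S hφ
    let μ : P × S →* S × S := (Subgroup.inclusion hP).prodMap (MonoidHom.id S)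
    let ν : P × S →* S × S := φS.prodMap (MonoidHom.id S)
    obtain ⟨g, hg⟩ := exists_equiv_of_fix (act.comp μ) (act.comp ν) fun U => by
      have hfix : ∀ m : P × S →* S × S, (permFix (act.comp m) U).ncard = mark c (U.map m) := by
        intro m
        rw [← ncard_fix_cosetSum]
        congr 1
        ext x
        exact ⟨fun hx _ ⟨u, hu, he⟩ => he ▸ hx u hu, fun hx u hu => hx _ ⟨u, hu, rfl⟩⟩
      rw [hfix, hfix]
      have hle : prOne (U.map μ) ≤ P := by
        rintro _ ⟨_, ⟨u, -, rfl⟩, rfl⟩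
        exact u.1.2
      have hθ : IsMor F (prOne (U.map μ)) (extFun φ) := (isMor_extFun h).restrict hle
      have htr : IsTrans (U.map μ) (U.map ν) (extFun φ) 1 := by
        intro z'
        constructor
        · rintro ⟨u, hu, rfl⟩
          exact ⟨μ u, ⟨u, hu, rfl⟩, (extFun_coe φ u.1).symm, by simp [μ, ν]⟩
        · rintro ⟨_, ⟨u, hu, rfl⟩, h1, h2⟩
          refine ⟨u, hu, Prod.ext (Subtype.ext ?_) ?_⟩
          · exact (h1.trans (extFun_coe φ u.1)).symm
          · simpa [μ, ν] using h2.symm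
      rcases rel_or_not_of_trans htr hθ with hr | ⟨h1, h2⟩
      · exact hcst _ _ hr
      · rw [hzero _ h1, hzero _ h2]
    refine ⟨⟨g, Subgroup.mem_centralizer_iff.2 ?_⟩, fun x => Subtype.ext (Equiv.ext fun y => ?_)⟩
    · rintro _ ⟨t, rfl⟩
      refine Equiv.ext fun y => ?_
      have := hg (1, t) y
      simp only [MonoidHom.comp_apply, μ, ν, MonoidHom.coe_prodMap, Prod.map, map_one,
        MonoidHom.id_apply] at this
      exact this.symm
    · have := hg (x, 1) (g⁻¹ y)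
      simp only [MonoidHom.comp_apply, μ, ν, MonoidHom.coe_prodMap, Prod.map, map_one] at this
      rw [show g (g⁻¹ y) = y from g.apply_symm_apply y] at this
      exact this.symm
  · rintro ⟨g, hg⟩
    obtain ⟨⟨⟨D, i⟩, q⟩, he⟩ : ∃ w, (g : Equiv.Perm (cosetSum c)) e₀ = w := ⟨_, rfl⟩
    obtain ⟨k, rfl⟩ := QuotientGroup.mk_surjective q
    have hD : TwFam F D := hcF D fun h0 => (h0 ▸ i : Fin 0).elim0
    obtain ⟨f, hf, hfz⟩ := (hD.conj k).symm.1
    let ψ : P →* S × S := (φ.codRestrict S hφ).prod (Subgroup.inclusion hP)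
    have hmem : ∀ x : P, ψ x ∈ D.map (MulAut.conj k).toMonoidHom := by
      intro x
      have h1 : act (⟨φ x, hφ x⟩, 1) = (g : Equiv.Perm (cosetSum c)) * act (⟨x, hP x.2⟩, 1) *
          (g : Equiv.Perm (cosetSum c))⁻¹ := congrArg Subtype.val (hg x)
      have h2 := Subgroup.mem_centralizer_iff.1 g.2 _ ⟨⟨x, hP x.2⟩, rfl⟩
      have h3 : act (ψ x) ((g : Equiv.Perm (cosetSum c)) e₀) = (g : Equiv.Perm (cosetSum c)) e₀ := by
        have e : act (ψ x) = act (⟨φ x, hφ x⟩, 1) * act (1, ⟨x, hP x.2⟩) := by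
          rw [← map_mul]; congr 1; exact Prod.ext (by simp [ψ]) (by simp [ψ]; rfl)
        rw [e, h1, Equiv.Perm.mul_apply, Equiv.Perm.mul_apply, Equiv.Perm.mul_apply,
          ← Equiv.Perm.mul_apply (act (1, _)), h2, Equiv.Perm.mul_apply]
        rw [show (g : Equiv.Perm (cosetSum c))⁻¹ ((g : Equiv.Perm (cosetSum c)) (act (1, ⟨x, hP x.2⟩) e₀)) =
          act (1, ⟨x, hP x.2⟩) e₀ from Equiv.symm_apply_apply _ _, ← Equiv.Perm.mul_apply (act (_, 1)),
          ← map_mul]
        congr 1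
        rw [hact]
        exact (he₀ _).2 (by simp)
      rw [he, hact] at h3
      have h4 := (smul_cosetSum_eq_iff (c := c) ⟨D, i⟩ _ (ψ x)).1 h3
      rw [smul_coset_eq_iff] at h4
      refine ⟨k⁻¹ * ψ x * k, h4, ?_⟩
      show k * (k⁻¹ * ψ x * k) * k⁻¹ = ψ x
      group
    have hfun : ∀ x : P, f (φ x) = x := fun x => (hfz _ (hmem x)).symm
    have hf' : IsMor F φ.range f := hf.restrict (by
      rintro _ ⟨x, rfl⟩
      exact ⟨ψ x, hmem x, rfl⟩)
    obtain ⟨gi, hgi, hgl, -⟩ := hf'.isIso.exists_symm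
    refine mem_hom_of_isMor (hgi.1.restrict fun x hx => ?_) fun x => ?_
    · exact hf'.mem_image.2 ⟨φ ⟨x, hx⟩, ⟨_, rfl⟩, hfun ⟨x, hx⟩⟩
    · rw [← hgl (φ x) ⟨x, rfl⟩, hfun]

end Cfsg.Agent.Fusion
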