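import Cfsg.Agent.Lib.Fusion.CenterControlHyp
import Cfsg.Agent.Lib.Local.WeakClosureFunctor
import Cfsg.Agent.Lib.Solv.JWeakClosure

/-!
Generation of a saturated system by the centralizer of the powers of the centre and the normalizer of the
Thompson subgroup.
-/

set_option autoImplicit false

universe v

namespace Cfsg.Agent.Fusion.PowGen

open Cfsg Cfsg.FusionSystem
open scoped commutatorElement Pointwise

variable {p : ℕ} [Fact p.Prime]

/-- The group theoretic step. -/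
theorem model_generated {L : Type v} [Group L] [Finite L] (T : Sylow p L)
    (hc : Subgroup.centralizer (pCore p L : Set L) ≤ pCore p L) (Φ : Subgroup L → L → Prop)
    (hC : ∀ (P : Subgroup L) (g : L), P ≤ T → (∀ x ∈ P, g * x * g⁻¹ ∈ (T : Subgroup L)) →
      (∀ z ∈ (T : Subgroup L) ⊓ Subgroup.centralizer ((T : Subgroup L) : Set L), g * z ^ p * g⁻¹ = z ^ p) → Φ P g)
    (hN : ∀ (P : Subgroup L) (g : L), P ≤ T → (∀ x ∈ P, g * x * g⁻¹ ∈ (T : Subgroup L)) →
      g ∈ Subgroup.normalizer (thompsonSubgroupAOf (T : Subgroup L) : Set L) → Φ P g)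
    (hcomp : ∀ (P : Subgroup L) (c n : L), P ≤ T → (∀ x ∈ P, n * x * n⁻¹ ∈ (T : Subgroup L)) →
      (∀ x ∈ P, c * (n * x * n⁻¹) * c⁻¹ ∈ (T : Subgroup L)) → Φ P n →
      Φ (P.map (MulAut.conj n).toMonoidHom) c → Φ P (c * n))
    (g : L) (P : Subgroup L) (hP : P ≤ T) (hg : ∀ x ∈ P, g * x * g⁻¹ ∈ (T : Subgroup L)) : Φ P g := by
  classical
  suffices main : ∀ (m : ℕ) (H : Subgroup L), Nat.card H = m → (T : Subgroup L) ≤ H → ∀ g ∈ H,
      ∀ P : Subgroup L, P ≤ T → (∀ x ∈ P, g * x * g⁻¹ ∈ (T : Subgroup L)) → Φ P g from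
    main _ ⊤ rfl le_top g (Subgroup.mem_top g) P hP hg
  clear hg hP P g
  intro m
  induction m using Nat.strong_induction_on with
  | _ m ih =>
  intro H hm hTH g hgH P hP hg
  subst hm
  by_cases hn : H ≤ Subgroup.normalizer (thompsonSubgroupAOf (T : Subgroup L) : Set L)
  · exact hN P g hP hg (hn hgH)
  have hidx : ¬ p ∣ (T : Subgroup L).relIndex H := fun h =>
    T.not_dvd_index (h.trans (Subgroup.relIndex_dvd_index_of_le hTH))
  obtain ⟨w, hwT, hwQ, hq⟩ := Agent.Solv.JWC.exists_quadratic hTH T.isPGroup' hidx hn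
  set Q := pCoreOf p H with hQdef
  set V := Q ⊓ Subgroup.centralizer (Q : Set L) with hVdef
  have hQH : Q ≤ H := Subgroup.map_subtype_le _
  have hHQ : ∀ h ∈ H, ∀ q ∈ Q, h * q * h⁻¹ ∈ Q := by
    rintro h hh _ ⟨q, hq', rfl⟩
    exact ⟨⟨h, hh⟩ * q * ⟨h, hh⟩⁻¹, (inferInstance : (pCore p H).Normal).conj_mem q hq' _, rfl⟩
  have hHV : ∀ h ∈ H, ∀ v ∈ V, h * v * h⁻¹ ∈ V := fun h hh v hv => ⟨hHQ h hh v hv.1,
    Subgroup.mem_centralizer_iff.2 fun q hq' => by
      have h1 := hv.2 (h⁻¹ * q * h) (by simpa using hHQ h⁻¹ (H.inv_mem hh) q hq')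
      calc q * (h * v * h⁻¹) = h * ((h⁻¹ * q * h) * v) * h⁻¹ := by group
        _ = h * (v * (h⁻¹ * q * h)) * h⁻¹ := by rw [h1]
        _ = h * v * h⁻¹ * q := by group⟩
  set C' := H ⊓ Subgroup.centralizer ((fun v : L => v ^ p) '' (V : Set L)) with hC'
  have hC'n : ∀ h ∈ H, ∀ c ∈ C', h * c * h⁻¹ ∈ C' := fun h hh c hc' =>
    ⟨H.mul_mem (H.mul_mem hh hc'.1) (H.inv_mem hh), Subgroup.mem_centralizer_iff.2 (by
      rintro _ ⟨v, hv, rfl⟩
      have h1 := hc'.2 ((h⁻¹ * v * h) ^ p) ⟨_, by simpa using hHV h⁻¹ (H.inv_mem hh) v hv, rfl⟩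
      have h2 : (h⁻¹ * v * h) ^ p = h⁻¹ * v ^ p * h := by simpa using conj_pow (a := h⁻¹) (b := v) (i := p)
      rw [h2] at h1
      calc v ^ p * (h * c * h⁻¹) = h * (h⁻¹ * v ^ p * h * c) * h⁻¹ := by group
        _ = h * (c * (h⁻¹ * v ^ p * h)) * h⁻¹ := by rw [h1]
        _ = h * c * h⁻¹ * v ^ p := by group)⟩
  have hfix : ∀ c ∈ C', ∀ z ∈ (T : Subgroup L) ⊓ Subgroup.centralizer ((T : Subgroup L) : Set L),
      c * z ^ p * c⁻¹ = z ^ p := by
    intro c hc' z hz
    have hQT : Q ≤ T := by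
      have h1 := Agent.Solv.pCore_le_sylow ((T.isPGroup'.comap_subtype (K := H)).toSylow hidx)
      rintro _ ⟨q, hq', rfl⟩
      exact h1 hq'
    have hOQ : ∀ x ∈ pCore p L, x ∈ Q := fun x hx => by
      have hxH : x ∈ H := hTH (Agent.Solv.pCore_le_sylow T hx)
      have : ((pCore p L).subgroupOf H).Normal := inferInstance
      exact ⟨⟨x, hxH⟩, Agent.Solv.le_pCore (IsPGroup.comap_subtype (Agent.Solv.isPGroup_pCore p L)) hx, rfl⟩
    have hzV : z ∈ V := ⟨hOQ z (hc (Subgroup.mem_centralizer_iff.2 fun x hx =>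
      hz.2 x (Agent.Solv.pCore_le_sylow T hx))), Subgroup.mem_centralizer_iff.2 fun q hq' => hz.2 q (hQT hq')⟩
    exact mul_inv_eq_iff_eq_mul.2 (hc'.2 _ ⟨z, hzV, rfl⟩).symm
  -- an element of `T` outside the core centralizing the powers
  obtain ⟨u, huT, huQ, huC⟩ : ∃ u ∈ (T : Subgroup L), u ∉ Q ∧ u ∈ C' := by
    have hex : ∃ j, w ^ p ^ j ∈ Q := by
      obtain ⟨k, hk⟩ := T.isPGroup' ⟨w, hwT⟩
      have hk' : w ^ p ^ k = 1 := congrArg Subtype.val hk
      exact ⟨k, by rw [hk']; exact one_mem _⟩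
    have hj0 : Nat.find hex ≠ 0 := fun h => hwQ (by
      have := Nat.find_spec hex
      rwa [h, pow_zero, pow_one] at this)
    set u := w ^ p ^ (Nat.find hex - 1)
    have huz : u ∈ Subgroup.zpowers w := pow_mem (Subgroup.mem_zpowers w) _
    have hupQ : u ^ p ∈ Q := by
      rw [← pow_mul, ← pow_succ, Nat.sub_add_cancel (Nat.pos_of_ne_zero hj0)]
      exact Nat.find_spec hex
    have huT : u ∈ (T : Subgroup L) := pow_mem hwT _
    refine ⟨u, huT, fun h => Nat.find_min hex (by omega) h, hTH huT, Subgroup.mem_centralizer_iff.2 ?_⟩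
    rintro _ ⟨v, hv, rfl⟩
    set d := ⁅v, u⁆ with hd
    have hd1 : ⁅d, u⁆ = 1 := by
      rw [← Subgroup.mem_bot, ← hq]
      exact Subgroup.commutator_mem_commutator (Subgroup.commutator_mem_commutator hv huz) huz
    have hdu : Commute d u := commutatorElement_eq_one_iff_mul_comm.1 hd1
    have hdV : d ∈ V := by
      rw [hd, commutatorElement_def, show v * u * v⁻¹ * u⁻¹ = v * (u * v⁻¹ * u⁻¹) by group]
      exact mul_mem hv (hHV u (hTH huT) _ (Subgroup.inv_mem _ hv))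
    have hdv : Commute d v := hv.2 d hdV.1
    have hconj : ∀ k : ℕ, u ^ k * v * (u ^ k)⁻¹ = (d⁻¹) ^ k * v := by
      intro k
      induction k with
      | zero => simp
      | succ k ih' =>
        have hu1 : u * v * u⁻¹ = d⁻¹ * v := by rw [hd, commutatorElement_def]; group
        calc u ^ (k + 1) * v * (u ^ (k + 1))⁻¹ = u * (u ^ k * v * (u ^ k)⁻¹) * u⁻¹ := by
              rw [pow_succ']; group
          _ = (u * (d⁻¹) ^ k * u⁻¹) * (u * v * u⁻¹) := by rw [ih']; group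
          _ = (d⁻¹) ^ (k + 1) * v := by
              rw [((hdu.inv_left.pow_left k).symm).eq, mul_inv_cancel_right, hu1, ← mul_assoc, ← pow_succ]
    have hdp : (d⁻¹) ^ p = 1 := by
      have h1 := hconj p
      have h2 : u ^ p * v = v * u ^ p := hv.2 _ hupQ
      rw [h2, mul_inv_cancel_right, right_eq_mul] at h1
      exact h1
    have h3 : u * v ^ p * u⁻¹ = v ^ p := by
      rw [← conj_pow, show u * v * u⁻¹ = d⁻¹ * v by rw [hd, commutatorElement_def]; group,
        hdv.inv_left.mul_pow, hdp, one_mul]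
    exact (mul_inv_eq_iff_eq_mul.1 h3).symm
  set D := (T : Subgroup L) ⊓ C' with hD
  set H₁ := H ⊓ Subgroup.normalizer (D : Set L) with hH₁
  let R : Sylow p H := T.isPGroup'.comap_subtype.toSylow hidx
  have : (C'.subgroupOf H).Normal := ⟨fun c hc' h => hC'n h h.2 c hc'⟩
  have hDR : ((R : Subgroup H) ⊓ C'.subgroupOf H) = D.subgroupOf H := rfl
  have hTD : (T : Subgroup L) ≤ Subgroup.normalizer (D : Set L) := fun t ht =>
    mem_normalizer_of_conj_mem (inf_le_left : D ≤ (T : Subgroup L)) fun x hx =>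
      ⟨(T : Subgroup L).mul_mem ((T : Subgroup L).mul_mem ht hx.1) ((T : Subgroup L).inv_mem ht),
        hC'n t (hTH ht) x hx.2⟩
  have hTH₁ : (T : Subgroup L) ≤ H₁ := le_inf hTH hTD
  have hlt : H₁ < H := lt_of_le_of_ne inf_le_left fun e => huQ (by
    have hHD : H ≤ Subgroup.normalizer (D : Set L) := fun x hx => (e.ge hx).2
    have : (D.subgroupOf H).Normal := ⟨fun x hx h => (Subgroup.mem_normalizer_iff.1 (hHD h.2) _).1 hx⟩
    refine ⟨⟨u, hTH huT⟩, Agent.Solv.le_pCore ?_ (show (⟨u, hTH huT⟩ : H) ∈ D.subgroupOf H from ⟨huT, huC⟩), rfl⟩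
    exact (T.isPGroup'.to_le inf_le_left).comap_subtype)
  have hsup := Local.WeakClosure.normalizer_inf_sup_eq_top R (C'.subgroupOf H)
  obtain ⟨n, hn, c₀, hc₀, hnc⟩ := Subgroup.mem_sup_of_normal_right.1 (hsup.ge (Subgroup.mem_top (⟨g, hgH⟩ : H)))
  have hnc' : (n : L) * (c₀ : L) = g := congrArg Subtype.val hnc
  have hnH₁ : (n : L) ∈ H₁ := ⟨n.2, mem_normalizer_of_conj_mem (inf_le_left : D ≤ (T : Subgroup L))
    fun x hx => by
      rw [hDR] at hn
      exact (Subgroup.mem_normalizer_iff.1 hn ⟨x, hTH hx.1⟩).1 hx⟩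
  have hc' : (n : L) * c₀ * (n : L)⁻¹ ∈ C' := hC'n n n.2 _ hc₀
  set c := (n : L) * c₀ * (n : L)⁻¹
  have hgcn : g = c * n := by rw [← hnc']; simp [c]
  have hTC : (T : Subgroup L) ≤ Subgroup.normalizer (C' : Set L) := fun t ht =>
    Subgroup.mem_normalizer_iff.2 fun x => ⟨fun hx => hC'n t (hTH ht) x hx, fun hx => by
      simpa [mul_assoc] using hC'n t⁻¹ (H.inv_mem (hTH ht)) _ hx⟩
  set K := H₁ ⊓ ((T : Subgroup L) ⊔ C') with hK
  have hmem : ∀ x ∈ P, (n : L) * x * (n : L)⁻¹ ∈ K := fun x hx => by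
    refine ⟨H₁.mul_mem (H₁.mul_mem hnH₁ (hTH₁ (hP hx))) (H₁.inv_mem hnH₁), ?_⟩
    have h1 : c⁻¹ * (g * x * g⁻¹) * c = (n : L) * x * (n : L)⁻¹ := by rw [hgcn]; group
    rw [← h1]
    exact mul_mem (mul_mem (Subgroup.inv_mem _ (Subgroup.mem_sup_right hc')) (Subgroup.mem_sup_left (hg x hx)))
      (Subgroup.mem_sup_right hc')
  obtain ⟨d, hdK, hd⟩ := Local.exists_conj_le_of_not_dvd_relIndex (le_inf hTH₁ le_sup_left : (T : Subgroup L) ≤ K)
    T.isPGroup' (fun h => T.not_dvd_index (h.trans (Subgroup.relIndex_dvd_index_of_le (le_inf hTH₁ le_sup_left))))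
    (U := P.map (MulAut.conj (n : L)).toMonoidHom)
    (by rintro _ ⟨x, hx, rfl⟩; exact hmem x hx) ((T.isPGroup'.to_le hP).map _)
  obtain ⟨t, ht, d₁, hd₁, rfl⟩ : ∃ t ∈ (T : Subgroup L), ∃ d₁ ∈ C', t * d₁ = d := by
    have h1 : d ∈ ((T : Subgroup L) : Set L) * (C' : Set L) := by
      rw [← Subgroup.coe_mul_of_left_le_normalizer_right _ _ hTC]
      exact hdK.2
    exact Set.mem_mul.1 h1
  have hd₁H : d₁ ∈ H₁ := by
    have := H₁.mul_mem (H₁.inv_mem (hTH₁ ht)) hdK.1
    rwa [inv_mul_cancel_left] at this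
  have hd' : ∀ x ∈ P, (d₁ * (n : L)) * x * (d₁ * (n : L))⁻¹ ∈ (T : Subgroup L) := fun x hx => by
    have h1 := mul_mem (mul_mem (Subgroup.inv_mem _ ht) (hd _ ⟨x, hx, rfl⟩)) ht
    simpa [mul_assoc] using h1
  have hΦ := ih _ (hlt.trans_le le_rfl |> fun h => Set.Finite.card_lt_card (Set.toFinite _) h) H₁ rfl hTH₁
    (d₁ * n) (H₁.mul_mem hd₁H hnH₁) P hP hd'
  have hge : g = (c * d₁⁻¹) * (d₁ * n) := by rw [hgcn]; group
  have hcomp' : ∀ x ∈ P, (c * d₁⁻¹) * ((d₁ * (n : L)) * x * (d₁ * (n : L))⁻¹) * (c * d₁⁻¹)⁻¹ ∈ (T : Subgroup L) :=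
    fun x hx => by
      have := hg x hx
      rw [hge] at this
      simpa [mul_assoc] using this
  rw [hge]
  refine hcomp P _ _ hP hd' hcomp' hΦ (hC _ _ ?_ ?_ (hfix _ (C'.mul_mem hc' (C'.inv_mem hd₁))))
  · rintro _ ⟨x, hx, rfl⟩; exact hd' x hx
  · rintro _ ⟨x, hx, rfl⟩; exact hcomp' x hx

/-- A predicate on maps closed under restriction, composition and inversion. -/
structure Closed {Ω : Type v} [Group Ω] (Φ : Subgroup Ω → (Ω → Ω) → Prop) : Prop where
  restrict : ∀ {P R : Subgroup Ω} {f : Ω → Ω}, Φ P f → R ≤ P → Φ R f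
  congr : ∀ {P : Subgroup Ω} {f g : Ω → Ω}, Φ P f → (∀ x ∈ P, g x = f x) → Φ P g
  comp : ∀ {P Q : Subgroup Ω} {f g : Ω → Ω}, Φ P f → Φ Q g → (∀ x ∈ P, f x ∈ Q) → Φ P (g ∘ f)
  symm : ∀ {P Q : Subgroup Ω} {f g : Ω → Ω}, Φ P f → (∀ y ∈ Q, ∃ x ∈ P, f x = y) →
    (∀ x ∈ P, g (f x) = x) → Φ Q g

/-- The centre lies in the Thompson subgroup. -/
theorem central_mem_ja {G : Type v} [Group G] (P : Subgroup G) [Finite P] {z : G} (hz : z ∈ P)
    (hc : ∀ a ∈ P, a * z = z * a) : z ∈ thompsonSubgroupAOf P :=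
  ((ZJC.centerThompsonAOf_eq P).ge (ThompsonA.center_le_zj P ⟨hz, hc⟩)).1

/-- The Thompson subgroup along a map of a system. -/
theorem ja_iso {Ω : Type v} [Group Ω] {S : Subgroup Ω} [Finite S] {F : FusionSystem S} {D B : Subgroup Ω}
    (hD : D ≤ S) {f : Ω → Ω} (hf : IsIso F D B f) :
    IsIso F (thompsonSubgroupAOf D) (thompsonSubgroupAOf B) f :=
  (jaFunctor.{v} 0).normalizer_le hD hf

/-- The generation, by induction. -/
theorem generated : ∀ (n : ℕ) {Ω : Type v} [Group Ω] {S : Subgroup Ω} [Finite S] {F : FusionSystem S},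
    Nat.card S = n → IsPGroup p S → F.IsSaturated p →
    ∀ (Φ : Subgroup Ω → (Ω → Ω) → Prop), Closed Φ → ∀ m : ℕ,
    (∀ P k, IsMor F P k → m ≤ Nat.card P →
      (∀ z ∈ S, (∀ a ∈ S, a * z = z * a) → z ^ p ∈ P ∧ k (z ^ p) = z ^ p) → Φ P k) →
    (∀ P k, IsMor F P k → m ≤ Nat.card P → thompsonSubgroupAOf S ≤ P →
      IsIso F (thompsonSubgroupAOf S) (thompsonSubgroupAOf S) k → Φ P k) →
    ∀ A f, IsMor F A f → m ≤ Nat.card A → Φ A f := by
  intro n
  induction n using Nat.strong_induction_on with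
  | _ n ih =>
  intro Ω _ S _ F hn hS hF Φ hΦ m hC hN A
  subst hn
  induction hd : Nat.card S - Nat.card A using Nat.strong_induction_on generalizing A with
  | _ d ihA =>
  subst hd
  intro f hf hmA
  have hbig : ∀ (Q : Subgroup Ω) (g : Ω → Ω), Nat.card A < Nat.card Q → IsMor F Q g → Φ Q g := by
    intro Q g hQ hg
    have := Nat.card_le_card_of_injective (Subgroup.inclusion hg.le) (Subgroup.inclusion_injective _)
    exact ihA _ (by omega) Q rfl g hg (by omega)
  rcases eq_or_lt_of_le hf.le with hAS | hAS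
  · subst hAS
    have hi := hf.isIso_self fun x hx => hf.mem hx
    exact hN _ f hf hmA (Subgroup.map_subtype_le _) (ja_iso le_rfl hi)
  have hAcard : Nat.card A < Nat.card S := card_lt_of_lt le_rfl hAS
  have hAlt : ∀ {B : Subgroup Ω}, B ≤ S → Nat.card B = Nat.card A →
      Nat.card A < Nat.card (normalizerIn S B) := by
    intro B hB hc
    rw [← hc]
    refine card_lt_of_lt normalizerIn_le (normalizerIn_self_lt hS (lt_of_le_of_ne hB fun h => ?_))
    rw [← hc, h] at hAcard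
    exact hAcard.false
  have hsup : ∀ {P Q : Subgroup Ω}, P ≤ S → Q ≤ S → Nat.card P = Nat.card A → ¬ Q ≤ P →
      Nat.card A < Nat.card ↥(P ⊔ Q) := by
    intro P Q hP hQ hc hn'
    rw [← hc]
    exact card_lt_of_lt (sup_le hP hQ) (lt_of_le_of_ne le_sup_left fun e => hn' (e ▸ le_sup_right))
  -- maps normalizing a Thompson subgroup with a large normalizer
  have hfix : ∀ (d : ℕ) (Y : Subgroup Ω), Nat.card S - Nat.card (normalizerIn S Y) = d → Y ≤ S →
      (∃ X, F.IsCentric X ∧ X ≤ normalizerIn S Y ∧ Y = thompsonSubgroupAOf X) →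
      Nat.card A < Nat.card (normalizerIn S Y) →
      ∀ (P : Subgroup Ω) (k : Ω → Ω), Nat.card P = Nat.card A → Y ≤ P → P ≤ normalizerIn S Y → IsMor F P k → IsIso F Y Y k →
        Φ P k := by
    intro d
    induction d using Nat.strong_induction_on with
    | _ d ihm =>
    intro Y hd hYS hX hlt P k hPc hYP hPN hk hkY
    subst hd
    obtain ⟨V, hcV, hV⟩ := exists_fullyNormalized (F := F) hYS
    obtain ⟨u, u', hu, hu', hue, huN⟩ := exists_iso_to_fullyNormalized hS hF hcV hV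
    have hkN : ∀ x ∈ P, k x ∈ normalizerIn S Y := fun x hx => ⟨hk.mem hx,
      mem_normalizer_of_conj_mem hYS fun y hy => by
        obtain ⟨w, hw, rfl⟩ := hkY.exists_apply hy
        rw [← hk.map_conj (hYP hw) hx]
        exact hkY.apply_mem (conj_mem_of_mem_normalizer (hPN hx).2 hw)⟩
    have hu'i := hu'.isIso
    obtain ⟨ui, hui, huil, -⟩ := hu'i.exists_symm
    have hΦu := hbig _ u' hlt hu'
    have hΦui : Φ (hu'.image (normalizerIn S Y) le_rfl) ui :=
      hΦ.symm hΦu (fun y hy => hu'i.exists_apply hy) huil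
    have hu'Y : IsIso F Y V u' := by
      refine ⟨(hu'.restrict (le_normalizerIn hYS)), fun y => ?_⟩
      rw [hu.2 y]
      exact ⟨fun ⟨x, hx, e⟩ => ⟨x, hx, (hue x hx).trans e⟩, fun ⟨x, hx, e⟩ => ⟨x, hx, (hue x hx).symm.trans e⟩⟩
    obtain ⟨X, hXc, hXN, hXY⟩ := hX
    have hX'i : IsIso F X (hu'.image X hXN) u' := hu'.isIso_image X hXN
    set X' := hu'.image X hXN
    have hX'c : F.IsCentric X' := isCentric_of_isConj hXc hX'i.isConj
    have hX'N : X' ≤ normalizerIn S V := fun y hy => by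
      obtain ⟨x, hx, rfl⟩ := hX'i.exists_apply hy
      exact huN x (hXN hx)
    have hVJ : V = thompsonSubgroupAOf X' := by
      have h1 := ja_iso hX'i.le hX'i
      rw [← hXY] at h1
      exact hu'Y.image_unique h1
    have hzV : ∀ z ∈ S, (∀ a ∈ S, a * z = z * a) → z ∈ V := by
      intro z hz hzc
      have hzX : z ∈ X' := centralizerIn_le_of_isCentric hX'c
        (mem_centralizerIn.2 ⟨hz, fun y hy => hzc y (hX'i.le' hy)⟩)
      have : Finite X' := finite_of_le hX'i.le'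
      rw [hVJ]
      exact central_mem_ja X' hzX fun a ha => hzc a (hX'i.le' ha)
    set k' := u' ∘ k ∘ ui with hk'def
    have hk'e : ∀ x ∈ P, k' (u' x) = u' (k x) := fun x hx => by
      show u' (k (ui (u' x))) = _
      rw [huil x (hPN hx)]
    have hP'i : IsIso F P (hu'.image P hPN) u' := hu'.isIso_image P hPN
    set P' := hu'.image P hPN
    have hP'img : P' ≤ hu'.image (normalizerIn S Y) le_rfl := fun y hy => by
      obtain ⟨x, hx, rfl⟩ := hP'i.exists_apply hy
      exact hu'i.apply_mem (hPN hx)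
    have hk' : IsMor F P' k' := ((hui.1.restrict hP'img).comp hk fun y hy => by
      obtain ⟨x, hx, rfl⟩ := hP'i.exists_apply hy
      rwa [huil x (hPN hx)]).comp hu' fun y hy => by
      obtain ⟨x, hx, rfl⟩ := hP'i.exists_apply hy
      show k (ui (u' x)) ∈ normalizerIn S Y
      rw [huil x (hPN hx)]
      exact hkN x hx
    suffices hgoal : Φ P' k' by
      have h1 := hΦ.comp (hΦ.restrict hΦu hPN) hgoal fun x hx => hP'i.apply_mem hx
      have h2 := hΦ.comp h1 hΦui fun x hx => by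
        show k' (u' x) ∈ _
        rw [hk'e x hx]
        exact hu'i.apply_mem (hkN x hx)
      refine hΦ.congr h2 fun x hx => ?_
      show k x = ui (k' (u' x))
      rw [hk'e x hx, huil _ (hkN x hx)]
    have hP'N : P' ≤ normalizerIn S V := fun y hy => by
      obtain ⟨x, hx, rfl⟩ := hP'i.exists_apply hy
      exact huN x (hPN hx)
    have hP'c : Nat.card P' = Nat.card A := hP'i.card_eq.trans hPc
    have hVP' : V ≤ P' := fun y hy => by
      obtain ⟨x, hx, rfl⟩ := hu'Y.exists_apply hy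
      exact hP'i.apply_mem (hYP hx)
    have hk'V : IsIso F V V k' := (hk'.restrict hVP').isIso_self fun y hy => by
      obtain ⟨x, hx, rfl⟩ := hu'Y.exists_apply hy
      rw [hk'e x (hYP hx)]
      exact hu'Y.apply_mem (hkY.apply_mem hx)
    have hYV : Nat.card (normalizerIn S Y) ≤ Nat.card (normalizerIn S V) := by
      have : Finite (normalizerIn S V) := finite_of_le normalizerIn_le
      exact Nat.card_le_card_of_injective
        (fun a : normalizerIn S Y => (⟨u' a, huN a a.2⟩ : normalizerIn S V)) fun a b hab =>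
          Subtype.ext (hu'.injOn a.2 b.2 (congrArg Subtype.val hab))
    by_cases hVT : normalizerIn S V = S
    · have hSV : S ≤ Subgroup.normalizer (V : Set Ω) := fun a ha => (hVT.ge ha).2
      by_cases hCP : centralizerIn S V ≤ P'
      · -- the constrained case
        obtain ⟨hU, hUn⟩ := centric_sup_centralizer hS hF hV.1 hSV
        set U := V ⊔ centralizerIn S V
        have hUP : U ≤ P' := sup_le hVP' hCP
        obtain ⟨E, hEs, hEF, hEn, hEiff⟩ := exists_normalizer_top hS hF hU.1 hUn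
        have hk'U : IsIso F U U k' := (hk'.restrict hUP).isIso_self fun x hx =>
          (hk'.restrict hUP).apply_mem_sup
            (fun y hy => Subgroup.mem_sup_left (hk'V.apply_mem hy))
            (fun y hy => Subgroup.mem_sup_right (hk'.apply_mem_centralizerIn hVP' hk'V (hCP hy) hy)) hx
        have hE : IsMor E P' k' := (hEiff _ _).2 ⟨hk'.le, k', by rwa [sup_eq_left.2 hUP], fun _ _ => rfl, hk'U⟩
        have hEle : ∀ {B : Subgroup Ω} {g : Ω → Ω}, IsMor E B g → IsMor F B g :=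
          fun h => le_iff_isMor.1 hEF _ _ h
        obtain ⟨L, hLg, ι, hL⟩ := exists_model hS hEs hEn (isCentric_of_sub hEF hU)
        have := hL.1
        obtain ⟨T, hT⟩ := hL.2.2.1
        have hi := hL.2.1.1
        obtain ⟨g, hg⟩ := realized_exists_conj hL.2.1 hE
        let Ψ : Subgroup L → L → Prop := fun P'' g => ∀ (P : Subgroup Ω) (k : Ω → Ω), P ≤ S → Nat.card P = Nat.card A → U ≤ P →
          mImg ι P = P'' → IsMor E P k →
          (∀ x y : S, (x : Ω) ∈ P → (y : Ω) = k x → ι y = g * ι x * g⁻¹) → Φ P k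
        have key := model_generated T hL.2.2.2 Ψ ?_ ?_ ?_ g (mImg ι P') ?_ ?_
        · exact key P' k' hk'.le hP'c hUP rfl hE hg
        · intro P'' g _ _ hfix P k hPS hPc hUP' _ hk hkg
          refine hC P k (hEle hk) (by omega) fun z hz hzc => ?_
          have hzP : z ^ p ∈ P := pow_mem (hUP' (Subgroup.mem_sup_left (hzV z hz hzc))) p
          refine ⟨hzP, ?_⟩
          have h1 := hkg ⟨z ^ p, S.pow_mem hz p⟩ ⟨k (z ^ p), hk.mem hzP⟩ hzP rfl
          have h2 := hfix (ι ⟨z, hz⟩) ⟨hT.ge ⟨_, rfl⟩, Subgroup.mem_centralizer_iff.2 fun a ha => by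
            obtain ⟨b, rfl⟩ := hT.le ha
            rw [← map_mul, ← map_mul]
            exact congrArg ι (Subtype.ext (hzc b b.2))⟩
          rw [← map_pow] at h2
          exact congrArg Subtype.val (hi (h1.trans h2))
        · intro P'' g hP'' hg'' hgN P k hPS hPc hUP' hPP hk hkg
          have hJS : thompsonSubgroupAOf S ≤ S := Subgroup.map_subtype_le _
          have hJT : mImg ι (thompsonSubgroupAOf S) = thompsonSubgroupAOf (T : Subgroup L) := by
            have : Finite S := inferInstance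
            show _ = (jaFunctor.{v} p).W (T : Subgroup L)
            rw [hT, ← (jaFunctor.{v} p).map S ι hi]
            ext y
            exact ⟨fun ⟨x, hx, e⟩ => ⟨x, hx, e⟩, fun ⟨x, hx, e⟩ => ⟨x, hx, e⟩⟩
          have hJg : ∀ x : S, (x : Ω) ∈ thompsonSubgroupAOf S →
              ∃ y : S, (y : Ω) ∈ thompsonSubgroupAOf S ∧ ι y = g * ι x * g⁻¹ := fun x hx =>
            hJT.ge ((Subgroup.mem_normalizer_iff.1 hgN _).1 (hJT.le ⟨x, hx, rfl⟩))
          have hcl : (P ⊔ thompsonSubgroupAOf S).subgroupOf S ≤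
              ι.range.comap ((MulAut.conj g).toMonoidHom.comp ι) := by
            rw [Subgroup.subgroupOf_sup hPS hJS]
            refine sup_le (fun x hx => ?_) fun x hx => ?_
            · exact hT.le (hg'' _ (hPP.le ⟨x, hx, rfl⟩))
            · obtain ⟨y, -, he⟩ := hJg x hx
              exact ⟨y, he⟩
          obtain ⟨k₂, hk₂, hk₂g⟩ := realized_exists_mor hL.2.1 (sup_le hPS hJS) g fun x hx => hcl hx
          have hagree : ∀ x ∈ P, k x = k₂ x := fun x hx => by
            have h1 := hkg ⟨x, hPS hx⟩ ⟨k x, hk.mem hx⟩ hx rfl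
            have h2 := hk₂g ⟨x, hPS hx⟩ ⟨k₂ x, hk₂.mem (Subgroup.mem_sup_left hx)⟩ (Subgroup.mem_sup_left hx) rfl
            exact congrArg Subtype.val (hi (h1.trans h2.symm))
          have hk₂J : IsIso F (thompsonSubgroupAOf S) (thompsonSubgroupAOf S) k₂ :=
            ((hEle hk₂).restrict le_sup_right).isIso_self fun x hx => by
              obtain ⟨y, hy, he⟩ := hJg ⟨x, hJS hx⟩ hx
              have h2 := hk₂g ⟨x, hJS hx⟩ ⟨k₂ x, hk₂.mem (Subgroup.mem_sup_right hx)⟩
                (Subgroup.mem_sup_right hx) rfl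
              rw [← he] at h2
              rw [show k₂ x = (y : Ω) from congrArg Subtype.val (hi h2)]
              exact hy
          have : Finite ↥(P ⊔ thompsonSubgroupAOf S) := finite_of_le (sup_le hPS hJS)
          refine hΦ.congr (hΦ.restrict (hN _ k₂ (hEle hk₂) ?_ le_sup_right hk₂J) le_sup_left) hagree
          calc m ≤ Nat.card P := by omega
            _ ≤ _ := Nat.card_le_card_of_injective _ (Subgroup.inclusion_injective le_sup_left)
        · intro P'' c n _ hn' _ hΨn hΨc P k hPS hPc hUP' hPP hk hkg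
          obtain ⟨k₁, hk₁, hk₁g⟩ := realized_exists_mor hL.2.1 hPS n fun x hx => hT.le (hn' _ (hPP.le ⟨x, hx, rfl⟩))
          have hk₁i := hk₁.isIso
          set P₂ := hk₁.image P le_rfl
          have hP₂c : Nat.card P₂ = Nat.card A := hk₁i.card_eq.trans hPc
          have hU₂ : U ≤ P₂ := fun y hy => by
            obtain ⟨x, hx, rfl⟩ := (normal_isIso hEn hk₁ hUP').exists_apply hy
            exact hk₁i.apply_mem (hUP' hx)
          have hP₂img : mImg ι P₂ = P''.map (MulAut.conj n).toMonoidHom := by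
            rw [← hPP]
            ext w
            constructor
            · rintro ⟨y, hy, rfl⟩
              obtain ⟨x, hx, he⟩ := hk₁i.exists_apply hy
              exact ⟨_, ⟨⟨x, hPS hx⟩, hx, rfl⟩, (hk₁g ⟨x, hPS hx⟩ y hx he.symm).symm⟩
            · rintro ⟨_, ⟨x, hx, rfl⟩, rfl⟩
              exact ⟨⟨k₁ x, hk₁.mem hx⟩, hk₁i.apply_mem hx, hk₁g x ⟨k₁ x, hk₁.mem hx⟩ hx rfl⟩
          have hkc : ∀ x : S, (x : Ω) ∈ P₂ → c * ι x * c⁻¹ ∈ ι.range := fun y hy => by
            obtain ⟨x, hx, he⟩ := hk₁i.exists_apply hy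
            refine ⟨⟨k x, hk.mem hx⟩, ?_⟩
            rw [hkg ⟨x, hPS hx⟩ ⟨k x, hk.mem hx⟩ hx rfl, hk₁g ⟨x, hPS hx⟩ y hx he.symm]
            group
          obtain ⟨k₃, hk₃, hk₃g⟩ := realized_exists_mor hL.2.1 hk₁i.le' c hkc
          refine hΦ.congr (hΦ.comp (hΨn P k₁ hPS hPc hUP' hPP hk₁ hk₁g)
            (hΨc P₂ k₃ hk₁i.le' hP₂c hU₂ hP₂img hk₃ hk₃g) fun x hx => hk₁i.apply_mem hx) fun x hx => ?_
          have h1 := hkg ⟨x, hPS hx⟩ ⟨k x, hk.mem hx⟩ hx rfl
          have h2 := hk₁g ⟨x, hPS hx⟩ ⟨k₁ x, hk₁.mem hx⟩ hx rfl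
          have h3 := hk₃g ⟨k₁ x, hk₁.mem hx⟩ ⟨k₃ (k₁ x), hk₃.mem (hk₁i.apply_mem hx)⟩ (hk₁i.apply_mem hx) rfl
          exact congrArg Subtype.val (hi (h1.trans (by rw [h3, h2]; group)))
        · rintro _ ⟨x, -, rfl⟩
          exact hT.ge ⟨x, rfl⟩
        · rintro _ ⟨x, hx, rfl⟩
          exact hT.ge ⟨⟨k' x, hk'.mem hx⟩, hg x ⟨k' x, hk'.mem hx⟩ hx rfl⟩
      · -- an extension over the centralizer
        have hPC : P' ⊔ centralizerIn S V ≤ extSubgroup S V k' := sup_le
          (fun a ha => ⟨hk'.le ha, hSV (hk'.le ha), k' a, hk'.mem ha, fun x hx => hk'.map_conj (hVP' hx) ha⟩)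
          fun _ h => extCond_of_centralizer h
        obtain ⟨g, hg, hge⟩ := exists_extension (fullyNormalized_receptive hS hF hV).2 hk'V
          (R := P' ⊔ centralizerIn S V) fun a ha => hPC ha
        have hgV : ∀ x ∈ V, g x = k' x := fun x hx => hge x hx (Subgroup.mem_sup_left (hVP' hx))
        have hΦg := hΦ.restrict (hbig _ g (hsup hk'.le centralizerIn_le hP'c hCP) hg)
          (le_sup_left : P' ≤ P' ⊔ centralizerIn S V)
        have hgi := (hg.restrict (le_sup_left : P' ≤ P' ⊔ centralizerIn S V)).isIso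
        set I := (hg.restrict (le_sup_left : P' ≤ P' ⊔ centralizerIn S V)).image P' le_rfl
        obtain ⟨gi, hgii, hgl, -⟩ := hgi.exists_symm
        have hγ : IsMor F I (k' ∘ gi) := hgii.1.comp hk' fun y hy => hgii.apply_mem hy
        have hΦγ : Φ I (k' ∘ gi) := by
          refine hC I _ hγ (by rw [hgi.card_eq]; omega) fun z hz hzc => ?_
          obtain ⟨v, hv, hvz⟩ := hk'V.exists_apply (pow_mem (hzV z hz hzc) p)
          rw [← hgV v hv] at hvz
          rw [← hvz]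
          refine ⟨hgi.apply_mem (hVP' hv), ?_⟩
          show k' (gi (g v)) = g v
          rw [hgl v (hVP' hv), hgV v hv]
        refine hΦ.congr (hΦ.comp hΦg hΦγ fun x hx => hgi.apply_mem hx) fun x hx => ?_
        show k' x = k' (gi (g x))
        rw [hgl x hx]
    · -- a smaller system
      have hS' : normalizerIn S V < S := lt_of_le_of_ne normalizerIn_le hVT
      obtain ⟨E, hE⟩ := exists_normalizerSystem F hV.1
      have hEs := normalizerSystem_saturated hS hF hV hE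
      have : Finite (normalizerIn S V) := finite_of_le normalizerIn_le
      have hEm : IsMor E P' k' := (isMor_normalizer_iff hE).2
        ⟨hP'N, fun x hx => ⟨hk'.mem hx, mem_normalizer_of_conj_mem hV.1 fun y hy => by
          obtain ⟨w, hw, rfl⟩ := hk'V.exists_apply hy
          rw [← hk'.map_conj (hVP' hw) hx]
          exact hk'V.apply_mem (conj_mem_of_mem_normalizer (hP'N hx).2 hw)⟩, k',
          by rwa [sup_eq_left.2 hVP'], fun _ _ => rfl, hk'V⟩
      refine ih _ (card_lt_of_lt le_rfl hS') rfl (hS.to_le normalizerIn_le) hEs Φ hΦ (Nat.card A)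
        (fun B g hg hB h => hC B g (isMor_of_normalizer hE hg) (le_trans hmA hB) fun z hz hzc =>
          h z ⟨hz, mem_normalizer_of_conj_mem hV.1 fun x hx => by rwa [← hzc x (hV.1 hx), mul_inv_cancel_right]⟩ fun a ha => hzc a ha.1) (fun B g hg hB hJB hgJ => ?_) P' k' hEm hP'c.ge
      rcases hB.lt_or_eq with hB | hB
      · exact hbig B g hB (isMor_of_normalizer hE hg)
      set Y₁ := thompsonSubgroupAOf (normalizerIn S V)
      have hY₁T : Y₁ ≤ normalizerIn S V := Subgroup.map_subtype_le _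
      have hTY₁ : normalizerIn S (normalizerIn S V) ≤ normalizerIn S Y₁ := fun a ha =>
        ⟨ha.1, (jaFunctor.{v} p).mem_normalizer normalizerIn_le ha.1 ha.2⟩
      have hbigger : Nat.card (normalizerIn S V) < Nat.card (normalizerIn S Y₁) := by
        refine lt_of_lt_of_le (card_lt_of_lt normalizerIn_le (normalizerIn_self_lt hS hS')) ?_
        have : Finite (normalizerIn S Y₁) := finite_of_le normalizerIn_le
        exact Nat.card_le_card_of_injective _ (Subgroup.inclusion_injective hTY₁)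
      have h3 : Nat.card (normalizerIn S V) < Nat.card S := card_lt_of_lt le_rfl hS'
      have hT1Y : normalizerIn S V ≤ normalizerIn S Y₁ := (le_normalizerIn normalizerIn_le).trans hTY₁
      have hY₁S : Y₁ ≤ S := hY₁T.trans normalizerIn_le
      exact ihm _ (by omega) Y₁ rfl hY₁S
        ⟨normalizerIn S V, isCentric_of_ge hX'c hX'N normalizerIn_le, hT1Y, rfl⟩ (by omega) B g hB.symm hJB
        (hg.le.trans hT1Y) (isMor_of_normalizer hE hg) ⟨isMor_of_normalizer hE hgJ.1, hgJ.2⟩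
  -- the automorphisms of the fully normalized conjugates
  obtain ⟨R, hcR, hR⟩ := exists_fullyNormalized (F := F) hAS.le
  obtain ⟨g, g', hg, hg', hge, -⟩ := exists_iso_to_fullyNormalized hS hF hcR hR
  have hRcard : Nat.card R = Nat.card A := hg.card_eq
  have hgΦ : Φ A g := hΦ.congr (hΦ.restrict (hbig _ g' (hAlt hAS.le rfl) hg') (le_normalizerIn hAS.le))
    fun x hx => (hge x hx).symm
  have key : ∀ α ∈ F.autGroup R, Φ R (autFun α) := by
    intro α hα
    by_cases hC' : centralizerIn S R ≤ R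
    swap
    · rw [← closure_extSet_eq_of_not_centric (fullyNormalized_receptive hS hF hR).2 hC'] at hα
      let K : Subgroup (MulAut R) :=
        { carrier := {β | Φ R (autFun β)}
          one_mem' := hΦ.congr (hΦ.restrict (hbig S id hAcard (isMor_id le_rfl)) hR.1)
            fun x hx => autFun_one hx
          mul_mem' := fun {a b} ha hb => hΦ.congr (hΦ.comp hb ha fun x hx => autFun_mem b hx)
            fun x hx => autFun_mul a b hx
          inv_mem' := fun {a} ha => hΦ.symm ha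
            (fun y hy => ⟨autFun a⁻¹ y, autFun_mem _ hy, by
              rw [← autFun_mul a a⁻¹ hy, mul_inv_cancel, autFun_one hy]⟩)
            fun x hx => by rw [← autFun_mul a⁻¹ a hx, inv_mul_cancel, autFun_one hx] }
      refine (Subgroup.closure_le K).2 (fun β hβ => ?_) hα
      obtain ⟨Q, k, hRQ, hk, hx⟩ := mem_extSet.1 hβ
      exact hΦ.congr (hΦ.restrict (hbig Q k (hRcard ▸ card_lt_of_lt hk.le hRQ) hk) hRQ.le)
        fun x hxR => by rw [autFun_apply _ hxR, ← hx ⟨x, hxR⟩]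
    have hRc : F.IsCentric R :=
      isCentric_of_fullyCentralized hS hF (fullyNormalized_fullyCentralized hS hF hR) hC'
    obtain ⟨EP, hEP, L, hLg, ι, hL⟩ := exists_normalizer_model hS hF hR hRc
    have := hL.1
    let T₁ := normalizerIn S R
    have hTS : T₁ ≤ S := normalizerIn_le
    have hRT : R ≤ T₁ := le_normalizerIn hR.1
    have : Finite T₁ := finite_of_le hTS
    obtain ⟨T, hT⟩ := hL.2.2.1
    have hi := hL.2.1.1
    have hαi := isIso_autFun hR.1 hα
    have hαE : IsMor EP R (autFun α) := (isMor_normalizer_iff hEP).2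
      ⟨hRT, fun x hx => hRT (hαi.apply_mem hx), autFun α, by rw [sup_idem]; exact hαi.1, fun _ _ => rfl, hαi⟩
    obtain ⟨gL, hgL⟩ := realized_exists_conj hL.2.1 hαE
    let Ψ : Subgroup L → L → Prop := fun P'' g => P'' = mImg ι R → ∀ k, IsIso F R R k →
      (∀ x y : T₁, (x : Ω) ∈ R → (y : Ω) = k x → ι y = g * ι x * g⁻¹) → Φ R k
    have hRn : EP.IsNormal R := isNormal_normalizerSystem hR.1 hEP
    refine model_generated T hL.2.2.2 Ψ ?_ ?_ ?_ gL (mImg ι R) ?_ ?_ rfl _ hαi hgL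
    · intro P'' g _ _ hfix' _ k hk hkg
      refine hC R k hk.1 (by omega) fun z hz hzc => ?_
      have hzR : z ∈ R := centralizerIn_le_of_isCentric hRc (mem_centralizerIn.2 ⟨hz, fun y hy => hzc y (hR.1 hy)⟩)
      have hzpR : z ^ p ∈ R := pow_mem hzR p
      refine ⟨hzpR, ?_⟩
      have h1 := hkg ⟨z ^ p, hRT hzpR⟩ ⟨k (z ^ p), hRT (hk.apply_mem hzpR)⟩ hzpR rfl
      have h2 := hfix' (ι ⟨z, hRT hzR⟩) ⟨hT.ge ⟨_, rfl⟩, Subgroup.mem_centralizer_iff.2 fun a ha => by
        obtain ⟨b, rfl⟩ := hT.le ha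
        rw [← map_mul, ← map_mul]
        exact congrArg ι (Subtype.ext (hzc b (hTS b.2)))⟩
      rw [← map_pow] at h2
      exact congrArg Subtype.val (hi (h1.trans h2))
    · intro P'' g hP'' hg'' hgN hPR k hk hkg
      subst hPR
      set Y := thompsonSubgroupAOf T₁
      have hYT : Y ≤ T₁ := Subgroup.map_subtype_le _
      have hJT : mImg ι Y = thompsonSubgroupAOf (T : Subgroup L) := by
        show _ = (jaFunctor.{v} p).W (T : Subgroup L)
        rw [hT, ← (jaFunctor.{v} p).map T₁ ι hi]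
        ext y
        exact ⟨fun ⟨x, hx, e⟩ => ⟨x, hx, e⟩, fun ⟨x, hx, e⟩ => ⟨x, hx, e⟩⟩
      have hJg : ∀ x : T₁, (x : Ω) ∈ Y → ∃ y : T₁, (y : Ω) ∈ Y ∧ ι y = g * ι x * g⁻¹ := fun x hx =>
        hJT.ge ((Subgroup.mem_normalizer_iff.1 hgN _).1 (hJT.le ⟨x, hx, rfl⟩))
      have hcl : (R ⊔ Y).subgroupOf T₁ ≤ ι.range.comap ((MulAut.conj g).toMonoidHom.comp ι) := by
        rw [Subgroup.subgroupOf_sup hRT hYT]
        refine sup_le (fun x hx => hT.le (hg'' _ ⟨x, hx, rfl⟩)) fun x hx => ?_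
        obtain ⟨y, -, he⟩ := hJg x hx
        exact ⟨y, he⟩
      obtain ⟨k₂, hk₂, hk₂g⟩ := realized_exists_mor hL.2.1 (sup_le hRT hYT) g fun x hx => hcl hx
      have hk₂F := isMor_of_normalizer hEP hk₂
      have hagree : ∀ x ∈ R, k x = k₂ x := fun x hx => by
        have h1 := hkg ⟨x, hRT hx⟩ ⟨k x, hRT (hk.apply_mem hx)⟩ hx rfl
        have h2 := hk₂g ⟨x, hRT hx⟩ ⟨k₂ x, hk₂.mem (Subgroup.mem_sup_left hx)⟩ (Subgroup.mem_sup_left hx) rfl
        exact congrArg Subtype.val (hi (h1.trans h2.symm))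
      refine hΦ.congr (hΦ.restrict ?_ (le_sup_left : R ≤ R ⊔ Y)) hagree
      by_cases hYR : Y ≤ R
      · have hk₂Y : IsIso F Y Y k₂ := (hk₂F.restrict le_sup_right).isIso_self fun x hx => by
          obtain ⟨y, hy, he⟩ := hJg ⟨x, hYT hx⟩ hx
          have h2 := hk₂g ⟨x, hYT hx⟩ ⟨k₂ x, hk₂.mem (Subgroup.mem_sup_right hx)⟩
            (Subgroup.mem_sup_right hx) rfl
          rw [← he] at h2
          rw [show k₂ x = (y : Ω) from congrArg Subtype.val (hi h2)]
          exact hy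
        have hTY : T₁ ≤ normalizerIn S Y := fun a ha =>
          ⟨hTS ha, (jaFunctor.{v} p).mem_normalizer hTS (hTS ha) (Subgroup.le_normalizer ha)⟩
        have : Finite (normalizerIn S Y) := finite_of_le normalizerIn_le
        exact hfix _ Y rfl (hYT.trans hTS) ⟨T₁, isCentric_of_ge hRc hRT hTS, hTY, rfl⟩
          (lt_of_lt_of_le (hAlt hR.1 hRcard) (Nat.card_le_card_of_injective _ (Subgroup.inclusion_injective hTY)))
          _ k₂ (by rw [sup_eq_left.2 hYR, hRcard]) le_sup_right (sup_le (hRT.trans hTY) (hYT.trans hTY)) hk₂F hk₂Y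
      · exact hbig _ k₂ (hsup hR.1 (hYT.trans hTS) hRcard hYR) hk₂F
    · intro P'' c n _ hn' _ hΨn hΨc hPR k hk hkg
      subst hPR
      obtain ⟨k₁, hk₁, hk₁g⟩ := realized_exists_mor hL.2.1 hRT n fun x hx => hT.le (hn' _ ⟨x, hx, rfl⟩)
      have hk₁R : IsIso EP R R k₁ := normal_isIso hRn hk₁ le_rfl
      have hk₁i : IsIso F R R k₁ := ⟨isMor_of_normalizer hEP hk₁, hk₁R.2⟩
      have himg : (mImg ι R).map (MulAut.conj n).toMonoidHom = mImg ι R := by
        ext w
        constructor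
        · rintro ⟨_, ⟨x, hx, rfl⟩, rfl⟩
          exact ⟨⟨k₁ x, hk₁.mem hx⟩, hk₁i.apply_mem hx, hk₁g x ⟨k₁ x, hk₁.mem hx⟩ hx rfl⟩
        · rintro ⟨y, hy, rfl⟩
          obtain ⟨x, hx, he⟩ := hk₁i.exists_apply hy
          exact ⟨_, ⟨⟨x, hRT hx⟩, hx, rfl⟩, (hk₁g ⟨x, hRT hx⟩ y hx he.symm).symm⟩
      obtain ⟨k₁i, hk₁s, hk₁l, hk₁r⟩ := hk₁i.exists_symm
      have hk₃ := hk₁s.trans hk
      refine hΦ.congr (hΦ.comp (hΨn rfl k₁ hk₁i hk₁g)
        (hΨc himg (k ∘ k₁i) hk₃ fun x y hx hy => ?_) fun x hx => hk₁i.apply_mem hx) fun x hx => ?_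
      · have hw : k₁i x ∈ R := hk₁s.apply_mem hx
        have h1 := hk₁g ⟨k₁i x, hRT hw⟩ x hw (hk₁r x hx).symm
        have h2 := hkg ⟨k₁i x, hRT hw⟩ y hw hy
        rw [h2, h1]
        group
      · show k x = k (k₁i (k₁ x))
        rw [hk₁l x hx]
    · rintro _ ⟨x, -, rfl⟩
      exact hT.ge ⟨x, rfl⟩
    · rintro _ ⟨x, hx, rfl⟩
      exact hT.ge ⟨⟨autFun α x, hRT (hαi.apply_mem hx)⟩, hgL x ⟨autFun α x, hRT (hαi.apply_mem hx)⟩ hx rfl⟩
  -- transport
  obtain ⟨k, k', hk, hk', hke, -⟩ :=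
    exists_iso_to_fullyNormalized hS hF (isConj_trans (isConj_symm hf.isIso.isConj) hcR) hR
  have hfc : Nat.card (hf.image A le_rfl) = Nat.card A := hf.isIso.card_eq
  have hkΦ : Φ (hf.image A le_rfl) k := hΦ.congr
    (hΦ.restrict (hbig _ k' (hAlt hf.isIso.le' hfc) hk') (le_normalizerIn hf.isIso.le')) fun x hx => (hke x hx).symm
  obtain ⟨ki, hki, hkl, -⟩ := hk.exists_symm
  obtain ⟨gi, hgi, hgl, -⟩ := hg.exists_symm
  have hkiΦ : Φ R ki := hΦ.symm hkΦ (fun y hy => hk.exists_apply hy) hkl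
  have hα : IsIso F R R (k ∘ f ∘ gi) := (hgi.trans hf.isIso).trans hk
  have hαΦ := key _ (autOf_mem hα)
  have h1 := hΦ.comp (hΦ.comp hgΦ hαΦ fun x hx => hg.apply_mem hx) hkiΦ fun x hx =>
    autFun_mem _ (hg.apply_mem hx)
  refine hΦ.congr h1 fun x hx => ?_
  show f x = ki (autFun (autOf hα) (g x))
  rw [autFun_apply _ (hg.apply_mem hx), autOf_apply]
  show f x = ki (k (f (gi (g x))))
  rw [hgl x hx, hkl (f x) (hf.isIso.apply_mem hx)]

end Cfsg.Agent.Fusion.PowGen
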