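import Mathlib

/-!
The principal ideal theorem, through the splitting module of a group over its derived subgroup.
-/

set_option autoImplicit false

noncomputable section

namespace Cfsg.Agent.Fusion.PIT

open scoped MonoidAlgebra commutatorElement
open MonoidAlgebra

variable {G : Type*} [Group G]

local notation "A" => Abelianization (commutator G)
local notation "Q" => Abelianization G
local notation "ZQ" => MonoidAlgebra ℤ (Abelianization G)

def θ : G →* Monoid.End A where
  toFun g := Abelianization.map (MulAut.conjNormal (H := commutator G) g).toMonoidHom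
  map_one' := Abelianization.hom_ext _ _ (MonoidHom.ext fun x => by
    show Abelianization.of (MulAut.conjNormal (1 : G) x) = Abelianization.of x
    simp)
  map_mul' g h := Abelianization.hom_ext _ _ (MonoidHom.ext fun x => by
    show Abelianization.of (MulAut.conjNormal (g * h) x) =
      Abelianization.of (MulAut.conjNormal g (MulAut.conjNormal h x))
    simp)

theorem θ_apply (g : G) (x : commutator G) :
    θ g (Abelianization.of x) = Abelianization.of (MulAut.conjNormal g x) := rfl

theorem θ_eq_of_eq {x y : G} (h : Abelianization.of x = Abelianization.of y) : θ x = θ y := by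
  have hc : x * y⁻¹ ∈ commutator G := by
    rw [← Abelianization.ker_of G, MonoidHom.mem_ker, map_mul, map_inv, h, mul_inv_cancel]
  have h1 : θ (x * y⁻¹) = 1 := Abelianization.hom_ext _ _ (MonoidHom.ext fun a => by
    show Abelianization.of (MulAut.conjNormal (x * y⁻¹) a) = Abelianization.of a
    have : MulAut.conjNormal (x * y⁻¹) a = (⟨_, hc⟩ : commutator G) * a * (⟨_, hc⟩ : commutator G)⁻¹ :=
      Subtype.ext (by simp [mul_assoc])
    rw [this, map_mul, map_mul, map_inv, mul_comm (Abelianization.of (⟨_, hc⟩ : commutator G)), mul_inv_cancel_right])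
  rw [show x = (x * y⁻¹) * y by simp, map_mul, h1, one_mul]

open Classical in
/-- A section of the abelianization. -/
def r (q : Q) : G := if q = 1 then 1 else Function.surjInv (show Function.Surjective (Abelianization.of (G := G)) from QuotientGroup.mk'_surjective _) q

theorem r_one : r (1 : Q) = 1 := by simp [r]

theorem of_r (q : Q) : Abelianization.of (r q) = q := by
  classical
  rw [r]; split
  · next h => rw [h, map_one]
  · exact Function.surjInv_eq _ q

theorem mem_of_proj (g : G) : g * (r (Abelianization.of g))⁻¹ ∈ commutator G := by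
  rw [← Abelianization.ker_of G, MonoidHom.mem_ker, map_mul, map_inv, of_r, mul_inv_cancel]

/-- The component of an element in the derived subgroup. -/
def proj (g : G) : A := Abelianization.of ⟨_, mem_of_proj g⟩

theorem proj_of_mem {c : G} (hc : c ∈ commutator G) : proj c = Abelianization.of ⟨c, hc⟩ := by
  have h : Abelianization.of c = 1 := by rwa [← MonoidHom.mem_ker, Abelianization.ker_of]
  exact congrArg _ (Subtype.ext (by show c * (r _)⁻¹ = c; rw [h, r_one, inv_one, mul_one]))

theorem proj_r (q : Q) : proj (r q) = 1 := by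
  rw [proj, ← map_one (Abelianization.of : commutator G →* A)]
  exact congrArg _ (Subtype.ext (by show r q * _ = (1 : G); rw [of_r, mul_inv_cancel]))

/-- The factor set. -/
def f (σ τ : Q) : A := proj (r σ * r τ)

theorem f_one (σ : Q) : f σ 1 = 1 := by rw [f, r_one, mul_one, proj_r]

theorem one_f (σ : Q) : f 1 σ = 1 := by rw [f, r_one, one_mul, proj_r]

theorem proj_mul (g h : G) : proj (g * h) =
    proj g * θ (r (Abelianization.of g)) (proj h) * f (Abelianization.of g) (Abelianization.of h) := by
  simp only [proj, f, θ_apply, ← map_mul]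
  refine congrArg _ (Subtype.ext ?_)
  simp only [Subgroup.coe_mul, MulAut.conjNormal_apply, map_mul, of_r]
  group

theorem cocycle (τ σ q : Q) :
    θ (r τ) (f σ q) * f τ (σ * q) = f τ σ * f (τ * σ) q := by
  have h1 := proj_mul (r τ * r σ) (r q)
  have h2 := proj_mul (r τ) (r σ * r q)
  rw [map_mul, of_r, of_r, of_r, proj_r, map_one, mul_one] at h1
  rw [map_mul, of_r, of_r, of_r, proj_r, one_mul, ← mul_assoc (r τ)] at h2
  exact h2.symm.trans h1

/-- The linear form given by the factor set. -/
def F (σ : Q) : ZQ →+ Additive A :=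
  (Finsupp.liftAddHom fun q => (zmultiplesHom (Additive A)) (Additive.ofMul (f σ q))).comp
    (coeffAddEquiv : ZQ ≃+ (Q →₀ ℤ)).toAddMonoidHom

theorem F_single (σ q : Q) (n : ℤ) : F σ (single q n) = n • Additive.ofMul (f σ q) := by
  simp [F, coeff_single]

/-- The augmentation. -/
def ε : ZQ →ₐ[ℤ] ℤ := lift ℤ ℤ Q 1

theorem ε_single (q : Q) (n : ℤ) : ε (single q n) = n := by simp [ε]

/-- The action on the abelianised derived subgroup. -/
def th (σ : Q) : Additive A →+ Additive A := MonoidHom.toAdditive (θ (r σ))

theorem F_mul (τ σ : Q) (v : ZQ) :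
    th τ (F σ v) + F τ (single σ 1 * v) = F (τ * σ) v + ε v • Additive.ofMul (f τ σ) := by
  induction v using MonoidAlgebra.induction_linear with
  | zero => simp
  | add x y hx hy =>
    simp only [mul_add, map_add, add_smul]
    rw [add_add_add_comm, hx, hy, add_add_add_comm]
  | single q n =>
    rw [single_mul_single, one_mul, F_single, F_single, F_single, ε_single, map_zsmul, ← zsmul_add, ← zsmul_add]
    congr 1
    rw [add_comm (Additive.ofMul (f (τ * σ) q))]
    exact congrArg Additive.ofMul (cocycle τ σ q)

/-- The carrier of the splitting module. -/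
def Mod (G : Type*) [Group G] : AddSubgroup (Additive (Abelianization (commutator G)) × MonoidAlgebra ℤ (Abelianization G)) :=
  AddMonoidHom.ker (((ε (G := G)).toRingHom.toAddMonoidHom).comp (AddMonoidHom.snd _ _))

theorem mem_Mod {x : Additive A × ZQ} : x ∈ Mod G ↔ ε x.2 = 0 := Iff.rfl

/-- The action of a class. -/
def L (σ : Q) : AddMonoid.End (Mod G) :=
  AddMonoidHom.mk' (fun x => ⟨(th σ x.1.1 + F σ x.1.2, single σ 1 * x.1.2),
      mem_Mod.2 (by rw [map_mul, mem_Mod.1 x.2, mul_zero])⟩)
    fun x y => Subtype.ext (Prod.ext (by simp only [AddSubgroup.coe_add, Prod.fst_add, Prod.snd_add, map_add]; abel)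
      (by simp [mul_add]))

theorem L_fst (σ : Q) (x : Mod G) : (L σ x).1.1 = th σ x.1.1 + F σ x.1.2 := rfl

theorem L_snd (σ : Q) (x : Mod G) : (L σ x).1.2 = single σ 1 * x.1.2 := rfl

theorem th_mul (τ σ : Q) (a : Additive A) : th (τ * σ) a = th τ (th σ a) := by
  show Additive.ofMul (θ (r (τ * σ)) a.toMul) = Additive.ofMul (θ (r τ) (θ (r σ) a.toMul))
  rw [← θ_eq_of_eq (x := r τ * r σ) (y := r (τ * σ)) (by rw [map_mul, of_r, of_r, of_r]), map_mul]
  rfl

def Lhom : Q →* AddMonoid.End (Mod G) where
  toFun := L
  map_one' := AddMonoidHom.ext fun x => Subtype.ext (Prod.ext (by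
    have hF : F (1 : Q) = 0 := AddMonoidHom.ext fun v => by
      induction v using MonoidAlgebra.induction_linear with
      | zero => simp
      | add a b ha hb => simp [ha, hb]
      | single q n => rw [F_single, one_f]; simp
    show th 1 x.1.1 + F 1 x.1.2 = x.1.1
    rw [hF, th, r_one, map_one, AddMonoidHom.zero_apply, add_zero]
    rfl) (by show single (1 : Q) 1 * x.1.2 = x.1.2; rw [← MonoidAlgebra.one_def, one_mul]))
  map_mul' τ σ := AddMonoidHom.ext fun x => Subtype.ext (Prod.ext (by
    show th (τ * σ) x.1.1 + F (τ * σ) x.1.2 = th τ (th σ x.1.1 + F σ x.1.2) + F τ (single σ 1 * x.1.2)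
    rw [map_add, th_mul, add_assoc, F_mul, mem_Mod.1 x.2, zero_smul, add_zero]) (by
    show single (τ * σ) 1 * x.1.2 = single τ 1 * (single σ 1 * x.1.2)
    rw [← mul_assoc, single_mul_single, mul_one]))

instance : Module ZQ (Mod G) := Module.compHom _ ((lift ℤ (AddMonoid.End (Mod G)) Q) Lhom).toRingHom

theorem single_smul (σ : Q) (x : Mod G) : (single σ 1 : ZQ) • x = L σ x := by
  show ((lift ℤ (AddMonoid.End (Mod G)) Q) Lhom (single σ 1)) x = L σ x
  rw [lift_single, one_zsmul]; rfl

theorem snd_smul (c : ZQ) (x : Mod G) : (c • x).1.2 = c * x.1.2 := by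
  induction c using MonoidAlgebra.induction_linear with
  | zero => simp
  | add a b ha hb => rw [add_smul, AddSubgroup.coe_add, Prod.snd_add, ha, hb, add_mul]
  | single q n =>
    rw [show (single q n : ZQ) = n • single q 1 by simp, smul_assoc, smul_mul_assoc, AddSubgroup.coe_zsmul,
      Prod.smul_snd, single_smul, L_snd]

/-- The derivation. -/
def d (g : G) : Mod G :=
  ⟨(Additive.ofMul (proj g), single (Abelianization.of g) 1 - 1), mem_Mod.2 (by simp [ε_single])⟩

theorem d_mul (g h : G) : d (g * h) = d g + (single (Abelianization.of g) 1 : ZQ) • d h := by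
  rw [single_smul]
  refine Subtype.ext (Prod.ext ?_ ?_)
  · show Additive.ofMul (proj (g * h)) = Additive.ofMul (proj g) +
      (th (Abelianization.of g) (Additive.ofMul (proj h)) + F _ (single (Abelianization.of h) 1 - 1))
    rw [proj_mul, map_sub, MonoidAlgebra.one_def, F_single, F_single, f_one]
    simp [th, mul_assoc]
    rfl
  · show single (Abelianization.of (g * h)) 1 - 1 = (single (Abelianization.of g) 1 - 1) +
      single (Abelianization.of g) 1 * (single (Abelianization.of h) 1 - 1)
    rw [mul_sub, single_mul_single, mul_one, mul_one, map_mul]; abel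

theorem d_one : d (1 : G) = 0 := by
  have := d_mul (1 : G) 1
  rw [mul_one, map_one, ← MonoidAlgebra.one_def, one_smul] at this
  simpa using this

theorem d_pow (g : G) (k : ℕ) : d (g ^ k) = (∑ i ∈ Finset.range k, (single (Abelianization.of g ^ i) 1 : ZQ)) • d g := by
  induction k with
  | zero => simp [d_one]
  | succ k ih => rw [pow_succ, d_mul, map_pow, ih, Finset.sum_range_succ, add_smul]

variable [Finite G]

theorem commutator_d_mem (P : Submodule ZQ (Mod G)) (hP : ∀ g : G, d g ∈ P) {c : G} (hc : c ∈ commutator G) :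
    d c ∈ RingHom.ker (ε : ZQ →ₐ[ℤ] ℤ) • P := by
  have hI : ∀ x : G, single (Abelianization.of x) 1 - 1 ∈ RingHom.ker (ε : ZQ →ₐ[ℤ] ℤ) := fun x => by
    simp [RingHom.mem_ker, ε_single]
  have hone : ∀ {x : G}, x ∈ commutator G → (single (Abelianization.of x) 1 : ZQ) = 1 := fun {x} hx => by
    rw [show Abelianization.of x = 1 by rwa [← MonoidHom.mem_ker, Abelianization.ker_of], MonoidAlgebra.one_def]
  rw [commutator_def, Subgroup.commutator_def] at hc
  suffices h : c ∈ commutator G ∧ d c ∈ RingHom.ker (ε : ZQ →ₐ[ℤ] ℤ) • P from h.2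
  induction hc using Subgroup.closure_induction with
  | mem x hx =>
    obtain ⟨a, -, b, -, rfl⟩ := hx
    have hm : ⁅a, b⁆ ∈ commutator G := Subgroup.commutator_mem_commutator (Subgroup.mem_top a) (Subgroup.mem_top b)
    refine ⟨hm, ?_⟩
    have h2 : ⁅a, b⁆ * (b * a) = a * b := by rw [commutatorElement_def]; group
    have h3 : d (a * b) = d ⁅a, b⁆ + d (b * a) := by rw [← h2, d_mul, hone hm, one_smul]
    rw [eq_sub_of_add_eq h3.symm, d_mul, d_mul, show d a + (single (Abelianization.of a) 1 : ZQ) • d b -
      (d b + (single (Abelianization.of b) 1 : ZQ) • d a) = ((single (Abelianization.of a) 1 : ZQ) - 1) • d b -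
        ((single (Abelianization.of b) 1 : ZQ) - 1) • d a by rw [sub_smul, sub_smul, one_smul, one_smul]; abel]
    exact sub_mem (Submodule.smul_mem_smul (hI a) (hP b)) (Submodule.smul_mem_smul (hI b) (hP a))
  | one => exact ⟨one_mem _, by rw [d_one]; exact zero_mem _⟩
  | mul x y _ _ hx hy =>
    exact ⟨mul_mem hx.1 hy.1, by rw [d_mul, hone hx.1, one_smul]; exact add_mem hx.2 hy.2⟩
  | inv x _ hx =>
    refine ⟨inv_mem hx.1, ?_⟩
    have h1 := d_mul x x⁻¹
    rw [mul_inv_cancel, d_one, hone hx.1, one_smul] at h1
    rw [eq_neg_of_add_eq_zero_right h1.symm]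
    exact neg_mem hx.2

open Classical in
/-- The norm element kills the splitting module. -/
theorem norm_smul_d [Fintype Q] (g : G) : (∑ q : Q, (single q 1 : ZQ)) • d g = 0 := by
  obtain ⟨ι, hι, n, hn, ⟨e⟩⟩ := CommGroup.equiv_prod_multiplicative_zmod_of_finite Q
  have : Fintype (commutator G) := Fintype.ofFinite _
  let bas : ι → Q := fun i => e.symm (Pi.mulSingle i (Multiplicative.ofAdd 1))
  let gen : ι ⊕ commutator G → G := Sum.elim (fun i => r (bas i)) (fun c => (c : G))
  let ex : ι ⊕ commutator G → ℕ := Sum.elim n (fun _ => 1)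
  let P : Submodule ZQ (Mod G) := Submodule.span ZQ (Set.range fun i => d (gen i))
  -- the generators
  have hbas : Subgroup.closure (Set.range bas) = ⊤ := by
    refine eq_top_iff.2 fun q _ => ?_
    rw [← e.symm_apply_apply q, ← Finset.univ_prod_mulSingle (e q), map_prod]
    refine prod_mem fun i _ => ?_
    have : Pi.mulSingle i (e q i) = (Pi.mulSingle i (Multiplicative.ofAdd 1) : ∀ i, Multiplicative (ZMod (n i))) ^
        (Multiplicative.toAdd (e q i)).val := by
      have : NeZero (n i) := ⟨by have := hn i; omega⟩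
      rw [← Pi.mulSingle_pow, ← ofAdd_nsmul]
      congr 1
      simp
    rw [this, map_pow]
    exact pow_mem (Subgroup.subset_closure (Set.mem_range_self i)) _
  have hgen : Subgroup.closure (Set.range gen) = ⊤ := by
    set H := Subgroup.closure (Set.range gen)
    have hc : commutator G ≤ H := fun c hc => Subgroup.subset_closure ⟨Sum.inr ⟨c, hc⟩, rfl⟩
    have h1 : H.map Abelianization.of = ⊤ := by
      refine eq_top_iff.2 ?_
      rw [← hbas, Subgroup.closure_le]
      rintro _ ⟨i, rfl⟩
      exact ⟨_, Subgroup.subset_closure ⟨Sum.inl i, rfl⟩, of_r _⟩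
    have h2 := congrArg (Subgroup.comap Abelianization.of) h1
    rwa [Subgroup.comap_map_eq, Subgroup.comap_top, Abelianization.ker_of, sup_eq_left.2 hc] at h2
  have hP : ∀ x : G, d x ∈ P := fun x => by
    have hx : x ∈ Submonoid.closure (Set.range gen) := by
      rw [← Subgroup.closure_toSubmonoid_of_finite, hgen]; trivial
    induction hx using Submonoid.closure_induction with
    | mem y hy => obtain ⟨i, rfl⟩ := hy; exact Submodule.subset_span ⟨i, rfl⟩
    | one => rw [d_one]; exact zero_mem _
    | mul y z _ _ hy hz => rw [d_mul]; exact add_mem hy (P.smul_mem _ hz)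
  set I : Ideal ZQ := RingHom.ker (ε : ZQ →ₐ[ℤ] ℤ)
  have hcI : ∀ {c : G}, c ∈ commutator G → d c ∈ I • P := fun {c} hc => commutator_d_mem P hP hc
  -- the relations
  have hrel : ∀ i, ((ex i : ZQ)) • d (gen i) ∈ I • P := by
    rintro (i | c)
    · have h1 : d (r (bas i) ^ n i) ∈ I • P := hcI (by
        rw [← Abelianization.ker_of G, MonoidHom.mem_ker, map_pow, of_r, ← map_pow e.symm, ← Pi.mulSingle_pow,
          ← ofAdd_nsmul, nsmul_one, ZMod.natCast_self, ofAdd_zero, Pi.mulSingle_one, map_one])
      rw [d_pow, of_r] at h1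
      show ((n i : ℕ) : ZQ) • d (r (bas i)) ∈ I • P
      have h2 : (∑ j ∈ Finset.range (n i), (single (bas i ^ j) 1 : ZQ)) - (n i : ZQ) ∈ I := by
        simp [I, RingHom.mem_ker, ε_single]
      have := sub_mem h1 (Submodule.smul_mem_smul h2 (Submodule.subset_span (⟨Sum.inl i, rfl⟩ : d (r (bas i)) ∈ Set.range fun i => d (gen i))))
      rwa [← sub_smul, sub_sub_cancel] at this
    · simpa [ex, gen] using hcI c.2
  choose a haI ha using fun i => (Submodule.mem_ideal_smul_span_iff_exists_sum I _ _).1 (hrel i)
  let R : Matrix (ι ⊕ commutator G) (ι ⊕ commutator G) ZQ := Matrix.diagonal (fun i => (ex i : ZQ)) - Matrix.of (fun i j => a i j)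
  have hR : ∀ i, ∑ j, R i j • d (gen j) = 0 := fun i => by
    simp only [R, Matrix.sub_apply, Matrix.of_apply, sub_smul, Finset.sum_sub_distrib]
    rw [Finset.sum_eq_single i (fun j _ hj => by rw [Matrix.diagonal_apply_ne _ hj.symm, zero_smul]) (by simp),
      Matrix.diagonal_apply_eq, ← ha i, Finsupp.sum_fintype]
    · exact sub_self _
    · exact fun _ => zero_smul ZQ _
  set D := R.det
  have hD : ∀ x : G, D • d x = 0 := by
    have h1 : ∀ j, D • d (gen j) = 0 := fun j => by
      have h2 : ∀ k, (∑ i, R.adjugate j i * R i k) = if j = k then D else 0 := fun k => by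
        have := congrFun (congrFun (Matrix.adjugate_mul R) j) k
        rw [Matrix.mul_apply, Matrix.smul_apply, Matrix.one_apply] at this
        rw [this]; simp [D]
      have h3 : (∑ k, (∑ i, R.adjugate j i * R i k) • d (gen k)) = 0 := by
        simp only [Finset.sum_smul, mul_smul]
        rw [Finset.sum_comm]
        simp only [← Finset.smul_sum, hR, smul_zero, Finset.sum_const_zero]
      simpa only [h2, ite_smul, zero_smul, Finset.sum_ite_eq, Finset.mem_univ, if_true] using h3
    intro x
    obtain ⟨c, hc⟩ := Submodule.mem_span_range_iff_exists_fun ZQ |>.1 (hP x)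
    rw [← hc, Finset.smul_sum]
    exact Finset.sum_eq_zero fun i _ => by rw [smul_comm, h1, smul_zero]
  have hεD : ε D = (Nat.card Q : ℤ) := by
    rw [AlgHom.map_det]
    have : (ε : ZQ →ₐ[ℤ] ℤ).mapMatrix R = Matrix.diagonal (fun i => (ex i : ℤ)) := by
      ext i j
      have h0 : ε (a i j) = 0 := haI i j
      by_cases h : i = j <;> simp [R, h0, h]
      all_goals exact h ▸ h0
    rw [this, Matrix.det_diagonal, Fintype.prod_sum_type, Nat.card_congr e.toEquiv, Nat.card_pi]
    simp [ex]
    try exact Finset.prod_congr rfl fun i _ => by rw [Nat.card_congr Multiplicative.toAdd, Nat.card_zmod]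
  -- the determinant is the norm element
  set T : ZQ := ∑ q : Q, single q 1
  have hDq : ∀ q : Q, D * single q 1 = D := fun q => by
    have := congrArg (fun y : Mod G => y.1.2) (hD (r q))
    simp only [snd_smul, d, of_r, AddSubgroup.coe_zero, Prod.snd_zero] at this
    rwa [mul_sub, mul_one, sub_eq_zero] at this
  have hTq : ∀ (c : ZQ), c * T = ε c • T := fun c => by
    induction c using MonoidAlgebra.induction_linear with
    | zero => simp
    | add x y hx hy => rw [add_mul, hx, hy, map_add, add_smul]
    | single q m =>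
      rw [ε_single, Finset.mul_sum, Finset.smul_sum]
      exact Fintype.sum_equiv (Equiv.mulLeft q) _ _ fun x => by simp [single_mul_single]
  have hDT : D = T := by
    have h1 : (Nat.card Q : ℤ) • D = (Nat.card Q : ℤ) • T := by
      rw [← hεD, ← hTq, Finset.mul_sum, Finset.sum_congr rfl fun q _ => hDq q, Finset.sum_const, hεD, Finset.card_univ,
        Fintype.card_eq_nat_card, natCast_zsmul]
    have h2 : Function.Injective fun v : ZQ => (Nat.card Q : ℤ) • v := fun u v huv => by
      apply (coeffAddEquiv : ZQ ≃+ (Q →₀ ℤ)).injective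
      have h3 := congrArg (coeffAddEquiv : ZQ ≃+ (Q →₀ ℤ)) huv
      simp only [map_zsmul] at h3
      exact Finsupp.ext fun q => mul_left_cancel₀ (Int.natCast_ne_zero.2 Nat.card_pos.ne') (DFunLike.congr_fun h3 q)
    exact h2 h1
  exact hDT ▸ hD g

/-- The transfer into the abelianised derived subgroup is trivial. -/
theorem transfer_eq_one : MonoidHom.transfer (Abelianization.of : commutator G →* A) = 1 := by
  classical
  have : Fintype Q := Fintype.ofFinite _
  -- the norm element applied to the derivation is the product of the factors of the right cosets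
  have hnorm : ∀ g : G, ∏ σ : Q, proj (r σ * g) = 1 := fun g => by
    have h := congrArg (fun y : Mod G => y.1.1) (norm_smul_d g)
    simp only [Finset.sum_smul, single_smul, AddSubgroup.val_finsetSum, Prod.fst_sum, L_fst, AddSubgroup.coe_zero,
      Prod.fst_zero] at h
    refine Additive.ofMul.injective ?_
    rw [ofMul_prod, ofMul_one, ← h]
    refine Finset.sum_congr rfl fun σ _ => ?_
    show Additive.ofMul (proj (r σ * g)) = th σ (Additive.ofMul (proj g)) + F σ (single (Abelianization.of g) 1 - 1)
    rw [proj_mul, of_r, proj_r, one_mul, map_sub, MonoidAlgebra.one_def, F_single, F_single, f_one]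
    simp [th]
    rfl
  let toQ : G ⧸ commutator G ≃ Q := Equiv.refl _
  let qe : G ⧸ commutator G → G := fun q => (r (toQ q)⁻¹)⁻¹
  have hqe : ∀ q, (qe q : G ⧸ commutator G) = q := fun q => by
    show Abelianization.of (qe q) = toQ q
    rw [map_inv, of_r, inv_inv]
  let T : (commutator G).LeftTransversal := ⟨Set.range qe, Subgroup.isComplement_range_left hqe⟩
  refine MonoidHom.ext fun g => ?_
  rw [MonoidHom.transfer_def (Abelianization.of : commutator G →* A) T g, MonoidHom.one_apply]
  have : Fintype (G ⧸ commutator G) := Fintype.ofFinite _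
  have hterm : ∀ σ : Q, proj (r σ * g) =
      Abelianization.of ⟨_, mem_of_proj (r σ * g)⟩ := fun σ => rfl
  rw [← hnorm g]
  unfold Subgroup.leftTransversals.diff
  simp only
  refine @Fintype.prod_equiv _ _ _ Subgroup.fintypeQuotientOfFiniteIndex _ _ (toQ.trans (Equiv.inv Q)) _ _ fun q => ?_
  rw [hterm]
  refine congrArg _ (Subtype.ext ?_)
  show ((T.2.leftQuotientEquiv q : G))⁻¹ * ((g • T).2.leftQuotientEquiv q : G) =
    r (toQ q)⁻¹ * g * (r (Abelianization.of (r (toQ q)⁻¹ * g)))⁻¹
  rw [Subgroup.smul_apply_eq_smul_apply_inv_smul, Subgroup.IsComplement.leftQuotientEquiv_apply hqe,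
    Subgroup.IsComplement.leftQuotientEquiv_apply hqe, smul_eq_mul]
  have h1 : Abelianization.of (r (toQ q)⁻¹ * g) = (toQ (g⁻¹ • q))⁻¹ := by
    rw [map_mul, of_r]
    obtain ⟨x, rfl⟩ := QuotientGroup.mk_surjective q
    show (Abelianization.of x)⁻¹ * Abelianization.of g = (Abelianization.of (g⁻¹ * x))⁻¹
    rw [map_mul, map_inv, mul_inv, inv_inv, mul_comm]
  rw [h1]
  simp [qe, mul_assoc]

end Cfsg.Agent.Fusion.PIT
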