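import Mathlib
import Cfsg.Prelude.Def_FusionComponents
import Cfsg.Agent.Lib.Fusion.Saturation

/-!
The product of two saturated systems is saturated.
-/

set_option autoImplicit false
set_option linter.unusedSectionVars false

namespace Cfsg.Agent.Fusion

open Cfsg Cfsg.FusionSystem

namespace ProductSat

variable {Ω₁ Ω₂ : Type*} [Group Ω₁] [Group Ω₂] {S₁ : Subgroup Ω₁} {S₂ : Subgroup Ω₂}
  {F₁ : FusionSystem S₁} {F₂ : FusionSystem S₂} {E : FusionSystem (S₁.prod S₂)}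
  (hE : IsProductSystem F₁ F₂ E)

local notation "Ω" => Ω₁ × Ω₂

/-- First projection. -/
abbrev p₁ (P : Subgroup (Ω₁ × Ω₂)) : Subgroup Ω₁ := P.map (MonoidHom.fst Ω₁ Ω₂)

/-- Second projection. -/
abbrev p₂ (P : Subgroup (Ω₁ × Ω₂)) : Subgroup Ω₂ := P.map (MonoidHom.snd Ω₁ Ω₂)

theorem mem_p₁ {P : Subgroup Ω} {x : Ω} (hx : x ∈ P) : x.1 ∈ p₁ P := ⟨x, hx, rfl⟩

theorem mem_p₂ {P : Subgroup Ω} {x : Ω} (hx : x ∈ P) : x.2 ∈ p₂ P := ⟨x, hx, rfl⟩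

theorem exists_p₁ {P : Subgroup Ω} {y : Ω₁} (hy : y ∈ p₁ P) : ∃ x ∈ P, x.1 = y := hy

theorem exists_p₂ {P : Subgroup Ω} {y : Ω₂} (hy : y ∈ p₂ P) : ∃ x ∈ P, x.2 = y := hy

include hE

theorem isMor_intro {P : Subgroup Ω} {f : Ω → Ω} (hP : P ≤ S₁.prod S₂) {f₁ : Ω₁ → Ω₁} {f₂ : Ω₂ → Ω₂}
    (h₁ : IsMor F₁ (p₁ P) f₁) (h₂ : IsMor F₂ (p₂ P) f₂) (hf : ∀ x ∈ P, f x = (f₁ x.1, f₂ x.2)) :
    IsMor E P f := by
  obtain ⟨φ₁, hφ₁, e₁⟩ := id h₁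
  obtain ⟨φ₂, hφ₂, e₂⟩ := id h₂
  let φ : P →* Ω := MonoidHom.mk' (fun x => f x) fun x y => by
    show f ((x : Ω) * (y : Ω)) = f x * f y
    rw [hf _ (mul_mem x.2 y.2), hf _ x.2, hf _ y.2]
    exact Prod.ext (h₁.map_mul (mem_p₁ x.2) (mem_p₁ y.2)) (h₂.map_mul (mem_p₂ x.2) (mem_p₂ y.2))
  refine ⟨φ, (hE P φ).2 ⟨hP, φ₁, hφ₁, φ₂, hφ₂, fun x hx₁ hx₂ => ?_⟩, fun x => rfl⟩
  show f x = _
  rw [hf _ x.2, e₁, e₂]

theorem isMor_elim {P : Subgroup Ω} {f : Ω → Ω} (h : IsMor E P f) :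
    P ≤ S₁.prod S₂ ∧ ∃ f₁ f₂, IsMor F₁ (p₁ P) f₁ ∧ IsMor F₂ (p₂ P) f₂ ∧
      ∀ x ∈ P, f x = (f₁ x.1, f₂ x.2) := by
  obtain ⟨φ, hφ, e⟩ := h
  obtain ⟨hP, φ₁, hφ₁, φ₂, hφ₂, hx⟩ := (hE P φ).1 hφ
  refine ⟨hP, extFun φ₁, extFun φ₂, isMor_extFun hφ₁, isMor_extFun hφ₂, fun x hxP => ?_⟩
  rw [← e ⟨x, hxP⟩, hx ⟨x, hxP⟩ (mem_p₁ hxP) (mem_p₂ hxP), extFun_apply φ₁ (mem_p₁ hxP),
    extFun_apply φ₂ (mem_p₂ hxP)]

/-- Isomorphisms of the factors move a subgroup along. -/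
theorem exists_image {P : Subgroup Ω} (hP : P ≤ S₁.prod S₂) {Q₁ : Subgroup Ω₁} {Q₂ : Subgroup Ω₂}
    {g₁ : Ω₁ → Ω₁} {g₂ : Ω₂ → Ω₂} (h₁ : IsIso F₁ (p₁ P) Q₁ g₁) (h₂ : IsIso F₂ (p₂ P) Q₂ g₂) :
    ∃ P' : Subgroup Ω, IsIso E P P' (fun x => (g₁ x.1, g₂ x.2)) ∧ p₁ P' = Q₁ ∧ p₂ P' = Q₂ := by
  have hm : IsMor E P (fun x => (g₁ x.1, g₂ x.2)) := isMor_intro hE hP h₁.1 h₂.1 fun _ _ => rfl
  have hi := hm.isIso
  refine ⟨_, hi, ?_, ?_⟩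
  · ext y
    constructor
    · intro hy
      obtain ⟨x, hx, rfl⟩ := exists_p₁ hy
      obtain ⟨z, hz, rfl⟩ := hi.exists_apply hx
      exact h₁.apply_mem (mem_p₁ hz)
    · intro hy
      obtain ⟨w, hw, rfl⟩ := h₁.exists_apply hy
      obtain ⟨z, hz, rfl⟩ := exists_p₁ hw
      exact mem_p₁ (hi.apply_mem hz)
  · ext y
    constructor
    · intro hy
      obtain ⟨x, hx, rfl⟩ := exists_p₂ hy
      obtain ⟨z, hz, rfl⟩ := hi.exists_apply hx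
      exact h₂.apply_mem (mem_p₂ hz)
    · intro hy
      obtain ⟨w, hw, rfl⟩ := h₂.exists_apply hy
      obtain ⟨z, hz, rfl⟩ := exists_p₂ hw
      exact mem_p₂ (hi.apply_mem hz)

theorem receptive {Q : Subgroup Ω} (hQ : Q ≤ S₁.prod S₂) (r₁ : F₁.IsReceptive (p₁ Q))
    (r₂ : F₂.IsReceptive (p₂ Q)) : E.IsReceptive Q := by
  refine isReceptive_intro hQ fun P R f hf hPR hR => ?_
  obtain ⟨-, f₁, f₂, hf₁, hf₂, he⟩ := isMor_elim hE hf.1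
  have hi₁ : IsIso F₁ (p₁ P) (p₁ Q) f₁ := by
    refine ⟨hf₁, fun y => ⟨fun hy => ?_, ?_⟩⟩
    · obtain ⟨q, hq, rfl⟩ := exists_p₁ hy
      obtain ⟨x, hx, rfl⟩ := hf.exists_apply hq
      exact ⟨x.1, mem_p₁ hx, by rw [he x hx]⟩
    · rintro ⟨z, hz, rfl⟩
      obtain ⟨x, hx, rfl⟩ := exists_p₁ hz
      have := mem_p₁ (hf.apply_mem hx)
      rwa [he x hx] at this
  have hi₂ : IsIso F₂ (p₂ P) (p₂ Q) f₂ := by
    refine ⟨hf₂, fun y => ⟨fun hy => ?_, ?_⟩⟩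
    · obtain ⟨q, hq, rfl⟩ := exists_p₂ hy
      obtain ⟨x, hx, rfl⟩ := hf.exists_apply hq
      exact ⟨x.2, mem_p₂ hx, by rw [he x hx]⟩
    · rintro ⟨z, hz, rfl⟩
      obtain ⟨x, hx, rfl⟩ := exists_p₂ hz
      have := mem_p₂ (hf.apply_mem hx)
      rwa [he x hx] at this
  have hR₁ : ∀ b ∈ p₁ R, ExtCond S₁ (p₁ P) f₁ b := by
    intro b hb
    obtain ⟨a, ha, rfl⟩ := exists_p₁ hb
    obtain ⟨haS, han, h, hh, hx⟩ := hR a ha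
    refine ⟨(Subgroup.mem_prod.1 haS).1, Subgroup.le_normalizer_map (MonoidHom.fst Ω₁ Ω₂) ⟨a, han, rfl⟩,
      h.1, (Subgroup.mem_prod.1 hh).1, fun z hz => ?_⟩
    obtain ⟨x, hxP, rfl⟩ := exists_p₁ hz
    have e := hx x hxP
    rw [he _ (conj_mem_of_mem_normalizer han hxP), he x hxP] at e
    exact congrArg Prod.fst e
  have hR₂ : ∀ b ∈ p₂ R, ExtCond S₂ (p₂ P) f₂ b := by
    intro b hb
    obtain ⟨a, ha, rfl⟩ := exists_p₂ hb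
    obtain ⟨haS, han, h, hh, hx⟩ := hR a ha
    refine ⟨(Subgroup.mem_prod.1 haS).2, Subgroup.le_normalizer_map (MonoidHom.snd Ω₁ Ω₂) ⟨a, han, rfl⟩,
      h.2, (Subgroup.mem_prod.1 hh).2, fun z hz => ?_⟩
    obtain ⟨x, hxP, rfl⟩ := exists_p₂ hz
    have e := hx x hxP
    rw [he _ (conj_mem_of_mem_normalizer han hxP), he x hxP] at e
    exact congrArg Prod.snd e
  obtain ⟨k₁, hk₁, e₁⟩ := exists_extension r₁ hi₁ hR₁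
  obtain ⟨k₂, hk₂, e₂⟩ := exists_extension r₂ hi₂ hR₂
  refine ⟨fun x => (k₁ x.1, k₂ x.2), isMor_intro hE (fun a ha => (hR a ha).1) hk₁ hk₂ fun _ _ => rfl,
    fun x hx => ?_⟩
  rw [he x hx]
  exact Prod.ext (e₁ _ (mem_p₁ hx) (mem_p₁ (hPR hx))) (e₂ _ (mem_p₂ hx) (mem_p₂ (hPR hx)))

variable {p : ℕ} [Fact p.Prime] [Finite S₁] [Finite S₂]

theorem exists_bigger {Q : Subgroup Ω} (hQ : Q ≤ S₁.prod S₂) (a₁ : F₁.IsFullyAutomized p (p₁ Q))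
    (a₂ : F₂.IsFullyAutomized p (p₂ Q)) (U : Subgroup (E.autGroup Q)) (hU : IsPGroup p U) :
    ∃ Q' : Subgroup Ω, E.IsConj Q Q' ∧ p₁ Q' = p₁ Q ∧ p₂ Q' = p₂ Q ∧
      Nat.card U ≤ Nat.card (autInducedBy (S₁.prod S₂) Q') := by
  classical
  haveI : Finite (S₁.prod S₂) := Finite.of_equiv _ (Subgroup.prodEquiv S₁ S₂).symm.toEquiv
  haveI := finite_of_le (S := S₁) a₁.1
  haveI := finite_of_le (S := S₂) a₂.1
  -- components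
  have hcomp : ∀ u : E.autGroup Q, ∃ (α : F₁.autGroup (p₁ Q)) (β : F₂.autGroup (p₂ Q)),
      ∀ x : Q, (((u : MulAut Q) x : Q) : Ω) =
        ((((α : MulAut (p₁ Q)) ⟨(x : Ω).1, mem_p₁ x.2⟩ : p₁ Q) : Ω₁),
         (((β : MulAut (p₂ Q)) ⟨(x : Ω).2, mem_p₂ x.2⟩ : p₂ Q) : Ω₂)) := by
    intro u
    have hu := isIso_autFun hQ u.2
    obtain ⟨-, f₁, f₂, hf₁, hf₂, he⟩ := isMor_elim hE hu.1
    have i₁ : IsIso F₁ (p₁ Q) (p₁ Q) f₁ := hf₁.isIso_self fun z hz => by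
      obtain ⟨x, hx, rfl⟩ := exists_p₁ hz
      have := mem_p₁ (hu.apply_mem hx)
      rwa [he x hx] at this
    have i₂ : IsIso F₂ (p₂ Q) (p₂ Q) f₂ := hf₂.isIso_self fun z hz => by
      obtain ⟨x, hx, rfl⟩ := exists_p₂ hz
      have := mem_p₂ (hu.apply_mem hx)
      rwa [he x hx] at this
    refine ⟨⟨autOf i₁, autOf_mem i₁⟩, ⟨autOf i₂, autOf_mem i₂⟩, fun x => ?_⟩
    rw [← autFun_coe, he x x.2, autOf_apply, autOf_apply]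
  choose θ₁ θ₂ hθ using hcomp
  have hfst : ∀ (u : E.autGroup Q) (x : Q), ((((θ₁ u : MulAut (p₁ Q)) ⟨(x : Ω).1, mem_p₁ x.2⟩ : p₁ Q) : Ω₁)) =
      (((u : MulAut Q) x : Q) : Ω).1 := fun u x => by rw [hθ u x]
  have hsnd : ∀ (u : E.autGroup Q) (x : Q), ((((θ₂ u : MulAut (p₂ Q)) ⟨(x : Ω).2, mem_p₂ x.2⟩ : p₂ Q) : Ω₂)) =
      (((u : MulAut Q) x : Q) : Ω).2 := fun u x => by rw [hθ u x]
  let Θ₁ : E.autGroup Q →* F₁.autGroup (p₁ Q) := MonoidHom.mk' θ₁ fun u v => by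
    refine Subtype.ext (MulEquiv.ext fun z => ?_)
    obtain ⟨z, hz⟩ := z
    obtain ⟨x, hx, rfl⟩ := exists_p₁ hz
    refine Subtype.ext ((hfst (u * v) ⟨x, hx⟩).trans ((hfst u ((v : MulAut Q) ⟨x, hx⟩)).symm.trans ?_))
    exact congrArg (fun w : p₁ Q => (((θ₁ u : MulAut (p₁ Q)) w : p₁ Q) : Ω₁))
      (Subtype.ext (hfst v ⟨x, hx⟩).symm)
  let Θ₂ : E.autGroup Q →* F₂.autGroup (p₂ Q) := MonoidHom.mk' θ₂ fun u v => by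
    refine Subtype.ext (MulEquiv.ext fun z => ?_)
    obtain ⟨z, hz⟩ := z
    obtain ⟨x, hx, rfl⟩ := exists_p₂ hz
    refine Subtype.ext ((hsnd (u * v) ⟨x, hx⟩).trans ((hsnd u ((v : MulAut Q) ⟨x, hx⟩)).symm.trans ?_))
    exact congrArg (fun w : p₂ Q => (((θ₂ u : MulAut (p₂ Q)) w : p₂ Q) : Ω₂))
      (Subtype.ext (hsnd v ⟨x, hx⟩).symm)
  -- conjugate both component groups into the groups induced from `S₁`, `S₂`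
  haveI := finite_autGroup (F := F₁) a₁.1
  haveI := finite_autGroup (F := F₂) a₂.1
  obtain ⟨R₁, hR₁⟩ := a₁.2
  obtain ⟨R₂, hR₂⟩ := a₂.2
  obtain ⟨T₁, hT₁⟩ := (hU.map Θ₁).exists_le_sylow
  obtain ⟨T₂, hT₂⟩ := (hU.map Θ₂).exists_le_sylow
  obtain ⟨c₁, hc₁⟩ := MulAction.exists_smul_eq (F₁.autGroup (p₁ Q)) T₁ R₁
  obtain ⟨c₂, hc₂⟩ := MulAction.exists_smul_eq (F₂.autGroup (p₂ Q)) T₂ R₂
  have hin₁ : ∀ u ∈ U, (c₁ : MulAut (p₁ Q)) * (θ₁ u : MulAut (p₁ Q)) * (c₁ : MulAut (p₁ Q))⁻¹ ∈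
      autInducedBy S₁ (p₁ Q) := by
    intro u hu
    have h : c₁ * θ₁ u * c₁⁻¹ ∈ (R₁ : Subgroup (F₁.autGroup (p₁ Q))) := by
      rw [← hc₁, Sylow.coe_subgroup_smul]
      exact ⟨θ₁ u, hT₁ ⟨u, hu, rfl⟩, rfl⟩
    rw [hR₁] at h
    exact h
  have hin₂ : ∀ u ∈ U, (c₂ : MulAut (p₂ Q)) * (θ₂ u : MulAut (p₂ Q)) * (c₂ : MulAut (p₂ Q))⁻¹ ∈
      autInducedBy S₂ (p₂ Q) := by
    intro u hu
    have h : c₂ * θ₂ u * c₂⁻¹ ∈ (R₂ : Subgroup (F₂.autGroup (p₂ Q))) := by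
      rw [← hc₂, Sylow.coe_subgroup_smul]
      exact ⟨θ₂ u, hT₂ ⟨u, hu, rfl⟩, rfl⟩
    rw [hR₂] at h
    exact h
  obtain ⟨Q', hi, hq₁, hq₂⟩ := exists_image hE hQ (isIso_autFun a₁.1 c₁.2) (isIso_autFun a₂.1 c₂.2)
  refine ⟨Q', hi.isConj, hq₁, hq₂, ?_⟩
  let γ : Q →* Q' := MonoidHom.mk' (fun x => ⟨_, hi.apply_mem x.2⟩)
    fun x y => Subtype.ext (hi.1.map_mul x.2 y.2)
  let e : Q ≃* Q' := MulEquiv.ofBijective γ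
    ⟨fun x y h => Subtype.ext (hi.1.injOn x.2 y.2 (congrArg Subtype.val h)), fun y => by
      obtain ⟨x, hx, hxy⟩ := hi.exists_apply y.2
      exact ⟨⟨x, hx⟩, Subtype.ext hxy⟩⟩
  have hmem : ∀ u : U, MulAut.congr e ((u : E.autGroup Q) : MulAut Q) ∈ autInducedBy (S₁.prod S₂) Q' := by
    rintro ⟨u, hu⟩
    obtain ⟨s₁, hs₁, -, e₁⟩ := mem_autInducedBy.1 (hin₁ u hu)
    obtain ⟨s₂, hs₂, -, e₂⟩ := mem_autInducedBy.1 (hin₂ u hu)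
    refine Subgroup.subset_closure ⟨(s₁, s₂), Subgroup.mem_prod.2 ⟨hs₁, hs₂⟩, fun y => ?_⟩
    obtain ⟨x, rfl⟩ := e.surjective y
    show ((e ((u : MulAut Q) (e.symm (e x))) : Q') : Ω) = _
    rw [MulEquiv.symm_apply_apply]
    show (autFun (c₁ : MulAut (p₁ Q)) (((u : MulAut Q) x : Q) : Ω).1,
        autFun (c₂ : MulAut (p₂ Q)) (((u : MulAut Q) x : Q) : Ω).2) =
      (s₁ * autFun (c₁ : MulAut (p₁ Q)) (x : Ω).1 * s₁⁻¹, s₂ * autFun (c₂ : MulAut (p₂ Q)) (x : Ω).2 * s₂⁻¹)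
    refine Prod.ext ?_ ?_
    · have h := e₁ ((c₁ : MulAut (p₁ Q)) ⟨(x : Ω).1, mem_p₁ x.2⟩)
      rw [MulAut.mul_apply, MulAut.mul_apply, MulAut.inv_apply_self,
        ← autFun_coe (c₁ : MulAut (p₁ Q)) ((θ₁ u : MulAut (p₁ Q)) ⟨(x : Ω).1, mem_p₁ x.2⟩), hfst,
        ← autFun_coe (c₁ : MulAut (p₁ Q)) ⟨(x : Ω).1, mem_p₁ x.2⟩] at h
      exact h
    · have h := e₂ ((c₂ : MulAut (p₂ Q)) ⟨(x : Ω).2, mem_p₂ x.2⟩)
      rw [MulAut.mul_apply, MulAut.mul_apply, MulAut.inv_apply_self,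
        ← autFun_coe (c₂ : MulAut (p₂ Q)) ((θ₂ u : MulAut (p₂ Q)) ⟨(x : Ω).2, mem_p₂ x.2⟩), hsnd,
        ← autFun_coe (c₂ : MulAut (p₂ Q)) ⟨(x : Ω).2, mem_p₂ x.2⟩] at h
      exact h
  haveI : Finite Q' := finite_of_le hi.le'
  haveI : Finite (MulAut Q') := Finite.of_injective (fun α => (α : Q' → Q')) DFunLike.coe_injective
  exact Nat.card_le_card_of_injective (fun u => (⟨_, hmem u⟩ : autInducedBy (S₁.prod S₂) Q'))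
    fun u v h => Subtype.ext (Subtype.ext ((MulAut.congr e).injective (congrArg Subtype.val h)))

theorem saturated (h₁ : IsPGroup p S₁) (h₂ : IsPGroup p S₂) (hF₁ : F₁.IsSaturated p)
    (hF₂ : F₂.IsSaturated p) : E.IsSaturated p := by
  classical
  haveI : Finite (S₁.prod S₂) := Finite.of_equiv _ (Subgroup.prodEquiv S₁ S₂).symm.toEquiv
  intro P hP
  obtain ⟨Q₁, hc₁, a₁, r₁⟩ := hF₁ (p₁ P) (by
    rintro _ ⟨x, hx, rfl⟩; exact (Subgroup.mem_prod.1 (hP hx)).1)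
  obtain ⟨Q₂, hc₂, a₂, r₂⟩ := hF₂ (p₂ P) (by
    rintro _ ⟨x, hx, rfl⟩; exact (Subgroup.mem_prod.1 (hP hx)).2)
  obtain ⟨g₁, hg₁⟩ := isConj_iff_exists_isIso.1 hc₁
  obtain ⟨g₂, hg₂⟩ := isConj_iff_exists_isIso.1 hc₂
  obtain ⟨P', hi, hq₁, hq₂⟩ := exists_image hE hP hg₁ hg₂
  obtain ⟨Q, ⟨hconj, hQ₁, hQ₂⟩, hmax⟩ := Set.exists_max_image
    {Q : Subgroup Ω | E.IsConj P Q ∧ p₁ Q = Q₁ ∧ p₂ Q = Q₂}
    (fun Q => Nat.card (autInducedBy (S₁.prod S₂) Q))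
    ((setOf_le_finite (S₁.prod S₂)).subset fun Q hQ => (le_of_isConj hQ.1).2)
    ⟨P', hi.isConj, hq₁, hq₂⟩
  have hQS := (le_of_isConj hconj).2
  subst hQ₁ hQ₂
  refine ⟨Q, hconj, ⟨hQS, ?_⟩, receptive hE hQS r₁ r₂⟩
  haveI := finite_autGroup (F := E) hQS
  have hS : IsPGroup p (S₁.prod S₂) := by
    obtain ⟨a, ha⟩ := IsPGroup.iff_card.1 h₁
    obtain ⟨b, hb⟩ := IsPGroup.iff_card.1 h₂
    exact IsPGroup.of_card (n := a + b) (by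
      rw [Nat.card_congr (Subgroup.prodEquiv S₁ S₂).toEquiv, Nat.card_prod, ha, hb, pow_add])
  have hA : IsPGroup p ((autInducedBy (S₁.prod S₂) Q).subgroupOf (E.autGroup Q)) := by
    refine IsPGroup.of_equiv ?_ (Subgroup.subgroupOfEquivOfLe (autInducedBy_le_autGroup hQS)).symm
    rw [autInducedBy_eq_range]
    exact IsPGroup.of_surjective (hS.to_le inf_le_left) _ (MonoidHom.rangeRestrict_surjective _)
  obtain ⟨R, hR⟩ := hA.exists_le_sylow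
  refine ⟨R, (Subgroup.eq_of_le_of_card_ge hR ?_).symm⟩
  obtain ⟨Q', hc', e₁, e₂, hle⟩ := exists_bigger hE hQS a₁ a₂ R R.isPGroup'
  rw [Nat.card_congr (Subgroup.subgroupOfEquivOfLe (autInducedBy_le_autGroup hQS)).toEquiv]
  exact hle.trans (hmax Q' ⟨isConj_trans hconj hc', e₁, e₂⟩)

end ProductSat

end Cfsg.Agent.Fusion
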