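import Cfsg.Agent.Lib.Fusion.GroupModel
import Cfsg.Agent.Lib.Solv.QdFree

/-!
A group involving `Qd(p)` involves it in the automizer model of a centric `p`-subgroup.
-/

set_option autoImplicit false
set_option linter.style.haveILetI false

universe u

namespace Cfsg.Agent.Fusion.QdGroup

open Subgroup Cfsg.Agent.Local Cfsg.Agent.Solv.Quad
open scoped commutatorElement

variable {p : ℕ} [hp : Fact p.Prime]

/-- A surjection onto `Qd(p)` may be taken on the normalizer of a `p`-subgroup covering the translations. -/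
theorem exists_pSubgroup_section {G : Type u} [Group G] [Finite G]
    (h : Cfsg.Involves ↥(Cfsg.qd p) G) :
    ∃ (M Q : Subgroup G) (f : M →* qd p), Q ≤ M ∧ IsPGroup p Q ∧ M ≤ normalizer (Q : Set G) ∧
      Function.Surjective f ∧ (Q.subgroupOf M).map f = transGroup := by
  obtain ⟨K, θ, hθ⟩ := exists_hom_of_involves h
  haveI : (transGroup (p := p)).Normal := transGroup_normal
  set U := (transGroup (p := p)).comap θ with hU
  haveI : U.Normal := Normal.comap inferInstance θ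
  obtain ⟨P⟩ := (inferInstance : Nonempty (Sylow p U))
  set Q1 : Subgroup K := (P : Subgroup U).map U.subtype with hQ1
  have hQ1p : IsPGroup p Q1 := P.isPGroup'.map _
  -- the Sylow subgroup covers the translations
  let θU : U →* transGroup (p := p) := (θ.comp U.subtype).codRestrict _ fun x => x.2
  have hθU : Function.Surjective θU := by
    rintro ⟨y, hy⟩
    obtain ⟨x, rfl⟩ := hθ y
    exact ⟨⟨x, hy⟩, rfl⟩
  have hcov : Q1.map θ = transGroup := by
    have htop : ((P.mapSurjective hθU : Sylow p _) : Subgroup (transGroup (p := p))) = ⊤ :=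
      top_le_iff.1 ((P.mapSurjective hθU).is_maximal'
        ((IsPGroup.of_card card_transGroup).to_subgroup ⊤) le_top).le
    rw [Sylow.mapSurjective] at htop
    refine le_antisymm ?_ fun y hy => ?_
    · rintro _ ⟨_, ⟨x, -, rfl⟩, rfl⟩
      exact x.2
    · obtain ⟨x, hx, hxy⟩ := htop.ge (mem_top ⟨y, hy⟩)
      exact ⟨x, ⟨x, hx, rfl⟩, congrArg Subtype.val hxy⟩
  set N1 : Subgroup K := normalizer (Q1 : Set K) with hN1
  have hsur : Function.Surjective (θ.comp N1.subtype) := by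
    intro y
    obtain ⟨x, rfl⟩ := hθ y
    have hx : x ∈ N1 ⊔ U := by rw [hN1, hQ1, Sylow.normalizer_sup_eq_top P]; trivial
    obtain ⟨n, hn, v, hv, rfl⟩ := mem_sup_of_normal_right.1 hx
    obtain ⟨q, hq, hqv⟩ := hcov.ge (show θ v ∈ transGroup from hv)
    refine ⟨⟨n * q, mul_mem hn (le_normalizer hq)⟩, ?_⟩
    simp [hqv]
  let e := N1.equivMapOfInjective K.subtype K.subtype_injective
  refine ⟨N1.map K.subtype, Q1.map K.subtype, (θ.comp N1.subtype).comp e.symm.toMonoidHom,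
    map_mono le_normalizer, hQ1p.map _, le_normalizer_map _, hsur.comp e.symm.surjective, ?_⟩
  rw [← hcov]
  ext y
  constructor
  · rintro ⟨x, ⟨q, hq, hqx⟩, rfl⟩
    refine ⟨q, hq, ?_⟩
    have he : e.symm x = ⟨q, le_normalizer hq⟩ := e.injective (by
      rw [MulEquiv.apply_symm_apply]; exact Subtype.ext hqx.symm)
    simp [he]
  · rintro ⟨q, hq, rfl⟩
    refine ⟨e ⟨q, le_normalizer hq⟩, ⟨q, hq, rfl⟩, ?_⟩
    simp

/-- The transvection, the quarter turn and their product. -/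
theorem qd_elements (hp2 : p ≠ 2) :
    ∃ u w : qd p, (∀ (n : ℕ) (r s : ZMod p), u ^ n * Local.trans r s = Local.trans (r + (n : ZMod p) * s) s * u ^ n) ∧
      (∀ r s : ZMod p, (u * (w * u * w⁻¹)) ^ 3 * Local.trans r s = Local.trans (-r) (-s) * (u * (w * u * w⁻¹)) ^ 3) ∧
      (Local.trans (-1 : ZMod p) 0 ≠ Local.trans 1 0) := by
  let u : qd p := qdElt 1 1 0 1 0 0 (by ring)
  let w : qd p := qdElt 0 (-1) 1 0 0 0 (by ring)
  refine ⟨u, w, fun n r s => ?_, fun r s => ?_, fun h => ?_⟩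
  · induction n generalizing r with
    | zero => simp
    | succ n ih =>
      have h1 : u * Local.trans r s = Local.trans (r + s) s * u := by
        rw [Local.trans, Local.trans, qdElt_mul, qdElt_mul]
        exact qdElt_congr _ _ (by ring) (by ring) (by ring) (by ring) (by ring) (by ring)
      rw [pow_succ, mul_assoc, h1, ← mul_assoc, ih, mul_assoc,
        show r + s + (n : ZMod p) * s = r + ((n + 1 : ℕ) : ZMod p) * s by push_cast; ring]
  · have hw : w * u * w⁻¹ = qdElt 1 0 (-1) 1 0 0 (by ring) := by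
      rw [mul_inv_eq_iff_eq_mul, qdElt_mul, qdElt_mul]
      exact qdElt_congr _ _ (by ring) (by ring) (by ring) (by ring) (by ring) (by ring)
    have h3 : (u * (w * u * w⁻¹)) ^ 3 = qdElt (-1) 0 0 (-1) 0 0 (by ring) := by
      rw [hw, pow_succ, pow_two, qdElt_mul, qdElt_mul, qdElt_mul]
      exact qdElt_congr _ _ (by ring) (by ring) (by ring) (by ring) (by ring) (by ring)
    rw [h3, Local.trans, Local.trans, qdElt_mul, qdElt_mul]
    exact qdElt_congr _ _ (by ring) (by ring) (by ring) (by ring) (by ring) (by ring)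
  · have h1 := (trans_inj h).1
    have h2 : (2 : ℕ) = (0 : ZMod p) := by push_cast; linear_combination -h1
    rw [ZMod.natCast_eq_zero_iff] at h2
    exact hp2 ((Nat.prime_dvd_prime_iff_eq hp.out Nat.prime_two).1 h2)

/-- The core construction. -/
theorem involves_of_acts (hp2 : p ≠ 2) {X : Type u} [Group X] [Finite X] (Φ : qd p → X → Prop)
    (t : ZMod p → ZMod p → X) (ht : ∀ r s r' s', t (r + r') (s + s') = t r s * t r' s')
    (hinj : ∀ r s r' s', t r s = t r' s' → Local.trans r s = Local.trans r' s')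
    (hex : ∀ g : qd p, ∃ x, Φ g x) (hgen : ∀ x : X, ∃ g, Φ g x)
    (hmul : ∀ g h x y, Φ g x → Φ h y → Φ (g * h) (x * y))
    (hinv : ∀ g x, Φ g x → Φ g⁻¹ x⁻¹)
    (hact : ∀ g x r s r' s', Φ g x → g * Local.trans r s = Local.trans r' s' * g → x * t r s = t r' s' * x) :
    Cfsg.Involves ↥(Cfsg.qd p) X := by
  obtain ⟨u, w, hu, huw, hne⟩ := qd_elements (p := p) hp2
  have hpow : ∀ g x, Φ g x → ∀ n : ℕ, 0 < n → Φ (g ^ n) (x ^ n) := by
    intro g x h n hn
    induction n with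
    | zero => omega
    | succ n ih =>
      rcases n.eq_zero_or_pos with rfl | h0
      · simpa using h
      · rw [pow_succ, pow_succ]; exact hmul _ _ _ _ (ih h0) h
  have ht0 : t 0 0 = 1 := by
    have := ht 0 0 0 0
    rwa [add_zero, left_eq_mul] at this
  let V : Subgroup X :=
    { carrier := {x | ∃ r s, x = t r s}
      one_mem' := ⟨0, 0, ht0.symm⟩
      mul_mem' := by rintro _ _ ⟨r, s, rfl⟩ ⟨r', s', rfl⟩; exact ⟨_, _, (ht r s r' s').symm⟩
      inv_mem' := by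
        rintro _ ⟨r, s, rfl⟩
        exact ⟨-r, -s, inv_eq_of_mul_eq_one_right (by rw [← ht, add_neg_cancel, add_neg_cancel, ht0])⟩ }
  have hVn : V.Normal := ⟨by
    rintro _ ⟨r, s, rfl⟩ x
    obtain ⟨g, hg⟩ := hgen x
    haveI : (transGroup (p := p)).Normal := transGroup_normal
    obtain ⟨r', s', he⟩ := (inferInstance : (transGroup (p := p)).Normal).conj_mem _ ⟨r, s, rfl⟩ g
    exact ⟨r', s', by rw [hact g x r s r' s' hg (mul_inv_eq_iff_eq_mul.1 he)]; group⟩⟩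
  have hV : IsElementaryAbelian p V := by
    refine ⟨⟨⟨?_⟩⟩, ?_⟩
    · rintro ⟨_, r, s, rfl⟩ ⟨_, r', s', rfl⟩
      refine Subtype.ext ?_
      show t r s * t r' s' = t r' s' * t r s
      rw [← ht, ← ht, add_comm r, add_comm s]
    · rintro _ ⟨r, s, rfl⟩
      have : ∀ n : ℕ, t r s ^ n = t ((n : ZMod p) * r) ((n : ZMod p) * s) := by
        intro n
        induction n with
        | zero => simp [ht0]
        | succ n ih => rw [pow_succ, ih, ← ht]; congr 1 <;> push_cast <;> ring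
      rw [this, ZMod.natCast_self, zero_mul, zero_mul, ht0]
  obtain ⟨a, ha⟩ := hex u
  obtain ⟨c, hc⟩ := hex w
  have hb : Φ (u * (w * u * w⁻¹)) (a * (c * a * c⁻¹)) :=
    hmul _ _ _ _ ha (hmul _ _ _ _ (hmul _ _ _ _ hc ha) (hinv _ _ hc))
  -- elements of the line are fixed by the transvection
  let L : Subgroup X :=
    { carrier := {x | ∃ r, x = t r 0}
      one_mem' := ⟨0, ht0.symm⟩
      mul_mem' := by rintro _ _ ⟨r, rfl⟩ ⟨r', rfl⟩; exact ⟨r + r', by rw [← ht, add_zero]⟩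
      inv_mem' := by
        rintro _ ⟨r, rfl⟩
        exact ⟨-r, inv_eq_of_mul_eq_one_right (by rw [← ht, add_neg_cancel, add_zero, ht0])⟩ }
  have hz : ∀ y ∈ zpowers a, ∀ r s : ZMod p, ∃ k : ZMod p, y * t r s = t (r + k * s) s * y := by
    intro y hy r s
    obtain ⟨n, rfl⟩ := mem_powers_iff_mem_zpowers.2 hy
    rcases n.eq_zero_or_pos with rfl | hn
    · exact ⟨0, by simp⟩
    · exact ⟨n, hact _ _ r s _ _ (hpow _ _ ha n hn) (hu n r s)⟩
  have hquad : ⁅⁅V, zpowers a⁆, zpowers a⁆ = ⊥ := by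
    have h1 : ⁅V, zpowers a⁆ ≤ L := by
      refine commutator_le.2 ?_
      rintro _ ⟨r, s, rfl⟩ y hy
      obtain ⟨k, hk⟩ := hz y hy (-r) (-s)
      refine ⟨-(k * s), ?_⟩
      have hi : (t r s)⁻¹ = t (-r) (-s) :=
        inv_eq_of_mul_eq_one_right (by rw [← ht, add_neg_cancel, add_neg_cancel, ht0])
      rw [commutatorElement_def, hi, mul_assoc (t r s), hk, ← mul_assoc, mul_inv_cancel_right, ← ht]
      congr 1 <;> ring
    rw [commutator_eq_bot_iff_le_centralizer]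
    refine h1.trans fun x hx => mem_centralizer_iff.2 fun y hy => ?_
    obtain ⟨r, rfl⟩ := hx
    obtain ⟨k, hk⟩ := hz y hy r 0
    simpa using hk
  refine involves_qd_of_elem hp2 V hV hquad fun hmem => ?_
  set π := QuotientGroup.mk' (centralizer (V : Set X))
  haveI := Solv.pCore_characteristic p (X ⧸ centralizer (V : Set X))
  have hP : π ((a * (c * a * c⁻¹)) ^ 3) ∈ pCore p (X ⧸ centralizer (V : Set X)) := by
    rw [map_pow, map_mul, map_mul, map_mul, map_inv]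
    exact pow_mem (mul_mem hmem ((inferInstance :
      (pCore p (X ⧸ centralizer (V : Set X))).Normal).conj_mem _ hmem _)) 3
  set g3 := (a * (c * a * c⁻¹)) ^ 3 with hg3
  have hneg : ∀ r s, g3 * t r s = t (-r) (-s) * g3 := fun r s =>
    hact _ _ r s _ _ (hpow _ _ hb 3 (by norm_num)) (huw r s)
  have hsq : g3 * g3 ∈ centralizer (V : Set X) := by
    refine mem_centralizer_iff.2 ?_
    rintro _ ⟨r, s, rfl⟩
    rw [mul_assoc g3 g3, hneg, ← mul_assoc g3, hneg, neg_neg, neg_neg, mul_assoc]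
  obtain ⟨k, hk⟩ := (Solv.isPGroup_pCore p _) ⟨_, hP⟩
  have hk' : π g3 ^ p ^ k = 1 := congrArg Subtype.val hk
  have h2 : π g3 ^ 2 = 1 := by
    rw [← map_pow, pow_two]; exact (QuotientGroup.eq_one_iff _).2 hsq
  have h1 : π g3 = 1 := by
    have := Nat.Coprime.gcd_eq_one (Nat.Coprime.pow_left k
      ((Nat.coprime_primes hp.out Nat.prime_two).2 hp2))
    have h5 := pow_gcd_eq_one.2 ⟨hk', h2⟩
    rwa [this, pow_one] at h5
  have h4 := mem_centralizer_iff.1 ((QuotientGroup.eq_one_iff g3).1 h1) (t 1 0) ⟨1, 0, rfl⟩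
  rw [hneg, neg_zero, mul_left_inj] at h4
  exact hne (hinj _ _ _ _ h4.symm)

variable {G : Type u} [Group G] [Finite G]

theorem exists_centric_involves (hp2 : p ≠ 2) (h : Cfsg.Involves ↥(Cfsg.qd p) G) :
    ∃ Q : Subgroup G, IsPGroup p Q ∧
      (∀ U : Subgroup G, IsPGroup p U → U ≤ centralizer (Q : Set G) → U ≤ Q) ∧
      Cfsg.Involves ↥(Cfsg.qd p)
        (normalizer (Q : Set G) ⧸ pPrimeCore p (normalizer (Q : Set G))) := by
  obtain ⟨M, Q, f, hQM, hQp, hMN, hf, hcov⟩ := exists_pSubgroup_section h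
  obtain ⟨R, hR⟩ := exists_isMaxP (p := p) (centralizer (Q : Set G))
  have hRQ : ∀ x ∈ R, ∀ q ∈ Q, q * x = x * q := fun x hx q hq => mem_centralizer_iff.1 (hR.1 hx) q hq
  have hQR : Q ≤ normalizer (R : Set G) := fun q hq =>
    centralizer_le_normalizer' R (mem_centralizer_iff.2 fun x hx => (hRQ x hx q hq).symm)
  set Q' := Q ⊔ R with hQ'
  have hQ'p : IsPGroup p Q' := hQp.to_sup_of_normal_left' hR.2.1
    (hR.1.trans (centralizer_le_normalizer' Q))
  refine ⟨Q', hQ'p, fun U hU hUC => ?_, ?_⟩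
  · have hUQ : U ≤ centralizer (Q : Set G) := hUC.trans (centralizer_le (le_sup_left : Q ≤ Q'))
    have hUR : U ≤ normalizer (R : Set G) :=
      (hUC.trans (centralizer_le (le_sup_right : R ≤ Q'))).trans (centralizer_le_normalizer' R)
    have hsup : IsPGroup p ↥(R ⊔ U) := hR.2.1.to_sup_of_normal_left' hU hUR
    have heq := Subgroup.eq_of_le_of_card_ge (le_sup_left : R ≤ R ⊔ U)
      (hR.2.2 _ (sup_le hR.1 hUQ) hsup)
    exact (le_sup_right.trans heq.ge).trans le_sup_right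
  -- elements inducing on `Q` what `M` induces
  let Y : Subgroup G :=
    { carrier := {n | n ∈ normalizer (R : Set G) ∧ ∃ m : M, ∀ q ∈ Q, n * q * n⁻¹ = m * q * (m : G)⁻¹}
      one_mem' := ⟨one_mem _, 1, fun q _ => by simp⟩
      mul_mem' := by
        rintro n n' ⟨hn, m, hm⟩ ⟨hn', m', hm'⟩
        refine ⟨mul_mem hn hn', m * m', fun q hq => ?_⟩
        have h1 : (m' : G) * q * (m' : G)⁻¹ ∈ Q := (mem_normalizer_iff.1 (hMN m'.2) q).1 hq
        calc n * n' * q * (n * n')⁻¹ = n * (n' * q * n'⁻¹) * n⁻¹ := by group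
          _ = m * (m' * q * (m' : G)⁻¹) * (m : G)⁻¹ := by rw [hm' q hq, hm _ h1]
          _ = _ := by rw [Subgroup.coe_mul]; group
      inv_mem' := by
        rintro n ⟨hn, m, hm⟩
        refine ⟨inv_mem hn, m⁻¹, fun q hq => ?_⟩
        have h1 : (m : G)⁻¹ * q * m ∈ Q := (mem_normalizer_iff'.1 (hMN m.2) _).2 (by
          simpa [mul_assoc] using hq)
        have h2 := hm _ h1
        have h3 : (m : G) * ((m : G)⁻¹ * q * m) * (m : G)⁻¹ = q := by group
        rw [h3] at h2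
        rw [Subgroup.coe_inv, inv_inv, inv_inv]
        calc n⁻¹ * q * n = n⁻¹ * (n * ((m : G)⁻¹ * q * m) * n⁻¹) * n := by rw [h2]
          _ = _ := by group }
  have hQY : Q ≤ Y := fun q hq => ⟨hQR hq, ⟨q, hQM hq⟩, fun _ _ => rfl⟩
  have hYQ : Y ≤ normalizer (Q : Set G) := by
    rintro n ⟨-, m, hm⟩
    refine mem_normalizer_iff.2 fun q => ⟨fun hq => ?_, fun hq => ?_⟩
    · rw [hm q hq]; exact (mem_normalizer_iff.1 (hMN m.2) q).1 hq
    · have h1 : (m : G)⁻¹ * (n * q * n⁻¹) * m ∈ Q := (mem_normalizer_iff'.1 (hMN m.2) _).2 (by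
        simpa [mul_assoc] using hq)
      have h2 := hm _ h1
      have h3 : (m : G) * ((m : G)⁻¹ * (n * q * n⁻¹) * m) * (m : G)⁻¹ = n * q * n⁻¹ := by group
      rw [h3] at h2
      exact (MulAut.conj n).injective (by simpa using h2) ▸ h1
  have hYR : Y ≤ normalizer (R : Set G) := fun n hn => hn.1
  have hYQ' : Y ≤ normalizer (Q' : Set G) := fun n hn => by
    rw [mem_normalizer_iff_map_conj_eq, hQ', Subgroup.map_sup]
    exact congrArg₂ (· ⊔ ·) (mem_normalizer_iff_map_conj_eq.1 (hYQ hn))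
      (mem_normalizer_iff_map_conj_eq.1 (hYR hn))
  have hlift : ∀ m : M, ∃ n : Y, ∀ q ∈ Q, (n : G) * q * (n : G)⁻¹ = m * q * (m : G)⁻¹ := by
    intro m
    have h1 : R.map (MulAut.conj (m : G)).toMonoidHom ≤ centralizer (Q : Set G) :=
      (Subgroup.map_mono hR.1).trans ((map_conj_centralizer_le _ Q).trans (le_of_eq
        (congrArg (fun X : Subgroup G => centralizer (X : Set G))
          (mem_normalizer_iff_map_conj_eq.1 (hMN m.2)))))
    obtain ⟨c, hc, hle⟩ := hR.exists_conj_le h1 (hR.2.1.map _)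
    have he : R.map (MulAut.conj (c * m)).toMonoidHom = R := by
      rw [← map_conj_mul]
      refine Subgroup.eq_of_le_of_card_ge hle (le_of_eq ?_)
      rw [map_conj_mul, card_map_conj]
    have hact : ∀ q ∈ Q, c * m * q * (c * (m : G))⁻¹ = m * q * (m : G)⁻¹ := fun q hq => by
      have h2 := mem_centralizer_iff.1 hc _ ((mem_normalizer_iff.1 (hMN m.2) q).1 hq)
      calc c * m * q * (c * (m : G))⁻¹ = c * (m * q * (m : G)⁻¹) * c⁻¹ := by group
        _ = _ := by rw [← h2]; group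
    exact ⟨⟨c * m, mem_normalizer_iff_map_conj_eq.2 he, m, hact⟩, hact⟩
  set N' := normalizer (Q' : Set G)
  set φ : Y →* N' ⧸ pPrimeCore p N' := (QuotientGroup.mk' _).comp (inclusion hYQ') with hφ
  have hφQ : ∀ x : Y, (x : G) ∈ Q → φ x = 1 → (x : G) = 1 := fun x hx h1 => by
    have h2 : inclusion hYQ' x ∈ Q'.subgroupOf N' ⊓ pPrimeCore p N' :=
      ⟨show (x : G) ∈ Q' from mem_sup_left hx, (QuotientGroup.eq_one_iff _).1 h1⟩
    rw [Solv.inf_eq_bot_of_isPGroup (hQ'p.of_equiv (subgroupOfEquivOfLe le_normalizer).symm)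
      (Solv.card_pPrimeCore_coprime p N'), mem_bot] at h2
    exact congrArg Subtype.val h2
  let N0 : Subgroup Y :=
    { carrier := {x | ∃ hx : (x : G) ∈ Q, f ⟨x, hQM hx⟩ = 1}
      one_mem' := ⟨one_mem Q, map_one f⟩
      mul_mem' := by
        rintro x y ⟨hx, hx1⟩ ⟨hy, hy1⟩
        refine ⟨mul_mem hx hy, ?_⟩
        have e : f ⟨((x * y : Y) : G), hQM (mul_mem hx hy)⟩ = f (⟨x, hQM hx⟩ * ⟨y, hQM hy⟩) := rfl
        rw [e, map_mul, hx1, hy1, one_mul]
      inv_mem' := by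
        rintro x ⟨hx, hx1⟩
        refine ⟨inv_mem hx, ?_⟩
        have e : f ⟨((x⁻¹ : Y) : G), hQM (inv_mem hx)⟩ = f (⟨x, hQM hx⟩⁻¹) := rfl
        rw [e, map_inv, hx1, inv_one] }
  haveI : N0.Normal := ⟨by
    rintro x ⟨hx, hx1⟩ n
    obtain ⟨m, hm⟩ := n.2.2
    refine ⟨(mem_normalizer_iff.1 (hYQ n.2) _).1 hx, ?_⟩
    have e : (⟨((n * x * n⁻¹ : Y) : G), hQM ((mem_normalizer_iff.1 (hYQ n.2) _).1 hx)⟩ : M) =
        m * ⟨x, hQM hx⟩ * m⁻¹ := Subtype.ext (hm _ hx)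
    rw [e, map_mul, map_mul, map_inv, hx1, mul_one, mul_inv_cancel]⟩
  haveI : (N0.map φ.rangeRestrict).Normal :=
    Subgroup.Normal.map inferInstance _ φ.rangeRestrict_surjective
  set Ψ : Y →* φ.range ⧸ N0.map φ.rangeRestrict :=
    (QuotientGroup.mk' _).comp φ.rangeRestrict with hΨ
  have hΨs : Function.Surjective Ψ :=
    (QuotientGroup.mk'_surjective _).comp φ.rangeRestrict_surjective
  refine involves_of_subgroup (P := φ.range) (Solv.Quad.involves_of_surjective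
    (QuotientGroup.mk' (N0.map φ.rangeRestrict)) (QuotientGroup.mk'_surjective _) ?_)
  have hq : ∀ r s : ZMod p, ∃ q : Q, f ⟨q, hQM q.2⟩ = Local.trans r s := fun r s => by
    obtain ⟨x, hx, hxe⟩ := hcov.ge ⟨r, s, rfl⟩
    exact ⟨⟨x, hx⟩, hxe⟩
  choose τ hτ using hq
  let t := fun r s => Ψ ⟨τ r s, hQY (τ r s).2⟩
  have hcls : ∀ (x y : Q), f ⟨x, hQM x.2⟩ = f ⟨y, hQM y.2⟩ →
      Ψ ⟨x, hQY x.2⟩ = Ψ ⟨y, hQY y.2⟩ := by
    intro x y hxy
    refine (QuotientGroup.mk'_eq_mk' _).2 ⟨φ.rangeRestrict ((⟨x, hQY x.2⟩ : Y)⁻¹ * ⟨y, hQY y.2⟩), ?_, ?_⟩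
    · refine mem_map_of_mem _ ⟨mul_mem (inv_mem x.2) y.2, ?_⟩
      have e : f ⟨(((⟨x, hQY x.2⟩ : Y)⁻¹ * ⟨y, hQY y.2⟩ : Y) : G), hQM (mul_mem (inv_mem x.2) y.2)⟩ =
          f (⟨x, hQM x.2⟩⁻¹ * ⟨y, hQM y.2⟩) := rfl
      rw [e, map_mul, map_inv, hxy, inv_mul_cancel]
    · rw [← map_mul, mul_inv_cancel_left]
  refine involves_of_acts hp2 (fun g x => ∃ (n : Y) (m : M), f m = g ∧ Ψ n = x ∧
      ∀ q ∈ Q, (n : G) * q * (n : G)⁻¹ = m * q * (m : G)⁻¹) t ?_ ?_ ?_ ?_ ?_ ?_ ?_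
  · intro r s r' s'
    refine (hcls _ (τ r s * τ r' s') ?_).trans (map_mul Ψ ⟨τ r s, hQY (τ r s).2⟩ ⟨τ r' s', hQY (τ r' s').2⟩)
    have e : f ⟨((τ r s * τ r' s' : Q) : G), hQM (τ r s * τ r' s').2⟩ =
        f (⟨τ r s, hQM (τ r s).2⟩ * ⟨τ r' s', hQM (τ r' s').2⟩) := rfl
    rw [e, map_mul, hτ, hτ, hτ, trans_mul]
  · intro r s r' s' he
    obtain ⟨z, ⟨n, ⟨hn, hn1⟩, rfl⟩, hz⟩ := (QuotientGroup.mk'_eq_mk' _).1 he
    have hd : φ ((⟨τ r s, hQY (τ r s).2⟩ * n)⁻¹ * ⟨τ r' s', hQY (τ r' s').2⟩) = 1 := by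
      have hz' := congrArg Subtype.val hz
      rw [map_mul, map_inv, map_mul, inv_mul_eq_one]
      simpa using hz'
    have h1 := hφQ _ (mul_mem (inv_mem (mul_mem (τ r s).2 hn)) (τ r' s').2) hd
    have h2 : (τ r s : G) * (n : G) = τ r' s' := inv_mul_eq_one.1 h1
    have e : f ⟨τ r' s', hQM (τ r' s').2⟩ = f (⟨τ r s, hQM (τ r s).2⟩ * ⟨n, hQM hn⟩) :=
      congrArg f (Subtype.ext h2.symm)
    rw [map_mul, hn1, mul_one, hτ, hτ] at e
    exact e.symm
  · intro g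
    obtain ⟨m, rfl⟩ := hf g
    obtain ⟨n, hn⟩ := hlift m
    exact ⟨Ψ n, n, m, rfl, rfl, hn⟩
  · intro x
    obtain ⟨n, rfl⟩ := hΨs x
    obtain ⟨m, hm⟩ := n.2.2
    exact ⟨f m, n, m, rfl, rfl, hm⟩
  · rintro _ _ _ _ ⟨n, m, rfl, rfl, hm⟩ ⟨n', m', rfl, rfl, hm'⟩
    refine ⟨n * n', m * m', map_mul f m m', map_mul Ψ n n', fun q hq => ?_⟩
    have h1 : (m' : G) * q * (m' : G)⁻¹ ∈ Q := (mem_normalizer_iff.1 (hMN m'.2) q).1 hq
    calc ((n * n' : Y) : G) * q * ((n * n' : Y) : G)⁻¹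
        = n * (n' * q * (n' : G)⁻¹) * (n : G)⁻¹ := by rw [Subgroup.coe_mul]; group
      _ = m * (m' * q * (m' : G)⁻¹) * (m : G)⁻¹ := by rw [hm' q hq, hm _ h1]
      _ = _ := by rw [Subgroup.coe_mul]; group
  · rintro _ _ ⟨n, m, rfl, rfl, hm⟩
    refine ⟨n⁻¹, m⁻¹, map_inv f m, map_inv Ψ n, fun q hq => ?_⟩
    have h1 : (m : G)⁻¹ * q * m ∈ Q := (mem_normalizer_iff'.1 (hMN m.2) _).2 (by
      simpa [mul_assoc] using hq)
    have h2 := hm _ h1
    have h3 : (m : G) * ((m : G)⁻¹ * q * m) * (m : G)⁻¹ = q := by group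
    rw [h3] at h2
    rw [Subgroup.coe_inv, Subgroup.coe_inv, inv_inv, inv_inv]
    calc (n : G)⁻¹ * q * n = (n : G)⁻¹ * ((n : G) * ((m : G)⁻¹ * q * m) * (n : G)⁻¹) * n := by rw [h2]
      _ = _ := by group
  · rintro _ _ r s r' s' ⟨n, m, rfl, rfl, hm⟩ he
    have hc : (n : G) * τ r s * (n : G)⁻¹ ∈ Q := (mem_normalizer_iff.1 (hYQ n.2) _).1 (τ r s).2
    have e1 : f ⟨(n : G) * τ r s * (n : G)⁻¹, hQM hc⟩ = f ⟨τ r' s', hQM (τ r' s').2⟩ := by
      have e : (⟨(n : G) * τ r s * (n : G)⁻¹, hQM hc⟩ : M) = m * ⟨τ r s, hQM (τ r s).2⟩ * m⁻¹ :=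
        Subtype.ext (hm _ (τ r s).2)
      rw [e, map_mul, map_mul, map_inv, hτ, hτ, he, mul_inv_cancel_right]
    have e2 := hcls ⟨_, hc⟩ (τ r' s') e1
    show Ψ n * Ψ _ = Ψ _ * Ψ n
    rw [← mul_inv_eq_iff_eq_mul, ← map_inv, ← map_mul, ← map_mul]
    exact e2

end Cfsg.Agent.Fusion.QdGroup
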