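import Cfsg.Agent.Lib.Fusion.QdGroup
import Cfsg.Agent.Lib.Fusion.ModelUnique

/-!
A group fusion system is `Qd(p)`-free exactly when the group is.
-/

set_option autoImplicit false
set_option linter.style.haveILetI false

universe u

namespace Cfsg.Agent.Fusion.QdGroup

open Subgroup Cfsg Cfsg.FusionSystem

variable {G : Type u} [Group G] [Finite G] {p : ℕ} [hp : Fact p.Prime]

theorem involves_of_equiv {H : Type*} [Group H] {X Y : Type u} [Group X] [Group Y] (e : X ≃* Y)
    (h : Involves H X) : Involves H Y :=
  Solv.Quad.involves_of_surjective e.symm.toMonoidHom e.symm.surjective h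

theorem sectionFree_iff (hp2 : p ≠ 2) (S : Sylow p G) :
    (groupFusionSystem (S : Subgroup G)).IsSectionFree p ↥(qd p) ↔ ¬ Involves ↥(qd p) G := by
  have hsat := isSaturated_groupFusionSystem S
  constructor
  · intro hfree hinv
    obtain ⟨Q, hQp, hQc, hQinv⟩ := exists_centric_involves hp2 hinv
    obtain ⟨a, ha⟩ := exists_conj_le_sylow S hQp
    obtain ⟨b, hb, hmax⟩ := exists_conj_isMaxP_normalizer S ha
    rw [map_conj_mul] at hb hmax
    set g := b * a
    set Q₁ := Q.map (MulAut.conj g).toMonoidHom with hQ₁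
    have hc : (groupFusionSystem (S : Subgroup G)).IsCentric Q₁ := by
      refine ⟨hb, fun R hR => ?_⟩
      obtain ⟨-, -, k, rfl⟩ := isConj_groupFusionSystem.1 hR
      rw [hQ₁, map_conj_mul]
      intro x hx
      obtain ⟨y, rfl⟩ := (MulAut.conj (k * g)).surjective x
      refine mem_map_of_mem _ (hQc ((centralizerIn (S : Subgroup G)
        (Q.map (MulAut.conj (k * g)).toMonoidHom)).map (MulAut.conj (k * g)⁻¹).toMonoidHom)
        ((isPGroup_inf_left S _).map _) ?_ ?_)
      · refine (Subgroup.map_mono inf_le_right).trans ((map_conj_centralizer_le _ _).trans (le_of_eq ?_))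
        rw [map_conj_mul, inv_mul_cancel, map_one]
        simp
      · exact ⟨_, hx, by simp [mul_assoc]⟩
    have hn := (fullyNormalized_group_iff S hb).2 hmax
    obtain ⟨E, hE, L, hLg, ι, hL⟩ := exists_normalizer_model S.isPGroup' hsat hn hc
    haveI := hL.1
    obtain ⟨φ, -⟩ := model_unique (S.isPGroup'.to_le normalizerIn_le) hL
      (groupNormalizer_model S hn hc hE)
    refine hfree Q₁ hn hc E hE L ι hL (involves_of_equiv φ.symm ?_)
    have hmap : (normalizer (Q : Set G)).map (MulAut.conj g).toMonoidHom = normalizer (Q₁ : Set G) := by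
      refine le_antisymm (map_conj_normalizer_le g Q) fun x hx => ?_
      have h1 := map_conj_normalizer_le g⁻¹ Q₁ (mem_map_of_mem (MulAut.conj g⁻¹).toMonoidHom hx)
      rw [hQ₁, map_conj_mul, inv_mul_cancel, map_one] at h1
      exact ⟨_, (by simpa using h1 : g⁻¹ * x * g ∈ normalizer (Q : Set G)), by simp [mul_assoc]⟩
    let e : normalizer (Q : Set G) ≃* normalizer (Q₁ : Set G) :=
      ((normalizer (Q : Set G)).equivMapOfInjective _ (MulAut.conj g).injective).trans
        (MulEquiv.subgroupCongr hmap)
    exact involves_of_equiv (QuotientGroup.congr _ _ e (Solv.pPrimeCore_map_equiv p e)) hQinv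
  · intro hG Q hn hc E hE L _ ι hL hinv
    haveI := hL.1
    obtain ⟨φ, -⟩ := model_unique (S.isPGroup'.to_le normalizerIn_le) hL
      (groupNormalizer_model S hn hc hE)
    exact hG (Solv.Quad.involves_of_subgroup (Solv.Quad.involves_of_surjective
      (QuotientGroup.mk' _) (QuotientGroup.mk'_surjective _) (involves_of_equiv φ hinv)))

end Cfsg.Agent.Fusion.QdGroup
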