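import Cfsg.Agent.Lib.Fusion.GroupSystem
import Cfsg.Agent.Lib.Fusion.FactorSystem
import Cfsg.Agent.Lib.Solv.QdFusion
import Mathlib

/-!
Fusion systems of groups without `Qd(p)` are solvable.
-/

set_option autoImplicit false
set_option linter.style.haveILetI false

universe u

namespace Cfsg.Agent.Fusion

open Subgroup Cfsg Cfsg.FusionSystem

variable {G : Type u} [Group G] [Finite G] {p : ℕ} [hp : Fact p.Prime]

theorem exists_zj_control (hp2 : p ≠ 2) (hfree : ¬ Involves ↥(qd p) G) (S : Sylow p G) (A : Set G)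
    (hA : A ⊆ (S : Subgroup G)) (g : G) (hg : (fun a => g * a * g⁻¹) '' A ⊆ (S : Subgroup G)) :
    ∃ x ∈ normalizer (Solv.ZJ.zj 0 (S : Subgroup G) : Set G),
      ∀ a ∈ A, g * a * g⁻¹ = x * a * x⁻¹ := by
  have hF : ∀ W, W ∈ ({Solv.ZJ.WA.{u}} : Set (∀ (Q : Type u) [Group Q], Subgroup Q)) →
      Local.FusionRed.IsFam p ({Solv.ZJ.WA.{u}} : Set (∀ (Q : Type u) [Group Q], Subgroup Q)) := by
    intro W _ W' hW'
    rw [Set.mem_singleton_iff] at hW'
    subst hW'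
    exact Solv.ZJ.isCharPFunctor_WA
  have h := Local.FusionRed.ctrl_of_hyp (hF _ (Set.mem_singleton _)) G
    (Solv.Quad.hyp_of_qdFree hp2 hfree) S A g hA hg
  rw [Local.FusionRed.ind, Set.image_singleton] at h
  obtain ⟨x, hx, he⟩ := h.exists_single
  rw [Solv.ZJ.inducedFunctor_WA] at hx
  exact ⟨x, hx, fun a ha => (he a ha).symm⟩

theorem isSolvableSystem_of_qdFree (hp2 : p ≠ 2) (hfree : ¬ Involves ↥(qd p) G) (P : Sylow p G) :
    (groupFusionSystem (P : Subgroup G)).IsSolvableSystem := by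
  intro R hR hne hnorm E hE
  set P₀ : Subgroup G := (P : Subgroup G) with hP₀
  set θ := QuotientGroup.mk' (R.subgroupOf P₀) with hθ
  have hk : ∀ s : P₀, θ s = 1 ↔ (s : G) ∈ R := hE.2.1
  set N := normalizer (R : Set G) with hN
  have hPN : P₀ ≤ N := fun x hx => by
    refine mem_normalizer_of_conj_mem (S := ⊤) le_top fun y hy => ?_
    exact stronglyClosed_apply hR (isMor_conj (hR.1) hx) hy hy
  have hRN : R ≤ N := le_normalizer
  haveI : (R.subgroupOf N).Normal := normal_in_normalizer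
  set π := QuotientGroup.mk' (R.subgroupOf N) with hπ
  have hπs : Function.Surjective π := QuotientGroup.mk'_surjective _
  let PN : Sylow p N := P.subtype hPN
  let T : Sylow p (N ⧸ R.subgroupOf N) := PN.mapSurjective hπs
  have hX : ¬ Involves ↥(qd p) (N ⧸ R.subgroupOf N) := fun h =>
    hfree (Solv.Quad.involves_of_subgroup (Solv.Quad.involves_of_surjective π hπs h))
  let j : P₀ ⧸ R.subgroupOf P₀ →* N ⧸ R.subgroupOf N :=
    QuotientGroup.map _ _ (inclusion hPN) (fun x hx => hx)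
  have hj : ∀ x : P₀, j (θ x) = π (inclusion hPN x) := fun x => rfl
  have hjr : j.range = (T : Subgroup (N ⧸ R.subgroupOf N)) := by
    ext y
    constructor
    · rintro ⟨x, rfl⟩
      obtain ⟨x, rfl⟩ := QuotientGroup.mk'_surjective _ x
      exact ⟨inclusion hPN x, show ((inclusion hPN x : N) : G) ∈ P₀ from x.2, (hj x).symm⟩
    · rintro ⟨x, hx, rfl⟩
      exact ⟨θ ⟨(x : G), hx⟩, hj _⟩
  have hji : Function.Injective j := by
    rw [← MonoidHom.ker_eq_bot_iff, eq_bot_iff]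
    intro y hy
    obtain ⟨x, rfl⟩ := QuotientGroup.mk'_surjective _ y
    rw [mem_bot, hk]
    exact (QuotientGroup.eq_one_iff (inclusion hPN x)).1 (show π (inclusion hPN x) = 1 from hy)
  set U := Solv.ZJ.zj 0 (T : Subgroup (N ⧸ R.subgroupOf N)) with hU
  set W := U.comap j with hW
  have hWne : W ≠ ⊥ := by
    intro h0
    have hT : (T : Subgroup (N ⧸ R.subgroupOf N)) ≠ ⊥ := by
      intro hbot
      apply hne
      refine le_antisymm hR.1 fun x hx => ?_
      have h1 : j (θ ⟨x, hx⟩) ∈ j.range := ⟨_, rfl⟩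
      rw [hjr, hbot, mem_bot] at h1
      exact (hk ⟨x, hx⟩).1 ((MonoidHom.ker_eq_bot_iff j).2 hji ▸ MonoidHom.mem_ker.2 h1 :
        θ ⟨x, hx⟩ ∈ (⊥ : Subgroup (P₀ ⧸ R.subgroupOf P₀)))
    refine Solv.ZJ.zj_ne_bot_aux T.isPGroup' (dvd_zero p) hT ?_
    have h2 : W.map j = U := map_comap_eq_self (hjr ▸ Solv.ZJ.zj_le 0 _)
    rw [h0, Subgroup.map_bot] at h2
    exact h2.symm
  suffices hnor : E.IsNormal W from fun hcore => hWne (le_bot_iff.1 (hcore ▸ le_sSup hnor))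
  refine ⟨le_top, fun P' φ' hφ' => ?_⟩
  obtain ⟨-, f, hf, hi⟩ := IsMor.factor_lift hE (isMor_extFun hφ')
  obtain ⟨hpre, hfm, g, hg⟩ := isMor_groupFusionSystem.1 hf
  have hRle : R ≤ preimageAlong θ P' := le_preimageAlong hR.1 hk
  have hgN : g ∈ N := by
    refine mem_normalizer_of_conj_mem (S := ⊤) le_top fun y hy => ?_
    rw [← hg y (hRle hy)]
    exact stronglyClosed_apply hR hf (hRle hy) hy
  -- the conjugation downstairs
  have hconj : ∀ y ∈ P', π ⟨g, hgN⟩ * j y * (π ⟨g, hgN⟩)⁻¹ = j (extFun φ' y) := by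
    intro y hy
    obtain ⟨x, hx, rfl⟩ := exists_qfun_eq hE.2.2.1 le_top hy
    have hxP := preimageAlong_le hx
    rw [hi x hx, qfun_apply θ hxP, qfun_apply θ (hfm x hx), hj, hj, ← map_inv, ← map_mul, ← map_mul]
    exact congrArg π (Subtype.ext (hg x hx).symm)
  obtain ⟨c, hc, hce⟩ := exists_zj_control hp2 hX T (j '' P')
    (by rintro _ ⟨y, -, rfl⟩; rw [← hjr]; exact ⟨y, rfl⟩) (π ⟨g, hgN⟩) (by
      rintro _ ⟨_, ⟨y, hy, rfl⟩, rfl⟩
      show π ⟨g, hgN⟩ * j y * (π ⟨g, hgN⟩)⁻¹ ∈ _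
      rw [hconj y hy, ← hjr]; exact ⟨_, rfl⟩)
  obtain ⟨n, rfl⟩ := hπs c
  set P'' := P' ⊔ W with hP''
  have hcU : ∀ u ∈ U, π n * u * (π n)⁻¹ ∈ U := fun u hu => (mem_normalizer_iff.1 hc u).1 hu
  have hle : P'' ≤ j.range.comap ((MulAut.conj (π n)).toMonoidHom.comp j) := sup_le
    (fun y hy => by
      show π n * j y * (π n)⁻¹ ∈ j.range
      rw [← hce _ ⟨y, hy, rfl⟩, hconj y hy]; exact ⟨_, rfl⟩)
    (fun y hy => by
      show π n * j y * (π n)⁻¹ ∈ j.range
      rw [hjr]; exact Solv.ZJ.zj_le 0 _ (hcU _ hy))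
  have hmem : ∀ x ∈ preimageAlong θ P'', (n : G) * x * (n : G)⁻¹ ∈ P₀ := by
    intro x hx
    obtain ⟨hxP, hx'⟩ := mem_preimageAlong.1 hx
    have h1 := hle hx'
    rw [qfun_apply θ hxP] at h1
    obtain ⟨z, hz⟩ := h1
    obtain ⟨z, rfl⟩ := QuotientGroup.mk'_surjective _ z
    have h2 : π (inclusion hPN z) = π (n * inclusion hPN ⟨x, hxP⟩ * n⁻¹) := by
      rw [map_mul, map_mul, map_inv, ← hj, ← hj]; exact hz
    obtain ⟨r, hr, hre⟩ := (QuotientGroup.mk'_eq_mk' _).1 h2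
    have h3 : ((inclusion hPN z * r : N) : G) = (n : G) * x * (n : G)⁻¹ := by rw [hre]; rfl
    rw [← h3]
    exact mul_mem z.2 (hR.1 hr)
  have hk' : IsMor (groupFusionSystem P₀) (preimageAlong θ P'') (fun x => (n : G) * x * (n : G)⁻¹) :=
    isMor_groupFusionSystem.2 ⟨preimageAlong_le, hmem, n, fun _ _ => rfl⟩
  obtain ⟨f', ⟨ψ, hψ, hψe⟩, hind⟩ := factor_push hE hR (le_top : P'' ≤ ⊤) hk'
  have hval : ∀ y ∈ P'', j (f' y) = π n * j y * (π n)⁻¹ := by
    intro y hy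
    obtain ⟨x, hx, rfl⟩ := exists_qfun_eq hE.2.2.1 le_top hy
    have hxP := preimageAlong_le hx
    rw [hind x hx, qfun_apply θ hxP, qfun_apply θ (hmem x hx), hj, hj, ← map_inv, ← map_mul, ← map_mul]
    rfl
  refine ⟨ψ, hψ, fun y => hji ?_, ?_⟩
  · rw [hψe]
    refine (hval _ (mem_sup_left y.2)).trans ?_
    rw [← extFun_coe φ' y, ← hconj _ y.2, hce _ ⟨_, y.2, rfl⟩]
  · ext z
    constructor
    · rintro ⟨y, hy, rfl⟩
      show j (ψ y) ∈ U
      rw [hψe, hval _ y.2]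
      exact hcU _ hy
    · intro hz
      have h1 : (π n)⁻¹ * j z * π n ∈ U :=
        (mem_normalizer_iff'.1 hc _).2 (by
          have hz' : j z ∈ U := hz
          simpa [mul_assoc] using hz')
      have h2 : (π n)⁻¹ * j z * π n ∈ j.range := hjr ▸ Solv.ZJ.zj_le 0 _ h1
      obtain ⟨w, hw⟩ := h2
      have hwW : w ∈ W := show j w ∈ U from hw.symm ▸ h1
      refine ⟨⟨w, mem_sup_right hwW⟩, hwW, hji ?_⟩
      rw [hψe, hval _ (mem_sup_right hwW), hw]
      group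

end Cfsg.Agent.Fusion
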