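import Mathlib
import Cfsg.Agent.Lib.Solv.NormalPComplement
import Cfsg.Agent.Lib.Solv.Basic
import Cfsg.Agent.Lib.Fusion.QuasiDihedralAut

/-!
Solvable groups with generalized quaternion Sylow 2-subgroups of order at least 32.
-/

set_option autoImplicit false

namespace Cfsg.Agent.Fusion.QuaternionSolvable

open Cfsg QuaternionGroup

variable {m : ℕ} [NeZero m]

/-- Self-centralizing normal subgroups of a large quaternion group have no odd automorphisms. -/
theorem isPGroup_mulAut (k : ℕ) (hk : 3 ≤ k) (hm : m = 2 ^ k) (N : Subgroup (QuaternionGroup m)) [N.Normal]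
    (hN : ∀ g : QuaternionGroup m, (∀ x ∈ N, g * x = x * g) → g ∈ N) : IsPGroup 2 (MulAut N) := by
  haveI : Fact (Nat.Prime 2) := ⟨Nat.prime_two⟩
  haveI : NeZero (2 * m) := ⟨by have := NeZero.ne m; omega⟩
  have h8 : 8 ≤ m := by
    rw [hm]; exact (show (8 : ℕ) = 2 ^ 3 by norm_num) ▸ Nat.pow_le_pow_right two_pos hk
  have hcard : Nat.card (QuaternionGroup m) = 2 ^ (k + 2) := by
    rw [Nat.card_eq_fintype_card, QuaternionGroup.card, hm, pow_add]; ring
  obtain ⟨M, -, hM⟩ := (Nat.dvd_prime_pow Nat.prime_two).mp (hcard ▸ Subgroup.card_subgroup_dvd_card N)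
  have ha : ∀ j : ZMod (2 * m), (a j : QuaternionGroup m) = a 1 ^ j.val := fun j => by
    rw [a_one_pow, ZMod.natCast_zmod_val]
  by_cases h1 : (a 1 : QuaternionGroup m) ∈ N
  · refine QuasiDihedral.isPGroup_mulAut_of_cyclic_part hM ⟨a 1, h1⟩ ?_ (fun α => ?_)
    · have hmul := (Subgroup.zpowers (⟨a 1, h1⟩ : N)).card_mul_index
      rw [Nat.card_zpowers, Subgroup.orderOf_mk, orderOf_a_one] at hmul
      have hle : Nat.card N ≤ 4 * m := by
        rw [← QuaternionGroup.card (n := m), ← Nat.card_eq_fintype_card]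
        exact Subgroup.card_le_card_group N
      by_contra h
      have : 2 * m * 3 ≤ 2 * m * (Subgroup.zpowers (⟨a 1, h1⟩ : N)).index := Nat.mul_le_mul_left _ (by omega)
      omega
    · have ho : orderOf ((α ⟨a 1, h1⟩ : N) : QuaternionGroup m) = 2 * m := by
        rw [Subgroup.orderOf_coe, MulEquiv.orderOf_eq, Subgroup.orderOf_mk, orderOf_a_one]
      rw [Subgroup.mem_zpowers_iff]
      rcases hval : ((α ⟨a 1, h1⟩ : N) : QuaternionGroup m) with j | j
      · refine ⟨(j.val : ℤ), Subtype.ext ?_⟩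
        rw [hval, SubgroupClass.coe_zpow, zpow_natCast, ← ha]
      · rw [hval, orderOf_xa] at ho
        omega
  · obtain ⟨i, hi⟩ : ∃ i, (xa i : QuaternionGroup m) ∈ N := by
      by_contra h
      simp only [not_exists] at h
      refine h1 (hN _ fun x hx => ?_)
      rcases x with j | j
      · rw [a_mul_a, a_mul_a, add_comm]
      · exact absurd hx (h j)
    have h2 : (a 2 : QuaternionGroup m) ∈ N := by
      have h3 : (xa i : QuaternionGroup m) ^ 3 * (a 1 * xa i * a (-1)) ∈ N := by
        refine N.mul_mem (N.pow_mem hi 3) ?_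
        have hinv : (a 1 : QuaternionGroup m)⁻¹ = a (-1) :=
          inv_eq_of_mul_eq_one_right (by rw [a_mul_a, add_neg_cancel, a_zero])
        exact hinv ▸ Subgroup.Normal.conj_mem inferInstance _ hi (a 1)
      have h4 : (xa i : QuaternionGroup m) ^ 3 * (a 1 * xa i * a (-1)) = a (-2) := by
        rw [a_mul_xa, xa_mul_a, pow_succ, xa_sq, a_mul_xa, xa_mul_xa]
        congr 1
        have h0 : ((2 * m : ℕ) : ZMod (2 * m)) = 0 := ZMod.natCast_self _
        push_cast at h0
        linear_combination h0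
      rw [h4] at h3
      have h5 := N.inv_mem h3
      rwa [inv_eq_of_mul_eq_one_right (show (a (-2) : QuaternionGroup m) * a 2 = 1 by
        rw [a_mul_a, neg_add_cancel, a_zero])] at h5
    have ho2 : orderOf (a 2 : QuaternionGroup m) = m := by
      rw [show (a 2 : QuaternionGroup m) = a 1 ^ 2 by rw [a_one_pow, Nat.cast_ofNat], orderOf_pow' _ two_ne_zero,
        orderOf_a_one, Nat.gcd_eq_right (dvd_mul_right 2 m), Nat.mul_div_cancel_left _ two_pos]
    have hle : Nat.card N ≤ 2 * m := by
      have hmul := N.card_mul_index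
      have hne : N.index ≠ 1 := fun h => h1 (Subgroup.index_eq_one.mp h ▸ Subgroup.mem_top _)
      have h0 : N.index ≠ 0 := Subgroup.index_ne_zero_of_finite
      have : Nat.card N * 2 ≤ Nat.card N * N.index := Nat.mul_le_mul_left _ (by omega)
      rw [Nat.card_eq_fintype_card (α := QuaternionGroup m), QuaternionGroup.card] at hmul
      omega
    refine QuasiDihedral.isPGroup_mulAut_of_cyclic_part hM ⟨a 2, h2⟩ ?_ (fun α => ?_)
    · have hmul := (Subgroup.zpowers (⟨a 2, h2⟩ : N)).card_mul_index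
      rw [Nat.card_zpowers, Subgroup.orderOf_mk, ho2] at hmul
      by_contra h
      have : m * 3 ≤ m * (Subgroup.zpowers (⟨a 2, h2⟩ : N)).index := Nat.mul_le_mul_left _ (by omega)
      omega
    · have ho : orderOf ((α ⟨a 2, h2⟩ : N) : QuaternionGroup m) = m := by
        rw [Subgroup.orderOf_coe, MulEquiv.orderOf_eq, Subgroup.orderOf_mk, ho2]
      rw [Subgroup.mem_zpowers_iff]
      rcases hval : ((α ⟨a 2, h2⟩ : N) : QuaternionGroup m) with j | j
      · rcases Nat.even_or_odd j.val with ⟨l, hl⟩ | hodd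
        · refine ⟨(l : ℤ), Subtype.ext ?_⟩
          rw [hval, SubgroupClass.coe_zpow, zpow_natCast, ha j, hl, ← two_mul, pow_mul, a_one_pow, Nat.cast_ofNat]
        · rw [hval, ha j, orderOf_pow' _ hodd.pos.ne', orderOf_a_one] at ho
          have hco : Nat.gcd (2 * m) j.val = 1 :=
            Nat.Coprime.mul_left (Nat.coprime_two_left.2 hodd) (hm ▸ (Nat.coprime_two_left.2 hodd).pow_left k)
          rw [hco, Nat.div_one] at ho
          omega
      · rw [hval, orderOf_xa] at ho
        omega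

/-- Solvable groups with a generalized quaternion Sylow 2-subgroup of order at least 32 are 2-nilpotent. -/
theorem hasNormalPComplement {G : Type*} [Group G] [Finite G] (hsol : Group.IsSolvable G) (T : Sylow 2 G)
    (k : ℕ) (hk : 3 ≤ k) (e : (T : Subgroup G) ≃* QuaternionGroup (2 ^ k)) : HasNormalPComplement 2 G := by
  haveI : Fact (Nat.Prime 2) := ⟨Nat.prime_two⟩
  haveI := hsol
  refine Solv.hasNormalPComplement_of_normal_coprime (pPrimeCore 2 G) (Solv.card_pPrimeCore_coprime 2 G) ?_
  set H := G ⧸ pPrimeCore 2 G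
  set f := QuotientGroup.mk' (pPrimeCore 2 G)
  have hf : Function.Surjective f := QuotientGroup.mk'_surjective _
  haveI : Group.IsSolvable H := Group.isSolvable_of_surjective hf
  have hT : Function.Injective (f.comp (T : Subgroup G).subtype) := by
    rw [injective_iff_map_eq_one]
    intro x hx
    have hxO : (x : G) ∈ pPrimeCore 2 G := (QuotientGroup.eq_one_iff _).mp hx
    obtain ⟨j, hj⟩ := IsPGroup.iff_orderOf.mp T.2 x
    have h1 := (Solv.card_pPrimeCore_coprime 2 G).coprime_dvd_left (Subgroup.orderOf_dvd_natCard _ hxO)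
    rw [Subgroup.orderOf_coe, hj] at h1
    rcases Nat.eq_zero_or_pos j with rfl | hj0
    · exact orderOf_eq_one_iff.mp hj
    · rw [Nat.coprime_pow_left_iff hj0] at h1; norm_num at h1
  set Q := pCore 2 H
  have hQT : ∀ x ∈ Q, x ∈ (T.mapSurjective hf : Subgroup H) := fun x hx => Solv.pCore_le_sylow _ hx
  have hC := Solv.centralizer_pCore_le_of_isSolvable (Solv.pPrimeCore_quotient_pPrimeCore (G := G) 2)
  -- the embedding of the 2-core into the model
  set N : Subgroup (QuaternionGroup (2 ^ k)) := (Q.comap (f.comp (T : Subgroup G).subtype)).map e.toMonoidHom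
  haveI : (Q.comap (f.comp (T : Subgroup G).subtype)).Normal := Subgroup.Normal.comap inferInstance _
  haveI : N.Normal := Subgroup.Normal.map inferInstance e.toMonoidHom e.surjective
  let g : N ≃* Q :=
    ((e.subgroupMap (Q.comap (f.comp (T : Subgroup G).subtype))).symm.trans
      (MulEquiv.ofBijective ((f.comp (T : Subgroup G).subtype).subgroupComap Q) ⟨fun x y h => Subtype.ext (hT (congrArg Subtype.val h)),
        fun ⟨x, hx⟩ => by
          obtain ⟨t, ht, rfl⟩ := Subgroup.mem_map.mp (hQT x hx)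
          exact ⟨⟨⟨t, ht⟩, hx⟩, rfl⟩⟩))
  have hA : IsPGroup 2 (MulAut Q) := by
    refine (isPGroup_mulAut k hk rfl N fun q hq => ?_).of_equiv (MulAut.congr g)
    obtain ⟨t, rfl⟩ := e.surjective q
    refine Subgroup.mem_map.mpr ⟨t, Subgroup.mem_comap.mpr (hC ?_), rfl⟩
    rw [Subgroup.mem_centralizer_iff]
    intro x hx
    obtain ⟨s, hs, rfl⟩ := Subgroup.mem_map.mp (hQT x hx)
    have h1 := hq (e ⟨s, hs⟩) (Subgroup.mem_map.mpr ⟨⟨s, hs⟩, hx, rfl⟩)
    rw [← map_mul, ← map_mul] at h1
    have h2 := congrArg (f.comp (T : Subgroup G).subtype) (e.injective h1)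
    simpa using h2.symm
  refine Solv.hasNormalPComplement_of_isPGroup ?_
  intro h
  obtain ⟨a, ha⟩ := hA (MulAut.conjNormal h)
  have hc : h ^ 2 ^ a ∈ Q := hC (by
    rw [Subgroup.mem_centralizer_iff]
    intro x hx
    rw [← map_pow] at ha
    have h1 := congrArg Subtype.val (DFunLike.congr_fun ha ⟨x, hx⟩)
    rw [MulAut.conjNormal_apply, MulAut.one_apply] at h1
    calc x * h ^ 2 ^ a = h ^ 2 ^ a * x * (h ^ 2 ^ a)⁻¹ * h ^ 2 ^ a := by rw [h1]
      _ = h ^ 2 ^ a * x := by group)
  obtain ⟨b, hb⟩ := Solv.isPGroup_pCore 2 H ⟨_, hc⟩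
  refine ⟨a + b, ?_⟩
  rw [pow_add, pow_mul]
  exact congrArg Subtype.val hb

end Cfsg.Agent.Fusion.QuaternionSolvable
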