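import Mathlib
import Cfsg.Prelude
import Cfsg.Agent.Lib.Fusion.PPowerIndexContains
import Cfsg.Agent.Lib.Fusion.Hyperfocal

/-!
Residual limits and subsystems of `p`-power index.
-/

set_option autoImplicit false

namespace Cfsg.Agent.Fusion.ResidualLimit

open Cfsg Cfsg.FusionSystem Cfsg.Agent.Fusion

variable {Ω : Type*} [Group Ω] {p : ℕ} [Fact p.Prime]

theorem self_pPowerIndex {S : Subgroup Ω} (F : FusionSystem S) : F.HasPPowerIndexIn F p :=
  ⟨fun _ => le_rfl, hyperfocal_le F p, fun _ _ => Subgroup.map_subtype_le _⟩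

/-- A subsystem of `p`-power index on a strongly closed subgroup has the same hyperfocal subgroup. -/
theorem hyperfocal_eq {S T : Subgroup Ω} [Finite S] (hS : IsPGroup p S) {F : FusionSystem S} {E : FusionSystem T}
    (hsc : F.StronglyClosed T) (hidx : E.HasPPowerIndexIn F p) :
    E.hyperfocalSubgroup p = F.hyperfocalSubgroup p := by
  have : Finite T := finite_of_le hsc.1
  set K := E.hyperfocalSubgroup p with hK
  refine le_antisymm ?_ ?_
  · refine (Subgroup.closure_le _).2 ?_
    rintro _ ⟨P, α, x, hP, hα, rfl⟩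
    have hsub : E.autGroup P ≤ F.autGroup P := Subgroup.closure_mono fun β hβ => hidx.1 P hβ
    refine Subgroup.subset_closure ⟨P, Subgroup.inclusion hsub α, x, hP.trans hsc.1, ?_, rfl⟩
    exact map_pResidual_le _ ⟨α, hα, rfl⟩
  · refine (Subgroup.closure_le _).2 ?_
    rintro _ ⟨P, α, x, hP, hα, rfl⟩
    suffices h : ∀ x : P, (x : Ω)⁻¹ * ((α : MulAut P) x : P) ∈ K from h x
    induction hα using Subgroup.closure_induction with
    | one => intro x; simp
    | mul a b _ _ ha hb =>
      intro x
      have h1 := mul_mem (hb x) (ha ((b : MulAut P) x))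
      rw [show (x : Ω)⁻¹ * (((b : MulAut P) x : P) : Ω) * ((((b : MulAut P) x : P) : Ω)⁻¹ *
        (((a : MulAut P) ((b : MulAut P) x) : P) : Ω)) = (x : Ω)⁻¹ * (((a : MulAut P) ((b : MulAut P) x) : P) : Ω) by
          group] at h1
      exact h1
    | inv a _ ha =>
      intro x
      have h1 := inv_mem (ha ((a : MulAut P)⁻¹ x))
      rw [mul_inv_rev, inv_inv, MulAut.apply_inv_self] at h1
      exact h1
    | mem a ha =>
      clear x
      intro x
      have := finite_of_le hP
      set Q := P ⊓ T with hQ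
      have hQP : Q ≤ P := inf_le_left
      have hm : IsMor F Q (autFun (a : MulAut P)) := (isMor_of_mem_autGroup hP a.2).restrict hQP
      have hQmem : ∀ y ∈ Q, autFun (a : MulAut P) y ∈ Q := fun y hy => by
        refine Subgroup.mem_inf.2 ⟨autFun_mem _ (hQP hy), ?_⟩
        obtain ⟨φ, hφ, hφe⟩ := hm
        have := hsc.2 Q inf_le_right φ hφ ⟨y, hy⟩
        rwa [hφe ⟨y, hy⟩] at this
      let g : Q →* Q :=
        { toFun := fun y => ⟨autFun (a : MulAut P) y, hQmem y y.2⟩
          map_one' := Subtype.ext hm.map_one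
          map_mul' := fun y z => Subtype.ext (hm.map_mul y.2 z.2) }
      have : Finite Q := finite_of_le (hQP.trans hP)
      have hg : Function.Injective g := fun y z h => Subtype.ext (hm.injOn y.2 z.2 (congrArg Subtype.val h))
      let β : MulAut Q := MulEquiv.ofBijective g (Finite.injective_iff_bijective.1 hg)
      have hβa : ∀ (k : ℕ) (y : Q), ((((β ^ k : MulAut Q) y : Q)) : Ω) =
          ((((a : MulAut P) ^ k) ⟨y, hQP y.2⟩ : P) : Ω) := by
        intro k
        induction k with
        | zero => intro y; rfl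
        | succ k ih =>
          intro y
          rw [pow_succ', pow_succ', MulAut.mul_apply, MulAut.mul_apply]
          show autFun (a : MulAut P) _ = _
          rw [ih y, autFun_coe]
      have hβF : β ∈ F.autGroup Q := mem_autGroup_of_isMor hm fun _ => rfl
      have hβn : β ^ orderOf (a : MulAut P) = 1 := MulEquiv.ext fun y => Subtype.ext (by
        rw [hβa, pow_orderOf_eq_one]; rfl)
      have hn : (orderOf (a : MulAut P)).Coprime p := by rw [Subgroup.orderOf_coe]; exact ha
      have hcop : (orderOf β).Coprime p := hn.coprime_dvd_left (orderOf_dvd_of_pow_eq_one hβn)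
      have hβE : β ∈ E.autGroup Q := hidx.2.2 Q inf_le_right
        ⟨⟨β, hβF⟩, Solv.mem_pResidual (by rw [← Subgroup.orderOf_coe]; exact hcop), rfl⟩
      have hone : ∀ y ∈ Q, y⁻¹ * autFun (a : MulAut P) y ∈ K := fun y hy =>
        Subgroup.subset_closure ⟨Q, ⟨β, hβE⟩, ⟨y, hy⟩, inf_le_right,
          Solv.mem_pResidual (by rw [← Subgroup.orderOf_coe]; exact hcop), rfl⟩
      set u : Ω := (x : Ω)⁻¹ * (((a : MulAut P) x : P) : Ω) with hu
      have huT : u ∈ T := hidx.2.1 (Subgroup.subset_closure ⟨P, a, x, hP, Solv.mem_pResidual ha, rfl⟩)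
      have huP : u ∈ P := mul_mem (inv_mem x.2) (SetLike.coe_mem _)
      have hKT : K ≤ T := hyperfocal_le E p
      have hpow : ∀ k : ℕ, ∃ c ∈ K, (x : Ω)⁻¹ * ((((a : MulAut P) ^ k) x : P) : Ω) = u ^ k * c := by
        intro k
        induction k with
        | zero => exact ⟨1, one_mem _, by simp⟩
        | succ k ih =>
          obtain ⟨c, hc, he⟩ := ih
          have hm1 := isMor_of_mem_autGroup hP a.2
          have hcP : c ∈ P := by
            rw [show c = (u ^ k)⁻¹ * ((x : Ω)⁻¹ * ((((a : MulAut P) ^ k) x : P) : Ω)) by rw [he]; group]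
            exact mul_mem (inv_mem (pow_mem huP k)) (mul_mem (inv_mem x.2) (SetLike.coe_mem _))
          have hvQ : u ^ k * c ∈ Q := Subgroup.mem_inf.2 ⟨mul_mem (pow_mem huP k) hcP, mul_mem (pow_mem huT k) (hKT hc)⟩
          have hk' := hone _ hvQ
          refine ⟨c * ((u ^ k * c)⁻¹ * autFun (a : MulAut P) (u ^ k * c)), mul_mem hc hk', ?_⟩
          have e1 : ((((a : MulAut P) ^ (k + 1)) x : P) : Ω) = autFun (a : MulAut P) ((x : Ω) * (u ^ k * c)) := by
            rw [← he, mul_inv_cancel_left, pow_succ', MulAut.mul_apply, autFun_coe]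
          rw [e1, hm1.map_mul x.2 (Subgroup.mem_inf.1 hvQ).1, autFun_coe, pow_succ' u k]
          simp only [hu]
          group
      obtain ⟨c, hc, he⟩ := hpow (orderOf (a : MulAut P))
      have hun : u ^ orderOf (a : MulAut P) ∈ K := by
        rw [pow_orderOf_eq_one, MulAut.one_apply, inv_mul_cancel] at he
        rw [eq_inv_of_mul_eq_one_left he.symm]
        exact inv_mem hc
      obtain ⟨i, hi⟩ := (IsPGroup.iff_orderOf.1 hS) ⟨u, hP huP⟩
      rw [← Subgroup.orderOf_coe] at hi
      obtain ⟨j, hj⟩ := exists_pow_eq_self_of_coprime (x := u) (n := orderOf (a : MulAut P)) (by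
        rw [hi]; exact hn.pow_right i)
      show u ∈ K
      rw [← hj]
      exact pow_mem hun j

theorem eq_of_hom {S : Subgroup Ω} {F E : FusionSystem S} (h₁ : F.IsSubsystemOf E) (h₂ : E.IsSubsystemOf F) :
    F = E := fusionSystem_ext fun P => Set.Subset.antisymm (h₁ P) (h₂ P)

/-- If the system coincides with both of its residuals, it is its only residual limit. -/
theorem eq_of_stable {U S : Subgroup Ω} {X : FusionSystem U} {F : FusionSystem S}
    (hX : X.IsResidualLimitOf F p) :
    Fact p.Prime → Finite S → IsPGroup p S → F.IsSaturated p → F.hyperfocalSubgroup p = S → F.IsPPrimeResidual p F →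
      ∀ P, X.Hom P = F.Hom P := by
  induction hX with
  | stable F q _ _ => intro _ _ _ _ _ _ P; rfl
  | @step S X F q D D' hD hD' hlim ih =>
    intro hq hfin hS hF hh hres
    have hsub : ∀ P, D.Hom P = F.Hom P := fun P => Set.Subset.antisymm (hD.2.1 P)
      (PPowerIndex.subsystem_of_le hS le_rfl hh.ge hF (fun _ => le_rfl) hD.2 P)
    have key : ∀ {R : Subgroup Ω} (e : R = S) (A A' : FusionSystem R), (∀ P, A.Hom P = F.Hom P) →
        A.IsPPrimeResidual q A' → (∀ P, A'.Hom P = F.Hom P) ∧ A'.hyperfocalSubgroup q = R ∧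
          A'.IsPPrimeResidual q A' ∧ A'.IsSaturated q ∧ IsPGroup q R ∧ Finite R := by
      intro R e A A' hA hA'
      subst e
      obtain rfl : A = F := fusionSystem_ext hA
      obtain rfl : A' = A := eq_of_hom
        (fun P => (hA'.2.2 A hF hres.2.1) P) (fun P => (hres.2.2 A' hA'.1 hA'.2.1) P)
      exact ⟨fun _ => rfl, hh, hres, hF, hS, hfin⟩
    obtain ⟨h1, h2, h3, h4, h5, h6⟩ := key hh D D' hsub hD'
    exact fun P => (ih hq h6 h5 h4 h2 h3 P).trans (h1 P)

/-- The residual limit is unique. -/
theorem unique {U S : Subgroup Ω} {X : FusionSystem U} {F : FusionSystem S} (hX : X.IsResidualLimitOf F p) :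
    Fact p.Prime → Finite S → IsPGroup p S → F.IsSaturated p → ∀ {V : Subgroup Ω} (Y : FusionSystem V),
      Y.IsResidualLimitOf F p → ∀ P, X.Hom P = Y.Hom P := by
  induction hX with
  | stable F q hh hres =>
    intro hq hfin hS hF V Y hY P
    exact (eq_of_stable hY hq hfin hS hF hh hres P).symm
  | @step S X F q D D' hD hD' hlim ih =>
    intro hq hfin hS hF V Y hY
    cases hY with
    | stable _ _ hh hres =>
      exact eq_of_stable (.step F q D D' hD hD' hlim) hq hfin hS hF hh hres
    | step _ _ D₂ D₂' hD₂ hD₂' hlim₂ =>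
      have hle := hyperfocal_le F q
      obtain rfl : D₂ = D := eq_of_hom
        (PPowerIndex.subsystem_of_le hS hle le_rfl hD₂.1 hD₂.2.1 hD.2)
        (PPowerIndex.subsystem_of_le hS hle le_rfl hD.1 hD.2.1 hD₂.2)
      obtain rfl : D₂' = D' := eq_of_hom
        (hD₂'.2.2 D' hD'.1 hD'.2.1) (hD'.2.2 D₂' hD₂'.1 hD₂'.2.1)
      exact ih hq (finite_of_le hle) (hS.to_le hle) hD'.1 Y hlim₂

/-- Systems with the same maps on equal subgroups have the same residual limits. -/
theorem congr_sys {V T U : Subgroup Ω} {Y : FusionSystem V} {D : FusionSystem T} {D' : FusionSystem U}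
    (e : T = U) (h : ∀ P, D.Hom P = D'.Hom P) (hY : Y.IsResidualLimitOf D p) : Y.IsResidualLimitOf D' p := by
  subst e
  obtain rfl : D = D' := fusionSystem_ext h
  exact hY

end Cfsg.Agent.Fusion.ResidualLimit
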