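import Mathlib
import Cfsg.Prelude.Def_ClassicalGeometry
import Cfsg.Agent.Lib.Classical.UnitarySylow

/-!
Involutory semilinear-type symmetries of the norm form of `GF(q²)/GF(q)`, `q` even, and the
Sylow 2-subgroup of `SU₃(q)`.
-/

set_option autoImplicit false
set_option linter.unusedSectionVars false

open Matrix

namespace Cfsg.Agent.SU3Index2

/-- Finite counting of an additive map. -/
theorem card_ker_mul_range {A B : Type*} [AddCommGroup A] [AddCommGroup B] [Finite A] (f : A →+ B) :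
    Nat.card f.ker * Nat.card f.range = Nat.card A := by
  rw [← AddSubgroup.index_ker, AddSubgroup.card_mul_index]

section field

variable {F : Type*} [Field F] [Fintype F] [CharP F 2] {q n : ℕ}

/-- The polar form of the norm. -/
def pol (q : ℕ) (x y : F) : F := x * y ^ q + x ^ q * y

/-- An involutory additive map compatible with the norm induces the identity on the fixed field. -/
theorem key (hq : q = 2 ^ n) (hcard : Fintype.card F = q ^ 2)
    (hpp : ∀ a : F, (a ^ q) ^ q = a) (htr : ∀ c : F, c ^ q = c → ∃ t, t + t ^ q = c)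
    (L : F →+ F) (hLL : ∀ a, L (L a) = a) (Λ : F → F)
    (hΛfix : ∀ c : F, c ^ q = c → (Λ c) ^ q = Λ c)
    (hΛadd : ∀ c d : F, c ^ q = c → d ^ q = d → Λ (c + d) = Λ c + Λ d)
    (hΛΛ : ∀ c : F, c ^ q = c → Λ (Λ c) = c)
    (hN : ∀ a, L a * (L a) ^ q = Λ (a * a ^ q)) :
    ∀ c : F, c ^ q = c → Λ c = c := by
  classical
  haveI : Fact (Nat.Prime 2) := ⟨Nat.prime_two⟩
  by_contra hne
  push Not at hne
  obtain ⟨c₁, hc₁, hc₁'⟩ := hne
  have hq0 : q ≠ 0 := by rw [hq]; exact pow_ne_zero _ two_ne_zero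
  have hadd : ∀ a b : F, (a + b) ^ q = a ^ q + b ^ q := fun a b => by rw [hq]; exact add_pow_char_pow a b 2 n
  have h2 : ∀ a : F, a + a = 0 := CharTwo.add_self_eq_zero
  -- the fixed field
  let tr : F →+ F := AddMonoidHom.mk' (fun a => a + a ^ q) fun a b => by simp only [hadd]; abel
  let Fix : AddSubgroup F := tr.ker
  have hFix : ∀ c : F, c ∈ Fix ↔ c ^ q = c := fun c => by
    show c + c ^ q = 0 ↔ _
    rw [CharTwo.add_eq_zero, eq_comm]
  have htrr : tr.range = Fix := by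
    ext c
    constructor
    · rintro ⟨a, rfl⟩
      rw [hFix]
      show (a + a ^ q) ^ q = a + a ^ q
      rw [hadd, hpp, add_comm]
    · intro hc
      exact htr c ((hFix c).1 hc)
  have hFixcard : Nat.card Fix = q := by
    have h := card_ker_mul_range tr
    rw [htrr, Nat.card_eq_fintype_card (α := F), hcard, sq] at h
    exact Nat.mul_self_inj.1 h
  have hNfix : ∀ a : F, (a * a ^ q) ^ q = a * a ^ q := fun a => by rw [mul_pow, hpp, mul_comm]
  have hpolfix : ∀ x y : F, (pol q x y) ^ q = pol q x y := fun x y => by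
    simp only [pol, hadd, mul_pow, hpp]; ring
  have hpoladd : ∀ x y z : F, pol q x (y + z) = pol q x y + pol q x z := fun x y z => by
    simp only [pol, hadd]; ring
  have hpolN : ∀ x y : F, (x + y) * (x + y) ^ q = x * x ^ q + y * y ^ q + pol q x y := fun x y => by
    simp only [pol, hadd]; ring
  have hsum : ∀ {c d : F}, c ^ q = c → d ^ q = d → (c + d) ^ q = c + d := fun {c d} hc hd => by
    rw [hadd, hc, hd]
  have hpolL : ∀ x y : F, pol q (L x) (L y) = Λ (pol q x y) := fun x y => by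
    have e := hN (x + y)
    rw [map_add, hpolN, hpolN, hN, hN, hΛadd _ _ (hsum (hNfix x) (hNfix y)) (hpolfix x y),
      hΛadd _ _ (hNfix x) (hNfix y)] at e
    exact add_left_cancel e
  -- W and D
  let M : F →+ F := L + AddMonoidHom.id F
  have hMW : ∀ x : F, x ∈ M.ker ↔ L x = x := fun x => by
    show L x + x = 0 ↔ _
    rw [CharTwo.add_eq_zero]
  have hDW : M.range ≤ M.ker := by
    rintro _ ⟨x, rfl⟩
    rw [hMW]
    show L (L x + x) = L x + x
    rw [map_add, hLL, add_comm]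
  let W : AddSubgroup F := M.ker
  let D : AddSubgroup F := M.range
  have hWD : Nat.card W * Nat.card D = q ^ 2 := by
    rw [card_ker_mul_range M, Nat.card_eq_fintype_card, hcard]
  -- I and U
  let Tc : Fix →+ F := AddMonoidHom.mk' (fun c => Λ (c : F) + c) fun a b => by
    simp only [AddSubgroup.coe_add, hΛadd _ _ ((hFix _).1 a.2) ((hFix _).1 b.2)]; abel
  let I : AddSubgroup F := Tc.range
  have hUI : Nat.card Tc.ker * Nat.card I = q := by rw [card_ker_mul_range Tc, hFixcard]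
  let U : AddSubgroup F := Tc.ker.map Fix.subtype
  have hUcard : Nat.card U = Nat.card Tc.ker :=
    (Nat.card_congr (Tc.ker.equivMapOfInjective Fix.subtype Subtype.val_injective).toEquiv).symm
  have hUmem : ∀ c : F, c ^ q = c → Λ c = c → c ∈ U := fun c hc hc' =>
    ⟨⟨c, (hFix c).2 hc⟩, by show Λ c + c = 0; rw [hc', h2], rfl⟩
  have hImem : ∀ c : F, c ∈ I → c ^ q = c ∧ Λ c = c := by
    rintro _ ⟨⟨c, hc⟩, rfl⟩
    have hc' := (hFix c).1 hc
    show (Λ c + c) ^ q = Λ c + c ∧ Λ (Λ c + c) = Λ c + c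
    exact ⟨hsum (hΛfix c hc') hc', by rw [hΛadd _ _ (hΛfix c hc') hc', hΛΛ c hc', add_comm]⟩
  have hIU : I ≤ U := fun c hc => hUmem c (hImem c hc).1 (hImem c hc).2
  have hI2 : Nat.card I * Nat.card I ≤ q := by
    calc Nat.card I * Nat.card I ≤ Nat.card U * Nat.card I :=
          Nat.mul_le_mul_right _ (AddSubgroup.card_le_of_le hIU)
      _ = q := by rw [hUcard, hUI]
  obtain ⟨i₀, hi₀, hi₀0⟩ : ∃ i, i ∈ I ∧ i ≠ 0 :=
    ⟨Λ c₁ + c₁, ⟨⟨c₁, (hFix c₁).2 hc₁⟩, rfl⟩, fun h => hc₁' (CharTwo.add_eq_zero.1 h)⟩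
  have hI1 : 2 ≤ Nat.card I := by
    haveI : Nontrivial I := ⟨⟨0, ⟨i₀, hi₀⟩, fun h => hi₀0 (Subtype.ext_iff.1 h).symm⟩⟩
    exact Finite.one_lt_card
  -- the maps `x ↦ B(w,x)`
  let β : F → (F →+ F) := fun w => AddMonoidHom.mk' (fun x => pol q w x) (hpoladd w)
  have hβker : ∀ w x : F, w ≠ 0 → (x ∈ (β w).ker ↔ (x / w) ^ q = x / w) := fun w x hw => by
    show w * x ^ q + w ^ q * x = 0 ↔ _
    rw [CharTwo.add_eq_zero, div_pow, div_eq_div_iff (pow_ne_zero _ hw) hw,
      mul_comm w, mul_comm (w ^ q)]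
  have hβD : ∀ w ∈ W, w ≠ 0 → (∀ c, c ∈ I ↔ ∃ d ∈ D, pol q w d = c) := by
    intro w hw hw0 c
    have hLw := (hMW w).1 hw
    constructor
    · rintro ⟨⟨d, hd⟩, rfl⟩
      have hN0 : w * w ^ q ≠ 0 := mul_ne_zero hw0 (pow_ne_zero _ hw0)
      obtain ⟨t, ht⟩ := htr (d / (w * w ^ q)) (by rw [div_pow, (hFix d).1 hd, hNfix])
      have hB : pol q w (t * w) = d := by
        rw [← mul_div_cancel₀ d hN0, ← ht]
        simp only [pol, mul_pow]; ring
      refine ⟨M (t * w), ⟨_, rfl⟩, ?_⟩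
      show pol q w (L (t * w) + t * w) = Λ d + d
      have e1 := hpolL w (t * w)
      rw [hLw, hB] at e1
      rw [hpoladd, hB, e1]
    · rintro ⟨_, ⟨x, rfl⟩, rfl⟩
      refine ⟨⟨pol q w x, (hFix _).2 (hpolfix _ _)⟩, ?_⟩
      show Λ (pol q w x) + pol q w x = pol q w (L x + x)
      rw [hpoladd, ← hpolL, hLw]
  let e := fun w : F => Nat.card ↥(D ⊓ (β w).ker)
  have he : ∀ w ∈ W, w ≠ 0 → e w * Nat.card I = Nat.card D := by
    intro w hw hw0
    let g : D →+ F := (β w).comp D.subtype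
    have hr : g.range = I := by
      ext c
      rw [hβD w hw hw0 c]
      constructor
      · rintro ⟨⟨d, hd⟩, rfl⟩; exact ⟨d, hd, rfl⟩
      · rintro ⟨d, hd, rfl⟩; exact ⟨⟨d, hd⟩, rfl⟩
    have hk : Nat.card g.ker = e w := Nat.card_congr
      { toFun := fun x => ⟨(x : D), (x : D).2, x.2⟩
        invFun := fun x => ⟨⟨x.1, x.2.1⟩, x.2.2⟩
        left_inv := fun x => rfl
        right_inv := fun x => rfl }
    rw [← hk, ← hr, card_ker_mul_range g]
  -- the multipliers of I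
  let K : Subfield F :=
    { carrier := {l | ∀ i ∈ I, l * i ∈ I}
      one_mem' := fun i hi => by rwa [one_mul]
      zero_mem' := fun i _ => by rw [zero_mul]; exact I.zero_mem
      add_mem' := fun {a b} ha hb i hi => by rw [add_mul]; exact I.add_mem (ha i hi) (hb i hi)
      mul_mem' := fun {a b} ha hb i hi => by rw [mul_assoc]; exact ha _ (hb i hi)
      neg_mem' := fun {a} ha i hi => by rw [neg_mul]; exact I.neg_mem (ha i hi)
      inv_mem' := fun a ha i hi => by
        by_cases h0 : a = 0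
        · simp [h0, I.zero_mem]
        obtain ⟨⟨j, hj⟩, hj'⟩ := (Finite.injective_iff_surjective
          (f := fun x : I => (⟨a * x, ha x x.2⟩ : I))).1
            (fun x y h => Subtype.ext (mul_left_cancel₀ h0 (Subtype.ext_iff.1 h))) ⟨i, hi⟩
        have : a * j = i := Subtype.ext_iff.1 hj'
        rwa [← this, inv_mul_cancel_left₀ h0] }
  have hKI : Nat.card K ≤ Nat.card I :=
    Nat.card_le_card_of_injective (fun l : K => (⟨(l : F) * i₀, l.2 i₀ hi₀⟩ : I))
      fun a b h => Subtype.ext (mul_right_cancel₀ hi₀0 (Subtype.ext_iff.1 h))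
  have hscal : ∀ w ∈ W, w ≠ 0 → ∀ x, x ∈ W → x ∈ (β w).ker → x / w ∈ K := by
    intro w hw hw0 x hx hxk
    by_cases hx0 : x = 0
    · rw [hx0, zero_div]; exact K.zero_mem
    intro i hi
    obtain ⟨d, hd, rfl⟩ := (hβD w hw hw0 i).1 hi
    refine (hβD x hx hx0 _).2 ⟨d, hd, ?_⟩
    have hl := (hβker w x hw0).1 hxk
    obtain ⟨l, rfl⟩ : ∃ l, x = l * w := ⟨x / w, (div_mul_cancel₀ x hw0).symm⟩
    rw [mul_div_assoc, div_self hw0, mul_one] at hl ⊢
    simp only [pol, mul_pow, hl]; ring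
  have hWline : ∀ w ∈ W, w ≠ 0 → Nat.card ↥(W ⊓ (β w).ker) ≤ Nat.card K := fun w hw hw0 =>
    Nat.card_le_card_of_injective (fun x : ↥(W ⊓ (β w).ker) => (⟨(x : F) / w, hscal w hw hw0 x x.2.1 x.2.2⟩ : K))
      fun a b h => Subtype.ext ((div_left_inj' hw0).1 (Subtype.ext_iff.1 h))
  -- a non-zero vector of D
  obtain ⟨w₁, hw₁, hw₁0⟩ : ∃ w, w ∈ W ∧ w ≠ 0 := by
    by_contra! hc
    have hb : W = ⊥ := (AddSubgroup.eq_bot_iff_forall _).2 hc
    have hDb : D = ⊥ := eq_bot_iff.2 (hb ▸ hDW)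
    rw [hb, hDb, AddSubgroup.card_bot, one_mul] at hWD
    have hq1 : q = 1 := (Nat.pow_eq_one.1 hWD.symm).resolve_right two_ne_zero
    rw [hq1] at hI2
    have := Nat.mul_le_mul hI1 hI1
    omega
  obtain ⟨w₀, hw₀, hw₀0⟩ : ∃ w, w ∈ D ∧ w ≠ 0 := by
    by_contra! hc
    have hb : D = ⊥ := (AddSubgroup.eq_bot_iff_forall _).2 hc
    obtain ⟨d, hd, h⟩ := (hβD w₁ hw₁ hw₁0 i₀).1 hi₀
    rw [hb, AddSubgroup.mem_bot] at hd
    apply hi₀0
    rw [← h, hd]
    exact map_zero (β w₁)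
  have hw₀W : w₀ ∈ W := hDW hw₀
  have hself : ∀ w : F, w ∈ (β w).ker := fun w => by
    show w * w ^ q + w ^ q * w = 0
    rw [mul_comm (w ^ q)]; exact h2 _
  obtain ⟨E, hE⟩ : ∃ E, E = e w₀ := ⟨_, rfl⟩
  have hEI : E * Nat.card I = Nat.card D := by rw [hE]; exact he w₀ hw₀W hw₀0
  have hIpos : 0 < Nat.card I := by omega
  have heE : ∀ w ∈ W, w ≠ 0 → e w = E := fun w hw hw0 =>
    Nat.eq_of_mul_eq_mul_right hIpos (by rw [he w hw hw0, hEI])
  have hE2 : 2 ≤ E := by
    rw [hE]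
    haveI : Nontrivial ↥(D ⊓ (β w₀).ker) :=
      ⟨⟨0, ⟨w₀, hw₀, hself w₀⟩, fun h => hw₀0 (Subtype.ext_iff.1 h).symm⟩⟩
    exact Finite.one_lt_card
  have hEle : E ≤ Nat.card I := by
    rw [hE]
    exact ((AddSubgroup.card_le_of_le (inf_le_inf_right _ hDW)).trans (hWline w₀ hw₀W hw₀0)).trans hKI
  -- double counting
  have hcount : (Nat.card W - 1) * (E - 1) ≤ (Nat.card D - 1) * (Nat.card I - 1) := by
    let Wf : Finset F := (Set.toFinite (W : Set F)).toFinset.erase 0
    let Df : Finset F := (Set.toFinite (D : Set F)).toFinset.erase 0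
    have hcf : ∀ H : AddSubgroup F, ((Set.toFinite (H : Set F)).toFinset.erase 0).card = Nat.card H - 1 := by
      intro H
      rw [Finset.card_erase_of_mem (by simp [H.zero_mem]), ← Set.ncard_eq_toFinset_card,
        ← Nat.card_coe_set_eq]
      rfl
    rw [← hcf W, ← hcf D]
    show Wf.card * _ ≤ Df.card * _
    refine Finset.card_mul_le_card_mul (s := Wf) (t := Df) (fun w d => d ∈ (β w).ker) ?_ ?_
    · intro w hw
      simp only [Wf, Finset.mem_erase, Set.Finite.mem_toFinset, SetLike.mem_coe] at hw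
      rw [← heE w hw.2 hw.1]
      show Nat.card ↥(D ⊓ (β w).ker) - 1 ≤ _
      rw [← hcf]
      refine le_of_eq (congrArg Finset.card ?_)
      ext d
      simp [Finset.bipartiteAbove, Df, and_assoc]
    · intro d hd
      simp only [Df, Finset.mem_erase, Set.Finite.mem_toFinset, SetLike.mem_coe] at hd
      refine le_trans ?_ (Nat.sub_le_sub_right ((hWline d (hDW hd.2) hd.1).trans hKI) 1)
      rw [← hcf]
      refine le_of_eq (congrArg Finset.card ?_)
      ext w
      simp only [Finset.bipartiteBelow, Wf, Finset.mem_erase, Set.Finite.mem_toFinset,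
        SetLike.mem_coe, Finset.mem_filter, AddSubgroup.mem_inf, and_assoc]
      refine and_congr_right fun _ => and_congr_right fun _ => ?_
      show w * d ^ q + w ^ q * d = 0 ↔ d * w ^ q + d ^ q * w = 0
      constructor <;> intro h <;> linear_combination h
  -- numerical consequences
  obtain ⟨hEeq, hWq, hqI⟩ : E = Nat.card I ∧ Nat.card W = Nat.card I ^ 2 ∧ q = Nat.card I ^ 2 := by
    rw [← hEI] at hWD hcount
    generalize Nat.card W = w at *
    generalize Nat.card I = i at *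
    have hw1 : 1 ≤ w := by
      rcases Nat.eq_zero_or_pos w with h | h
      · rw [h, zero_mul] at hWD; exact absurd hWD.symm (pow_ne_zero _ hq0)
      · exact h
    have hei : 1 ≤ E * i := Nat.mul_pos (by omega) (by omega)
    have hWE : i ^ 3 ≤ w * E := by
      refine Nat.le_of_mul_le_mul_right ?_ hIpos
      calc i ^ 3 * i = (i * i) ^ 2 := by ring
        _ ≤ q ^ 2 := Nat.pow_le_pow_left hI2 2
        _ = w * E * i := by rw [← hWD]; ring
    zify [show 1 ≤ E by omega, show 1 ≤ i by omega, hw1, hei] at hcount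
    have h1 : (i ^ 3 : ℤ) ≤ w * E := by exact_mod_cast hWE
    have hEi : (E : ℤ) ≤ i := by exact_mod_cast hEle
    have hE' : (2 : ℤ) ≤ E := by exact_mod_cast hE2
    have hi' : (2 : ℤ) ≤ i := by exact_mod_cast hI1
    have h3 : ((i : ℤ) - E) * (E * (i ^ 2 - i + 1) - i ^ 2) ≤ 0 := by
      nlinarith [mul_le_mul_of_nonneg_left hcount (show (0 : ℤ) ≤ E by omega),
        mul_le_mul_of_nonneg_right h1 (show (0 : ℤ) ≤ (E : ℤ) - 1 by omega)]
    have hpos : (0 : ℤ) < E * (i ^ 2 - i + 1) - i ^ 2 := by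
      nlinarith [mul_le_mul_of_nonneg_right hE' (show (0 : ℤ) ≤ (i : ℤ) ^ 2 - i + 1 by nlinarith)]
    have hEeq' : (E : ℤ) = i := by
      rcases lt_or_ge (E : ℤ) i with h | h
      · exact absurd h3 (not_le.2 (mul_pos (by omega) hpos))
      · omega
    have hwle : (w : ℤ) ≤ (i : ℤ) ^ 2 := by
      rw [hEeq'] at hcount
      nlinarith
    have hwge : (i : ℤ) ^ 2 ≤ w := by
      rw [hEeq'] at h1
      nlinarith
    have hEn : E = i := by exact_mod_cast hEeq'
    have hwn : w = i ^ 2 := by exact_mod_cast le_antisymm hwle hwge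
    refine ⟨hEn, hwn, ?_⟩
    rw [hEn, hwn] at hWD
    exact Nat.pow_left_injective two_ne_zero (show q ^ 2 = (i ^ 2) ^ 2 by rw [← hWD]; ring)
  have hDeq : D = W := by
    refine SetLike.coe_injective (Set.eq_of_subset_of_ncard_le hDW ?_ (Set.toFinite _))
    rw [← Nat.card_coe_set_eq, ← Nat.card_coe_set_eq]
    show Nat.card W ≤ Nat.card D
    rw [hWq, ← hEI, hEeq, sq]
  have hUIeq : I = U := by
    refine SetLike.coe_injective (Set.eq_of_subset_of_ncard_le hIU ?_ (Set.toFinite _))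
    rw [← Nat.card_coe_set_eq, ← Nat.card_coe_set_eq]
    show Nat.card U ≤ Nat.card I
    rw [hUcard]
    refine Nat.le_of_mul_le_mul_right ?_ hIpos
    rw [hUI, hqI, sq]
  have hKcard : Nat.card K = Nat.card I := by
    refine le_antisymm hKI ?_
    rw [← hEeq, hE]
    exact (AddSubgroup.card_le_of_le (inf_le_inf_right _ hDW)).trans (hWline w₀ hw₀W hw₀0)
  have hWNI : ∀ x ∈ W, x * x ^ q ∈ I := fun x hx => by
    rw [hUIeq]
    exact hUmem _ (hNfix x) (by rw [← hN, (hMW x).1 hx])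
  have hN₀ : w₀ * w₀ ^ q ≠ 0 := mul_ne_zero hw₀0 (pow_ne_zero _ hw₀0)
  have hdivK : ∀ i ∈ I, i / (w₀ * w₀ ^ q) ∈ K := by
    intro i hi
    obtain ⟨⟨k, hk⟩, hk'⟩ := (Function.Injective.bijective_of_nat_card_le
      (f := fun l : K => (⟨(l : F) * (w₀ * w₀ ^ q), l.2 _ (hWNI w₀ hw₀W)⟩ : I))
      (fun a b h => Subtype.ext (mul_right_cancel₀ hN₀ (Subtype.ext_iff.1 h)))
      (le_of_eq hKcard.symm)).2 ⟨i, hi⟩
    have : k * (w₀ * w₀ ^ q) = i := Subtype.ext_iff.1 hk'
    rw [← this, mul_div_assoc, div_self hN₀, mul_one]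
    exact hk
  obtain ⟨b, hb⟩ : ∃ b, Nat.card I = 2 ^ b := by
    have hd : Nat.card I ∣ 2 ^ (2 * n) := by
      rw [pow_mul', ← hq, ← hcard, ← Nat.card_eq_fintype_card]
      exact AddSubgroup.card_addSubgroup_dvd_card I
    obtain ⟨b, -, hb⟩ := (Nat.dvd_prime_pow Nat.prime_two).1 hd
    exact ⟨b, hb⟩
  have hpowK : ∀ z ∈ K, z ^ Nat.card I = z := by
    intro z hz
    haveI : Fintype K := Fintype.ofFinite _
    have h := FiniteField.pow_card (⟨z, hz⟩ : K)
    rw [← Nat.card_eq_fintype_card, hKcard] at h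
    exact Subtype.ext_iff.1 h
  have haddI : ∀ a c : F, (a + c) ^ Nat.card I = a ^ Nat.card I + c ^ Nat.card I := fun a c => by
    rw [hb]; exact add_pow_char_pow a c 2 b
  -- all of W lies on one line
  have hline : W ≤ (β w₀).ker := by
    intro x hx
    rw [hβker w₀ x hw₀0]
    obtain ⟨z, hz⟩ : ∃ z, z = x / w₀ := ⟨_, rfl⟩
    rw [← hz]
    have hT : z + z ^ q ∈ K := by
      have hB : pol q w₀ x ∈ I := (hβD w₀ hw₀W hw₀0 _).2 ⟨x, hDeq ▸ hx, rfl⟩
      have e1 : z + z ^ q = pol q w₀ x / (w₀ * w₀ ^ q) := by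
        rw [hz, div_pow]; simp only [pol]; field_simp; ring
      rw [e1]; exact hdivK _ hB
    have hM : z * z ^ q ∈ K := by
      have e1 : z * z ^ q = x * x ^ q / (w₀ * w₀ ^ q) := by
        rw [hz, div_pow, div_mul_div_comm]
      rw [e1]; exact hdivK _ (hWNI x hx)
    have h1 := hpowK _ hT
    have h4 := hpowK _ hM
    rw [haddI] at h1
    rw [mul_pow] at h4
    obtain ⟨y, hy⟩ : ∃ y, y = z ^ Nat.card I := ⟨_, rfl⟩
    have hzq : (z ^ q) ^ Nat.card I = y + (z + z ^ q) := by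
      rw [← h1, ← hy, ← add_assoc, h2, zero_add]
    rw [hzq, ← hy] at h4
    have h5 : (y + z) * (y + z ^ q) = 0 := by linear_combination h4 + h2 (z * z ^ q)
    have hqII : ∀ a : F, a ^ q = (a ^ Nat.card I) ^ Nat.card I := fun a => by
      rw [← pow_mul, ← sq, ← hqI]
    rcases mul_eq_zero.1 h5 with h | h
    · rw [hqII, ← hy, CharTwo.add_eq_zero.1 h, ← hy, CharTwo.add_eq_zero.1 h]
    · have e1 : z ^ Nat.card I = (z ^ Nat.card I) ^ Nat.card I := by
        rw [← hqII, ← hy]; exact CharTwo.add_eq_zero.1 h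
      have e2 : (z + z ^ Nat.card I) ^ Nat.card I = 0 := by rw [haddI, ← e1, h2]
      have e3 := CharTwo.add_eq_zero.1 ((pow_eq_zero_iff (by omega)).1 e2)
      rw [hqII, ← e3, ← e3]
  have hfin : Nat.card W ≤ Nat.card I := by
    have := (hWline w₀ hw₀W hw₀0).trans hKI
    rwa [inf_eq_left.2 hline] at this
  rw [hWq, sq] at hfin
  nlinarith

end field

/-! ### Coordinates on the Sylow subgroup -/

/-- Coordinates of a group as the Sylow 2-subgroup of `SU₃(q)`. -/
def Coord (S F : Type*) [Group S] [Field F] (q : ℕ) : Prop :=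
  ∃ (π ζ : S → F), (∀ x y, π (x * y) = π x + π y) ∧ Function.Surjective π ∧
    (∀ z, z ∈ Subgroup.center S ↔ π z = 0) ∧
    (∀ z z', π z = 0 → π z' = 0 → ζ (z * z') = ζ z + ζ z') ∧
    (∀ z, π z = 0 → ζ z = 0 → z = 1) ∧
    (∀ z, π z = 0 → ζ z ^ q = ζ z) ∧
    (∀ c, c ^ q = c → ∃ z, π z = 0 ∧ ζ z = c) ∧
    (∀ x, ζ (x * x) = π x * π x ^ q)

/-- Full coordinates of a group as the Sylow 2-subgroup of `SU₃(q)`. -/
def Chart (S F : Type*) [Group S] [Field F] (q : ℕ) : Prop :=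
  ∃ (π ζ : S → F), (∀ s, ζ s + ζ s ^ q = π s * π s ^ q) ∧
    (∀ s t, π (s * t) = π s + π t) ∧ (∀ s t, ζ (s * t) = ζ s + ζ t + π t * π s ^ q) ∧
    (∀ s t, π s = π t → ζ s = ζ t → s = t) ∧
    (∀ a c : F, c + c ^ q = a * a ^ q → ∃ s, π s = a ∧ ζ s = c)

theorem Chart.congr {S T F : Type*} [Group S] [Group T] [Field F] {q : ℕ} (e : T ≃* S)
    (h : Chart S F q) : Chart T F q := by
  obtain ⟨π, ζ, h1, h2, h3, h4, h5⟩ := h
  refine ⟨fun x => π (e x), fun x => ζ (e x), fun x => h1 _, fun x y => by simp only [map_mul, h2],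
    fun x y => by simp only [map_mul, h3], fun x y a b => e.injective (h4 _ _ a b), fun a c hc => ?_⟩
  obtain ⟨z, hz, hz'⟩ := h5 a c hc
  exact ⟨e.symm z, by simpa using hz, by simpa using hz'⟩

theorem Coord.congr {S T F : Type*} [Group S] [Group T] [Field F] {q : ℕ} (e : T ≃* S)
    (h : Coord S F q) : Coord T F q := by
  obtain ⟨π, ζ, h1, h2, h3, h4, h5, h6, h7, h8⟩ := h
  refine ⟨fun x => π (e x), fun x => ζ (e x), fun x y => by simp only [map_mul, h1],
    h2.comp e.surjective, fun z => ?_, fun z z' a b => by simp only [map_mul]; exact h4 _ _ a b,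
    fun z a b => e.map_eq_one_iff.1 (h5 _ a b), fun z => h6 _, fun c hc => ?_,
    fun x => by simp only [map_mul, h8]⟩
  · rw [← h3, Subgroup.mem_center_iff, Subgroup.mem_center_iff]
    constructor
    · intro h g
      obtain ⟨g', rfl⟩ := e.surjective g
      rw [← map_mul, ← map_mul, h]
    · intro h g
      exact e.injective (by rw [map_mul, map_mul, h])
  · obtain ⟨z, hz, hz'⟩ := h7 c hc
    exact ⟨e.symm z, by simpa using hz, by simpa using hz'⟩

open Cfsg.Agent.PSUAut in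
theorem chart_sylow {F : Type*} [Field F] [Fintype F] [CharP F 2] {q : ℕ}
    (hF : Fintype.card F = q ^ 2) (P : Sylow 2 (Cfsg.SU 3 F q)) :
    Chart ↥(P : Subgroup (Cfsg.SU 3 F q)) F q := by
  classical
  haveI : Fact (Nat.Prime 2) := ⟨Nat.prime_two⟩
  have C : Ctx F 3 q := ⟨hF, le_rfl⟩
  have h2 : ∀ a : F, a + a = 0 := CharTwo.add_self_eq_zero
  obtain ⟨e, he, -⟩ := exists_iso_fixed C (p := 2)
    (R := (⊥ : Subgroup (Cfsg.SU 3 F q))) IsPGroup.of_bot
  obtain ⟨R, hR⟩ := exists_sylow_fix C (p := 2) he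
  obtain ⟨Pf, rfl⟩ := exists_frame C he
  refine Chart.congr (Sylow.equiv P R) ?_
  obtain ⟨x, hx0, hxe, hxf⟩ := exists_orth_two C Pf.e Pf.f
  have hspan : ∀ z, ∃ c : F, z = Cfsg.hermForm 3 F q z Pf.f • Pf.e +
      Cfsg.hermForm 3 F q z Pf.e • Pf.f + c • x := by
    intro z
    have hli : LinearIndependent F ![Pf.e, Pf.f, x] := by
      rw [Fintype.linearIndependent_iff]
      intro g hg
      simp [Fin.sum_univ_three] at hg
      have ha := congrArg (fun y => Cfsg.hermForm 3 F q y Pf.f) hg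
      simp [add_left, smul_left, zero_left, Pf.hef, Pf.hff, hxf] at ha
      have hb := congrArg (fun y => Cfsg.hermForm 3 F q y Pf.e) hg
      simp [add_left, smul_left, zero_left, Pf.hee, Pf.hfe, hxe] at hb
      rw [ha, hb] at hg
      simp [hx0] at hg
      intro i; fin_cases i <;> assumption
    have hmem : z ∈ Submodule.span F (Set.range ![Pf.e, Pf.f, x]) := by
      rw [hli.span_eq_top_of_card_eq_finrank (by simp)]; trivial
    obtain ⟨g, hg⟩ := Submodule.mem_span_range_iff_exists_fun F |>.1 hmem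
    simp [Fin.sum_univ_three] at hg
    refine ⟨g 2, ?_⟩
    rw [← hg]
    simp [add_left, smul_left, Pf.hef, Pf.hff, hxf, Pf.hee, Pf.hfe, hxe]
  have hxx : Cfsg.hermForm 3 F q x x ≠ 0 := fun h => hx0 (eq_zero_of_orth C fun z => by
    obtain ⟨c, hc⟩ := hspan z
    rw [hc]
    simp [add_left, smul_left, h, orth_symm C hxe, orth_symm C hxf])
  obtain ⟨l, hl⟩ := Classical.Unitary.exists_scale C.hF (a := (Cfsg.hermForm 3 F q x x)⁻¹)
    (inv_ne_zero hxx) (by rw [inv_pow, self_fixed C])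
  obtain ⟨u, hu⟩ : ∃ u, u = l • x := ⟨_, rfl⟩
  have hl0 : l ≠ 0 := fun h => inv_ne_zero hxx (by rw [← hl, h, zero_mul])
  have hue : Cfsg.hermForm 3 F q u Pf.e = 0 := by rw [hu, smul_left, hxe, mul_zero]
  have huf : Cfsg.hermForm 3 F q u Pf.f = 0 := by rw [hu, smul_left, hxf, mul_zero]
  have huu : Cfsg.hermForm 3 F q u u = 1 := by
    rw [hu, smul_left, smul_right, ← mul_assoc, hl, inv_mul_cancel₀ hxx]
  have hperp : ∀ w, Cfsg.hermForm 3 F q w Pf.e = 0 → ∃ a b : F, w = a • Pf.e + b • u := by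
    intro w hw
    obtain ⟨c, hc⟩ := hspan w
    rw [hw, zero_smul, add_zero] at hc
    exact ⟨_, c * l⁻¹, by rw [hu, smul_smul, inv_mul_cancel_right₀ hl0]; exact hc⟩
  have hval : ∀ a c : F, Val q Pf.e (a • u) c ↔ c + c ^ q = a * a ^ q := by
    intro a c
    simp only [Val, Pf.hee, smul_left, hue, mul_zero, true_and, smul_right, huu, mul_one]
    rw [CharTwo.neg_eq, mul_comm (a ^ q)]
  -- normal form
  have hnf : ∀ s ∈ (R : Subgroup (Cfsg.SU 3 F q)),
      ∃ a c : F, c + c ^ q = a * a ^ q ∧ mat s = EM q Pf.e (a • u) c := by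
    intro s hs
    have hfix : mat s *ᵥ Pf.e = Pf.e := hR hs
    have hsu : Cfsg.hermForm 3 F q (mat s *ᵥ u) Pf.e = 0 := by
      calc Cfsg.hermForm 3 F q (mat s *ᵥ u) Pf.e
          = Cfsg.hermForm 3 F q (mat s *ᵥ u) (mat s *ᵥ Pf.e) := by rw [hfix]
        _ = 0 := by rw [mat_pres, hue]
    obtain ⟨t, a, hta⟩ := hperp _ hsu
    have hiter : ∀ k : ℕ, ∃ t' : F, mat (s ^ k) *ᵥ u = t' • Pf.e + a ^ k • u := by
      intro k
      induction k with
      | zero => exact ⟨0, by simp [mat_one]⟩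
      | succ k ih =>
        obtain ⟨t', ht'⟩ := ih
        refine ⟨t' + a ^ k * t, ?_⟩
        rw [pow_succ' s, mat_mul, ← mulVec_mulVec, ht', mulVec_add, mulVec_smul, mulVec_smul, hfix, hta]
        module
    have ha1 : a = 1 := by
      obtain ⟨k, hk⟩ := R.isPGroup' ⟨s, hs⟩
      have hk' : s ^ 2 ^ k = 1 := Subtype.ext_iff.1 hk
      obtain ⟨t', ht'⟩ := hiter (2 ^ k)
      rw [hk', mat_one, one_mulVec] at ht'
      have := congrArg (fun y => Cfsg.hermForm 3 F q y u) ht'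
      simp [add_left, smul_left, huu, orth_symm C hue] at this
      exact sub_eq_zero.1 ((pow_eq_zero_iff (n := 2 ^ k) (by positivity)).1 (by
        rw [sub_pow_char_pow, one_pow, ← this, sub_self]))
    obtain ⟨w₀, c, hV, hm'⟩ := mem_rad_of C Pf.hee Pf.e_iso.1 hfix (fun w hw => by
      obtain ⟨a', b', rfl⟩ := hperp w hw
      refine ⟨b' * t, ?_⟩
      rw [mulVec_add, mulVec_smul, mulVec_smul, hfix, hta, ha1]
      module)
    obtain ⟨a', b', rfl⟩ := hperp w₀ hV.2.1
    have heq : EM q Pf.e (a' • Pf.e + b' • u) c = EM q Pf.e (b' • u) (c + a' - a' ^ q) := mat_ext fun y => by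
      rw [EM_apply, EM_apply, add_right C, smul_right]
      module
    refine ⟨b', c + a' - a' ^ q, ?_, by rw [hm', heq]⟩
    have h3 := hV.2.2
    simp only [add_left, add_right C, smul_left, smul_right, Pf.hee, huu, hue, orth_symm C hue,
      mul_zero, mul_one, zero_add, CharTwo.neg_eq] at h3
    rw [sub_pow_q C, add_pow_q C, pow_q_q C]
    linear_combination h3
  have hmem : ∀ a c : F, (h : c + c ^ q = a * a ^ q) → el C ((hval a c).2 h) ∈ (R : Subgroup (Cfsg.SU 3 F q)) :=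
    fun a c h => rad_le_sylow C Pf.hee R hR (el_mem_rad C _)
  let π : R → F := fun s => Cfsg.hermForm 3 F q (mat (s : Cfsg.SU 3 F q) *ᵥ Pf.f) u
  let ζ : R → F := fun s => Cfsg.hermForm 3 F q (mat (s : Cfsg.SU 3 F q) *ᵥ Pf.f) Pf.f
  have hev : ∀ (s : R) (a c : F), mat (s : Cfsg.SU 3 F q) = EM q Pf.e (a • u) c → π s = a ∧ ζ s = c := by
    intro s a c hs
    constructor
    · simp [π, hs, EM_apply, add_left, smul_left, Pf.hfe, huu, orth_symm C hue, orth_symm C huf,
        smul_right]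
    · simp [ζ, hs, EM_apply, add_left, smul_left, Pf.hfe, Pf.hff, Pf.hef, huf, orth_symm C huf,
        smul_right]
  have hform : ∀ s : R, ζ s + ζ s ^ q = π s * π s ^ q ∧
      mat (s : Cfsg.SU 3 F q) = EM q Pf.e (π s • u) (ζ s) := by
    intro s
    obtain ⟨a, c, h, hm'⟩ := hnf s s.2
    obtain ⟨ha, hc⟩ := hev s a c hm'
    rw [ha, hc]
    exact ⟨h, hm'⟩
  have hlaw : ∀ s t : R, π (s * t) = π s + π t ∧ ζ (s * t) = ζ s + ζ t + π t * π s ^ q := by
    intro s t
    refine hev _ _ _ ?_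
    rw [Subgroup.coe_mul, mat_mul, (hform s).2, (hform t).2,
      EM_comp C ((hval _ _).2 (hform s).1) ((hval _ _).2 (hform t).1), ← add_smul,
      smul_left, smul_right, huu, mul_one, sub_eq_add_neg, CharTwo.neg_eq]
  have hext : ∀ s t : R, π s = π t → ζ s = ζ t → s = t := fun s t h h' =>
    Subtype.ext (mat_inj (by rw [(hform s).2, (hform t).2, h, h']))
  have hex : ∀ a c : F, c + c ^ q = a * a ^ q → ∃ s : R, π s = a ∧ ζ s = c := fun a c h =>
    ⟨⟨_, hmem a c h⟩, hev _ a c (mat_el C ((hval a c).2 h))⟩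
  exact ⟨π, ζ, fun s => (hform s).1, fun x y => (hlaw x y).1, fun x y => (hlaw x y).2, hext, hex⟩

open Cfsg.Agent.PSUAut in
theorem Chart.coord {S F : Type*} [Group S] [Field F] [Fintype F] [CharP F 2] {q : ℕ}
    (hF : Fintype.card F = q ^ 2) (h : Chart S F q) : Coord S F q := by
  have C : Ctx F 3 q := ⟨hF, le_rfl⟩
  have h2 : ∀ a : F, a + a = 0 := CharTwo.add_self_eq_zero
  obtain ⟨π, ζ, hrel, hl1, hl2, hext, hex⟩ := h
  have hex' : ∀ a : F, ∃ s : S, π s = a := fun a => by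
    obtain ⟨c, hc⟩ := exists_trace C (c := a * a ^ q) (by rw [mul_pow, pow_q_q C, mul_comm])
    obtain ⟨s, hs, -⟩ := hex a c hc
    exact ⟨s, hs⟩
  have h0 : π 1 = 0 := by
    have e := hl1 1 1
    rw [mul_one] at e
    simpa using e.symm
  have h0' : ζ 1 = 0 := by
    have e := hl2 1 1
    rw [mul_one, h0, zero_mul, add_zero] at e
    simpa using e.symm
  refine ⟨π, ζ, hl1, hex', fun z => ⟨fun hz => ?_, fun hz => ?_⟩,
    fun z z' hz hz' => ?_, fun z hz hz' => hext _ _ (hz.trans h0.symm) (hz'.trans h0'.symm),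
    fun z hz => ?_, fun c hc => ?_, fun x => ?_⟩
  · have key : ∀ b : F, b * π z ^ q = π z * b ^ q := fun b => by
      obtain ⟨t, rfl⟩ := hex' b
      have e := congrArg ζ (Subgroup.mem_center_iff.1 hz t)
      rw [hl2, hl2] at e
      linear_combination -e
    have k1 := key 1
    rw [one_mul, one_pow, mul_one] at k1
    obtain ⟨b, hb⟩ := exists_not_fixed C
    have k2 := key b
    rw [k1, mul_comm] at k2
    by_contra hne
    exact hb (mul_left_cancel₀ hne k2).symm
  · refine Subgroup.mem_center_iff.2 fun t => hext _ _ ?_ ?_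
    · rw [hl1, hl1, add_comm]
    · rw [hl2, hl2, hz, zero_pow_q C]
      ring
  · rw [hl2, hz']; ring
  · have h := hrel z
    rw [hz, zero_mul, CharTwo.add_eq_zero] at h
    exact h.symm
  · exact hex 0 c (by rw [hc, h2, zero_mul])
  · rw [hl2, h2, zero_add]

theorem coord_sylow {F : Type*} [Field F] [Fintype F] [CharP F 2] {q : ℕ}
    (hF : Fintype.card F = q ^ 2) (P : Sylow 2 (Cfsg.SU 3 F q)) :
    Coord ↥(P : Subgroup (Cfsg.SU 3 F q)) F q :=
  (chart_sylow hF P).coord hF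

/-- An index two overgroup of such a group centralises its centre. -/
theorem center_le {R : Type*} [Group R] {F : Type*} [Field F] [Fintype F] [CharP F 2]
    {q n : ℕ} (hq : q = 2 ^ n) (hF : Fintype.card F = q ^ 2) (hpp : ∀ a : F, (a ^ q) ^ q = a)
    (htr : ∀ c : F, c ^ q = c → ∃ t, t + t ^ q = c)
    (S' : Subgroup R) (hidx : S'.index = 2) (hc : Coord S' F q) :
    (Subgroup.center ↥S').map S'.subtype ≤ Subgroup.center R := by
  haveI : S'.Normal := Subgroup.normal_of_index_eq_two hidx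
  rintro _ ⟨z, hz, rfl⟩
  refine Subgroup.mem_center_iff.2 fun r => ?_
  by_cases hr : r ∈ S'
  · exact congrArg Subtype.val (Subgroup.mem_center_iff.1 hz ⟨r, hr⟩)
  obtain ⟨π, ζ, hπ, hsurj, hker, hζ, hinj, hζfix, hζsurj, hsq⟩ := hc
  obtain ⟨σ, hσ⟩ : ∃ σ : MulAut S', σ = MulAut.conjNormal r := ⟨_, rfl⟩
  have hcen : ∀ x : S', π x = 0 → π (σ x) = 0 := fun x hx => by
    rw [← hker] at hx ⊢
    refine Subgroup.mem_center_iff.2 fun g => ?_
    obtain ⟨g', rfl⟩ := σ.surjective g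
    rw [← map_mul, ← map_mul, Subgroup.mem_center_iff.1 hx g']
  have hπ1 : π 1 = 0 := by
    have := hπ 1 1
    rw [mul_one] at this
    simpa using this.symm
  have hπinv : ∀ x : S', π x⁻¹ = π x := fun x => by
    have := hπ x x⁻¹
    rw [mul_inv_cancel, hπ1] at this
    exact (CharTwo.add_eq_zero.1 this.symm).symm
  have hwd : ∀ x y : S', π x = π y → π (σ x) = π (σ y) := fun x y h => by
    have h' : π (σ (x⁻¹ * y)) = 0 := hcen _ (by rw [hπ, hπinv, h, CharTwo.add_self_eq_zero])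
    rw [map_mul, hπ, map_inv, hπinv, CharTwo.add_eq_zero] at h'
    exact h'
  choose sec hsec using hsurj
  let L : F →+ F := AddMonoidHom.mk' (fun a => π (σ (sec a))) fun a b => by
    rw [← hπ, ← map_mul]
    exact hwd _ _ (by simp only [hπ, hsec])
  have hL : ∀ x : S', L (π x) = π (σ x) := fun x => hwd _ _ (hsec _)
  have hr2 : r * r ∈ S' := Subgroup.mul_self_mem_of_index_two hidx r
  have hσσ : ∀ x : S', σ (σ x) = ⟨r * r, hr2⟩ * x * (⟨r * r, hr2⟩ : S')⁻¹ := fun x => by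
    refine Subtype.ext ?_
    simp [hσ, MulAut.conjNormal_apply, mul_assoc]
  have hLL : ∀ a, L (L a) = a := fun a => by
    have h' : π (σ (σ (sec a))) = a := by
      rw [hσσ, hπ, hπ, hπinv, hsec, add_comm (π _) a, CharTwo.add_cancel_right]
    show L (π (σ (sec a))) = a
    rw [hL]; exact h'
  classical
  let zs : F → S' := fun c => if h : c ^ q = c then (hζsurj c h).choose else 1
  have hzs : ∀ c : F, c ^ q = c → π (zs c) = 0 ∧ ζ (zs c) = c := fun c h => by
    simp only [zs, dif_pos h]; exact (hζsurj c h).choose_spec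
  let Λ : F → F := fun c => ζ (σ (zs c))
  have hΛ : ∀ x : S', π x = 0 → Λ (ζ x) = ζ (σ x) := fun x hx => by
    obtain ⟨h1, h2'⟩ := hzs _ (hζfix x hx)
    have : zs (ζ x) = x := by
      have hxi : π x⁻¹ = 0 := by rw [hπinv, hx]
      have e : ζ (zs (ζ x) * x⁻¹) = 0 := by
        have e1 := hζ x x⁻¹ hx hxi
        rw [mul_inv_cancel] at e1
        rw [hζ _ _ h1 hxi, h2', ← e1]
        have e2 := hζ 1 1 hπ1 hπ1
        rw [mul_one] at e2
        simpa using e2.symm
      exact mul_inv_eq_one.1 (hinj _ (by rw [hπ, h1, hxi, add_zero]) e)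
    show ζ (σ (zs (ζ x))) = _
    rw [this]
  have hΛid := key hq hF hpp htr L hLL Λ
    (fun c hc => hζfix _ (hcen _ (hzs c hc).1))
    (fun c d hc hd => by
      obtain ⟨c1, c2⟩ := hzs c hc
      obtain ⟨d1, d2⟩ := hzs d hd
      conv_lhs => rw [← c2, ← d2, ← hζ _ _ c1 d1, hΛ _ (by rw [hπ, c1, d1, add_zero]), map_mul,
        hζ _ _ (hcen _ c1) (hcen _ d1)])
    (fun c hc => by
      obtain ⟨c1, c2⟩ := hzs c hc
      show Λ (ζ (σ (zs c))) = c
      rw [hΛ _ (hcen _ c1), hσσ, Subgroup.mem_center_iff.1 ((hker _).2 c1),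
        mul_inv_cancel_right]
      exact c2)
    (fun a => by
      have e := hΛ (sec a * sec a) (by rw [hπ, CharTwo.add_self_eq_zero])
      rw [hsq, hsec, map_mul, hsq] at e
      exact e.symm)
  have hz0 : π z = 0 := (hker z).1 hz
  have hfix : σ z = z := by
    have e : ζ (σ z) = ζ z := by rw [← hΛ z hz0, hΛid _ (hζfix z hz0)]
    have hzi : π z⁻¹ = 0 := by rw [hπinv, hz0]
    refine mul_inv_eq_one.1 (hinj _ (by rw [hπ, hcen _ hz0, hzi, add_zero]) ?_)
    rw [hζ _ _ (hcen _ hz0) hzi, e, ← hζ _ _ hz0 hzi, mul_inv_cancel]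
    have e2 := hζ 1 1 hπ1 hπ1
    rw [mul_one] at e2
    simpa using e2.symm
  have := congrArg Subtype.val hfix
  rw [hσ, MulAut.conjNormal_apply] at this
  exact mul_inv_eq_iff_eq_mul.1 this

end Cfsg.Agent.SU3Index2
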