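import Mathlib
import Cfsg.Agent.Lib.Fusion.SU3Index2

/-!
Elementary consequences of coordinates on the Sylow 2-subgroup of `SU₃(q)`.
-/

set_option autoImplicit false
set_option linter.unusedSectionVars false

open scoped commutatorElement

namespace Cfsg.Agent.SU3Index2

variable {S F : Type*} [Group S] [Field F] [Fintype F] [CharP F 2] {q : ℕ}

theorem card_fix (hF : Fintype.card F = q ^ 2) : Nat.card {c : F // c ^ q = c} = q := by
  have C : PSUAut.Ctx F 3 q := ⟨hF, le_rfl⟩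
  let tr : F →+ F := AddMonoidHom.mk' (fun a => a + a ^ q) fun a b => by
    rw [PSUAut.add_pow_q C]; abel
  have hmem : ∀ c : F, c ∈ tr.ker ↔ c ^ q = c := fun c => by
    show c + c ^ q = 0 ↔ _
    rw [CharTwo.add_eq_zero, eq_comm]
  have htrr : tr.range = tr.ker := by
    ext c
    constructor
    · rintro ⟨a, rfl⟩
      rw [hmem]
      show (a + a ^ q) ^ q = a + a ^ q
      rw [PSUAut.add_pow_q C, PSUAut.pow_q_q C, add_comm]
    · intro hc
      exact PSUAut.exists_trace C ((hmem c).1 hc)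
  have h := card_ker_mul_range tr
  rw [htrr, Nat.card_eq_fintype_card (α := F), hF, sq] at h
  exact (Nat.card_congr (Equiv.subtypeEquivRight fun c => (hmem c).symm)).trans (Nat.mul_self_inj.1 h)

theorem Coord.map_one {π ζ : S → F} (h1 : ∀ x y, π (x * y) = π x + π y)
    (h4 : ∀ z z', π z = 0 → π z' = 0 → ζ (z * z') = ζ z + ζ z') : π 1 = 0 ∧ ζ 1 = 0 := by
  have e := h1 1 1
  rw [mul_one] at e
  have h0 : π 1 = 0 := by simpa using e.symm
  refine ⟨h0, ?_⟩
  have e' := h4 1 1 h0 h0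
  rw [mul_one] at e'
  simpa using e'.symm

theorem Coord.card_center (hF : Fintype.card F = q ^ 2) (h : Coord S F q) :
    Nat.card (Subgroup.center S) = q := by
  obtain ⟨π, ζ, h1, h2, h3, h4, h5, h6, h7, h8⟩ := h
  rw [← card_fix (F := F) hF]
  refine Nat.card_congr (Equiv.ofBijective (fun z => ⟨ζ z, h6 _ ((h3 _).1 z.2)⟩) ⟨?_, ?_⟩)
  · rintro ⟨a, ha⟩ ⟨b, hb⟩ e
    have ha' := (h3 a).1 ha
    have hbi : π b⁻¹ = 0 := (h3 _).1 (inv_mem hb)
    have hab : π (a * b⁻¹) = 0 := by rw [h1, ha', hbi, add_zero]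
    refine Subtype.ext (mul_inv_eq_one.1 (h5 _ hab ?_))
    have e' : ζ a = ζ b := congrArg Subtype.val e
    rw [h4 _ _ ha' hbi, e', ← h4 _ _ ((h3 b).1 hb) hbi, mul_inv_cancel, (Coord.map_one h1 h4).2]
  · rintro ⟨c, hc⟩
    obtain ⟨z, hz, rfl⟩ := h7 c hc
    exact ⟨⟨z, (h3 z).2 hz⟩, rfl⟩

theorem Coord.card_quot (h : Coord S F q) : Nat.card (S ⧸ Subgroup.center S) = Fintype.card F := by
  obtain ⟨π, ζ, h1, h2, h3, h4, h5, h6, h7, h8⟩ := h
  let P : S →* Multiplicative F :=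
    MonoidHom.mk' (fun x => Multiplicative.ofAdd (π x)) fun x y => congrArg Multiplicative.ofAdd (h1 x y)
  have hk : Subgroup.center S = P.ker := by ext z; exact h3 z
  show (Subgroup.center S).index = _
  rw [hk, Subgroup.index_ker, MonoidHom.range_eq_top.2 (show Function.Surjective P from fun y =>
    (h2 y.toAdd).imp fun x hx => congrArg Multiplicative.ofAdd hx), Subgroup.card_top,
    ← Nat.card_eq_fintype_card]
  rfl

theorem Coord.card_eq (hF : Fintype.card F = q ^ 2) (h : Coord S F q) : Nat.card S = q ^ 3 := by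
  rw [Subgroup.card_eq_card_quotient_mul_card_subgroup (Subgroup.center S), h.card_quot,
    h.card_center hF, hF, ← pow_succ]

theorem Coord.sq_mem_center (hF : Fintype.card F = q ^ 2) (h : Coord S F q) (x : S) :
    x * x ∈ Subgroup.center S := by
  obtain ⟨π, ζ, h1, h2, h3, h4, h5, h6, h7, h8⟩ := h
  rw [h3, h1, CharTwo.add_self_eq_zero]

theorem Coord.center_pow_two (h : Coord S F q) {z : S} (hz : z ∈ Subgroup.center S) : z * z = 1 := by
  obtain ⟨π, ζ, h1, h2, h3, h4, h5, h6, h7, h8⟩ := h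
  have hz' := (h3 z).1 hz
  exact h5 _ (by rw [h1, hz', add_zero]) (by rw [h4 _ _ hz' hz', CharTwo.add_self_eq_zero])

theorem Coord.mem_center_of_sq (h : Coord S F q) {x : S} (hx : x * x = 1) :
    x ∈ Subgroup.center S := by
  obtain ⟨π, ζ, h1, h2, h3, h4, h5, h6, h7, h8⟩ := h
  have e := h8 x
  rw [hx, (Coord.map_one h1 h4).2] at e
  rw [h3]
  rcases mul_eq_zero.1 e.symm with h | h
  · exact h
  · exact eq_zero_of_pow_eq_zero h

theorem Chart.commutator_eq (hF : Fintype.card F = q ^ 2) (h : Chart S F q) :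
    commutator S = Subgroup.center S := by
  have C : PSUAut.Ctx F 3 q := ⟨hF, le_rfl⟩
  have hc := h.coord hF
  obtain ⟨π, ζ, hrel, hl1, hl2, hext, hex⟩ := h
  have h0 : π 1 = 0 := by
    have e := hl1 1 1
    rw [mul_one] at e
    simpa using e.symm
  have hcomm : ∀ x y : S, π ⁅x, y⁆ = 0 ∧ ζ ⁅x, y⁆ = π y * π x ^ q + π x * π y ^ q := by
    intro x y
    have e : ⁅x, y⁆ * (y * x) = x * y := by rw [commutatorElement_def]; group
    have e1 := congrArg π e
    rw [hl1, hl1, hl1, add_comm (π y)] at e1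
    have hp : π ⁅x, y⁆ = 0 := add_eq_right.1 e1
    refine ⟨hp, ?_⟩
    have e2 := congrArg ζ e
    rw [hl2, hl2, hl2, hp, PSUAut.zero_pow_q C, mul_zero, add_zero] at e2
    linear_combination e2 - CharTwo.add_self_eq_zero (π x * π y ^ q)
  have hcen : ∀ z, π z = 0 → z ∈ Subgroup.center S := fun z hz => by
    refine Subgroup.mem_center_iff.2 fun t => hext _ _ ?_ ?_
    · rw [hl1, hl1, add_comm]
    · rw [hl2, hl2, hz, PSUAut.zero_pow_q C]; ring
  refine le_antisymm ?_ ?_
  · rw [commutator_def]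
    exact Subgroup.commutator_le.2 fun x _ y _ => hcen _ (hcomm x y).1
  · intro z hz
    obtain ⟨π', ζ', g1, g2, g3, g4, g5, g6, g7, g8⟩ := hc
    have hzp : π z = 0 := by
      by_contra hne
      obtain ⟨b, hb⟩ := PSUAut.exists_not_fixed C
      have key : ∀ b : F, b * π z ^ q = π z * b ^ q := fun b => by
        obtain ⟨c, hc⟩ := PSUAut.exists_trace C (c := b * b ^ q)
          (by rw [mul_pow, PSUAut.pow_q_q C, mul_comm])
        obtain ⟨t, rfl, -⟩ := hex b c hc
        have e := congrArg ζ (Subgroup.mem_center_iff.1 hz t)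
        rw [hl2, hl2] at e
        linear_combination -e
      have k1 := key 1
      rw [one_mul, one_pow, mul_one] at k1
      have k2 := key b
      rw [k1, mul_comm] at k2
      exact hb (mul_left_cancel₀ hne k2).symm
    have hzf : ζ z ^ q = ζ z := by
      have e := hrel z
      rw [hzp, zero_mul, CharTwo.add_eq_zero] at e
      exact e.symm
    obtain ⟨t, ht⟩ := PSUAut.exists_trace C hzf
    obtain ⟨c1, hc1⟩ := PSUAut.exists_trace C (c := (1 : F) * 1 ^ q) (by rw [one_pow, one_mul, one_pow])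
    obtain ⟨x, hx, -⟩ := hex 1 c1 hc1
    obtain ⟨c2, hc2⟩ := PSUAut.exists_trace C (c := t * t ^ q)
      (by rw [mul_pow, PSUAut.pow_q_q C, mul_comm])
    obtain ⟨y, hy, -⟩ := hex t c2 hc2
    have hzc : z = ⁅x, y⁆ := hext _ _ (hzp.trans (hcomm x y).1.symm) (by
      rw [(hcomm x y).2, hx, hy, ← ht, one_pow, mul_one, one_mul])
    rw [hzc, commutator_def]
    exact Subgroup.commutator_mem_commutator (Subgroup.mem_top x) (Subgroup.mem_top y)

/-- Sylow 2-subgroups of `PSU₃(q)`. -/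
theorem chart_sylow_psu' (hF : Fintype.card F = q ^ 2)
    (P : Sylow 2 (Cfsg.PSU 3 F q)) : Chart ↥(P : Subgroup (Cfsg.PSU 3 F q)) F q := by
  haveI : Fact (Nat.Prime 2) := ⟨Nat.prime_two⟩
  let f : Cfsg.SU 3 F q →* Cfsg.PSU 3 F q := QuotientGroup.mk' (Subgroup.center (Cfsg.SU 3 F q))
  have hfs : Function.Surjective f := QuotientGroup.mk'_surjective _
  let P₀ : Sylow 2 (Cfsg.SU 3 F q) := Classical.arbitrary _
  have hinj : Function.Injective (f.subgroupMap (P₀ : Subgroup (Cfsg.SU 3 F q))) := by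
    refine (injective_iff_map_eq_one _).2 fun x hx => ?_
    have hz : (x : Cfsg.SU 3 F q) ∈ Subgroup.center (Cfsg.SU 3 F q) :=
      (QuotientGroup.eq_one_iff _).1 (Subtype.ext_iff.1 hx)
    obtain ⟨k, hk⟩ := P₀.isPGroup' x
    have h1 : orderOf x ∣ 2 ^ k := orderOf_dvd_of_pow_eq_one hk
    have h2 : orderOf x ∣ Nat.gcd 3 (q + 1) := by
      rw [← Classical.Unitary.card_center_SU hF (by norm_num : 2 ≤ 3), ← Subgroup.orderOf_coe,
        ← Subgroup.orderOf_mk _ hz]
      exact orderOf_dvd_natCard _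
    have h3 : orderOf x ∣ 1 := by
      rw [← (Nat.Coprime.pow_left k (by norm_num : Nat.Coprime 2 3))]
      exact Nat.dvd_gcd h1 (h2.trans (Nat.gcd_dvd_left _ _))
    exact orderOf_eq_one_iff.1 (Nat.dvd_one.1 h3)
  exact Chart.congr ((Sylow.equiv P (P₀.mapSurjective hfs)).trans
    (MulEquiv.ofBijective (f.subgroupMap (P₀ : Subgroup (Cfsg.SU 3 F q)))
      ⟨hinj, f.subgroupMap_surjective _⟩).symm) (chart_sylow hF P₀)

/-- Sylow 2-subgroups of `PSU₃(q)`, `3 ∤ q + 1`. -/
theorem chart_sylow_psu (hF : Fintype.card F = q ^ 2) (h3 : Nat.gcd 3 (q + 1) = 1)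
    (P : Sylow 2 (Cfsg.PSU 3 F q)) : Chart ↥(P : Subgroup (Cfsg.PSU 3 F q)) F q := by
  haveI : Fact (Nat.Prime 2) := ⟨Nat.prime_two⟩
  have hb : Subgroup.center (Cfsg.SU 3 F q) = ⊥ := by
    rw [Subgroup.eq_bot_iff_card, Classical.Unitary.card_center_SU hF (by norm_num), h3]
  let f : Cfsg.SU 3 F q →* Cfsg.PSU 3 F q := QuotientGroup.mk' (Subgroup.center (Cfsg.SU 3 F q))
  have hfi : Function.Injective f := by rw [← MonoidHom.ker_eq_bot_iff, QuotientGroup.ker_mk', hb]
  have hfs : Function.Surjective f := QuotientGroup.mk'_surjective _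
  let P₀ : Sylow 2 (Cfsg.SU 3 F q) := Classical.arbitrary _
  exact Chart.congr ((Sylow.equiv P (P₀.mapSurjective hfs)).trans
    (Subgroup.equivMapOfInjective _ f hfi).symm) (chart_sylow hF P₀)

end Cfsg.Agent.SU3Index2
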