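import Mathlib
import Cfsg.Prelude.Def_Solvable
import Cfsg.Prelude.Def_Transfer
import Cfsg.Agent.Lib.Fusion.SU3Count
import Cfsg.Agent.Lib.Solv.Basic

/-!
The automorphism group of the Sylow 2-subgroup of `SU₃(q)`, `q` even.
-/

set_option autoImplicit false
set_option linter.unusedSectionVars false

namespace Cfsg.Agent.SU3Index2

/-- The field automorphisms of a finite field. -/
theorem card_ringEquiv_self' {F : Type*} [Field F] [Fintype F] (p f : ℕ) [Fact p.Prime] [CharP F p]
    (hF : Fintype.card F = p ^ f) : Nat.card (F ≃+* F) = f := by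
  letI := ZMod.algebra F p
  have hfr : Module.finrank (ZMod p) F = f := by
    have e := Module.card_eq_pow_finrank (K := ZMod p) (V := F)
    rw [hF, ZMod.card] at e
    exact (Nat.pow_right_injective (Fact.out : p.Prime).two_le e).symm
  let r : (F ≃+* F) ≃ (F ≃ₐ[ZMod p] F) :=
    { toFun := fun φ => AlgEquiv.ofRingEquiv (f := φ) fun x =>
        RingHom.congr_fun (Subsingleton.elim ((φ : F →+* F).comp (algebraMap (ZMod p) F)) (algebraMap (ZMod p) F)) x
      invFun := fun ψ => ψ.toRingEquiv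
      left_inv := fun φ => RingEquiv.ext fun _ => rfl
      right_inv := fun ψ => AlgEquiv.ext fun _ => rfl }
  rw [Nat.card_congr r, IsGalois.card_aut_eq_finrank, hfr]

variable {F : Type*} [Field F] [Fintype F] [CharP F 2] {q n : ℕ}

/-- Additive similitudes of the norm form are semilinear. -/
theorem semilinear (hq : q = 2 ^ n) (hn : 1 ≤ n) (hF : Fintype.card F = q ^ 2)
    (L : F →+ F) (hL : Function.Bijective L) (Λ : F → F)
    (hΛadd : ∀ c d : F, c ^ q = c → d ^ q = d → Λ (c + d) = Λ c + Λ d)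
    (hΛinj : ∀ c : F, c ^ q = c → Λ c = 0 → c = 0)
    (hN : ∀ a, L a * (L a) ^ q = Λ (a * a ^ q)) :
    ∃ (a : Fˣ) (τ : F ≃+* F), ∀ x, L x = (a : F) * τ x := by
  classical
  have C : PSUAut.Ctx F 3 q := ⟨hF, le_rfl⟩
  have hadd : ∀ a b : F, (a + b) ^ q = a ^ q + b ^ q := PSUAut.add_pow_q C
  have hpp : ∀ a : F, (a ^ q) ^ q = a := PSUAut.pow_q_q C
  have hL1 : L 1 ≠ 0 := fun h => one_ne_zero (hL.1 (h.trans (map_zero L).symm))
  have hN1 : L 1 * L 1 ^ q ≠ 0 := mul_ne_zero hL1 (pow_ne_zero _ hL1)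
  -- the normalised map
  let M : F →+ F := (AddMonoidHom.mulLeft (L 1)⁻¹).comp L
  have hMe : ∀ x, M x = (L 1)⁻¹ * L x := fun x => rfl
  let lam : F → F := fun c => (L 1 * L 1 ^ q)⁻¹ * Λ c
  have hM1 : M 1 = 1 := by rw [hMe, inv_mul_cancel₀ hL1]
  have hMinj : Function.Injective M := fun x y h => hL.1 (mul_left_cancel₀ (inv_ne_zero hL1) h)
  have hMN : ∀ x, M x * M x ^ q = lam (x * x ^ q) := fun x => by
    simp only [lam, hMe, ← hN]
    rw [mul_pow, inv_pow, mul_inv]
    ring
  have hfixN : ∀ a : F, (a * a ^ q) ^ q = a * a ^ q := fun a => by rw [mul_pow, hpp, mul_comm]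
  have hfixB : ∀ x y : F, (pol q x y) ^ q = pol q x y := fun x y => by
    simp only [pol, hadd, mul_pow, hpp]; ring
  have hsum : ∀ {c d : F}, c ^ q = c → d ^ q = d → (c + d) ^ q = c + d := fun {c d} hc hd => by
    rw [hadd, hc, hd]
  have hpolN : ∀ x y : F, (x + y) * (x + y) ^ q = x * x ^ q + y * y ^ q + pol q x y := fun x y => by
    simp only [pol, hadd]; ring
  have hladd : ∀ c d : F, c ^ q = c → d ^ q = d → lam (c + d) = lam c + lam d := fun c d hc hd => by
    simp only [lam, hΛadd c d hc hd, mul_add]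
  have hB : ∀ x y : F, pol q (M x) (M y) = lam (pol q x y) := fun x y => by
    have e := hMN (x + y)
    rw [map_add, hpolN, hpolN, hMN, hMN, hladd _ _ (hsum (hfixN x) (hfixN y)) (hfixB x y),
      hladd _ _ (hfixN x) (hfixN y)] at e
    exact add_left_cancel e
  have hlinj : ∀ c : F, c ^ q = c → lam c = 0 → c = 0 := fun c hc h =>
    hΛinj c hc ((mul_eq_zero.1 h).resolve_left (inv_ne_zero hN1))
  have hl0 : lam 0 = 0 := by
    have := hladd 0 0 (PSUAut.zero_pow_q C) (PSUAut.zero_pow_q C)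
    rw [add_zero] at this
    simpa using this.symm
  have hline : ∀ x y : F, x ≠ 0 → ((y / x) ^ q = y / x ↔ (M y / M x) ^ q = M y / M x) := by
    intro x y hx
    have hMx : M x ≠ 0 := fun h => hx (hMinj (h.trans (map_zero M).symm))
    have key : ∀ u v : F, u ≠ 0 → ((v / u) ^ q = v / u ↔ pol q u v = 0) := fun u v hu => by
      rw [div_pow, div_eq_div_iff (pow_ne_zero _ hu) hu]
      show _ ↔ u * v ^ q + u ^ q * v = 0
      rw [CharTwo.add_eq_zero, mul_comm u, mul_comm (u ^ q)]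
    rw [key x y hx, key _ _ hMx, hB]
    exact ⟨fun h => by rw [h, hl0], fun h => hlinj _ (hfixB x y) h⟩
  let s : F → F → F := fun x l => M (l * x) / M x
  have hs : ∀ x l : F, x ≠ 0 → l ^ q = l → s x l ^ q = s x l ∧ M (l * x) = s x l * M x := by
    intro x l hx hl
    have hMx : M x ≠ 0 := fun h => hx (hMinj (h.trans (map_zero M).symm))
    exact ⟨(hline x (l * x) hx).1 (by rw [mul_div_assoc, div_self hx, mul_one, hl]),
      (div_mul_cancel₀ _ hMx).symm⟩
  have hindep : ∀ x y l : F, x ≠ 0 → (y / x) ^ q ≠ y / x → l ^ q = l → s x l = s y l := by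
    intro x y l hx hxy hl
    have hy : y ≠ 0 := fun h => hxy (by rw [h, zero_div, PSUAut.zero_pow_q C])
    have hxy0 : x + y ≠ 0 := fun h => hxy (by
      rw [← CharTwo.add_eq_zero.1 h, div_self hx, one_pow])
    obtain ⟨f1, e1⟩ := hs x l hx hl
    obtain ⟨f2, e2⟩ := hs y l hy hl
    obtain ⟨f3, e3⟩ := hs (x + y) l hxy0 hl
    rw [mul_add, map_add, map_add, e1, e2] at e3
    have hne := mt (hline x y hx).2 hxy
    by_cases hd : s y l - s (x + y) l = 0
    · rw [sub_eq_zero] at hd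
      rw [hd] at e3 ⊢
      have hMx : M x ≠ 0 := fun h => hx (hMinj (h.trans (map_zero M).symm))
      refine mul_right_cancel₀ hMx ?_
      linear_combination e3
    · exfalso
      apply hne
      have hMx : M x ≠ 0 := fun h => hx (hMinj (h.trans (map_zero M).symm))
      have e : M y / M x = (s (x + y) l - s x l) / (s y l - s (x + y) l) := by
        rw [div_eq_div_iff hMx hd]; linear_combination e3
      rw [e, div_pow, PSUAut.sub_pow_q C, PSUAut.sub_pow_q C, f1, f2, f3]
  obtain ⟨w, hw⟩ := PSUAut.exists_not_fixed C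
  have hscal : ∀ l x : F, l ^ q = l → M (l * x) = M l * M x := by
    intro l x hl
    by_cases hx : x = 0
    · rw [hx, mul_zero, map_zero, mul_zero]
    have h1 : M l = s 1 l := by simp only [s, mul_one, hM1, div_one]
    rw [(hs x l hx hl).2, h1]
    congr 1
    by_cases hxf : x ^ q = x
    · have hw0 : w ≠ 0 := fun h => hw (by rw [h, PSUAut.zero_pow_q C])
      have a1 : s 1 l = s w l := hindep 1 w l one_ne_zero (by rw [div_one]; exact hw) hl
      have a2 : s x l = s w l := hindep x w l hx (fun h => hw (by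
        rw [div_pow, hxf, div_left_inj' hx] at h; exact h)) hl
      rw [a1, a2]
    · exact (hindep 1 x l one_ne_zero (by rw [div_one]; exact hxf) hl).symm
  have hfixM : ∀ l : F, l ^ q = l → M l ^ q = M l := fun l hl => by
    have := (hs 1 l one_ne_zero hl).1
    simpa only [s, mul_one, hM1, div_one] using this
  -- on the fixed field the multiplier is the map itself
  have hlam : ∀ c : F, c ^ q = c → lam c = M c := by
    intro c hc
    obtain ⟨d, hd⟩ : ∃ d, d = c ^ 2 ^ (n - 1) := ⟨_, rfl⟩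
    have hdq : d ^ q = d := by rw [hd, ← pow_mul, mul_comm, pow_mul, hc]
    have hdd : d * d = c := by
      rw [hd, ← pow_two, ← pow_mul, ← pow_succ, Nat.sub_add_cancel hn, ← hq, hc]
    have e := hMN d
    rw [hdq, hfixM d hdq, hdd] at e
    rw [← e, ← hscal d d hdq, hdd]
  have hsq : ∀ x : F, M (x * x) = M x * M x := by
    intro x
    have hxx : x * x = (x + x ^ q) * x + x * x ^ q := by
      linear_combination -(CharTwo.add_self_eq_zero (x * x ^ q))
    have hT : (x + x ^ q) ^ q = x + x ^ q := by rw [hadd, hpp, add_comm]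
    have eT := hB 1 x
    rw [hlam _ (hfixB 1 x), hM1] at eT
    simp only [pol, one_pow, one_mul] at eT
    rw [add_comm (x ^ q), add_comm (M x ^ q)] at eT
    have eN := hMN x
    rw [hlam _ (hfixN x)] at eN
    rw [hxx, map_add, hscal _ _ hT, ← eT, ← eN]
    linear_combination CharTwo.add_self_eq_zero (M x * M x ^ q)
  have hmul : ∀ x y : F, M (x * y) = M x * M y := by
    have hw' : w + w ^ q ≠ 0 := fun h => hw (CharTwo.add_eq_zero.1 h).symm
    have hdec : ∀ x : F, ∃ l m, l ^ q = l ∧ m ^ q = m ∧ x = l + m * w := by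
      intro x
      have hm : ((x + x ^ q) / (w + w ^ q)) ^ q = (x + x ^ q) / (w + w ^ q) := by
        rw [div_pow, hadd, hadd, hpp, hpp, add_comm (x ^ q), add_comm (w ^ q)]
      refine ⟨x + (x + x ^ q) / (w + w ^ q) * w, (x + x ^ q) / (w + w ^ q), ?_, hm, ?_⟩
      · rw [hadd, mul_pow, hm]
        have e := div_mul_cancel₀ (x + x ^ q) hw'
        have := CharTwo.add_self_eq_zero x
        have h' := CharTwo.add_self_eq_zero ((x + x ^ q) / (w + w ^ q) * w)
        linear_combination e - h' + CharTwo.add_self_eq_zero (x ^ q)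
      · rw [add_assoc, CharTwo.add_self_eq_zero, add_zero]
    intro x y
    obtain ⟨l, m, hl, hm, rfl⟩ := hdec x
    obtain ⟨l', m', hl', hm', rfl⟩ := hdec y
    have hf : ∀ {a b : F}, a ^ q = a → b ^ q = b → (a * b) ^ q = a * b := fun {a b} ha hb => by
      rw [mul_pow, ha, hb]
    rw [show (l + m * w) * (l' + m' * w) = l * l' + (l * m' + m * l') * w + (m * m') * (w * w) by ring,
      map_add, map_add, map_add, map_add, hscal _ w (hsum (hf hl hm') (hf hm hl')),
      hscal _ _ (hf hm hm'), hscal _ w hm, hscal _ w hm', hsq, hscal _ _ hl, map_add,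
      hscal _ _ hl, hscal _ _ hm, hscal _ _ hm]
    ring
  let τ : F →+* F :=
    { toFun := M, map_one' := hM1, map_zero' := map_zero M, map_mul' := hmul, map_add' := map_add M }
  refine ⟨Units.mk0 (L 1) hL1, RingEquiv.ofBijective τ ⟨hMinj, Finite.surjective_of_injective hMinj⟩, fun x => ?_⟩
  show L x = L 1 * ((L 1)⁻¹ * L x)
  rw [mul_inv_cancel_left₀ hL1]

section Aut

variable {S : Type*} [Group S] [Finite S]

/-- The automorphism group of the Sylow 2-subgroup of `SU₃(q)`. -/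
theorem aut_structure (hq : q = 2 ^ n) (hn : 1 ≤ n) (hF : Fintype.card F = q ^ 2) (h : Chart S F q) :
    ∃ (K : Subgroup (MulAut S)) (Φ : MulAut S → Fˣ × (F ≃+* F)),
      (∀ φ ψ, Φ (φ * ψ) = (Units.mk0 (((Φ φ).1 : F) * (Φ φ).2 (Φ ψ).1)
        (mul_ne_zero (Units.ne_zero _) ((map_ne_zero _).2 (Units.ne_zero _))), (Φ φ).2 * (Φ ψ).2)) ∧
      Function.Surjective Φ ∧ (∀ φ, φ ∈ K ↔ Φ φ = (1, RingEquiv.refl F)) ∧
      Cfsg.IsElementaryAbelian 2 K ∧ Nat.card K = 2 ^ (2 * n ^ 2) ∧
      Nat.card (MulAut S) = Nat.card (Fˣ × (F ≃+* F)) * Nat.card K := by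
  classical
  haveI : Fact (Nat.Prime 2) := ⟨Nat.prime_two⟩
  have C : PSUAut.Ctx F 3 q := ⟨hF, le_rfl⟩
  have hc := h.coord hF
  obtain ⟨π, ζ, hrel, hl1, hl2, hext, hex⟩ := h
  obtain ⟨h0, h0'⟩ : π 1 = 0 ∧ ζ 1 = 0 := by
    have e := hl1 1 1
    rw [mul_one] at e
    have e0 : π 1 = 0 := by simpa using e.symm
    have e' := hl2 1 1
    rw [mul_one, e0, zero_mul, add_zero] at e'
    exact ⟨e0, by simpa using e'.symm⟩
  have hfixN : ∀ a : F, (a * a ^ q) ^ q = a * a ^ q := fun a => by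
    rw [mul_pow, PSUAut.pow_q_q C, mul_comm]
  have hsec : ∀ a : F, ∃ s : S, π s = a := fun a => by
    obtain ⟨c, hc⟩ := PSUAut.exists_trace C (hfixN a)
    obtain ⟨s, hs, -⟩ := hex a c hc
    exact ⟨s, hs⟩
  choose sec hsec using hsec
  have hcen : ∀ z, z ∈ Subgroup.center S ↔ π z = 0 := fun z => by
    constructor
    · intro hz
      have key : ∀ b : F, b * π z ^ q = π z * b ^ q := fun b => by
        have e := congrArg ζ (Subgroup.mem_center_iff.1 hz (sec b))
        rw [hl2, hl2, hsec] at e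
        linear_combination -e
      have k1 := key 1
      rw [one_mul, one_pow, mul_one] at k1
      obtain ⟨b, hb⟩ := PSUAut.exists_not_fixed C
      have k2 := key b
      rw [k1, mul_comm] at k2
      by_contra hne
      exact hb (mul_left_cancel₀ hne k2).symm
    · intro hz
      refine Subgroup.mem_center_iff.2 fun t => hext _ _ (by rw [hl1, hl1, add_comm]) ?_
      rw [hl2, hl2, hz, PSUAut.zero_pow_q C]; ring
  have hπinv : ∀ x : S, π x⁻¹ = π x := fun x => by
    have := hl1 x x⁻¹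
    rw [mul_inv_cancel, h0] at this
    exact (CharTwo.add_eq_zero.1 this.symm).symm
  have hker : ∀ (φ : MulAut S) (x : S), π x = 0 → π (φ x) = 0 := fun φ x hx => by
    rw [← hcen] at hx ⊢
    refine Subgroup.mem_center_iff.2 fun g => ?_
    obtain ⟨g', rfl⟩ := φ.surjective g
    rw [← map_mul, ← map_mul, Subgroup.mem_center_iff.1 hx g']
  have hwd : ∀ (φ : MulAut S) (x y : S), π x = π y → π (φ x) = π (φ y) := fun φ x y e => by
    have h' : π (φ (x⁻¹ * y)) = 0 := hker φ _ (by rw [hl1, hπinv, e, CharTwo.add_self_eq_zero])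
    rw [map_mul, hl1, map_inv, hπinv, CharTwo.add_eq_zero] at h'
    exact h'
  -- every automorphism is semilinear
  have hsemi : ∀ φ : MulAut S, ∃ (a : Fˣ) (τ : F ≃+* F), ∀ x, π (φ x) = a * τ (π x) := by
    intro φ
    let L : F →+ F := AddMonoidHom.mk' (fun a => π (φ (sec a))) fun a b => by
      rw [← hl1, ← map_mul]
      exact hwd φ _ _ (by simp only [hl1, hsec])
    have hLπ : ∀ x, L (π x) = π (φ x) := fun x => hwd φ _ _ (hsec _)
    have hLb : Function.Bijective L := by
      have hs : Function.Surjective L := fun b => ⟨π (φ.symm (sec b)), by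
        rw [hLπ, MulEquiv.apply_symm_apply, hsec]⟩
      exact ⟨Finite.injective_iff_surjective.2 hs, hs⟩
    choose zz hzz1 hzz2 using fun c : {c : F // c ^ q = c} =>
      hex 0 c.1 (by rw [c.2, CharTwo.add_self_eq_zero, zero_mul])
    let Λ : F → F := fun c => if hc : c ^ q = c then ζ (φ (zz ⟨c, hc⟩)) else 0
    have hΛ : ∀ x, π x = 0 → ∀ c, c ^ q = c → ζ x = c → Λ c = ζ (φ x) := fun x hx c hc' hxc => by
      simp only [Λ, dif_pos hc']
      rw [hext (zz ⟨c, hc'⟩) x ((hzz1 _).trans hx.symm) ((hzz2 _).trans hxc.symm)]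
    obtain ⟨a, τ, hτ⟩ := semilinear hq hn hF L hLb Λ (fun c d hc' hd' => by
        have e1 := hzz1 ⟨c, hc'⟩; have e2 := hzz1 ⟨d, hd'⟩
        rw [hΛ (zz ⟨c, hc'⟩ * zz ⟨d, hd'⟩) (by rw [hl1, e1, e2, add_zero]) (c + d)
            (by rw [PSUAut.add_pow_q C, hc', hd'])
            (by rw [hl2, hzz2, hzz2, e2, zero_mul, add_zero]),
          hΛ _ e1 c hc' (hzz2 _), hΛ _ e2 d hd' (hzz2 _), map_mul, hl2, hker φ _ e2, zero_mul, add_zero])
      (fun c hc' h => by
        rw [hΛ _ (hzz1 ⟨c, hc'⟩) c hc' (hzz2 _)] at h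
        have e := hext _ 1 ((hker φ _ (hzz1 ⟨c, hc'⟩)).trans h0.symm) (h.trans h0'.symm)
        have e' := congrArg ζ (φ.injective (e.trans (map_one φ).symm))
        rwa [hzz2, h0'] at e')
      (fun a => by
        rw [hΛ (sec a * sec a) (by rw [hl1, CharTwo.add_self_eq_zero]) _ (hfixN a)
            (by rw [hl2, hsec, CharTwo.add_self_eq_zero, zero_add]),
          map_mul, hl2, CharTwo.add_self_eq_zero, zero_add]
        rfl)
    exact ⟨a, τ, fun x => by rw [← hLπ, hτ]⟩
  choose A T hAT using hsemi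
  have huniq : ∀ (φ : MulAut S) (a : Fˣ) (τ : F ≃+* F), (∀ x, π (φ x) = a * τ (π x)) →
      A φ = a ∧ T φ = τ := by
    intro φ a τ h
    have e1 : (A φ : F) = a := by
      have := h (sec 1)
      rwa [hAT, hsec, map_one, map_one, mul_one, mul_one] at this
    refine ⟨Units.ext e1, RingEquiv.ext fun b => ?_⟩
    have := h (sec b)
    rw [hAT, hsec, e1] at this
    exact mul_left_cancel₀ a.ne_zero this
  -- lifting
  have hτq : ∀ (τ : F ≃+* F) (x : F), τ x ^ q = τ (x ^ q) := fun τ x => (map_pow τ x q).symm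
  have hlift : ∀ (a : Fˣ) (τ : F ≃+* F), ∃ φ : MulAut S, ∀ x, π (φ x) = a * τ (π x) := by
    intro a τ
    choose f hf1 hf2 using fun x => hex ((a : F) * τ (π x)) ((a : F) * (a : F) ^ q * τ (ζ x)) (by
      rw [mul_pow, hfixN, hτq, ← mul_add, ← map_add, hrel, map_mul, mul_pow, hτq]; ring)
    have hmul : ∀ x y, f (x * y) = f x * f y := fun x y => hext _ _
      (by rw [hl1, hf1, hf1, hf1, hl1, map_add, mul_add])
      (by rw [hl2, hf2, hf2, hf2, hf1, hf1, hl2, map_add, map_add, map_mul, mul_pow, hτq]; ring)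
    have hinj : Function.Injective f := fun x y e => by
      refine hext _ _ ?_ ?_
      · have := congrArg π e
        rw [hf1, hf1] at this
        exact τ.injective (mul_left_cancel₀ a.ne_zero this)
      · have := congrArg ζ e
        rw [hf2, hf2] at this
        exact τ.injective (mul_left_cancel₀ (mul_ne_zero a.ne_zero (pow_ne_zero _ a.ne_zero)) this)
    exact ⟨MulEquiv.ofBijective (MonoidHom.mk' f hmul) ⟨hinj, Finite.surjective_of_injective hinj⟩, hf1⟩
  choose lift hliftA using hlift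
  let Φ : MulAut S → Fˣ × (F ≃+* F) := fun φ => (A φ, T φ)
  have hΦmul : ∀ φ ψ, Φ (φ * ψ) = (Units.mk0 (((Φ φ).1 : F) * (Φ φ).2 (Φ ψ).1)
      (mul_ne_zero (Units.ne_zero _) ((map_ne_zero _).2 (Units.ne_zero _))), (Φ φ).2 * (Φ ψ).2) := by
    intro φ ψ
    obtain ⟨e1, e2⟩ := huniq (φ * ψ) (Units.mk0 ((A φ : F) * T φ (A ψ))
      (mul_ne_zero (Units.ne_zero _) ((map_ne_zero _).2 (Units.ne_zero _)))) (T φ * T ψ) fun x => by
        show π (φ (ψ x)) = _
        rw [hAT, hAT, map_mul, Units.val_mk0, mul_assoc]; rfl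
    exact Prod.ext e1 e2
  have hΦsurj : Function.Surjective Φ := fun y => ⟨lift y.1 y.2, by
    obtain ⟨e1, e2⟩ := huniq _ _ _ (hliftA y.1 y.2)
    exact Prod.ext e1 e2⟩
  let K : Subgroup (MulAut S) :=
    { carrier := {φ | ∀ x, π (φ x) = π x}
      one_mem' := fun x => rfl
      mul_mem' := fun {φ ψ} hφ hψ x => (hφ _).trans (hψ x)
      inv_mem' := fun {φ} hφ x => by
        have := hφ (φ⁻¹ x)
        rw [MulAut.apply_inv_self] at this
        exact this.symm }
  have hK : ∀ φ, φ ∈ K ↔ Φ φ = (1, RingEquiv.refl F) := by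
    intro φ
    constructor
    · intro h
      obtain ⟨e1, e2⟩ := huniq φ 1 (RingEquiv.refl F) fun x => by
        rw [h x, Units.val_one, one_mul]; rfl
      exact Prod.ext e1 e2
    · intro h x
      rw [hAT, show A φ = 1 from congrArg Prod.fst h, show T φ = RingEquiv.refl F from congrArg Prod.snd h,
        Units.val_one, one_mul]
      rfl
  -- the kernel
  letI : Algebra (ZMod 2) F := ZMod.algebra F 2
  let Fix : AddSubgroup F :=
    { carrier := {c | c ^ q = c}
      zero_mem' := PSUAut.zero_pow_q C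
      add_mem' := fun {a b} ha hb => by
        show (a + b) ^ q = a + b
        rw [PSUAut.add_pow_q C, show a ^ q = a from ha, show b ^ q = b from hb]
      neg_mem' := fun {a} ha => by
        show (-a) ^ q = -a
        rw [CharTwo.neg_eq]; exact ha }
  let FixM : Submodule (ZMod 2) F := AddSubgroup.toZModSubmodule 2 Fix
  have hKfix : ∀ φ ∈ K, ∀ z, π z = 0 → φ z = z := by
    intro φ hφ z hz
    have hzf : ζ z ^ q = ζ z := by
      have e := hrel z
      rw [hz, zero_mul, CharTwo.add_eq_zero] at e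
      exact e.symm
    obtain ⟨a, ha⟩ : ∃ a, a * a ^ q = ζ z := by
      rcases eq_or_ne (ζ z) 0 with e | e
      · exact ⟨0, by rw [e, zero_mul]⟩
      · exact Classical.Unitary.exists_scale hF e hzf
    have hzz : z = sec a * sec a := hext _ _ (by rw [hz, hl1, CharTwo.add_self_eq_zero])
      (by rw [hl2, hsec, CharTwo.add_self_eq_zero, zero_add, ha])
    rw [hzz, map_mul]
    exact hext _ _ (by rw [hl1, hl1, hφ]) (by
      rw [hl2, hl2, hφ, CharTwo.add_self_eq_zero, CharTwo.add_self_eq_zero])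
  have hdiff : ∀ φ ∈ K, ∀ x, (ζ (φ x) + ζ x) ^ q = ζ (φ x) + ζ x := fun φ hφ x => by
    have e1 := hrel (φ x)
    rw [hφ x, ← hrel x] at e1
    rw [PSUAut.add_pow_q C]
    linear_combination e1 + CharTwo.add_self_eq_zero (ζ x ^ q) - CharTwo.add_self_eq_zero (ζ (φ x))
  have hdwd : ∀ φ ∈ K, ∀ x y, π x = π y → ζ (φ x) + ζ x = ζ (φ y) + ζ y := fun φ hφ x y e => by
    obtain ⟨z, rfl⟩ : ∃ z, y = x * z := ⟨_, (mul_inv_cancel_left x y).symm⟩
    have hz : π z = 0 := by rw [hl1] at e; exact left_eq_add.1 e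
    rw [map_mul, hKfix φ hφ z hz, hl2, hl2, hz, zero_mul, zero_mul, add_zero, add_zero]
    linear_combination -(CharTwo.add_self_eq_zero (ζ z))
  let toHom : K → (F →ₗ[ZMod 2] FixM) := fun φ =>
    (AddMonoidHom.mk' (fun a => (⟨ζ ((φ : MulAut S) (sec a)) + ζ (sec a), hdiff φ φ.2 _⟩ : FixM))
      fun a b => Subtype.ext (by
        show ζ ((φ : MulAut S) (sec (a + b))) + ζ (sec (a + b)) = ζ ((φ : MulAut S) (sec a)) + ζ (sec a) +
          (ζ ((φ : MulAut S) (sec b)) + ζ (sec b))
        rw [hdwd φ φ.2 (sec (a + b)) (sec a * sec b) (by rw [hl1, hsec, hsec, hsec]), map_mul, hl2,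
          hl2, φ.2, φ.2]
        linear_combination CharTwo.add_self_eq_zero (π (sec b) * π (sec a) ^ q))).toZModLinearMap 2
  have htoHom : ∀ (φ : K) (x : S), (toHom φ (π x) : F) = ζ ((φ : MulAut S) x) + ζ x := fun φ x =>
    hdwd φ φ.2 (sec (π x)) x (hsec _)
  have hKcard : Nat.card K = Nat.card (F →ₗ[ZMod 2] FixM) := by
    refine Nat.card_congr (Equiv.ofBijective toHom ⟨fun φ ψ e => ?_, fun η => ?_⟩)
    · refine Subtype.ext (MulEquiv.ext fun x => hext _ _ ((φ.2 x).trans (ψ.2 x).symm) ?_)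
      have e' := congrArg (fun g : F →ₗ[ZMod 2] FixM => (g (π x) : F)) e
      simp only [htoHom] at e'
      exact add_right_cancel e'
    · choose f hf1 hf2 using fun x => hex (π x) (ζ x + (η (π x) : F)) (by
        have hη : (η (π x) : F) ^ q = η (π x) := (η (π x)).2
        rw [PSUAut.add_pow_q C, hη, ← hrel x]
        linear_combination CharTwo.add_self_eq_zero (η (π x) : F))
      have hmul : ∀ x y, f (x * y) = f x * f y := fun x y => hext _ _
        (by rw [hl1, hf1, hf1, hf1, hl1])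
        (by rw [hl2, hf2, hf2, hf2, hf1, hf1, hl2, hl1, map_add, Submodule.coe_add]; ring)
      have hinj : Function.Injective f := fun x y e => by
        have e1 := congrArg π e
        rw [hf1, hf1] at e1
        have e2 := congrArg ζ e
        rw [hf2, hf2, e1] at e2
        exact hext _ _ e1 (add_right_cancel e2)
      let φ : K := ⟨MulEquiv.ofBijective (MonoidHom.mk' f hmul) ⟨hinj, Finite.surjective_of_injective hinj⟩, hf1⟩
      refine ⟨φ, LinearMap.ext fun a => Subtype.ext ?_⟩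
      rw [← hsec a, htoHom]
      show ζ (f (sec a)) + ζ (sec a) = _
      rw [hf2]
      linear_combination CharTwo.add_self_eq_zero (ζ (sec a))
  have hfrF : Module.finrank (ZMod 2) F = 2 * n := by
    have e := Module.card_eq_pow_finrank (K := ZMod 2) (V := F)
    rw [hF, hq, ZMod.card, ← pow_mul, mul_comm] at e
    exact (Nat.pow_right_injective le_rfl e).symm
  have hfrX : Module.finrank (ZMod 2) FixM = n := by
    have e := Module.natCard_eq_pow_finrank (K := ZMod 2) (V := FixM)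
    rw [Nat.card_zmod] at e
    have hc' : Nat.card FixM = q := by
      refine Eq.trans ?_ (card_fix (F := F) hF)
      rfl
    rw [hc', hq] at e
    exact (Nat.pow_right_injective le_rfl e).symm
  refine ⟨K, Φ, hΦmul, hΦsurj, hK, ⟨⟨⟨fun φ ψ => Subtype.ext (MulEquiv.ext fun x => ?_)⟩⟩, fun φ hφ => ?_⟩, ?_, ?_⟩
  · show (φ : MulAut S) ((ψ : MulAut S) x) = (ψ : MulAut S) ((φ : MulAut S) x)
    refine hext _ _ (by rw [φ.2, ψ.2, ψ.2, φ.2]) ?_
    have e1 := htoHom φ ((ψ : MulAut S) x)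
    have e2 := htoHom ψ ((φ : MulAut S) x)
    rw [ψ.2] at e1
    rw [φ.2] at e2
    rw [htoHom] at e1 e2
    linear_combination -e1 + e2 + CharTwo.add_self_eq_zero (ζ ((φ : MulAut S) x)) -
      CharTwo.add_self_eq_zero (ζ ((ψ : MulAut S) x))
  · refine MulEquiv.ext fun x => ?_
    rw [pow_two]
    show φ (φ x) = x
    refine hext _ _ (by rw [hφ, hφ]) ?_
    have e := hdwd φ hφ (φ x) x (hφ x)
    exact (add_left_injective (ζ (φ x))) (by simpa [add_comm] using e)
  · rw [hKcard, Module.natCard_eq_pow_finrank (K := ZMod 2), Module.finrank_linearMap, hfrF, hfrX,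
      Nat.card_zmod]
    congr 1
    ring
  · rw [← Nat.card_prod]
    refine Nat.card_congr (Equiv.symm (Equiv.ofBijective
      (fun yk : (Fˣ × (F ≃+* F)) × K => lift yk.1.1 yk.1.2 * (yk.2 : MulAut S)) ⟨?_, ?_⟩))
    · rintro ⟨y, k⟩ ⟨y', k'⟩ e
      have hy : ∀ (y : Fˣ × (F ≃+* F)) (k : K), Φ (lift y.1 y.2 * k) = y := fun y k => by
        obtain ⟨e1, e2⟩ := huniq (lift y.1 y.2 * k) y.1 y.2 fun x => by
          show π (lift y.1 y.2 ((k : MulAut S) x)) = _
          rw [hliftA, k.2]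
        exact Prod.ext e1 e2
      have hyy : y = y' := by rw [← hy y k, ← hy y' k']; exact congrArg Φ e
      subst hyy
      exact Prod.ext rfl (Subtype.ext (mul_left_cancel e))
    · intro φ
      refine ⟨((A φ, T φ), ⟨(lift (A φ) (T φ))⁻¹ * φ, fun x => ?_⟩), mul_inv_cancel_left _ _⟩
      have e := hliftA (A φ) (T φ) (((lift (A φ) (T φ))⁻¹ * φ) x)
      rw [MulAut.mul_apply, MulAut.apply_inv_self, hAT] at e
      exact ((T φ).injective (mul_left_cancel₀ (Units.ne_zero _) e)).symm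

/-- `O₂` of the automorphism group. -/
theorem aut_pCore (hq : q = 2 ^ n) (hn : 1 ≤ n) (hF : Fintype.card F = q ^ 2) (h : Chart S F q) :
    Cfsg.IsElementaryAbelian 2 (Cfsg.pCore 2 (MulAut S)) ∧
      Nat.card ↥(Cfsg.pCore 2 (MulAut S)) = 2 ^ (2 * n ^ 2) ∧
      Nat.card (MulAut S) = 2 ^ (2 * n ^ 2) * (2 * n * (q ^ 2 - 1)) := by
  classical
  haveI : Fact (Nat.Prime 2) := ⟨Nat.prime_two⟩
  obtain ⟨K, Φ, hmul, hsurj, hK, hea, hcK, hcA⟩ := aut_structure hq hn hF h
  have hKp : IsPGroup 2 K := IsPGroup.of_card hcK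
  haveI hKn : K.Normal := ⟨fun k hk g => by
    rw [hK] at hk ⊢
    have h1 : Φ (g * g⁻¹) = (1, RingEquiv.refl F) := by
      rw [mul_inv_cancel]; exact (hK 1).1 (one_mem K)
    rw [hmul] at h1
    have e1 : Φ (g * k) = Φ g := by
      rw [hmul, hk]
      refine Prod.ext (Units.ext ?_) (RingEquiv.ext fun x => rfl)
      simp
    rw [hmul, e1, h1]⟩
  have hle : Cfsg.pCore 2 (MulAut S) ≤ K := by
    intro φ hφ
    have hPg := Solv.isPGroup_pCore 2 (MulAut S)
    have htriv : ∀ ψ ∈ Cfsg.pCore 2 (MulAut S), (Φ ψ).2 = RingEquiv.refl F → (Φ ψ).1 = 1 := by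
      intro ψ hψ h2
      obtain ⟨k, hk⟩ := hPg ⟨ψ, hψ⟩
      have hk' : ψ ^ 2 ^ k = 1 := Subtype.ext_iff.1 hk
      have hpow : ∀ m : ℕ, ((Φ (ψ ^ m)).1 : F) = ((Φ ψ).1 : F) ^ m ∧ (Φ (ψ ^ m)).2 = RingEquiv.refl F := by
        intro m
        induction m with
        | zero =>
          rw [pow_zero, (hK 1).1 (one_mem K)]
          simp
        | succ m ih =>
          rw [pow_succ', hmul, h2, ih.2]
          refine ⟨?_, RingEquiv.ext fun x => rfl⟩
          show ((Φ ψ).1 : F) * ((Φ (ψ ^ m)).1 : F) = _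
          rw [ih.1, pow_succ']
      have e := (hpow (2 ^ k)).1
      rw [hk', (hK 1).1 (one_mem K)] at e
      refine Units.ext (sub_eq_zero.1 ((pow_eq_zero_iff (n := 2 ^ k) (by positivity)).1 ?_))
      rw [sub_pow_char_pow, Units.val_one, one_pow, ← e]
      simp
    have hτ : (Φ φ).2 = RingEquiv.refl F := by
      refine RingEquiv.ext fun b => ?_
      rcases eq_or_ne b 0 with rfl | hb
      · rw [map_zero, map_zero]
      obtain ⟨μ, hμ⟩ := hsurj (Units.mk0 b hb, RingEquiv.refl F)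
      haveI : (Cfsg.pCore 2 (MulAut S)).Normal := Subgroup.sSup_normal _ fun N hN => hN.1
      have hc : φ * μ * φ⁻¹ * μ⁻¹ ∈ Cfsg.pCore 2 (MulAut S) := by
        rw [mul_assoc, mul_assoc, ← mul_assoc μ]
        exact mul_mem hφ (Subgroup.Normal.conj_mem inferInstance _ (inv_mem hφ) μ)
      obtain ⟨ψ, hψ⟩ : ∃ ψ, ψ = φ * μ * φ⁻¹ * μ⁻¹ := ⟨_, rfl⟩
      have e : φ * μ = ψ * (μ * φ) := by rw [hψ]; group
      have e' := congrArg Φ e
      rw [hmul φ μ, hmul ψ, hmul μ φ, hμ] at e'
      have e2 := congrArg Prod.snd e'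
      have e1 := congrArg (fun y : Fˣ × (F ≃+* F) => (y.1 : F)) e'
      simp only [Units.val_mk0, RingEquiv.refl_apply] at e1
      have hψ2 : (Φ ψ).2 = RingEquiv.refl F := by
        refine RingEquiv.ext fun x => ?_
        obtain ⟨y, rfl⟩ := (Φ φ).2.surjective x
        exact (RingEquiv.congr_fun e2 y).symm
      rw [hψ2, htriv ψ (hψ ▸ hc) hψ2, Units.val_one, one_mul, RingEquiv.refl_apply, mul_comm b] at e1
      exact mul_left_cancel₀ (Units.ne_zero _) e1
    rw [hK]
    exact Prod.ext (htriv φ hφ hτ) hτ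
  have heq : Cfsg.pCore 2 (MulAut S) = K := le_antisymm hle (Solv.le_pCore hKp)
  rw [heq]
  refine ⟨hea, hcK, ?_⟩
  rw [hcA, hcK, Nat.card_prod, Nat.card_units, Nat.card_eq_fintype_card (α := F), hF,
    card_ringEquiv_self' 2 (2 * n) (by rw [hF, hq, ← pow_mul, mul_comm])]
  ring

end Aut

end Cfsg.Agent.SU3Index2
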