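import Mathlib
import Cfsg.Agent.Lib.Fusion.SubSystem
import Cfsg.Agent.Lib.Fusion.NormalGroupSubsystem

/-!
A simple fusion system realized by a finite group is realized by a finite simple group.
-/

set_option autoImplicit false

universe u

namespace Cfsg.Agent.Fusion

open Cfsg Cfsg.FusionSystem

section Pull

variable {Ω : Type*} [Group Ω] {S : Subgroup Ω} {G : Type*} [Group G]

/-- The part of `S` mapped into `N`. -/
def pullSub (ι : S →* G) (N : Subgroup G) : Subgroup Ω := (N.comap ι).map S.subtype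

theorem mem_pullSub {ι : S →* G} {N : Subgroup G} {x : Ω} :
    x ∈ pullSub ι N ↔ ∃ hx : x ∈ S, ι ⟨x, hx⟩ ∈ N :=
  ⟨fun ⟨y, hy, he⟩ => he ▸ ⟨y.2, hy⟩, fun ⟨hx, h⟩ => ⟨⟨x, hx⟩, h, rfl⟩⟩

theorem pullSub_le (ι : S →* G) (N : Subgroup G) : pullSub ι N ≤ S := Subgroup.map_subtype_le _

/-- The system on `pullSub ι N` induced by conjugation in `N`. -/
def pullSystem (ι : S →* G) (hι : Function.Injective ι) (N : Subgroup G) :
    FusionSystem (pullSub ι N) where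
  Hom P := {φ | P ≤ pullSub ι N ∧ (∀ x : P, φ x ∈ pullSub ι N) ∧
    ∃ g ∈ N, ∀ (x : P) (a b : S), (a : Ω) = x → (b : Ω) = φ x → ι b = g * ι a * g⁻¹}
  le_of_mem h := ⟨h.1, h.2.1⟩
  injective_of_mem := by
    rintro P φ ⟨hP, hφ, g, -, hg⟩ x y hxy
    obtain ⟨hxS, -⟩ := mem_pullSub.1 (hP x.2)
    obtain ⟨hyS, -⟩ := mem_pullSub.1 (hP y.2)
    obtain ⟨hbS, -⟩ := mem_pullSub.1 (hφ x)
    have h1 := hg x ⟨_, hxS⟩ ⟨_, hbS⟩ rfl rfl
    have h2 := hg y ⟨_, hyS⟩ ⟨_, hbS⟩ rfl hxy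
    exact Subtype.ext (Subtype.mk.inj (hι (mul_left_cancel (mul_right_cancel (h1.symm.trans h2)))))
  conj_mem := by
    intro P g hP hg
    obtain ⟨hgS, hgN⟩ := mem_pullSub.1 hg
    refine ⟨hP, fun x => mul_mem (mul_mem hg (hP x.2)) (Subgroup.inv_mem _ hg), ι ⟨g, hgS⟩, hgN,
      fun x a b ha hb => ?_⟩
    have e : b = ⟨g, hgS⟩ * a * ⟨g, hgS⟩⁻¹ := by
      refine Subtype.ext (hb.trans ?_)
      show g * (x : Ω) * g⁻¹ = g * (a : Ω) * g⁻¹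
      rw [ha]
    rw [e, map_mul, map_mul, map_inv]
  comp_mem := by
    rintro P Q φ ψ ⟨hP, hφ, g, hg, hgx⟩ ⟨-, hψ, k, hk, hkx⟩ h
    refine ⟨hP, fun x => hψ _, k * g, mul_mem hk hg, fun x a b ha hb => ?_⟩
    obtain ⟨hcS, -⟩ := mem_pullSub.1 (hφ x)
    rw [hkx ⟨φ x, h x⟩ ⟨_, hcS⟩ b rfl hb, hgx x a ⟨_, hcS⟩ ha rfl]
    group
  inv_mem := by
    rintro P φ ⟨hP, hφ, g, hg, hgx⟩
    have hinj : Function.Injective φ := by
      intro x y hxy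
      obtain ⟨hxS, -⟩ := mem_pullSub.1 (hP x.2)
      obtain ⟨hyS, -⟩ := mem_pullSub.1 (hP y.2)
      obtain ⟨hbS, -⟩ := mem_pullSub.1 (hφ x)
      have h1 := hgx x ⟨_, hxS⟩ ⟨_, hbS⟩ rfl rfl
      have h2 := hgx y ⟨_, hyS⟩ ⟨_, hbS⟩ rfl hxy
      exact Subtype.ext (Subtype.mk.inj (hι (mul_left_cancel (mul_right_cancel (h1.symm.trans h2)))))
    refine ⟨P.subtype.comp (MonoidHom.ofInjective hinj).symm.toMonoidHom, ⟨?_, fun x => hP ?_, g⁻¹,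
      Subgroup.inv_mem _ hg, ?_⟩, ?_⟩
    · rintro _ ⟨x, rfl⟩
      exact hφ x
    · exact Subtype.prop _
    · rintro ⟨_, x, rfl⟩ a b ha hb
      have he : (MonoidHom.ofInjective hinj).symm ⟨φ x, ⟨x, rfl⟩⟩ = x :=
        (MulEquiv.symm_apply_eq _).2 (Subtype.ext rfl)
      have hb' : (b : Ω) = (x : Ω) := hb.trans (congrArg Subtype.val he)
      rw [hgx x b a hb' ha]
      group
    · intro x
      show (((MonoidHom.ofInjective hinj).symm ⟨φ x, ⟨x, rfl⟩⟩ : P) : Ω) = x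
      exact congrArg Subtype.val ((MulEquiv.symm_apply_eq _).2 (Subtype.ext rfl))

theorem realized_exists_mor' {F : FusionSystem S} {ι : S →* G} (h : F.IsRealizedBy ι) {P : Subgroup Ω}
    (hP : P ≤ S) (g : G) (hg : ∀ x : S, (x : Ω) ∈ P → g * ι x * g⁻¹ ∈ ι.range) :
    ∃ f, ∃ hf : IsMor F P f, ∀ (x : Ω) (hx : x ∈ P), ι ⟨f x, hf.mem hx⟩ = g * ι ⟨x, hP hx⟩ * g⁻¹ := by
  obtain ⟨f, hf, hfx⟩ := realized_exists_mor h hP g hg
  exact ⟨f, hf, fun x hx => hfx ⟨x, hP hx⟩ ⟨f x, hf.mem hx⟩ hx rfl⟩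

variable {F : FusionSystem S} {p : ℕ} [Fact p.Prime] [Finite G] [Finite S]

theorem isNormalIn_pullSystem {ι : S →* G} (h : F.IsRealizedBy ι) (T : Sylow p G)
    (hT : (T : Subgroup G) = ι.range) (N : Subgroup G) [hn : N.Normal] :
    (pullSystem ι h.1 N).IsNormalIn F p := by
  set U := pullSub ι N with hUdef
  have hUS : U ≤ S := pullSub_le ι N
  have hrU : ∀ y ∈ (T : Subgroup G) ⊓ N, ∃ a : S, (a : Ω) ∈ U ∧ ι a = y := by
    rintro y ⟨hy, hyN⟩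
    rw [hT] at hy
    obtain ⟨a, rfl⟩ := hy
    exact ⟨a, mem_pullSub.2 ⟨a.2, hyN⟩, rfl⟩
  have hUr : ∀ a : S, (a : Ω) ∈ U → ι a ∈ (T : Subgroup G) ⊓ N := fun a ha =>
    ⟨hT.ge ⟨a, rfl⟩, (mem_pullSub.1 ha).2⟩
  have hDsat : (pullSystem ι h.1 N).IsSaturated p := by
    let κ : U →* N := (ι.comp (Subgroup.inclusion hUS)).codRestrict N fun x => (mem_pullSub.1 x.2).2
    have hκ : Function.Injective κ := fun x y hxy =>
      Subgroup.inclusion_injective hUS (h.1 (congrArg Subtype.val hxy))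
    have hmax := isMaxP_sylow_inf_normal T N
    obtain ⟨R, hR⟩ := (exists_sylow_subgroupOf_iff hmax.1 hmax.2.1).2 hmax
    refine realized_saturated (ι := κ) ⟨hκ, fun P hP φ hφ => ⟨?_, ?_⟩⟩ ⟨R, hR.trans ?_⟩
    · rintro ⟨-, -, g, hg, hgx⟩
      exact ⟨⟨g, hg⟩, fun x => Subtype.ext (hgx x ⟨x, hUS (hP x.2)⟩ ⟨φ x, hUS (hφ x)⟩ rfl rfl)⟩
    · rintro ⟨g, hg⟩
      refine ⟨hP, hφ, g, g.2, fun x a b ha hb => ?_⟩
      have e := congrArg Subtype.val (hg x)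
      rw [show a = ⟨x, hUS (hP x.2)⟩ from Subtype.ext ha,
        show b = ⟨φ x, hUS (hφ x)⟩ from Subtype.ext hb]
      exact e
    · ext y
      constructor
      · intro hy
        obtain ⟨a, ha, he⟩ := hrU y hy
        exact ⟨⟨a, ha⟩, Subtype.ext he⟩
      · rintro ⟨a, rfl⟩
        exact hUr ⟨a, hUS a.2⟩ a.2
  refine ⟨⟨hDsat, realized_saturated h ⟨T, hT⟩, ?_, ?_, ?_, ?_⟩, ?_⟩
  · rintro P φ ⟨hP, hφ, g, -, hg⟩
    exact (h.2 P (hP.trans hUS) φ fun x => hUS (hφ x)).2 ⟨g, fun x => hg x _ _ rfl rfl⟩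
  · refine ⟨hUS, fun R hR φ hφ x => ?_⟩
    obtain ⟨hRS, hφS⟩ := F.le_of_mem hφ
    obtain ⟨g, hg⟩ := (h.2 R hRS φ hφS).1 hφ
    refine mem_pullSub.2 ⟨hφS x, ?_⟩
    rw [hg x]
    exact hn.conj_mem _ (mem_pullSub.1 (hR x.2)).2 g
  · intro P hPU φ hφ α hα
    obtain ⟨-, hφU, k, hk, hkx⟩ := hφ
    obtain ⟨n, hn'⟩ := realized_exists_conj h (isMor_of_mem_autGroup hUS hα)
    have hα' : ∀ x : U, ι ⟨((α x : U) : Ω), hUS (α x).2⟩ = n * ι ⟨(x : Ω), hUS x.2⟩ * n⁻¹ := fun x =>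
      hn' ⟨(x : Ω), hUS x.2⟩ _ x.2 (autFun_coe α x).symm
    set P' := (P.subgroupOf U).map (U.subtype.comp α.toMonoidHom) with hP'
    have hP'U : P' ≤ U := by rintro _ ⟨y, -, rfl⟩; exact (α y).2
    have key : ∀ (y : U) (hy : (y : Ω) ∈ P), n * k * n⁻¹ * ι ⟨((α y : U) : Ω), hUS (α y).2⟩ *
        (n * k * n⁻¹)⁻¹ = ι ⟨((α ⟨φ ⟨y, hy⟩, hφU _⟩ : U) : Ω), hUS (α _).2⟩ := by
      intro y hy
      rw [hα', hα', hkx ⟨y, hy⟩ ⟨(y : Ω), hUS y.2⟩ ⟨φ ⟨y, hy⟩, hUS (hφU _)⟩ rfl rfl]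
      group
    obtain ⟨χ, hχS, hχ⟩ := exists_hom_of_conj h.1 (hP'U.trans hUS) (n * k * n⁻¹) fun a ha => by
      obtain ⟨y, hy, he⟩ := ha
      rw [show a = ⟨((α y : U) : Ω), hUS (α y).2⟩ from Subtype.ext he.symm, key y hy]
      exact ⟨_, rfl⟩
    refine ⟨χ, ⟨hP'U, fun y => mem_pullSub.2 ⟨hχS y, ?_⟩, n * k * n⁻¹, hn.conj_mem k hk n,
      fun y a b ha hb => ?_⟩, fun x hφx hαx => ?_⟩
    · rw [hχ]
      obtain ⟨z, hz, he⟩ := y.2
      rw [show (⟨(y : Ω), (hP'U.trans hUS) y.2⟩ : S) = ⟨((α z : U) : Ω), hUS (α z).2⟩ from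
        Subtype.ext he.symm, key z hz]
      exact (mem_pullSub.1 (α _).2).2
    · rw [show a = ⟨(y : Ω), (hP'U.trans hUS) y.2⟩ from Subtype.ext ha,
        show b = ⟨χ y, hχS y⟩ from Subtype.ext hb]
      exact hχ y
    · have e := hχ ⟨_, hαx⟩
      rw [key ⟨x, hPU x.2⟩ x.2] at e
      exact congrArg Subtype.val (h.1 e)
  · intro P hPU φ hφ
    obtain ⟨hPS, hφS⟩ := F.le_of_mem hφ
    obtain ⟨g, hg⟩ := (h.2 P hPS φ hφS).1 hφ
    obtain ⟨n, hnn, k, hk, rfl⟩ := exists_normalizer_mul T N g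
    have hkmem : ∀ x : P, k * ι ⟨x, hPS x.2⟩ * k⁻¹ ∈ (T : Subgroup G) ⊓ N := by
      intro x
      have h1 : ι ⟨φ x, hφS x⟩ ∈ (T : Subgroup G) ⊓ N :=
        ⟨hT.ge ⟨_, rfl⟩, by rw [hg]; exact hn.conj_mem _ (mem_pullSub.1 (hPU x.2)).2 _⟩
      have h2 := conj_mem_of_mem_normalizer (Subgroup.inv_mem _ hnn) h1
      rw [hg] at h2
      have e : n⁻¹ * (n * k * ι ⟨x, hPS x.2⟩ * (n * k)⁻¹) * n⁻¹⁻¹ = k * ι ⟨x, hPS x.2⟩ * k⁻¹ := by
        group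
      rwa [e] at h2
    obtain ⟨φ₀, hφ₀S, hφ₀⟩ := exists_hom_of_conj h.1 hPS k fun a ha => by
      have := hkmem ⟨a, ha⟩
      exact hT.le this.1
    have hφ₀U : ∀ x : P, φ₀ x ∈ U := fun x =>
      mem_pullSub.2 ⟨hφ₀S x, by rw [hφ₀]; exact (hkmem x).2⟩
    obtain ⟨f, hf, hfx⟩ := realized_exists_mor' h hUS n fun a ha =>
      hT.le (conj_mem_of_mem_normalizer hnn (hUr a ha)).1
    have hiso := hf.isIso_self fun x hx => mem_pullSub.2 ⟨hf.mem hx, by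
      rw [hfx x hx]; exact hn.conj_mem _ (mem_pullSub.1 hx).2 n⟩
    refine ⟨autOf hiso, autOf_mem hiso, φ₀, ⟨hPU, hφ₀U, k, hk, fun x a b ha hb => ?_⟩, fun x hx => ?_⟩
    · rw [show a = ⟨(x : Ω), hPS x.2⟩ from Subtype.ext ha,
        show b = ⟨φ₀ x, hφ₀S x⟩ from Subtype.ext hb]
      exact hφ₀ x
    · show φ x = f (φ₀ x)
      refine congrArg Subtype.val (h.1 (a₁ := ⟨φ x, hφS x⟩) (a₂ := ⟨_, hf.mem hx⟩) ?_)
      rw [hfx _ hx, hφ₀, hg]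
      group
  · intro α hα
    obtain ⟨φ, ⟨-, hφU, k, hk, hkx⟩, hφα⟩ := isMor_of_mem_autGroup (le_refl U) hα
    have hα' : ∀ x : U, ι ⟨((α x : U) : Ω), hUS (α x).2⟩ = k * ι ⟨(x : Ω), hUS x.2⟩ * k⁻¹ := fun x =>
      hkx x _ _ rfl ((autFun_coe α x).symm.trans (hφα x).symm)
    have hkn : k ∈ Subgroup.normalizer (((T : Subgroup G) ⊓ N : Subgroup G) : Set G) := by
      refine Subgroup.mem_normalizer_fintype fun y hy => ?_
      obtain ⟨a, ha, rfl⟩ := hrU y hy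
      rw [← hα' ⟨a, ha⟩]
      exact hUr _ (α _).2
    obtain ⟨c, hcN, hcC, hQ⟩ := exists_centralizer_adjust T N hk hkn
    set Q := centralizerIn S U with hQdef
    set Q' := centralizerIn (T : Subgroup G) ((T : Subgroup G) ⊓ N)
    have hQS : Q ≤ S := inf_le_left
    have hcx : ∀ y ∈ (T : Subgroup G) ⊓ N, c * k * y * (c * k)⁻¹ = k * y * k⁻¹ := by
      intro y hy
      have := Subgroup.mem_centralizer_iff.1 hcC _ (conj_mem_of_mem_normalizer hkn hy)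
      calc c * k * y * (c * k)⁻¹ = c * (k * y * k⁻¹) * c⁻¹ := by group
        _ = (k * y * k⁻¹) * c * c⁻¹ := by rw [this]
        _ = k * y * k⁻¹ := by group
    have hQ1 : ∀ a : S, (a : Ω) ∈ Q → ι a ∈ Q' := by
      intro a ha
      refine ⟨hT.ge ⟨a, rfl⟩, Subgroup.mem_centralizer_iff.2 fun y hy => ?_⟩
      obtain ⟨b, hb, rfl⟩ := hrU y hy
      rw [← map_mul, ← map_mul]
      exact congrArg ι (Subtype.ext (Subgroup.mem_centralizer_iff.1 ha.2 (b : Ω) hb))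
    have hle : U ⊔ Q ≤ (((ι.range.comap (MulAut.conj (c * k)).toMonoidHom)).comap ι).map S.subtype := by
      refine sup_le (fun x hx => ⟨⟨x, hUS hx⟩, ?_, rfl⟩) (fun x hx => ⟨⟨x, hQS hx⟩, ?_, rfl⟩)
      · show c * k * ι ⟨x, hUS hx⟩ * (c * k)⁻¹ ∈ ι.range
        rw [hcx _ (hUr _ hx)]
        exact hT.le (conj_mem_of_mem_normalizer hkn (hUr ⟨x, hUS hx⟩ hx)).1
      · exact hT.le (hQ _ (hQ1 ⟨x, hQS hx⟩ hx)).1
    obtain ⟨f, hf, hfx⟩ := realized_exists_mor' h (sup_le hUS hQS) (c * k) fun a ha => by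
      obtain ⟨b, hb, he⟩ := hle ha
      rw [show a = b from Subtype.ext he.symm]
      exact hb
    have hfU : ∀ x : U, f x = ((α x : U) : Ω) := fun x => by
      refine congrArg Subtype.val (h.1 (a₁ := ⟨f x, hf.mem (Subgroup.mem_sup_left x.2)⟩)
        (a₂ := ⟨((α x : U) : Ω), hUS (α x).2⟩) ?_)
      rw [hfx _ (Subgroup.mem_sup_left x.2), hα', hcx _ (hUr _ x.2)]
    have hfQ : ∀ x ∈ Q, f x ∈ Q := by
      intro x hx
      have hx' : x ∈ U ⊔ Q := Subgroup.mem_sup_right hx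
      refine ⟨hf.mem hx', Subgroup.mem_centralizer_iff.2 fun y hy => ?_⟩
      have h1 := hQ _ (hQ1 ⟨x, hQS hx⟩ hx)
      rw [← hfx x hx'] at h1
      exact congrArg Subtype.val (h.1 (a₁ := ⟨y, hUS hy⟩ * ⟨f x, hf.mem hx'⟩)
        (a₂ := ⟨f x, hf.mem hx'⟩ * ⟨y, hUS hy⟩)
        (by rw [map_mul, map_mul]; exact Subgroup.mem_centralizer_iff.1 h1.2 _ (hUr ⟨y, hUS hy⟩ hy)))
    have hiso := hf.isIso_self fun x hx => hf.mapsTo_sup
      (fun y hy => Subgroup.mem_sup_left (hfU ⟨y, hy⟩ ▸ (α ⟨y, hy⟩).2))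
      (fun y hy => Subgroup.mem_sup_right (hfQ y hy)) hx
    refine ⟨autOf hiso, autOf_mem hiso, fun x => hfU x, fun y hy => ?_⟩
    have h1 : (y : Ω)⁻¹ * f y ∈ Q := mul_mem (Subgroup.inv_mem _ hy) (hfQ _ hy)
    rw [autOf_apply]
    refine ⟨mem_pullSub.2 ⟨hQS h1, ?_⟩, h1.2⟩
    have e : ι ⟨(y : Ω)⁻¹ * f y, hQS h1⟩ = (ι ⟨(y : Ω), hQS hy⟩)⁻¹ * (c * k) * ι ⟨(y : Ω), hQS hy⟩ *
        (c * k)⁻¹ := by
      rw [show (⟨(y : Ω)⁻¹ * f y, hQS h1⟩ : S) = ⟨(y : Ω), hQS hy⟩⁻¹ * ⟨f y, hf.mem y.2⟩ from rfl,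
        map_mul, map_inv, hfx _ y.2]
      group
    rw [e]
    have h2 := hn.conj_mem _ (mul_mem hcN hk) (ι ⟨(y : Ω), hQS hy⟩)⁻¹
    rw [inv_inv] at h2
    exact mul_mem h2 (Subgroup.inv_mem _ (mul_mem hcN hk))

end Pull

variable {Ω : Type u} [Group Ω] {S : Subgroup Ω} [Finite S] {p : ℕ} [Fact p.Prime]
  {F : FusionSystem S}

theorem exists_simple_realization (hsimple : F.IsSimple p) (G : Type u) [Group G] [Finite G]
    (ι : S →* G) (h : F.IsRealizedBy ι) (hT : ∃ T : Sylow p G, (T : Subgroup G) = ι.range) :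
    ∃ (G : Type u) (_ : Group G) (_ : Finite G) (_ : IsSimpleGroup G) (ι : S →* G),
      F.IsRealizedBy ι ∧ ∃ T : Sylow p G, (T : Subgroup G) = ι.range := by
  induction hcard : Nat.card G using Nat.strong_induction_on generalizing G with
  | _ m ih =>
  subst hcard
  obtain ⟨T, hT⟩ := hT
  obtain ⟨-, hS1, hsimp⟩ := hsimple
  by_cases hsG : IsSimpleGroup G
  · exact ⟨G, inferInstance, inferInstance, hsG, ι, h, T, hT⟩
  have : Nontrivial G := by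
    obtain ⟨s, hs, hne⟩ := S.bot_or_exists_ne_one.resolve_left hS1
    exact ⟨⟨ι ⟨s, hs⟩, 1, fun he => hne (congrArg Subtype.val (h.1 (he.trans (map_one ι).symm)))⟩⟩
  obtain ⟨N, hN, hNb, hNt⟩ : ∃ N : Subgroup G, N.Normal ∧ N ≠ ⊥ ∧ N ≠ ⊤ := by
    by_contra hno
    push_neg at hno
    exact hsG ⟨fun N hN => or_iff_not_imp_left.2 (hno N hN)⟩
  rcases hsimp _ _ (isNormalIn_pullSystem h T hT N) with hU | ⟨hU, hD⟩
  · have hdisj : ∀ a : S, ι a ∈ N → a = 1 := fun a ha => by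
      have : (a : Ω) ∈ pullSub ι N := mem_pullSub.2 ⟨a.2, ha⟩
      rw [hU, Subgroup.mem_bot] at this
      exact Subtype.ext this
    refine ih (Nat.card (G ⧸ N)) ?_ (G ⧸ N) ((QuotientGroup.mk' N).comp ι) ⟨?_, fun P hP φ hφ => ?_⟩
      ⟨T.mapSurjective (QuotientGroup.mk'_surjective N), ?_⟩ rfl
    · rw [← Subgroup.index_eq_card, ← N.card_mul_index]
      exact lt_mul_of_one_lt_left (Nat.pos_of_ne_zero Subgroup.index_ne_zero_of_finite)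
        ((Subgroup.one_lt_card_iff_ne_bot N).2 hNb)
    · intro a b hab
      rw [MonoidHom.comp_apply, MonoidHom.comp_apply, QuotientGroup.mk'_apply, QuotientGroup.mk'_apply,
        QuotientGroup.eq] at hab
      exact eq_of_inv_mul_eq_one (hdisj (a⁻¹ * b) (by rwa [map_mul, map_inv]))
    · rw [h.2 P hP φ hφ]
      constructor
      · rintro ⟨g, hg⟩
        exact ⟨QuotientGroup.mk g, fun x => by
          simp only [MonoidHom.comp_apply, QuotientGroup.mk'_apply, hg x, QuotientGroup.mk_mul,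
            QuotientGroup.mk_inv]⟩
      · rintro ⟨γ, hγ⟩
        have hPT : mImg ι P ≤ (T : Subgroup G) := by
          rintro _ ⟨a, -, rfl⟩
          exact hT.ge ⟨a, rfl⟩
        obtain ⟨g, hg⟩ := exists_lift_conj T N hPT γ (by
          rintro _ ⟨a, ha, rfl⟩
          exact ⟨ι ⟨φ ⟨a, ha⟩, hφ _⟩, hT.ge ⟨_, rfl⟩, hγ ⟨a, ha⟩⟩)
        refine ⟨g, fun x => ?_⟩
        obtain ⟨h1, h2⟩ := hg (ι ⟨x, hP x.2⟩) ⟨⟨x, hP x.2⟩, x.2, rfl⟩
        obtain ⟨b, hb⟩ := hT.le h1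
        have h3 : (QuotientGroup.mk (ι b) : G ⧸ N) = QuotientGroup.mk (ι ⟨φ x, hφ x⟩) := by
          rw [hb, h2]; exact (hγ x).symm
        have h4 : b⁻¹ * (⟨φ x, hφ x⟩ : S) = 1 := hdisj _ (by
          rw [map_mul, map_inv]; exact QuotientGroup.eq.1 h3)
        rw [← hb, eq_of_inv_mul_eq_one h4]
    · rw [Sylow.coe_mapSurjective, hT, MonoidHom.map_range]
  · have hιN : ∀ a : S, ι a ∈ N := fun a => (mem_pullSub.1 (hU.ge a.2)).2
    let κ : S →* N := ι.codRestrict N hιN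
    refine ih (Nat.card N) ?_ N κ ⟨fun a b hab => h.1 (congrArg Subtype.val hab), fun P hP φ hφ => ?_⟩
      ⟨T.subtype (hT.le.trans (by rintro _ ⟨a, rfl⟩; exact hιN a)), ?_⟩ rfl
    · exact lt_of_le_of_ne (Subgroup.card_le_card_group N) fun he => hNt (Subgroup.eq_top_of_card_eq N he)
    · rw [← hD P]
      constructor
      · rintro ⟨-, -, g, hg, hgx⟩
        exact ⟨⟨g, hg⟩, fun x => Subtype.ext (hgx x _ _ rfl rfl)⟩
      · rintro ⟨g, hg⟩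
        refine ⟨hP.trans hU.ge, fun x => hU.ge (hφ x), g, g.2, fun x a b ha hb => ?_⟩
        rw [show a = ⟨x, hP x.2⟩ from Subtype.ext ha, show b = ⟨φ x, hφ x⟩ from Subtype.ext hb]
        exact congrArg Subtype.val (hg x)
    · ext y
      rw [Sylow.coe_subtype, Subgroup.mem_subgroupOf, hT]
      exact ⟨fun ⟨a, ha⟩ => ⟨a, Subtype.ext ha⟩, fun ⟨a, ha⟩ => ⟨a, congrArg Subtype.val ha⟩⟩

end Cfsg.Agent.Fusion
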