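import Cfsg.Prelude.Def_FusionComponents
import Cfsg.Agent.Lib.Fusion.NormalCriteria
import Cfsg.Agent.Lib.Fusion.FactorClosed
import Cfsg.Agent.Lib.Fusion.FunctorReduction

/-!
Solvable saturated systems are constrained.
-/

set_option autoImplicit false

open scoped commutatorElement

namespace Cfsg.Agent.Fusion.SolvCon

open Cfsg Cfsg.FusionSystem

universe u

variable {Ω : Type u} [Group Ω] {S : Subgroup Ω} [Finite S] {F : FusionSystem S} {P Q : Subgroup Ω} {p : ℕ}
  [Fact p.Prime]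

omit [Finite S] [Fact p.Prime] in
theorem stronglyClosed_inf (hP : F.StronglyClosed P) (hQ : F.StronglyClosed Q) :
    F.StronglyClosed (P ⊓ Q) :=
  stronglyClosed_of_apply_mem (inf_le_left.trans hP.1) fun _ _ hR hf _ hx =>
    ⟨stronglyClosed_apply hP hf hx (hR hx).1, stronglyClosed_apply hQ hf hx (hR hx).2⟩

omit [Fact p.Prime] in
theorem mem_sup_centralizerIn (hQS : Q ≤ S) {y : Ω} (hy : y ∈ Q ⊔ centralizerIn S Q) :
    ∃ q ∈ Q, ∃ c ∈ centralizerIn S Q, q * c = y := by
  have hn : centralizerIn S Q ≤ Subgroup.normalizer (Q : Set Ω) :=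
    inf_le_right.trans (centralizer_le_normalizer_set Q)
  replace hy : y ∈ ((Q ⊔ centralizerIn S Q : Subgroup Ω) : Set Ω) := hy
  rw [Subgroup.coe_mul_of_right_le_normalizer_left _ _ hn] at hy
  obtain ⟨q, hq, c, hc, rfl⟩ := Set.mem_mul.1 hy
  exact ⟨q, hq, c, hc, rfl⟩

omit [Fact p.Prime] in
theorem stronglyClosed_sup_centralizerIn (hQ : F.IsNormal Q) :
    F.StronglyClosed (Q ⊔ centralizerIn S Q) := by
  refine stronglyClosed_of_apply_mem (sup_le hQ.1 centralizerIn_le) fun R f hR hf x hx => ?_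
  obtain ⟨k, hk, hke, hkQ⟩ := (isNormal_iff.1 hQ).2 R f hf
  obtain ⟨q, hq, c, hc, rfl⟩ := mem_sup_centralizerIn hQ.1 (hR hx)
  have hqR : q ∈ R ⊔ Q := Subgroup.mem_sup_right hq
  have hcR : c ∈ R ⊔ Q := by
    rw [show c = q⁻¹ * (q * c) by group]
    exact mul_mem (inv_mem hqR) (Subgroup.mem_sup_left hx)
  rw [← hke _ hx, hk.map_mul hqR hcR]
  exact Subgroup.mul_mem_sup (hkQ.apply_mem hq)
    (hk.apply_mem_centralizerIn le_sup_right hkQ hcR hc)

theorem isConstrained_of_solvable (hS : IsPGroup p S) (hF : F.IsSaturated p) (h : F.IsSolvableSystem) :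
    F.IsConstrained p := by
  set Q := F.core with hQdef
  have hQn : F.IsNormal Q := isNormal_core F
  have hQS := hQn.1
  have hSQ := normal_le_normalizer hQn
  by_cases hc : centralizerIn S Q ≤ Q
  · have h1 := (centric_sup_centralizer hS hF hQS hSQ).1
    rw [sup_eq_left.2 hc] at h1
    exact ⟨hF, Q, hQn, h1⟩
  exfalso
  set U := Q ⊔ centralizerIn S Q with hU
  have hUS : U ≤ S := sup_le hQS centralizerIn_le
  have hUc : F.StronglyClosed U := stronglyClosed_sup_centralizerIn hQn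
  -- a largest closed subgroup meeting `U` in `Q`
  obtain ⟨R, hR, hRmax⟩ := Set.Finite.exists_maximal
    (s := {R : Subgroup Ω | F.StronglyClosed R ∧ Q ≤ R ∧ R ⊓ U ≤ Q})
    ((setOf_le_finite S).subset fun R hR => hR.1.1) ⟨Q, normal_stronglyClosed hQn, le_rfl, inf_le_left⟩
  obtain ⟨hRc, hQR, hRU⟩ := hR
  have hRne : R ≠ S := by
    rintro rfl
    rw [inf_eq_right.2 hUS] at hRU
    exact hc (le_sup_right.trans hRU)
  have hRn : (R.subgroupOf S).Normal := ⟨fun x hx a =>
    show ((a * x * a⁻¹ : S) : Ω) ∈ R from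
      conj_mem_of_mem_normalizer (le_normalizer_of_stronglyClosed hRc a.2) hx⟩
  let θ : S →* S ⧸ R.subgroupOf S := QuotientGroup.mk' (R.subgroupOf S)
  have hθ : ∀ s : S, θ s = 1 ↔ (s : Ω) ∈ R := fun s => QuotientGroup.eq_one_iff s
  have hθr : θ.range = (⊤ : Subgroup (S ⧸ R.subgroupOf S)) :=
    MonoidHom.range_eq_top.2 (QuotientGroup.mk'_surjective _)
  obtain ⟨E, hE⟩ := exists_factor (F := F) hθ hθr hRc
  have hEs := factor_saturated hS hF hRc hE
  have hS'p := isPGroup_of_range hS hθr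
  have hM := isNormal_core E
  have hM1 : E.core ≠ ⊥ := h R hRc hRne E hE
  obtain ⟨b, C', hC0, hCl, hCm, hCc, hC⟩ := exists_central_series (p := p) hS'p hM.1
  have hpre : ∀ i, F.StronglyClosed (preimageAlong θ (C' i)) := fun i =>
    preimage_stronglyClosed hS hF hRc hE
      (normal_stronglyClosed (isNormal_of_characteristic hM (hC i).1 (hC i).2))
  have hRpre : ∀ P' : Subgroup (S ⧸ R.subgroupOf S), R ≤ preimageAlong θ P' := fun P' =>
    le_preimageAlong hRc.1 hθ
  set M := preimageAlong θ E.core with hMdef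
  have hMc : F.StronglyClosed M := by rw [hMdef, ← hCl]; exact hpre _
  have hMR : ¬ M ≤ R := fun hle => hM1 (le_bot_iff.1 fun y hy => by
    obtain ⟨x, hx, rfl⟩ := exists_qfun_eq hθr le_top hy
    have hxS := preimageAlong_le hx
    rw [qfun_apply θ hxS]
    exact Subgroup.mem_bot.2 ((hθ _).2 (hle hx)))
  have hMU : ¬ M ⊓ U ≤ Q := fun hle => hMR (hRmax ⟨hMc, hQR.trans (hRpre _), hle⟩ (hRpre _))
  set W := M ⊓ U with hW
  have hQW : Q ≤ W := le_inf (hQR.trans (hRpre _)) le_sup_left
  -- the series through `Q` and the series above it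
  obtain ⟨a, D, hD0, hDl, hDm, hDc, hD⟩ := exists_central_series (p := p) hS hQS
  have hb : b ≠ 0 := by
    rintro rfl
    exact hM1 (by rw [← hCl, show Fin.last 0 = 0 from rfl, hC0])
  let G : ℕ → Subgroup Ω := fun j =>
    if hj : j ≤ a then D ⟨j, by omega⟩ else if hj' : j - a ≤ b then preimageAlong θ (C' ⟨j - a, by omega⟩) ⊓ U
      else ⊥
  have hGD : ∀ j (hj : j ≤ a), G j = D ⟨j, by omega⟩ := fun j hj => dif_pos hj
  have hGC : ∀ j (hj : a < j) (hj' : j ≤ a + b),
      G j = preimageAlong θ (C' ⟨j - a, by omega⟩) ⊓ U := fun j hj hj' => by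
    show dite _ _ _ = _
    rw [dif_neg (by omega), dif_pos (by omega)]
  have hDQ : ∀ i, D i ≤ Q := fun i => hDl ▸ hDm (Fin.le_last i)
  have hlast : G (a + b) = W := by
    rw [hGC _ (by omega) le_rfl, hW, hMdef, ← hCl]
    congr 3
    exact Fin.ext (by simp)
  have hWn : F.IsNormal W := by
    refine (isNormal_iff_series hS hF).2 ⟨stronglyClosed_inf hMc hUc, a + b, fun i => G i,
      by show G 0 = ⊥; rw [hGD 0 (Nat.zero_le _)]; exact hD0, hlast, Fin.monotone_iff_le_succ.2 fun i => ?_,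
      fun i => ?_, fun i => ?_⟩
    · obtain ⟨j, hj⟩ := i
      show G j ≤ G (j + 1)
      rcases lt_trichotomy j a with h1 | h1 | h1
      · rw [hGD _ h1.le, hGD _ h1]
        exact hDm (Fin.mk_le_mk.2 (Nat.le_succ j))
      · rw [hGD _ h1.le, hGC _ (by omega) hj]
        exact le_inf ((hDQ _).trans (hQR.trans (hRpre _))) ((hDQ _).trans le_sup_left)
      · rw [hGC _ h1 hj.le, hGC _ (by omega) hj]
        exact inf_le_inf_right _ fun x hx => mem_preimageAlong.2 ⟨(mem_preimageAlong.1 hx).1,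
          hCm (Fin.mk_le_mk.2 (by omega)) (mem_preimageAlong.1 hx).2⟩
    · obtain ⟨j, hj⟩ := i
      show ⁅G (j + 1), W⁆ ≤ G j
      rcases lt_trichotomy j a with h1 | h1 | h1
      · rw [hGD _ h1.le, hGD _ h1]
        refine Subgroup.commutator_le.2 fun x hx w hw => ?_
        obtain ⟨q, hq, c, hc', rfl⟩ := mem_sup_centralizerIn hQS hw.2
        have he := (mem_centralizerIn.1 hc').2 x (hDQ _ hx)
        have e : ⁅x, q * c⁆ = ⁅x, q⁆ := by
          simp only [commutatorElement_def, mul_inv_rev]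
          calc x * (q * c) * x⁻¹ * (c⁻¹ * q⁻¹) = x * q * (c * x⁻¹ * c⁻¹) * q⁻¹ := by group
            _ = x * q * x⁻¹ * q⁻¹ := by
              rw [show c * x⁻¹ * c⁻¹ = x⁻¹ by
                have h2 := (mem_centralizerIn.1 hc').2 x⁻¹ (inv_mem (hDQ _ hx))
                rw [← h2, mul_inv_cancel_right]]
        rw [e]
        exact hDc ⟨j, h1⟩ (Subgroup.commutator_mem_commutator hx hq)
      all_goals
        refine Subgroup.commutator_le.2 fun x hx w hw => ?_
        rw [hGC _ (by omega) hj] at hx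
        obtain ⟨hxS, hxC⟩ := mem_preimageAlong.1 hx.1
        obtain ⟨hwS, hwM⟩ := mem_preimageAlong.1 hw.1
        have hcU : ⁅x, w⁆ ∈ U := by
          rw [commutatorElement_def]
          exact mul_mem (mul_mem (mul_mem hx.2 hw.2) (inv_mem hx.2)) (inv_mem hw.2)
        have hcC : qfun θ ⁅x, w⁆ ∈ C' ⟨j - a, by omega⟩ := by
          have h2 := hCc ⟨j - a, by omega⟩ (Subgroup.commutator_mem_commutator
            (g₁ := qfun θ x) (g₂ := qfun θ w) (by
              have e : (⟨j + 1 - a, by omega⟩ : Fin (b + 1)) = (⟨j - a, by omega⟩ : Fin b).succ :=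
                Fin.ext (by simp; omega)
              rwa [e] at hxC) hwM)
          rw [qfun_apply θ hxS, qfun_apply θ hwS, ← map_commutatorElement] at h2
          rw [qfun_apply θ (hUS hcU)]
          exact h2
      · subst h1
        rw [hGD _ le_rfl, show (⟨j, by omega⟩ : Fin (j + 1)) = Fin.last j from rfl, hDl]
        refine hRU ⟨?_, hcU⟩
        rw [show (⟨j - j, by omega⟩ : Fin (b + 1)) = 0 from Fin.ext (by simp), hC0, Subgroup.mem_bot,
          qfun_apply θ (hUS hcU)] at hcC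
        exact (hθ _).1 hcC
      · rw [hGC _ h1 hj.le]
        exact ⟨mem_preimageAlong.2 ⟨hUS hcU, hcC⟩, hcU⟩
    · obtain ⟨j, hj⟩ := i
      show F.WeaklyClosed (G j)
      refine weaklyClosed_of_stronglyClosed ?_
      rcases le_or_gt j a with h1 | h1
      · rw [hGD _ h1]
        exact normal_stronglyClosed (isNormal_of_characteristic hQn (hD _).1 (hD _).2)
      · rw [hGC _ h1 hj.le]
        exact stronglyClosed_inf (hpre _) hUc
  exact hMU (le_sSup hWn)

end Cfsg.Agent.Fusion.SolvCon
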