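import Cfsg.Agent.Lib.Fusion.ThompsonFusion
import Cfsg.Agent.Lib.Fusion.SolvableConstrained
import Cfsg.Agent.Lib.Fusion.Inner

/-!
Sparse saturated systems are constrained, at odd primes or without `S₄`.
-/

set_option autoImplicit false

universe v

namespace Cfsg.Agent.Fusion.Sparse

open Cfsg Cfsg.FusionSystem

variable {p : ℕ} [hp : Fact p.Prime]

/-- A normal subgroup of the group of automorphisms gives: an element acting trivially modulo the `p`-core on `K`
lies in the `p`-core, when `K` and a `p`-subgroup containing it generate. -/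
theorem mem_pCore_of_factor {O : Type v} [Group O] [Finite O] {K T : Subgroup O} [hKn : K.Normal]
    (hT : IsPGroup p T) (hKT : ∀ g : O, ∃ k ∈ K, ∃ t ∈ T, g = k * t) {c : O} (hc : c ∈ T)
    (hck : ∀ g : O, ∀ k ∈ K, (g * c * g⁻¹) * k * (g * c * g⁻¹)⁻¹ * k⁻¹ ∈ pCore p O) : c ∈ pCore p O := by
  set Z := pCore p O
  have hZn : Z.Normal := inferInstanceAs (pCore p O).Normal
  have hfac := hck
  -- conjugates of `c` under `T`
  set D := Subgroup.closure {x : O | ∃ t ∈ T, x = t * c * t⁻¹}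
  have hDT : D ≤ T := (Subgroup.closure_le _).2 (by
    rintro _ ⟨t, ht, rfl⟩
    exact T.mul_mem (T.mul_mem ht hc) (T.inv_mem ht))
  have hDZ : IsPGroup p ↥(D ⊔ Z) := (hT.to_le hDT).to_sup_of_normal_right (Solv.isPGroup_pCore p O)
  have hn : (D ⊔ Z).Normal := ⟨fun x hx g => by
    have hle : D ⊔ Z ≤ (D ⊔ Z).comap (MulAut.conj g).toMonoidHom := sup_le ((Subgroup.closure_le _).2 (by
      rintro _ ⟨t, ht, rfl⟩
      show g * (t * c * t⁻¹) * g⁻¹ ∈ D ⊔ Z
      obtain ⟨k, hk, t', ht', he⟩ := hKT (g * t)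
      have h1 : g * (t * c * t⁻¹) * g⁻¹ = k * (t' * c * t'⁻¹) * k⁻¹ := by
        calc g * (t * c * t⁻¹) * g⁻¹ = (g * t) * c * (g * t)⁻¹ := by group
          _ = _ := by rw [he]; group
      have h2 := hfac t' k hk
      rw [h1, show k * (t' * c * t'⁻¹) * k⁻¹ =
        ((t' * c * t'⁻¹) * k * (t' * c * t'⁻¹)⁻¹ * k⁻¹)⁻¹ * (t' * c * t'⁻¹) by group]
      exact mul_mem (Subgroup.mem_sup_right (inv_mem h2))
        (Subgroup.mem_sup_left (Subgroup.subset_closure ⟨t', ht', rfl⟩))))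
      fun z hz => Subgroup.mem_sup_right (hZn.conj_mem z hz g)
    exact hle hx⟩
  exact Solv.le_pCore (hN := hn) hDZ (Subgroup.mem_sup_left (Subgroup.subset_closure ⟨1, one_mem T, by simp⟩))

variable {Ω : Type v} [Group Ω] {S : Subgroup Ω} [Finite S] {F : FusionSystem S}

/-- If the factor by a normal subgroup is inner, `Q C_S(Q)` is normal. -/
theorem isNormal_sup_of_inner_factor (hS : IsPGroup p S) (hF : F.IsSaturated p) {Q : Subgroup Ω}
    (hQn : F.IsNormal Q) {Ω' : Type v} [Group Ω'] {S' : Subgroup Ω'} {θ : S →* Ω'} {E : FusionSystem S'}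
    (hE : F.IsFactorSystem Q θ E) (hinner : E = innerFusionSystem S') :
    F.IsNormal (Q ⊔ centralizerIn S Q) := by
  have hQS := hQn.1
  have hQsc := normal_stronglyClosed hQn
  refine isNormal_of_centric_radical hS hF (SolvCon.stronglyClosed_sup_centralizerIn hQn) fun R hR hRr => ?_
  have hRS := hR.1
  have hQR : Q ≤ R := normal_le_radical hS hQn hR hRr
  have hSQ := normal_le_normalizer hQn
  set C := centralizerIn S Q
  have := finite_autGroup (F := F) hRS
  have := finite_of_le hRS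
  -- automorphisms fixing `Q`
  let Kq : Subgroup (F.autGroup R) :=
    { carrier := {α | ∀ x ∈ Q, autFun (α : MulAut R) x = x}
      one_mem' := fun x hx => by rw [Subgroup.coe_one, autFun_one (hQR hx)]
      mul_mem' := fun {α β} hα hβ x hx => by
        rw [Subgroup.coe_mul, autFun_mul _ _ (hQR hx), hβ x hx, hα x hx]
      inv_mem' := fun {α} hα x hx => by
        have h1 : autFun (↑α⁻¹ : MulAut R) (autFun (α : MulAut R) x) = x := by
          rw [← autFun_mul _ _ (hQR hx), ← Subgroup.coe_mul, inv_mul_cancel, Subgroup.coe_one, autFun_one (hQR hx)]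
        rwa [hα x hx] at h1 }
  have hQinv : ∀ α : F.autGroup R, ∀ x ∈ Q, autFun (α : MulAut R) x ∈ Q := fun α x hx =>
    stronglyClosed_apply hQsc (isMor_of_mem_autGroup hRS α.2) (hQR hx) hx
  have hKqn : Kq.Normal := ⟨fun α hα γ x hx => by
    have hy := hQinv γ⁻¹ x hx
    rw [Subgroup.coe_mul, Subgroup.coe_mul, autFun_mul _ _ (hQR hx), autFun_mul _ _ (autFun_mem _ (hQR hx)),
      hα _ hy, ← autFun_mul _ _ (hQR hx), ← Subgroup.coe_mul, mul_inv_cancel, Subgroup.coe_one, autFun_one (hQR hx)]⟩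
  set K := modKer F Q R with hK
  have hKn : K.Normal := modKer_normal hQsc hRS
  have hStp : IsPGroup p ↥(K ⊓ Kq) := by
    rintro ⟨α, hαK, hαQ⟩
    obtain ⟨k, hk⟩ := exists_pow_eq_one_of_stabilizes (p := p) (hS.to_le hRS) (m := 2)
      (fun i => if i = 0 then ⊥ else if i = 1 then Q.subgroupOf R else ⊤) (α := (α : MulAut R)) (by simp) (by simp)
      (fun i hi => by rcases (show i = 0 ∨ i = 1 by omega) with rfl | rfl <;> simp) fun i hi x hx => by
        rcases (show i = 0 ∨ i = 1 by omega) with rfl | rfl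
        · simp only [Nat.zero_add, one_ne_zero, if_false, if_true] at hx
          simp only [if_true, Subgroup.mem_bot]
          refine Subtype.ext ?_
          rw [Subgroup.coe_mul, Subgroup.coe_inv, ← autFun_coe, show autFun (α : MulAut R) (x : Ω) = x from hαQ _ hx, inv_mul_cancel]
          rfl
        · simp only [one_ne_zero, if_false, if_true]
          rw [Subgroup.mem_subgroupOf, Subgroup.coe_mul, Subgroup.coe_inv, ← autFun_coe]
          exact hαK _ x.2
    exact ⟨k, Subtype.ext (Subtype.ext (by simpa using hk))⟩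
  have hStn : (K ⊓ Kq).Normal := ⟨fun x hx g => ⟨hKn.conj_mem x hx.1 g, hKqn.conj_mem x hx.2 g⟩⟩
  have hStZ : K ⊓ Kq ≤ pCore p (F.autGroup R) := Solv.le_pCore (hN := hStn) hStp
  set T := (autInducedBy S R).subgroupOf (F.autGroup R)
  have hTp : IsPGroup p T :=
    (isPGroup_autInducedBy hS R).of_equiv (Subgroup.subgroupOfEquivOfLe (autInducedBy_le_autGroup hRS)).symm
  have hKT : ∀ g : F.autGroup R, ∃ k ∈ K, ∃ t ∈ T, g = k * t := by
    intro g
    obtain ⟨f', hf', hi'⟩ := factor_isMor_of hS hF hQsc hE (isMor_of_mem_autGroup hRS g.2)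
    rw [hinner] at hf'
    obtain ⟨-, a', ha', hax⟩ := isMor_inner.1 hf'
    obtain ⟨a, ha, rfl⟩ := exists_qfun_eq hE.2.2.1 (le_refl S') ha'
    have haS : a ∈ S := preimageAlong_le ha
    have hmod : ∀ x ∈ R, (a * x * a⁻¹)⁻¹ * autFun (g : MulAut R) x ∈ Q := fun x hx => by
      have hxS := hRS hx
      have hgS : autFun (g : MulAut R) x ∈ S := hRS (autFun_mem _ hx)
      have hcS : a * x * a⁻¹ ∈ S := S.mul_mem (S.mul_mem haS hxS) (S.inv_mem haS)
      have e := hax _ (imageAlong_mem hRS hx)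
      rw [hi' x hx, qfun_apply θ hgS, qfun_apply θ haS, qfun_apply θ hxS, ← map_inv, ← map_mul, ← map_mul] at e
      have h1 : θ (((⟨a, haS⟩ * ⟨x, hxS⟩ * ⟨a, haS⟩⁻¹ : S))⁻¹ * ⟨_, hgS⟩) = 1 := by
        rw [map_mul, map_inv, ← e, inv_mul_cancel]
      exact (hE.2.1 _).1 h1
    have haR : a ∈ normalizerIn S R := ⟨haS, mem_normalizer_of_conj_mem hRS fun x hx => by
      have h1 := hmod x hx
      have h2 : a * x * a⁻¹ = autFun (g : MulAut R) x * ((a * x * a⁻¹)⁻¹ * autFun (g : MulAut R) x)⁻¹ := by group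
      rw [h2]
      exact R.mul_mem (autFun_mem _ hx) (R.inv_mem (hQR h1))⟩
    obtain ⟨h1, h2⟩ := conjAut_mem (F := F) hRS haR
    set t : F.autGroup R := ⟨_, h2⟩
    refine ⟨g * t⁻¹, fun x hx => ?_, t, h1, (inv_mul_cancel_right g t).symm⟩
    set y := autFun ((t⁻¹ : F.autGroup R) : MulAut R) x with hy
    have hyR : y ∈ R := autFun_mem _ hx
    have e : a * y * a⁻¹ = x := by
      have h3 : autFun (t : MulAut R) y = x := by
        rw [hy, ← autFun_mul _ _ hx, ← Subgroup.coe_mul, mul_inv_cancel, Subgroup.coe_one, autFun_one hx]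
      rwa [autFun_apply _ hyR] at h3
    rw [Subgroup.coe_mul, autFun_mul _ _ hx, ← hy]
    have := hmod y hyR
    rwa [e] at this
  have hCR : normalizerIn C R ≤ R := by
    intro x hx
    obtain ⟨hxS, hxQ⟩ := mem_centralizerIn.1 hx.1
    have hxN : x ∈ normalizerIn S R := ⟨hxS, hx.2⟩
    obtain ⟨h1, h2⟩ := conjAut_mem (F := F) hRS hxN
    set c : F.autGroup R := ⟨_, h2⟩
    have hcQ : c ∈ Kq := fun q hq => by
      rw [autFun_apply _ (hQR hq)]
      show x * q * x⁻¹ = q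
      rw [← hxQ q hq, mul_inv_cancel_right]
    refine mem_of_conjAut_mem_inn (centralizerIn_le_of_isCentric hR) hRS hxN ?_
    rw [← hRr.2]
    refine ⟨c, mem_pCore_of_factor hTp hKT h1 (fun g k hk => hStZ ⟨?_, ?_⟩), rfl⟩
    · refine K.mul_mem ?_ (K.inv_mem hk)
      exact hKn.conj_mem k hk _
    · have hgc := hKqn.conj_mem c hcQ g
      rw [show (g * c * g⁻¹) * k * (g * c * g⁻¹)⁻¹ * k⁻¹ = (g * c * g⁻¹) * (k * (g * c * g⁻¹)⁻¹ * k⁻¹) by group]
      exact Kq.mul_mem hgc (hKqn.conj_mem _ (Kq.inv_mem hgc) k)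
  refine sup_le hQR ?_
  by_contra hC
  have hlt : R < R ⊔ C := lt_of_le_of_ne le_sup_left fun h => hC (h ▸ le_sup_right)
  have hCn : S ≤ Subgroup.normalizer (C : Set Ω) := fun a ha => mem_normalizer_of_conj_mem centralizerIn_le
    fun c hc => mem_centralizerIn.2 ⟨mul_mem (mul_mem ha (mem_centralizerIn.1 hc).1) (inv_mem ha), fun q hq => by
      have h1 := (mem_centralizerIn.1 hc).2 _ ((Subgroup.mem_normalizer_iff''.1 (hSQ ha) q).1 hq)
      calc q * (a * c * a⁻¹) = a * ((a⁻¹ * q * a) * c) * a⁻¹ := by group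
        _ = a * (c * (a⁻¹ * q * a)) * a⁻¹ := by rw [h1]
        _ = a * c * a⁻¹ * q := by group⟩
  have := finite_of_le (sup_le hRS (centralizerIn_le : C ≤ S))
  obtain ⟨u, hu, huP⟩ := SetLike.exists_of_lt
    (normalizerIn_self_lt (p := p) (hS.to_le (sup_le hRS (centralizerIn_le : C ≤ S))) hlt)
  obtain ⟨hu1, hu2⟩ := hu
  replace hu1 : u ∈ ((R ⊔ C : Subgroup Ω) : Set Ω) := hu1
  rw [Subgroup.coe_mul_of_left_le_normalizer_right _ _ (hRS.trans hCn)] at hu1
  obtain ⟨x, hx, c, hc, rfl⟩ := Set.mem_mul.1 hu1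
  have hcn : c ∈ Subgroup.normalizer (R : Set Ω) := by
    have := mul_mem (inv_mem (Subgroup.le_normalizer hx)) hu2
    rwa [inv_mul_cancel_left] at this
  exact huP (mul_mem hx (hCR ⟨hc, hcn⟩))

/-- A sparse system is constrained. -/
theorem isConstrained_of_sparse (hS : IsPGroup p S) (hF : F.IsSaturated p)
    (hsp : ∀ E : FusionSystem S, E.IsSaturated p → E.IsSubsystemOf F →
      E = F ∨ E = innerFusionSystem S) (hfree : Free p F) : F.IsConstrained p := by
  set Q := F.core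
  have hQn : F.IsNormal Q := isNormal_core F
  have hQS := hQn.1
  have hSQ := normal_le_normalizer hQn
  by_cases hc : centralizerIn S Q ≤ Q
  · have h1 := (centric_sup_centralizer hS hF hQS hSQ).1
    rw [sup_eq_left.2 hc] at h1
    exact ⟨hF, Q, hQn, h1⟩
  exfalso
  -- a subgroup normal in `S` with noninner normalizer is normal
  have hdich : ∀ V : Subgroup Ω, V ≤ S → S ≤ Subgroup.normalizer (V : Set Ω) → ¬ NormInner F V → F.IsNormal V := by
    intro V hVS hSV hV
    obtain ⟨E, hEs, hEF, hEV, hiff⟩ := exists_normalizer_top hS hF hVS hSV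
    rcases hsp E hEs (fun A φ hφ => hEF A hφ) with rfl | h
    · exact hEV
    refine absurd (fun A k hk hkV hA => ?_) hV
    have hm : IsMor E (A ⊔ V) k := (hiff _ _).2
      ⟨sup_le (hA.trans normalizerIn_le) hVS, k, by rwa [sup_assoc, sup_idem], fun _ _ => rfl, hkV⟩
    rw [h] at hm
    obtain ⟨-, a, ha, hax⟩ := isMor_inner.1 hm
    exact ⟨a, ⟨ha, hSV ha⟩, fun x hx => hax x (Subgroup.mem_sup_left hx)⟩
  set Qs := Q.subgroupOf S
  have hQsn : Qs.Normal := ⟨fun x hx a =>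
    show ((a * x * a⁻¹ : S) : Ω) ∈ Q from conj_mem_of_mem_normalizer (hSQ a.2) hx⟩
  let θ : S →* S ⧸ Qs := QuotientGroup.mk' Qs
  have hθ : ∀ s : S, θ s = 1 ↔ (s : Ω) ∈ Q := fun s => QuotientGroup.eq_one_iff s
  have hθr : θ.range = (⊤ : Subgroup (S ⧸ Qs)) :=
    MonoidHom.range_eq_top.2 (QuotientGroup.mk'_surjective _)
  have hQsc := normal_stronglyClosed hQn
  obtain ⟨E', hE'⟩ := exists_factor (F := F) hθ hθr hQsc
  have hE's := factor_saturated hS hF hQsc hE'
  have hS'p := isPGroup_of_range hS hθr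
  have hfree' : Free p E' := hfree.imp_right fun h => sectionFree_factor hS hF hQsc h hE'
  have htop : (⊤ : Subgroup (S ⧸ Qs)) ≠ ⊥ := fun h0 => hc fun c hcS =>
    (hθ ⟨c, hcS.1⟩).1 (Subgroup.mem_bot.1 (h0 ▸ Subgroup.mem_top (θ ⟨c, hcS.1⟩)))
  by_cases hin : E' = innerFusionSystem (⊤ : Subgroup (S ⧸ Qs))
  · exact hc (le_sup_right.trans (le_sSup (isNormal_sup_of_inner_factor hS hF hQn hE' hin)))
  obtain ⟨i, hi⟩ : ∃ i, ¬ NormInner E' ((thompsonFamily.{v} p i).W (⊤ : Subgroup (S ⧸ Qs))) := by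
    by_contra h
    push_neg at h
    exact hin (eq_inner_of_thompson hS'p hE's hfree' (h false) (h true))
  set W' := (thompsonFamily.{v} p i).W (⊤ : Subgroup (S ⧸ Qs))
  have hW'n : ∀ y : S ⧸ Qs, y ∈ Subgroup.normalizer (W' : Set (S ⧸ Qs)) := fun y =>
    (thompsonFamily.{v} p i).mem_normalizer (S := (⊤ : Subgroup (S ⧸ Qs))) le_rfl (Subgroup.mem_top y)
      (Subgroup.le_normalizer (Subgroup.mem_top y))
  set V := preimageAlong θ W'
  have hV : ∀ x, x ∈ V ↔ x ∈ S ∧ qfun θ x ∈ W' := fun x => mem_preimageAlong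
  have hSV : S ≤ Subgroup.normalizer (V : Set Ω) := fun a ha =>
    mem_normalizer_of_conj_mem preimageAlong_le fun x hx => by
      obtain ⟨hxS, hxW⟩ := (hV x).1 hx
      refine (hV _).2 ⟨S.mul_mem (S.mul_mem ha hxS) (S.inv_mem ha), ?_⟩
      rw [qfun_mul θ (S.mul_mem ha hxS) (S.inv_mem ha), qfun_mul θ ha hxS, qfun_inv θ ha]
      exact conj_mem_of_mem_normalizer (hW'n _) hxW
  have hVn : F.IsNormal V := hdich V preimageAlong_le hSV fun hinner => hi fun A' k' hk' hk'W hA' => by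
    obtain ⟨-, k, hk, hki⟩ := hk'.factor_lift hE'
    set B := preimageAlong θ (A' ⊔ W')
    have hVB : V ≤ B := fun z hz =>
      mem_preimageAlong.2 ⟨((hV z).1 hz).1, Subgroup.mem_sup_right ((hV z).1 hz).2⟩
    have hkV : IsIso F V V k := (hk.restrict hVB).isIso_self fun z hz => (hV _).2 ⟨hk.mem (hVB hz), by
      rw [← hki z (hVB hz)]; exact hk'W.apply_mem ((hV z).1 hz).2⟩
    obtain ⟨a, ha, hax⟩ := hinner B k (by rwa [sup_eq_left.2 hVB]) hkV
      (fun b hb => ⟨preimageAlong_le hb, hSV (preimageAlong_le hb)⟩)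
    refine ⟨θ ⟨a, ha.1⟩, ⟨Subgroup.mem_top _, hW'n _⟩, fun y hy => ?_⟩
    obtain ⟨x, hx, rfl⟩ := exists_qfun_eq hθr le_top hy
    have hxS := preimageAlong_le hx
    have hxB : x ∈ B := mem_preimageAlong.2 ⟨hxS, Subgroup.mem_sup_left hy⟩
    rw [hki x hxB, hax x hxB, qfun_mul θ (S.mul_mem ha.1 hxS) (S.inv_mem ha.1), qfun_mul θ ha.1 hxS, qfun_inv θ ha.1,
      qfun_apply θ ha.1]
  refine (thompsonFamily.{v} p i).ne (⊤ : Subgroup (S ⧸ Qs)) hS'p htop (le_bot_iff.1 fun y hy => ?_)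
  obtain ⟨x, hx, rfl⟩ := exists_qfun_eq hθr le_top hy
  have hxS := preimageAlong_le hx
  rw [qfun_apply θ hxS]
  have hle : V ≤ F.core := le_sSup hVn
  exact Subgroup.mem_bot.2 ((hθ _).2 (hle hx))

end Cfsg.Agent.Fusion.Sparse
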