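import Mathlib
import Cfsg.Agent.Lib.Fusion.FactorClosed
import Cfsg.Agent.Lib.Fusion.ExtremelySparse

/-!
Abelian `p`-groups all of whose saturated fusion systems have a chain of strongly closed subgroups
with cyclic steps.
-/

set_option autoImplicit false

namespace Cfsg.Agent.Fusion.SupersolAbelian

open Cfsg Cfsg.FusionSystem Cfsg.Agent.Fusion

variable {Ω : Type*} [Group Ω] {S : Subgroup Ω} {p : ℕ}

/-- The system of all injective maps inside `S`. -/
def fullSystem (S : Subgroup Ω) : FusionSystem S where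
  Hom P := {φ | P ≤ S ∧ (∀ x : P, φ x ∈ S) ∧ Function.Injective φ}
  le_of_mem h := ⟨h.1, h.2.1⟩
  injective_of_mem h := h.2.2
  conj_mem := by
    intro P g hP hg
    refine ⟨hP, fun x => S.mul_mem (S.mul_mem hg (hP x.2)) (S.inv_mem hg), fun a b h => ?_⟩
    exact Subtype.ext ((MulAut.conj g).injective h)
  comp_mem := by
    rintro P Q φ ψ hφ hψ h
    refine ⟨hφ.1, fun x => hψ.2.1 _, fun a b hab => hφ.2.2 ?_⟩
    exact congrArg Subtype.val (hψ.2.2 hab)
  inv_mem := by
    rintro P φ hφ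
    refine ⟨P.subtype.comp (MonoidHom.ofInjective hφ.2.2).symm.toMonoidHom, ⟨?_, ?_, ?_⟩, fun x => ?_⟩
    · rintro _ ⟨x, rfl⟩
      exact hφ.2.1 x
    · exact fun y => hφ.1 ((MonoidHom.ofInjective hφ.2.2).symm y).2
    · exact Subtype.val_injective.comp (MonoidHom.ofInjective hφ.2.2).symm.injective
    · have : (MonoidHom.ofInjective hφ.2.2).symm ⟨φ x, ⟨x, rfl⟩⟩ = x :=
        (MulEquiv.symm_apply_eq _).2 (Subtype.ext rfl)
      exact congrArg Subtype.val this

theorem mem_autGroup_full (β : MulAut S) : β ∈ (fullSystem S).autGroup S :=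
  Subgroup.subset_closure ⟨le_rfl, fun x => (β x).2, Subtype.val_injective.comp β.injective⟩

/-- Characteristic subgroups of an abelian `S` are strongly closed. -/
theorem stronglyClosed_of_char [Finite S] [Fact p.Prime] (hS : IsPGroup p S)
    (hab : IsMulCommutative S) {F : FusionSystem S} (hF : F.IsSaturated p) (C : Subgroup S)
    (hC : ∀ β : MulAut S, ∀ x ∈ C, β x ∈ C) : F.StronglyClosed (C.map S.subtype) := by
  have hsc : F.StronglyClosed S := ⟨le_rfl, fun R _ φ hφ x => (F.le_of_mem hφ).2 x⟩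
  have hcomm : ⁅S, S⁆ = ⊥ := by
    rw [Subgroup.commutator_eq_bot_iff_le_centralizer]
    intro x hx y hy
    exact congrArg Subtype.val (hab.1.1 ⟨y, hy⟩ ⟨x, hx⟩)
  obtain ⟨-, hN⟩ := isNormal_of_abelian hS hF hsc hcomm
  refine ⟨Subgroup.map_subtype_le C, fun R hR φ hφ x => ?_⟩
  obtain ⟨ψ, hψ, he, -⟩ := hN R φ hφ
  let β₀ : S →* S := (ψ.comp (Subgroup.inclusion (le_sup_right : S ≤ R ⊔ S))).codRestrict S
    fun y => (F.le_of_mem hψ).2 _
  have hinj : Function.Injective β₀ := fun a b h => Subgroup.inclusion_injective _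
    (F.injective_of_mem hψ (congrArg Subtype.val h))
  let β : MulAut S := MulEquiv.ofBijective β₀ (Finite.injective_iff_bijective.1 hinj)
  obtain ⟨c, hc, hcx⟩ := hR x.2
  refine ⟨β c, hC β c hc, ?_⟩
  show ψ (Subgroup.inclusion _ c) = φ x
  rw [← he x]
  exact congrArg ψ (Subtype.ext hcx)

section Layers

variable {A : Type*} [CommGroup A]

/-- The elements killed by `p` which are `p ^ c`-th powers. -/
def layer (A : Type*) [CommGroup A] (p c : ℕ) : Subgroup A :=
  (powMonoidHom (p ^ c) : A →* A).range ⊓ (powMonoidHom p : A →* A).ker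

/-- The refinement of the series of the `A[p ^ a]`. -/
def refined (A : Type*) [CommGroup A] (p a b : ℕ) : Subgroup A :=
  (layer A p (a + b)).comap (powMonoidHom (p ^ a) : A →* A)

theorem layer_succ_le (c : ℕ) : layer A p (c + 1) ≤ layer A p c := by
  rintro x ⟨⟨y, rfl⟩, h⟩
  exact ⟨⟨y ^ p, by simp only [powMonoidHom_apply]; rw [← pow_mul, pow_succ']⟩, h⟩

theorem refined_mem_of_aut (β : A ≃* A) (a b : ℕ) {x : A} (hx : x ∈ refined A p a b) :
    β x ∈ refined A p a b := by
  obtain ⟨⟨y, hy⟩, h⟩ := hx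
  refine ⟨⟨β y, ?_⟩, ?_⟩
  · simp only [powMonoidHom_apply] at hy ⊢
    rw [← map_pow, hy, map_pow]
  · replace h : (x ^ p ^ a) ^ p = 1 := h
    show (β x ^ p ^ a) ^ p = 1
    rw [← map_pow, ← map_pow, h, map_one]

theorem refined_step (a b : ℕ) (t : A) (ht : t ∈ layer A p (a + b))
    (hgen : layer A p (a + b) ≤ layer A p (a + (b + 1)) ⊔ Subgroup.zpowers t) :
    ∃ x, refined A p a b = refined A p a (b + 1) ⊔ Subgroup.zpowers x := by
  obtain ⟨y, hy⟩ := ht.1
  refine ⟨y ^ p ^ b, le_antisymm ?_ (sup_le ?_ ?_)⟩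
  · intro z hz
    obtain ⟨u, hu, v, ⟨k, rfl⟩, huv⟩ := Subgroup.mem_sup.1 (hgen hz)
    have hpow : (y ^ p ^ b) ^ p ^ a = t := by
      rw [← pow_mul, ← pow_add, add_comm]; exact hy
    refine Subgroup.mem_sup.2 ⟨z * ((y ^ p ^ b) ^ k)⁻¹, ?_, _, ⟨k, rfl⟩, inv_mul_cancel_right _ _⟩
    show (z * ((y ^ p ^ b) ^ k)⁻¹) ^ p ^ a ∈ layer A p (a + (b + 1))
    rw [mul_pow, inv_pow, ← zpow_natCast ((y ^ p ^ b) ^ k), ← zpow_mul, mul_comm k, zpow_mul,
      zpow_natCast, hpow]
    rw [powMonoidHom_apply] at huv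
    rw [← huv, mul_inv_cancel_right]
    exact hu
  · exact Subgroup.comap_mono (by rw [← add_assoc]; exact layer_succ_le _)
  · rw [Subgroup.zpowers_le]
    show (y ^ p ^ b) ^ p ^ a ∈ layer A p (a + b)
    rw [← pow_mul, ← pow_add, show b + a = a + b from add_comm b a]
    rw [powMonoidHom_apply] at hy
    rw [hy]
    exact ht

theorem zmod_layer [hp : Fact p.Prime] {e c : ℕ} (z w : ZMod (p ^ e)) (hz : z = (p ^ c) • w)
    (hpz : p • z = 0) :
    (e ≤ c → z = 0) ∧ (c + 1 < e → ∃ w', z = (p ^ (c + 1)) • w') := by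
  refine ⟨fun h => ?_, fun h => ?_⟩
  · rw [hz, nsmul_eq_mul, Nat.cast_pow]
    have : ((p : ZMod (p ^ e)) ^ c) = 0 := by
      rw [← Nat.cast_pow]; exact (ZMod.natCast_eq_zero_iff _ _).2 (pow_dvd_pow p h)
    rw [this, zero_mul]
  · haveI : NeZero (p ^ e) := ⟨pow_ne_zero _ hp.1.ne_zero⟩
    have h1 : ((p ^ (c + 1) * w.val : ℕ) : ZMod (p ^ e)) = 0 := by
      rw [Nat.cast_mul, ZMod.natCast_zmod_val, ← nsmul_eq_mul, pow_succ', mul_smul, ← hz, hpz]
    rw [ZMod.natCast_eq_zero_iff] at h1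
    have h2 : p ∣ w.val := by
      have h3 : p ^ (c + 1) * p ∣ p ^ (c + 1) * w.val :=
        dvd_trans (by rw [← pow_succ]; exact pow_dvd_pow p h) h1
      exact Nat.dvd_of_mul_dvd_mul_left (pow_pos hp.1.pos _) h3
    obtain ⟨q, hq⟩ := h2
    refine ⟨(q : ZMod (p ^ e)), ?_⟩
    rw [hz, ← ZMod.natCast_zmod_val w, hq, nsmul_eq_mul, nsmul_eq_mul]
    push_cast
    ring

theorem layer_cyclic_step [hp : Fact p.Prime] {ι : Type*} [Fintype ι] (e : ι → ℕ)
    (he : Function.Injective e)
    (E : A ≃* ((i : ι) → Multiplicative (ZMod (p ^ e i)))) (c : ℕ) :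
    ∃ t ∈ layer A p c, layer A p c ≤ layer A p (c + 1) ⊔ Subgroup.zpowers t := by
  classical
  have hcomp : ∀ z ∈ layer A p c, ∀ i, ∃ w : ZMod (p ^ e i),
      Multiplicative.toAdd (E z i) = (p ^ c) • w ∧ p • Multiplicative.toAdd (E z i) = 0 := by
    rintro z ⟨⟨y, hy⟩, hz⟩ i
    simp only [powMonoidHom_apply] at hy
    replace hz : z ^ p = 1 := hz
    refine ⟨Multiplicative.toAdd (E y i), ?_, ?_⟩
    · rw [← hy, map_pow, Pi.pow_apply, toAdd_pow]
    · rw [← toAdd_pow, ← Pi.pow_apply, ← map_pow, hz, map_one, Pi.one_apply, toAdd_one]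
  have hbuild : ∀ (z : A), z ∈ layer A p c → ∀ (d : ℕ) (f : (i : ι) → ZMod (p ^ e i)),
      (∀ i, Multiplicative.toAdd (E z i) = (p ^ d) • f i) → z ∈ layer A p d := by
    intro z hz d f hf
    refine ⟨⟨E.symm fun i => Multiplicative.ofAdd (f i), ?_⟩, hz.2⟩
    rw [powMonoidHom_apply, ← map_pow, MulEquiv.symm_apply_eq]
    funext i
    apply Multiplicative.toAdd.injective
    rw [Pi.pow_apply, toAdd_pow, hf i]
    rfl
  by_cases hex : ∃ i, e i = c + 1
  · obtain ⟨i₀, hi₀⟩ := hex
    set t := E.symm (Pi.mulSingle i₀ (Multiplicative.ofAdd ((p ^ c : ℕ) • (1 : ZMod (p ^ e i₀))))) with ht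
    have htm : t ∈ layer A p c := by
      refine ⟨⟨E.symm (Pi.mulSingle i₀ (Multiplicative.ofAdd (1 : ZMod (p ^ e i₀)))), ?_⟩, ?_⟩
      · rw [powMonoidHom_apply, ← map_pow, ← Pi.mulSingle_pow, ← ofAdd_nsmul, ht]
      · show t ^ p = 1
        rw [ht, ← map_pow,
          ← Pi.mulSingle_pow, ← ofAdd_nsmul, ← mul_smul, ← pow_succ']
        rw [show p ^ (c + 1) = p ^ e i₀ by rw [hi₀], nsmul_one, ZMod.natCast_self, ofAdd_zero,
          Pi.mulSingle_one, map_one]
    refine ⟨t, htm, fun z hz => ?_⟩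
    obtain ⟨w, hw, -⟩ := hcomp z hz i₀
    haveI : NeZero (p ^ e i₀) := ⟨pow_ne_zero _ hp.1.ne_zero⟩
    refine Subgroup.mem_sup.2 ⟨z * (t ^ w.val)⁻¹, ?_, t ^ w.val,
      pow_mem (Subgroup.mem_zpowers t) _, inv_mul_cancel_right _ _⟩
    have hz' : z * (t ^ w.val)⁻¹ ∈ layer A p c :=
      (layer A p c).mul_mem hz ((layer A p c).inv_mem (pow_mem htm _))
    have hf : ∀ i, ∃ w' : ZMod (p ^ e i),
        Multiplicative.toAdd (E (z * (t ^ w.val)⁻¹) i) = (p ^ (c + 1)) • w' := by
      intro i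
      rw [map_mul, map_inv, map_pow, ht, MulEquiv.apply_symm_apply, Pi.mul_apply, Pi.inv_apply,
        Pi.pow_apply, toAdd_mul, toAdd_inv, toAdd_pow]
      by_cases hi : i = i₀
      · subst hi
        refine ⟨0, ?_⟩
        rw [Pi.mulSingle_eq_same, hw, toAdd_ofAdd, smul_zero, nsmul_eq_mul, nsmul_eq_mul,
          nsmul_eq_mul, mul_one, ZMod.natCast_zmod_val]
        ring
      · obtain ⟨w', hw', hpz⟩ := hcomp z hz i
        rw [Pi.mulSingle_eq_of_ne hi, toAdd_one, smul_zero, neg_zero, add_zero]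
        rcases lt_trichotomy (e i) (c + 1) with h | h | h
        · exact ⟨0, by rw [(zmod_layer _ _ hw' hpz).1 (Nat.lt_succ_iff.1 h), smul_zero]⟩
        · exact absurd (he (h.trans hi₀.symm)) hi
        · exact (zmod_layer _ _ hw' hpz).2 h
    choose f hf using hf
    exact hbuild _ hz' _ f hf
  · refine ⟨1, (layer A p c).one_mem, fun z hz => Subgroup.mem_sup_left ?_⟩
    push Not at hex
    have hf : ∀ i, ∃ w' : ZMod (p ^ e i), Multiplicative.toAdd (E z i) = (p ^ (c + 1)) • w' := by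
      intro i
      obtain ⟨w', hw', hpz⟩ := hcomp z hz i
      rcases lt_trichotomy (e i) (c + 1) with h | h | h
      · exact ⟨0, by rw [(zmod_layer _ _ hw' hpz).1 (Nat.lt_succ_iff.1 h), smul_zero]⟩
      · exact absurd h (hex i)
      · exact (zmod_layer _ _ hw' hpz).2 h
    choose f hf using hf
    exact hbuild _ hz _ f hf

end Layers

/-- An automorphism of order prime to `p` with no invariant subgroup of order `p` inside a repeated pair. -/
theorem exists_irreducible_aut [hp : Fact p.Prime] {D H : Type*} [CommGroup D] [CommGroup H] [Finite D]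
    {n : ℕ} (hn : 0 < n)
    (E : D ≃* (Multiplicative (ZMod (p ^ n)) × Multiplicative (ZMod (p ^ n))) × H) :
    ∃ (β : MulAut D) (V : Subgroup D), (orderOf β).Coprime p ∧ Nat.card V = p ^ 2 ∧
      (∀ v ∈ V, v ^ p = 1) ∧ (∀ v ∈ V, β v ∈ V) ∧ ∀ v ∈ V, v ≠ 1 → β v ∉ Subgroup.zpowers v := by
  classical
  set N := p ^ n with hN
  haveI : NeZero N := ⟨pow_ne_zero _ hp.1.ne_zero⟩
  let C := Multiplicative (ZMod N)
  obtain ⟨c, hc⟩ : ∃ c : ℕ, ∀ x : ZMod p, x * x - x ≠ (c : ZMod p) := by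
    have hns : ¬ Function.Surjective (fun x : ZMod p => x * x - x) := by
      intro hs
      have := (Finite.injective_iff_surjective.2 hs) (show (0 : ZMod p) * 0 - 0 = 1 * 1 - 1 by simp)
      exact zero_ne_one this
    simp only [Function.Surjective, not_forall, not_exists] at hns
    obtain ⟨c, hc⟩ := hns
    exact ⟨c.val, fun x => by rw [ZMod.natCast_zmod_val]; exact hc x⟩
  have hcp : ¬ p ∣ c := fun h => hc 0 (by rw [(ZMod.natCast_eq_zero_iff _ _).2 h]; simp)
  let M₀ : C × C →* C × C :=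
    ((powMonoidHom c).comp (MonoidHom.snd C C)).prod ((MonoidHom.fst C C) * (MonoidHom.snd C C))
  have hM₀ : Function.Bijective M₀ := by
    refine Finite.injective_iff_bijective.1 ((MonoidHom.ker_eq_bot_iff _).1 ((Subgroup.eq_bot_iff_forall _).2 ?_))
    rintro ⟨a, b⟩ h
    have h' : b ^ c = 1 ∧ a * b = 1 := Prod.ext_iff.1 h
    have hb : b = 1 := by
      have h1 : orderOf b ∣ c := orderOf_dvd_of_pow_eq_one h'.1
      have h2 : orderOf b ∣ N := by
        refine (orderOf_dvd_natCard b).trans ?_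
        rw [show Nat.card C = N from (Nat.card_congr Multiplicative.toAdd).trans (Nat.card_zmod N)]
      obtain ⟨k, -, hk⟩ := (Nat.dvd_prime_pow hp.1).1 h2
      rw [← orderOf_eq_one_iff]
      rw [hk] at h1 ⊢
      rcases k with _ | k
      · rfl
      · exact absurd (dvd_trans (dvd_pow_self p k.succ_ne_zero) h1) hcp
    rw [hb, mul_one] at h'
    rw [hb, h'.2]
    rfl
  let M : MulAut D := E.trans (((MulEquiv.ofBijective M₀ hM₀).prodCongr (MulEquiv.refl H)).trans E.symm)
  let i : C × C →* D := E.symm.toMonoidHom.comp (MonoidHom.inl (C × C) H)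
  have hi : Function.Injective i := fun a b h => (Prod.ext_iff.1 (E.symm.injective h)).1
  have hMi : ∀ v, M (i v) = i (M₀ v) := by
    intro v
    show E.symm (((MulEquiv.ofBijective M₀ hM₀).prodCongr (MulEquiv.refl H)) (E (E.symm (v, 1)))) = E.symm (M₀ v, 1)
    rw [E.apply_symm_apply]
    rfl
  let V : Subgroup D := ((powMonoidHom p : C × C →* C × C).ker).map i
  have hVp : ∀ v ∈ V, v ^ p = 1 := by
    rintro _ ⟨v, hv, rfl⟩
    rw [← map_pow, show v ^ p = 1 from hv, map_one]
  have hVM : ∀ v ∈ V, M v ∈ V := by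
    rintro _ ⟨v, hv, rfl⟩
    rw [hMi]
    refine ⟨M₀ v, ?_, rfl⟩
    show (M₀ v) ^ p = 1
    rw [← map_pow, show v ^ p = 1 from hv, map_one]
  have hVcard : Nat.card V = p ^ 2 := by
    rw [Subgroup.card_map_of_injective hi]
    have e : (powMonoidHom p : C × C →* C × C).ker =
        ((powMonoidHom p : C →* C).ker).prod ((powMonoidHom p : C →* C).ker) := by
      ext ⟨a, b⟩
      simp [Subgroup.mem_prod, Prod.ext_iff]
    have hk : Nat.card (powMonoidHom p : C →* C).ker = p := by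
      rw [IsCyclic.card_powMonoidHom_ker]
      rw [show Nat.card C = N from (Nat.card_congr Multiplicative.toAdd).trans (Nat.card_zmod N)]
      exact Nat.gcd_eq_right (dvd_pow_self p hn.ne')
    rw [e, Nat.card_congr (Subgroup.prodEquiv _ _).toEquiv, Nat.card_prod, hk, pow_two]
  have hline : ∀ v ∈ V, v ≠ 1 → M v ∉ Subgroup.zpowers v := by
    rintro _ ⟨⟨a, b⟩, hv, rfl⟩ hne ⟨l, hl⟩
    have hl' : M₀ (a, b) = (a, b) ^ l := hi ((hMi _).symm.trans (hl.symm.trans (map_zpow i _ l).symm))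
    obtain ⟨hbp, habl⟩ : b ^ c = a ^ l ∧ a * b = b ^ l := Prod.ext_iff.1 hl'
    have ha : a = b ^ (l - 1) := by rw [zpow_sub_one]; exact eq_mul_inv_of_mul_eq habl
    have hb : b ^ p = 1 := (Prod.ext_iff.1 (show (a, b) ^ p = 1 from hv)).2
    have hb1 : orderOf b = p := by
      refine orderOf_eq_prime hb fun h => hne ?_
      rw [ha, h, one_zpow]
      exact map_one i
    have h1 : b ^ ((l - 1) * l - (c : ℤ)) = 1 := by
      rw [zpow_sub, zpow_natCast, hbp, zpow_mul, ← ha, mul_inv_cancel]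
    rw [← orderOf_dvd_iff_zpow_eq_one, hb1, ← ZMod.intCast_zmod_eq_zero_iff_dvd] at h1
    push_cast at h1
    exact hc (l : ZMod p) (by rw [← sub_eq_zero]; linear_combination h1)
  obtain ⟨k, m, hm, hord⟩ := Nat.exists_eq_pow_mul_and_not_dvd
    (orderOf_pos M).ne' p hp.1.ne_one
  have hcop : m.Coprime (p ^ k) :=
    Nat.Coprime.pow_right k ((Nat.Prime.coprime_iff_not_dvd hp.1).2 hm).symm
  refine ⟨M ^ p ^ k, V, ?_, hVcard, hVp, fun v hv => ?_, fun v hv hne hmem => ?_⟩
  · rw [orderOf_pow' _ (pow_pos hp.1.pos k).ne', hord, Nat.gcd_mul_right_left,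
      Nat.mul_div_cancel_left _ (pow_pos hp.1.pos k)]
    exact ((Nat.Prime.coprime_iff_not_dvd hp.1).2 hm).symm
  · clear hord hcop
    show (M ^ p ^ k) v ∈ V
    generalize p ^ k = d
    induction d with
    | zero => simpa using hv
    | succ d ih => rw [pow_succ']; exact hVM _ ih
  · obtain ⟨l, hl⟩ := hmem
    replace hl : v ^ l = (M ^ p ^ k) v := hl
    let f : D →* D := (M ^ p ^ k).toMonoidHom / zpowGroupHom l
    set K := f.ker ⊓ V with hK
    have hfM : ∀ x ∈ K, M x ∈ K := by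
      rintro x ⟨hx, hxV⟩
      refine ⟨?_, hVM x hxV⟩
      replace hx : (M ^ p ^ k) x / x ^ l = 1 := hx
      show (M ^ p ^ k) (M x) / (M x) ^ l = 1
      rw [show (M ^ p ^ k) (M x) = M ((M ^ p ^ k) x) from
        DFunLike.congr_fun ((Commute.refl M).pow_left (p ^ k)).eq x, ← map_zpow, ← map_div, hx, map_one]
    have hvK : v ∈ K := ⟨by show (M ^ p ^ k) v / v ^ l = 1; rw [hl, div_self'], hv⟩
    have hKV : K = V := by
      refine Subgroup.eq_of_le_of_card_ge inf_le_right ?_
      obtain ⟨j, hj2, hj⟩ := (Nat.dvd_prime_pow hp.1).1 (hVcard ▸ Subgroup.card_dvd_of_le (inf_le_right : K ≤ V))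
      rw [hVcard, hj]
      refine Nat.pow_le_pow_right hp.1.pos ?_
      by_contra hlt
      have hz : Nat.card (Subgroup.zpowers v) = p := by
        rw [Nat.card_zpowers]; exact orderOf_eq_prime (hVp v hv) hne
      have hKv : Subgroup.zpowers v = K := by
        refine Subgroup.eq_of_le_of_card_ge (Subgroup.zpowers_le.2 hvK) ?_
        rw [hz, hj]
        exact (Nat.pow_le_pow_right hp.1.pos (by omega)).trans (pow_one p).le
      exact hline v hv hne (hKv ▸ hfM v hvK)
    have hscal : ∀ x ∈ V, (M ^ p ^ k) x = x ^ l := fun x hx =>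
      div_eq_one.1 (hKV ▸ hx : x ∈ K).1
    -- the `p`-part of `M` fixes a nontrivial element of `V`
    let γ := M ^ m
    have hγV : ∀ x ∈ V, γ x ∈ V := by
      intro x hx
      show (M ^ m) x ∈ V
      clear hm hord hcop
      induction m with
      | zero => simpa using hx
      | succ d ih => rw [pow_succ']; exact hVM _ ih
    let st : Subgroup (MulAut D) := Subgroup.zpowers γ
    have hstab : ∀ g : st, ∀ x ∈ V, (g : MulAut D) x ∈ V := by
      rintro ⟨g, hg⟩ x hx
      obtain ⟨d, rfl⟩ := mem_powers_iff_mem_zpowers.2 hg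
      show (γ ^ d) x ∈ V
      induction d with
      | zero => simpa using hx
      | succ d ih => rw [pow_succ']; exact hγV _ (ih ((Subgroup.zpowers γ).pow_mem (Subgroup.mem_zpowers γ) d))
    letI : MulAction st V :=
      { smul := fun g x => ⟨(g : MulAut D) x, hstab g x x.2⟩
        one_smul := fun x => Subtype.ext rfl
        mul_smul := fun g h x => Subtype.ext rfl }
    have hst : IsPGroup p st := IsPGroup.of_card (n := k) (p := p) (by
      rw [Nat.card_zpowers, orderOf_pow' _ (fun h : m = 0 => hm (by simp [h])), hord, Nat.gcd_mul_left_left,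
        Nat.mul_div_cancel _ (Nat.pos_of_ne_zero fun h : m = 0 => hm (by simp [h]))])
    obtain ⟨w, hw, hne'⟩ := hst.exists_fixed_point_of_prime_dvd_card_of_fixed_point V
      (by rw [hVcard]; exact dvd_pow_self p two_ne_zero)
      (a := 1) (fun g => Subtype.ext (map_one (g : MulAut D)))
    have hwγ : γ (w : D) = w := congrArg Subtype.val (hw ⟨γ, Subgroup.mem_zpowers γ⟩)
    have hbez := Nat.gcd_eq_gcd_ab m (p ^ k)
    rw [hcop.gcd_eq_one, Nat.cast_one] at hbez
    refine hline w w.2 (fun h => hne' (Subtype.ext h.symm)) ?_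
    have hM : M = γ ^ (Nat.gcdA m (p ^ k)) * (M ^ p ^ k) ^ (Nat.gcdB m (p ^ k)) := by
      show M = (M ^ m) ^ _ * (M ^ p ^ k) ^ _
      rw [← zpow_natCast M m, ← zpow_natCast M (p ^ k), ← zpow_mul, ← zpow_mul, ← zpow_add, ← hbez, zpow_one]
    let T : Subgroup (MulAut D) :=
      { carrier := {g | g (w : D) ∈ Subgroup.zpowers (w : D) ∧ g.symm (w : D) ∈ Subgroup.zpowers (w : D)}
        one_mem' := ⟨Subgroup.mem_zpowers _, Subgroup.mem_zpowers _⟩
        mul_mem' := by
          rintro a b ⟨ha, ha'⟩ ⟨⟨i, hi'⟩, hb'⟩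
          refine ⟨?_, ?_⟩
          · show a (b (w : D)) ∈ _
            rw [← hi', map_zpow]; exact zpow_mem ha i
          · obtain ⟨j, hj⟩ := ha'
            show b.symm (a.symm (w : D)) ∈ _
            rw [← hj, map_zpow]; exact zpow_mem hb' j
        inv_mem' := fun ⟨ha, ha'⟩ => ⟨ha', ha⟩ }
    have hmemT : ∀ g : MulAut D, g (w : D) ∈ Subgroup.zpowers (w : D) → g ∈ T := by
      intro g hg
      refine ⟨hg, ?_⟩
      obtain ⟨i, hi'⟩ := hg
      have hz : Subgroup.zpowers (g (w : D)) = Subgroup.zpowers (w : D) := by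
        refine Subgroup.eq_of_le_of_card_ge (Subgroup.zpowers_le.2 ⟨i, hi'⟩) ?_
        rw [Nat.card_zpowers, Nat.card_zpowers, MulEquiv.orderOf_eq]
      obtain ⟨j, hj⟩ := Subgroup.mem_zpowers_iff.1 (hz.ge (Subgroup.mem_zpowers (w : D)))
      refine ⟨j, ?_⟩
      show (w : D) ^ j = g.symm (w : D)
      rw [MulEquiv.eq_symm_apply, map_zpow, hj]
    exact (hM ▸ T.mul_mem (T.zpow_mem (hmemT γ (by rw [hwγ]; exact Subgroup.mem_zpowers _)) _)
      (T.zpow_mem (hmemT _ (by rw [hscal _ w.2]; exact ⟨l, rfl⟩)) _) : M ∈ T).1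

section Main

variable [Finite S] [hp : Fact p.Prime]

theorem chain_of_no_repeat (hS : IsPGroup p S) (hab : IsMulCommutative S)
    (hrep : ¬ ∃ (n : ℕ) (H : Type) (_ : CommGroup H), 0 < n ∧
      Nonempty (S ≃* (Multiplicative (ZMod (p ^ n)) × Multiplicative (ZMod (p ^ n))) × H))
    {F : FusionSystem S} (hF : F.IsSaturated p) :
    ∃ (m : ℕ) (c : Fin (m + 1) → Subgroup Ω), c 0 = ⊥ ∧ c (Fin.last m) = S ∧
      (∀ i : Fin (m + 1), F.StronglyClosed (c i)) ∧
      ∀ i : Fin m, c i.castSucc ≤ c i.succ ∧ ∃ x ∈ S, c i.succ = c i.castSucc ⊔ Subgroup.zpowers x := by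
  classical
  letI : CommGroup S := { (inferInstance : Group S) with mul_comm := hab.1.1 }
  obtain ⟨ι, _, q, hq1, ⟨E₀⟩⟩ := CommGroup.equiv_prod_multiplicative_zmod_of_finite S
  obtain ⟨n, hn⟩ := IsPGroup.iff_card.1 hS
  have hqe : ∀ i, ∃ e : ℕ, q i = p ^ e := by
    intro i
    have h1 : q i ∣ Nat.card S := by
      rw [Nat.card_congr E₀.toEquiv, Nat.card_pi]
      exact (by rw [Nat.card_congr Multiplicative.toAdd, Nat.card_zmod] :
        q i = Nat.card (Multiplicative (ZMod (q i)))) ▸ Finset.dvd_prod_of_mem _ (Finset.mem_univ i)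
    obtain ⟨e, -, he⟩ := (Nat.dvd_prime_pow hp.1).1 (hn ▸ h1)
    exact ⟨e, he⟩
  choose e he using hqe
  obtain rfl : q = fun i => p ^ e i := funext he
  have hinj : Function.Injective e := by
    intro i j hij
    by_contra hne
    apply hrep
    refine ⟨e i, ((k : {k : ι // k ≠ i ∧ k ≠ j}) → Multiplicative (ZMod (p ^ e k))), inferInstance,
      Nat.pos_of_ne_zero fun h => by have := hq1 i; simp [h] at this, ?_⟩
    let cast : Multiplicative (ZMod (p ^ e j)) ≃* Multiplicative (ZMod (p ^ e i)) :=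
      (ZMod.ringEquivCongr (congrArg (p ^ ·) hij.symm)).toAddEquiv.toMultiplicative
    let f : ((k : ι) → Multiplicative (ZMod (p ^ e k))) →*
        (Multiplicative (ZMod (p ^ e i)) × Multiplicative (ZMod (p ^ e i))) ×
          ((k : {k : ι // k ≠ i ∧ k ≠ j}) → Multiplicative (ZMod (p ^ e k))) :=
      { toFun := fun g => ((g i, cast (g j)), fun k => g k)
        map_one' := by simp only [Pi.one_apply, map_one]; rfl
        map_mul' := fun g g' => by simp only [Pi.mul_apply, map_mul]; rfl }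
    refine ⟨E₀.trans (MulEquiv.ofBijective f ⟨?_, ?_⟩)⟩
    · intro g g' h
      obtain ⟨⟨h1, h2⟩, h3⟩ : (g i = g' i ∧ cast (g j) = cast (g' j)) ∧ (fun k : {k : ι // k ≠ i ∧ k ≠ j} => g k) = fun k : {k : ι // k ≠ i ∧ k ≠ j} => g' k :=
        ⟨Prod.ext_iff.1 (Prod.ext_iff.1 h).1, (Prod.ext_iff.1 h).2⟩
      funext k
      by_cases hki : k = i
      · subst hki; exact h1
      by_cases hkj : k = j
      · subst hkj; exact cast.injective h2
      exact congrFun h3 ⟨k, hki, hkj⟩
    · rintro ⟨⟨a, b⟩, r⟩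
      refine ⟨fun k => if h : k = i then h ▸ a else if h' : k = j then h' ▸ cast.symm b else r (⟨k, h, h'⟩ : {k : ι // k ≠ i ∧ k ≠ j}), ?_⟩
      refine Prod.ext (Prod.ext ?_ ?_) (funext fun k => ?_)
      · show (dite (i = i) _ _) = a
        simp
      · show cast (dite (j = i) _ _) = b
        simp [Ne.symm hne]
      · show (dite ((k : ι) = i) _ _) = r k
        simp [k.2.1, k.2.2]
  set N := Nat.card S with hN
  have hN0 : 0 < N := Nat.card_pos
  have htriv : ∀ x : S, x ^ p ^ N = 1 := by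
    intro x
    apply orderOf_dvd_iff_pow_eq_one.1
    have hnN : n ≤ N := by rw [hn]; exact (Nat.lt_pow_self hp.1.one_lt).le
    exact ((orderOf_dvd_natCard x).trans (dvd_of_eq hn)).trans (pow_dvd_pow p hnN)
  have htop : ∀ c, N ≤ c → layer S p c = ⊥ := by
    intro c hc
    refine (Subgroup.eq_bot_iff_forall _).2 ?_
    rintro x ⟨⟨y, rfl⟩, -⟩
    rw [powMonoidHom_apply, ← Nat.add_sub_cancel' hc, pow_add, pow_mul, htriv, one_pow]
  let R : ℕ → Subgroup S := fun k => refined S p (k / N) (N - k % N)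
  let c : Fin (N * N + 1) → Subgroup Ω := fun k => (R k).map S.subtype
  have h00 : ∀ a, refined S p a 0 = (powMonoidHom (p ^ (a + 1)) : S →* S).ker := by
    intro a
    ext x
    constructor
    · rintro ⟨-, h⟩
      show x ^ p ^ (a + 1) = 1
      rw [pow_succ, pow_mul]
      exact h
    · intro h
      refine ⟨⟨x, rfl⟩, ?_⟩
      show (x ^ p ^ a) ^ p = 1
      rw [← pow_mul, ← pow_succ]
      exact h
  have hNN : ∀ a, refined S p a N = (powMonoidHom (p ^ a) : S →* S).ker := by
    intro a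
    rw [refined, htop _ (Nat.le_add_left N a), MonoidHom.comap_bot]
  refine ⟨N * N, c, ?_, ?_, fun i => stronglyClosed_of_char hS hab hF _ fun β x hx =>
    refined_mem_of_aut β _ _ hx, fun i => ?_⟩
  · show (R 0).map S.subtype = ⊥
    rw [show R 0 = ⊥ from ?_, Subgroup.map_bot]
    show refined S p (0 / N) (N - 0 % N) = ⊥
    rw [Nat.zero_div, Nat.zero_mod, Nat.sub_zero, hNN]
    exact (Subgroup.eq_bot_iff_forall _).2 fun x hx => by simpa using hx
  · show (R (N * N)).map S.subtype = S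
    rw [show R (N * N) = ⊤ from ?_, ← MonoidHom.range_eq_map, Subgroup.range_subtype]
    show refined S p (N * N / N) (N - N * N % N) = ⊤
    rw [Nat.mul_div_cancel _ hN0, Nat.mul_mod_left, Nat.sub_zero, hNN]
    exact eq_top_iff.2 fun x _ => htriv x
  · have hr : ((i : ℕ) % N) < N := Nat.mod_lt _ hN0
    set a := (i : ℕ) / N
    obtain ⟨b, hb⟩ : ∃ b, N - (i : ℕ) % N = b + 1 := ⟨N - (i : ℕ) % N - 1, by omega⟩
    have hnext : R ((i : ℕ) + 1) = refined S p a b := by
      show refined S p _ _ = _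
      by_cases hlast : (i : ℕ) % N + 1 = N
      · have hb0 : b = 0 := by omega
        have h1 : (i : ℕ) + 1 = (a + 1) * N := by
          have := Nat.div_add_mod (i : ℕ) N
          rw [show (i : ℕ) / N = a from rfl] at this
          rw [add_mul, one_mul]
          rw [Nat.mul_comm N a] at this
          omega
        rw [h1, Nat.mul_div_cancel _ hN0, Nat.mul_mod_left, Nat.sub_zero, hNN, hb0, h00]
      · have hlt : (i : ℕ) % N + 1 < N := by omega
        have h1 : (i : ℕ) + 1 = ((i : ℕ) % N + 1) + N * a := by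
          have := Nat.div_add_mod (i : ℕ) N
          rw [show (i : ℕ) / N = a from rfl] at this
          omega
        rw [h1, Nat.add_mul_div_left _ _ hN0, Nat.div_eq_of_lt hlt, zero_add, Nat.add_mul_mod_self_left,
          Nat.mod_eq_of_lt hlt]
        congr 1
        omega
    obtain ⟨t, ht, hgen⟩ := layer_cyclic_step e hinj E₀ (a + b)
    have hgen' : layer S p (a + b) ≤ layer S p (a + (b + 1)) ⊔ Subgroup.zpowers t := hgen
    obtain ⟨x, hx⟩ := refined_step a b t ht hgen'
    have hi : R i = refined S p a (b + 1) := congrArg (refined S p a) hb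
    have heq : (R ((i : ℕ) + 1)).map S.subtype = (R i).map S.subtype ⊔ Subgroup.zpowers (x : Ω) := by
      rw [hnext, hx, hi, Subgroup.map_sup, MonoidHom.map_zpowers]
      rfl
    have heq' : c i.succ = c i.castSucc ⊔ Subgroup.zpowers (x : Ω) := by
      show (R (i.succ : ℕ)).map S.subtype = (R (i.castSucc : ℕ)).map S.subtype ⊔ _
      rw [Fin.val_succ, Fin.val_castSucc]
      exact heq
    exact ⟨heq' ▸ le_sup_left, x, x.2, heq'⟩

theorem no_repeat_of_chain (hS : IsPGroup p S) (hab : IsMulCommutative S)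
    (hall : ∀ F : FusionSystem S, F.IsSaturated p →
      ∃ (m : ℕ) (c : Fin (m + 1) → Subgroup Ω), c 0 = ⊥ ∧ c (Fin.last m) = S ∧
        (∀ i : Fin (m + 1), F.StronglyClosed (c i)) ∧
        ∀ i : Fin m, c i.castSucc ≤ c i.succ ∧ ∃ x ∈ S, c i.succ = c i.castSucc ⊔ Subgroup.zpowers x) :
    ¬ ∃ (n : ℕ) (H : Type) (_ : CommGroup H), 0 < n ∧
      Nonempty (S ≃* (Multiplicative (ZMod (p ^ n)) × Multiplicative (ZMod (p ^ n))) × H) := by
  rintro ⟨n, H, _, hn, ⟨E⟩⟩
  classical
  letI : CommGroup S := { (inferInstance : Group S) with mul_comm := hab.1.1 }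
  obtain ⟨β, V, hco, hVc, hVp, hline_mem, hline⟩ := exists_irreducible_aut hn E
  have hβ := mem_autGroup_full (S := S) β
  have hsat := Sparse.cyclicCond_saturated (F := fullSystem S) hS le_rfl hβ hco
  obtain ⟨m, c, hc0, hcl, hsc, hstep⟩ := hall _ hsat
  let W : Fin (m + 1) → Subgroup S := fun i => (c i).subgroupOf S
  have hWβ : ∀ i, ∀ x ∈ W i, β x ∈ W i := by
    intro i x hx
    have hm : IsMor (Sparse.cyclicCond (fullSystem S) le_rfl β).system S (autFun β) := by
      refine (Sparse.cyclicCond (fullSystem S) le_rfl β).isMor_system'.2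
        ⟨isMor_of_mem_autGroup le_rfl hβ, ⟨le_rfl, fun y hy => autFun_mem β hy⟩, 1, 1, one_mem S,
          fun y hy => ⟨hy, ?_⟩⟩
      rw [zpow_one, one_mul, inv_one, mul_one]
    have := stronglyClosed_apply (hsc i) hm x.2 hx
    rw [autFun_coe] at this
    exact this
  have hind : ∀ i, W i ⊓ V = ⊥ := by
    intro i
    induction i using Fin.induction with
    | zero =>
      refine (Subgroup.eq_bot_iff_forall _).2 fun x hx => ?_
      have : (x : Ω) ∈ (⊥ : Subgroup Ω) := hc0 ▸ hx.1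
      exact Subtype.ext (Subgroup.mem_bot.1 this)
    | succ i ih =>
      obtain ⟨hle, x, hx, hsup⟩ := hstep i
      set X : S := ⟨x, hx⟩
      have hW : ∀ y ∈ W i.succ, ∃ k : ℤ, y * (X ^ k)⁻¹ ∈ W i.castSucc := by
        intro y hy
        have hy' : (y : Ω) ∈ c i.succ := hy
        have hWS : c i.castSucc = (W i.castSucc).map S.subtype := by
          rw [Subgroup.map_subgroupOf_eq_of_le (hsc i.castSucc).1]
        rw [hsup, hWS, show Subgroup.zpowers x = (Subgroup.zpowers X).map S.subtype by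
          rw [MonoidHom.map_zpowers]; rfl, ← Subgroup.map_sup] at hy'
        obtain ⟨z, hz, hzy⟩ := hy'
        obtain rfl : z = y := Subtype.ext hzy
        obtain ⟨u, hu, v, ⟨k, rfl⟩, rfl⟩ := Subgroup.mem_sup.1 hz
        exact ⟨k, by rwa [mul_inv_cancel_right]⟩
      by_contra hne
      obtain ⟨⟨v, hv⟩, hv1⟩ : ∃ v : ↥(W i.succ ⊓ V), v ≠ 1 := by
        by_contra hh
        push Not at hh
        exact hne ((Subgroup.eq_bot_iff_forall _).2 fun y hy => congrArg Subtype.val (hh ⟨y, hy⟩))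
      have hv1' : v ≠ 1 := fun h => hv1 (Subtype.ext h)
      have hlv := hline v hv.2 hv1'
      have hβV : β v ∈ V := hline_mem v hv.2
      -- the step meets `V` in a cyclic group
      let π : S →* S ⧸ W i.castSucc := QuotientGroup.mk' _
      let K := W i.succ ⊓ V
      have hKinj : ∀ y ∈ K, π y = 1 → y = 1 := fun y hy h => by
        have h1 : y ∈ W i.castSucc ⊓ V := ⟨(QuotientGroup.eq_one_iff y).1 h, hy.2⟩
        rw [ih] at h1
        exact Subgroup.mem_bot.1 h1
      have hKmem : ∀ y ∈ K, π y ∈ Subgroup.zpowers (π X) := fun y hy => by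
        obtain ⟨k, hk⟩ := hW y hy.1
        refine ⟨k, ?_⟩
        have := (QuotientGroup.eq_one_iff _).2 hk
        show π X ^ k = π y
        rw [← map_zpow]
        exact (mul_inv_eq_one.1 (by rw [← map_inv, ← map_mul]; exact this)).symm
      haveI : IsCyclic K := by
        let g : K →* Subgroup.zpowers (π X) := (π.comp K.subtype).codRestrict _ fun y => hKmem y y.2
        refine isCyclic_of_injective g ((MonoidHom.ker_eq_bot_iff _).1 ((Subgroup.eq_bot_iff_forall _).2 fun y hy => ?_))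
        exact Subtype.ext (hKinj y y.2 (congrArg Subtype.val hy))
      have hK : K ≤ Subgroup.zpowers v := by
        intro y hy
        haveI := Fintype.ofFinite K
        have hall' : ∀ z : K, z ^ p = 1 := fun z => Subtype.ext (hVp z z.2.2)
        have hcard : Nat.card K ≤ p := by
          rw [Nat.card_eq_fintype_card, ← Finset.card_univ]
          have := IsCyclic.card_pow_eq_one_le (α := K) hp.1.pos
          simpa [hall'] using this
        have : Subgroup.zpowers v = K := Subgroup.eq_of_le_of_card_ge (Subgroup.zpowers_le.2 hv)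
          (by rw [Nat.card_zpowers, orderOf_eq_prime (hVp v hv.2) hv1']; exact hcard)
        rw [this]; exact hy
      exact hlv (hK ⟨hWβ _ v hv.1, hβV⟩)
  have := hind (Fin.last m)
  have hV : V = ⊥ := by
    refine le_antisymm (fun x hx => ?_) bot_le
    rw [← this]
    exact ⟨by show (x : Ω) ∈ c (Fin.last m); rw [hcl]; exact x.2, hx⟩
  rw [hV, Subgroup.card_bot] at hVc
  exact absurd hVc (Nat.one_lt_pow two_ne_zero hp.1.one_lt).ne

end Main

end Cfsg.Agent.Fusion.SupersolAbelian
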