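import Mathlib
import Cfsg.Agent.Lib.Fusion.SupersolubleAbelian

/-!
`p`-groups all of whose saturated fusion systems are supersoluble.
-/

set_option autoImplicit false

namespace Cfsg.Agent.Fusion.SupersolType

open Cfsg Cfsg.FusionSystem Cfsg.Agent.Fusion Cfsg.Agent.Fusion.SupersolAbelian

variable {Ω : Type*} [Group Ω] {S : Subgroup Ω} {p : ℕ}

section Group

variable {G : Type*} [Group G]

/-- A step of index at most `p` generated by one element. -/
def Step (p : ℕ) (W B : Subgroup G) : Prop :=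
  W ≤ B ∧ W.Normal ∧ ∃ y ∈ B, y ^ p ∈ W ∧ B ≤ W ⊔ Subgroup.zpowers y

theorem mem_sup' {N H : Subgroup G} [N.Normal] {x : G} (h : x ∈ N ⊔ H) :
    ∃ u ∈ N, ∃ v ∈ H, u * v = x := by
  rw [← SetLike.mem_coe, Subgroup.normal_mul] at h
  exact h

theorem eq_of_card_eq_cyclic [Finite G] {g : G} {U V : Subgroup G} (hU : U ≤ Subgroup.zpowers g)
    (hV : V ≤ Subgroup.zpowers g) (h : Nat.card U = Nat.card V) : U = V := by
  classical
  let C := Subgroup.zpowers g
  haveI := Fintype.ofFinite C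
  haveI := Fintype.ofFinite G
  have key : ∀ T : Subgroup G, T ≤ C → ∀ x ∈ C, x ^ Nat.card T = 1 → x ∈ T := by
    intro T hT x hx hpow
    by_contra hxT
    let s : Finset C := Finset.univ.filter fun c => (c : G) ∈ T
    have hs : insert ⟨x, hx⟩ s ⊆ Finset.univ.filter (fun c : C => c ^ Nat.card T = 1) := by
      intro c hc
      simp only [Finset.mem_insert, Finset.mem_filter, Finset.mem_univ, true_and, s] at hc ⊢
      rcases hc with rfl | hc
      · exact Subtype.ext hpow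
      · exact Subtype.ext (orderOf_dvd_iff_pow_eq_one.1 (Subgroup.orderOf_dvd_natCard T hc))
    have h1 := (Finset.card_le_card hs).trans (IsCyclic.card_pow_eq_one_le Nat.card_pos)
    rw [Finset.card_insert_of_notMem (by simp [s, hxT]), ← Fintype.card_subtype, ← Nat.card_eq_fintype_card] at h1
    have h2 : Nat.card {c : C // (c : G) ∈ T} = Nat.card T :=
      Nat.card_congr ⟨fun c => ⟨(c.1 : G), c.2⟩, fun t => ⟨⟨t, hT t.2⟩, t.2⟩, fun _ => rfl, fun _ => rfl⟩
    omega
  exact le_antisymm (fun x hx => key V hV x (hU hx) (orderOf_dvd_iff_pow_eq_one.1 (h ▸ Subgroup.orderOf_dvd_natCard U hx)))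
    (fun x hx => key U hU x (hV hx) (orderOf_dvd_iff_pow_eq_one.1 (h.symm ▸ Subgroup.orderOf_dvd_natCard V hx)))

/-- `α` acts on `B/W` as the power `l`. -/
def Scal (W B : Subgroup G) [W.Normal] (α : MulAut G) (l : ZMod p) : Prop :=
  ∀ x ∈ B, (QuotientGroup.mk (α x) : G ⧸ W) = (QuotientGroup.mk x) ^ l.val

variable [hp : Fact p.Prime] [Finite G] {W B : Subgroup G}

theorem Step.pow_eq_one (hs : Step p W B) [W.Normal] {x : G} (hx : x ∈ B) :
    (QuotientGroup.mk x : G ⧸ W) ^ p = 1 := by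
  obtain ⟨-, -, y, -, hyp, hB⟩ := hs
  obtain ⟨u, hu, v, ⟨k, rfl⟩, rfl⟩ := mem_sup' (hB hx)
  have h : (QuotientGroup.mk y : G ⧸ W) ^ p = 1 := (QuotientGroup.eq_one_iff _).2 hyp
  rw [QuotientGroup.mk_mul, (QuotientGroup.eq_one_iff _).2 hu, one_mul, QuotientGroup.mk_zpow,
    ← zpow_natCast, ← zpow_mul, mul_comm, zpow_mul, zpow_natCast, h, one_zpow]

theorem Scal.mul (hs : Step p W B) [W.Normal] {α β : MulAut G} {l m : ZMod p}
    (hBβ : ∀ x ∈ B, β x ∈ B) (ha : Scal W B α l) (hb : Scal W B β m) : Scal W B (α * β) (l * m) := by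
  intro x hx
  rw [MulAut.mul_apply, ha _ (hBβ x hx), hb x hx, ← pow_mul,
    pow_eq_pow_mod (m.val * l.val) (hs.pow_eq_one hx), ZMod.val_mul, mul_comm l.val m.val]

theorem Scal.one (hs : Step p W B) [W.Normal] : Scal W B (1 : MulAut G) (1 : ZMod p) := fun x hx => by
  rw [ZMod.val_one, pow_one]; rfl

theorem Scal.pow (hs : Step p W B) [W.Normal] {α : MulAut G} {l : ZMod p}
    (hBα : ∀ x ∈ B, α x ∈ B) (ha : Scal W B α l) : ∀ k : ℕ, Scal W B (α ^ k) (l ^ k)
  | 0 => by simpa using Scal.one hs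
  | k + 1 => by rw [pow_succ, pow_succ]; exact Scal.mul hs hBα (Scal.pow hs hBα ha k) ha

theorem exists_scal (hs : Step p W B) [W.Normal] {α : MulAut G}
    (hW : ∀ x ∈ W, α x ∈ W) (hBα : ∀ x ∈ B, α x ∈ B) :
    ∃ l : ZMod p, l ≠ 0 ∧ Scal W B α l := by
  obtain ⟨hWB, -, y, hy, hyp, hB⟩ := id hs
  by_cases hyW : y ∈ W
  · refine ⟨1, one_ne_zero, fun x hx => ?_⟩
    have hx' : x ∈ W := (hB.trans (sup_le le_rfl (Subgroup.zpowers_le.2 hyW))) hx
    rw [(QuotientGroup.eq_one_iff _).2 hx', (QuotientGroup.eq_one_iff _).2 (hW x hx'), one_pow]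
  have hgen : ∀ x ∈ B, ∃ k : ℤ, (QuotientGroup.mk x : G ⧸ W) = (QuotientGroup.mk y) ^ k := fun x hx => by
    obtain ⟨u, hu, v, ⟨k, rfl⟩, rfl⟩ := mem_sup' (hB hx)
    exact ⟨k, by rw [QuotientGroup.mk_mul, (QuotientGroup.eq_one_iff _).2 hu, one_mul, QuotientGroup.mk_zpow]⟩
  obtain ⟨l, hl⟩ := hgen _ (hBα y hy)
  have hord := orderOf_eq_prime (hs.pow_eq_one hy) fun h => hyW ((QuotientGroup.eq_one_iff _).1 h)
  have hαW : W.map α.toMonoidHom = W := Subgroup.eq_of_le_of_card_ge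
    (Subgroup.map_le_iff_le_comap.2 hW) (by rw [Subgroup.card_map_of_injective (f := α.toMonoidHom) α.injective])
  refine ⟨(l : ZMod p), fun h => hyW ?_, fun x hx => ?_⟩
  · rw [ZMod.intCast_zmod_eq_zero_iff_dvd, ← hord, orderOf_dvd_iff_zpow_eq_one, ← hl,
      QuotientGroup.eq_one_iff] at h
    rw [← hαW] at h
    obtain ⟨w, hw, hwy⟩ := h
    exact α.injective hwy ▸ hw
  · obtain ⟨u, hu, v, ⟨k, rfl⟩, rfl⟩ := mem_sup' (hB hx)
    rw [map_mul, map_zpow, QuotientGroup.mk_mul, (QuotientGroup.eq_one_iff _).2 (hW u hu), one_mul,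
      QuotientGroup.mk_zpow, hl, QuotientGroup.mk_mul, (QuotientGroup.eq_one_iff _).2 hu, one_mul,
      QuotientGroup.mk_zpow, ← zpow_natCast, ← zpow_mul, ← zpow_mul]
    rw [zpow_eq_zpow_iff_modEq, hord, ← ZMod.intCast_eq_intCast_iff]
    push_cast
    rw [ZMod.natCast_zmod_val, mul_comm]

theorem Scal.stab [W.Normal] {α : MulAut G} (ha : Scal W B α (1 : ZMod p)) :
    ∀ x ∈ B, x⁻¹ * α x ∈ W := fun x hx => by
  rw [← QuotientGroup.eq_one_iff, QuotientGroup.mk_mul, ha x hx, ZMod.val_one, pow_one,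
    QuotientGroup.mk_inv, inv_mul_cancel]

theorem stab_commutator (hs : Step p W B) {α β : MulAut G}
    (hW : ∀ x ∈ W, α x ∈ W ∧ β x ∈ W) (hBαβ : ∀ x ∈ B, α x ∈ B ∧ β x ∈ B)
    {γ : MulAut G} (hγ : γ * (β * α) = α * β) : ∀ x ∈ B, x⁻¹ * γ x ∈ W := by
  haveI := hs.2.1
  obtain ⟨l, -, hl⟩ := exists_scal hs (fun x hx => (hW x hx).1) fun x hx => (hBαβ x hx).1
  obtain ⟨m, -, hm⟩ := exists_scal hs (fun x hx => (hW x hx).2) fun x hx => (hBαβ x hx).2
  have h1 := Scal.mul hs (fun x hx => (hBαβ x hx).2) hl hm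
  have h2 := Scal.mul hs (fun x hx => (hBαβ x hx).1) hm hl
  intro x hx
  have hB2 : B.map (β * α).toMonoidHom = B := Subgroup.eq_of_le_of_card_ge
    (Subgroup.map_le_iff_le_comap.2 fun z hz => (hBαβ _ (hBαβ z hz).1).2)
    (by rw [Subgroup.card_map_of_injective (f := (β * α).toMonoidHom) (β * α).injective])
  rw [← hB2] at hx
  obtain ⟨z, hz, rfl⟩ := hx
  have hg : γ ((β * α) z) = (α * β) z := by rw [← hγ]; rfl
  rw [← QuotientGroup.eq_one_iff, QuotientGroup.mk_mul, QuotientGroup.mk_inv,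
    show γ ((β * α).toMonoidHom z) = (α * β) z from hg, h1 z hz,
    show ((β * α).toMonoidHom z) = (β * α) z from rfl, h2 z hz, mul_comm m l, inv_mul_cancel]

theorem stab_pow (hs : Step p W B) {α : MulAut G}
    (hW : ∀ x ∈ W, α x ∈ W) (hBα : ∀ x ∈ B, α x ∈ B) : ∀ x ∈ B, x⁻¹ * (α ^ (p - 1)) x ∈ W := by
  haveI := hs.2.1
  obtain ⟨l, hl0, hl⟩ := exists_scal hs hW hBα
  have h := Scal.pow hs hBα hl (p - 1)
  rw [ZMod.pow_card_sub_one_eq_one hl0] at h
  exact Scal.stab h

/-- A step inside a `p`-group is central. -/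
theorem step_central (hG : IsPGroup p G) (hs : Step p W B) [B.Normal] :
    ∀ x ∈ B, ∀ g : G, x⁻¹ * (g * x * g⁻¹) ∈ W := by
  haveI := hs.2.1
  intro x hx g
  obtain ⟨l, hl0, hl⟩ := exists_scal hs (α := MulAut.conj g)
    (fun z hz => Subgroup.Normal.conj_mem hs.2.1 z hz g) fun z hz => Subgroup.Normal.conj_mem ‹_› z hz g
  obtain ⟨n, hn⟩ := hG g
  have h1 := Scal.pow hs (fun z hz => Subgroup.Normal.conj_mem ‹_› z hz g) hl (p ^ n)
  rw [ZMod.pow_card_pow, ← map_pow, hn, map_one] at h1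
  by_cases hl1 : l = 1
  · exact (hl1 ▸ hl).stab x hx
  have h2 := h1 x hx
  have hx1 : (QuotientGroup.mk x : G ⧸ W) = 1 := by
    by_contra hne
    apply hl1
    have hord := orderOf_eq_prime (hs.pow_eq_one hx) hne
    have h3 : (QuotientGroup.mk x : G ⧸ W) ^ 1 = (QuotientGroup.mk x) ^ l.val := by simpa using h2
    rw [pow_eq_pow_iff_modEq, hord, ← ZMod.natCast_eq_natCast_iff, Nat.cast_one, ZMod.natCast_zmod_val] at h3
    exact h3.symm
  have hxW : x ∈ W := (QuotientGroup.eq_one_iff _).1 hx1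
  exact W.mul_mem (W.inv_mem hxW) (Subgroup.Normal.conj_mem hs.2.1 x hxW g)

end Group

theorem exists_list {α : Type*} {R : α → α → Prop} {a b : α} (h : Relation.ReflTransGen R a b) :
    ∃ (m : ℕ) (c : Fin (m + 1) → α), c 0 = a ∧ c (Fin.last m) = b ∧ ∀ i : Fin m, R (c i.castSucc) (c i.succ) := by
  induction h with
  | refl => exact ⟨0, fun _ => a, rfl, rfl, fun i => i.elim0⟩
  | @tail b d _ hbd ih =>
    obtain ⟨m, c, h0, hl, hc⟩ := ih
    refine ⟨m + 1, Fin.snoc c d, ?_, Fin.snoc_last _ _, fun i => ?_⟩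
    · rw [show (0 : Fin (m + 2)) = Fin.castSucc (0 : Fin (m + 1)) from rfl, Fin.snoc_castSucc, h0]
    · induction i using Fin.lastCases with
      | last => rw [Fin.snoc_castSucc, Fin.succ_last, Fin.snoc_last, hl]; exact hbd
      | cast i => rw [Fin.snoc_castSucc, Fin.succ_castSucc, Fin.snoc_castSucc]; exact hc i

variable [Finite S] [hp : Fact p.Prime]

/-- The steps used for the refined series. -/
def WStep (p : ℕ) (F : FusionSystem S) (W B : Subgroup S) : Prop :=
  Step p W B ∧ B.Normal ∧ F.WeaklyClosed (W.map S.subtype) ∧ F.WeaklyClosed (B.map S.subtype)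

theorem normal_of_weaklyClosed {F : FusionSystem S} {W : Subgroup S}
    (h : F.WeaklyClosed (W.map S.subtype)) : W.Normal := by
  constructor
  intro x hx g
  have h1 := h.2 _ (F.conj_mem h.1 g.2)
  have h2 : (g : Ω) * x * (g : Ω)⁻¹ ∈ W.map S.subtype := h1.le ⟨⟨x, x, hx, rfl⟩, rfl⟩
  obtain ⟨z, hz, hze⟩ := h2
  exact (Subtype.ext hze : z = g * x * g⁻¹) ▸ hz

theorem refine_step (hS : IsPGroup p S) {F : FusionSystem S} {W B : Subgroup Ω}
    (hW : F.StronglyClosed W) (hB : F.StronglyClosed B) (hle : W ≤ B) {x : Ω} (hx : x ∈ S)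
    (hB' : B = W ⊔ Subgroup.zpowers x) :
    Relation.ReflTransGen (WStep p F) (W.subgroupOf S) (B.subgroupOf S) := by
  set A := W.subgroupOf S with hA
  have hAmap : A.map S.subtype = W := Subgroup.map_subgroupOf_eq_of_le hW.1
  set X : S := ⟨x, hx⟩
  have hBmap : (A ⊔ Subgroup.zpowers X).map S.subtype = B := by
    rw [Subgroup.map_sup, hAmap, MonoidHom.map_zpowers, hB']
    rfl
  have hBA : B.subgroupOf S = A ⊔ Subgroup.zpowers X := by
    rw [← hBmap]; exact Subgroup.comap_map_eq_self_of_injective S.subtype_injective _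
  have hwA : F.WeaklyClosed (A.map S.subtype) := by
    rw [hAmap]
    refine ⟨hW.1, fun φ hφ => ?_⟩
    haveI : Finite W := finite_of_le hW.1
    refine Subgroup.eq_of_le_of_card_ge ?_ ?_
    · rintro _ ⟨z, rfl⟩; exact hW.2 W le_rfl φ hφ z
    · rw [← Nat.card_congr (MonoidHom.ofInjective (F.injective_of_mem hφ)).toEquiv]
  haveI hAn := normal_of_weaklyClosed hwA
  obtain ⟨n, hn⟩ := IsPGroup.iff_card.1 hS
  let D : ℕ → Subgroup S := fun d => A ⊔ Subgroup.zpowers (X ^ p ^ (n - d))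
  have hD0 : D 0 = A := by
    simp only [D, Nat.sub_zero]
    rw [← hn, pow_card_eq_one', Subgroup.zpowers_one_eq_bot, sup_bot_eq]
  have hDn : D n = B.subgroupOf S := by simp [D, hBA]
  have hDle : ∀ d, D d ≤ A ⊔ Subgroup.zpowers X := fun d =>
    sup_le_sup_left (Subgroup.zpowers_le.2 (pow_mem (Subgroup.mem_zpowers X) _)) A
  let π : S →* S ⧸ A := QuotientGroup.mk' A
  have hwD : ∀ d, F.WeaklyClosed ((D d).map S.subtype) := by
    intro d
    refine ⟨Subgroup.map_subtype_le _, fun φ hφ => ?_⟩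
    have hRB : φ.range ≤ B := by
      rintro _ ⟨z, rfl⟩
      refine stronglyClosed_apply hB (isMor_extFun hφ) z.2 (hBmap ▸ Subgroup.map_mono (hDle d) z.2) |> fun h => ?_
      rwa [extFun_coe] at h
    have hWR : W ≤ φ.range := by
      have hWD : W ≤ (D d).map S.subtype := hAmap ▸ Subgroup.map_mono le_sup_left
      obtain ⟨ψ, hψ, he⟩ := (isMor_extFun hφ).restrict hWD
      have h := hwA.2
      rw [hAmap] at h
      intro z hz
      rw [← h ψ hψ] at hz
      obtain ⟨w, rfl⟩ := hz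
      exact ⟨⟨w, hWD w.2⟩, by rw [he w, extFun_apply φ (hWD w.2)]⟩
    set R := φ.range.subgroupOf S with hR
    have hRS : φ.range ≤ S := hRB.trans hB.1
    have hRB' : R ≤ A ⊔ Subgroup.zpowers X := hBA ▸ Subgroup.comap_mono hRB
    have hAR : A ≤ R := Subgroup.comap_mono hWR
    have hcard : Nat.card R = Nat.card (D d) := by
      rw [Nat.card_congr (Subgroup.subgroupOfEquivOfLe hRS).toEquiv,
        ← Nat.card_congr (MonoidHom.ofInjective (F.injective_of_mem hφ)).toEquiv,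
        Subgroup.card_map_of_injective S.subtype_injective]
    have hcyc : ∀ U : Subgroup S, U ≤ A ⊔ Subgroup.zpowers X → U.map π ≤ Subgroup.zpowers (π X) := by
      intro U hU
      refine (Subgroup.map_mono hU).trans ?_
      rw [Subgroup.map_sup, show A.map π = ⊥ from QuotientGroup.map_mk'_self A, bot_sup_eq, MonoidHom.map_zpowers]
    have hmapeq : R.map π = (D d).map π := by
      have hk : ∀ U : Subgroup S, A ≤ U → Nat.card A * Nat.card (U.map π) = Nat.card U := fun U hU =>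
        Cfsg.Agent.Solv.card_map_mk'_mul A U hU
      have he : Nat.card (R.map π) = Nat.card ((D d).map π) :=
        Nat.eq_of_mul_eq_mul_left Nat.card_pos ((hk R hAR).trans (hcard.trans (hk (D d) le_sup_left).symm))
      exact eq_of_card_eq_cyclic (hcyc R hRB') (hcyc _ (hDle d)) he
    have hRD : R = D d := by
      have hk : π.ker = A := QuotientGroup.ker_mk' A
      have := congrArg (Subgroup.comap π) hmapeq
      rwa [Subgroup.comap_map_eq, Subgroup.comap_map_eq, hk, sup_eq_left.2 hAR,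
        sup_eq_left.2 (le_sup_left : A ≤ D d)] at this
    exact (Subgroup.map_subgroupOf_eq_of_le hRS).symm.trans (congrArg (Subgroup.map S.subtype) hRD)
  have hnorm : ∀ d, (D d).Normal := fun d => normal_of_weaklyClosed (hwD d)
  have key : ∀ d, Relation.ReflTransGen (WStep p F) A (D d) := by
    intro d
    induction d with
    | zero => rw [hD0]
    | succ d ih =>
      refine ih.tail ⟨⟨?_, hnorm d, X ^ p ^ (n - (d + 1)), Subgroup.mem_sup_right (Subgroup.mem_zpowers _), ?_, ?_⟩,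
        hnorm _, hwD d, hwD _⟩
      · refine sup_le le_sup_left (Subgroup.zpowers_le.2 (Subgroup.mem_sup_right ?_))
        obtain ⟨j, hj⟩ : p ^ (n - (d + 1)) ∣ p ^ (n - d) := pow_dvd_pow p (by omega)
        rw [hj, pow_mul]
        exact pow_mem (Subgroup.mem_zpowers _) j
      · refine Subgroup.mem_sup_right ?_
        obtain ⟨j, hj⟩ : p ^ (n - d) ∣ p ^ (n - (d + 1)) * p := by
          rw [← pow_succ]; exact pow_dvd_pow p (by omega)
        rw [← pow_mul, hj, pow_mul]
        exact pow_mem (Subgroup.mem_zpowers _) j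
      · exact sup_le_sup_right le_sup_left _
  exact hDn ▸ key n

theorem exists_wchain (hS : IsPGroup p S) {F : FusionSystem S} {m : ℕ} (c : Fin (m + 1) → Subgroup Ω)
    (h0 : c 0 = ⊥) (hl : c (Fin.last m) = S) (hsc : ∀ i, F.StronglyClosed (c i))
    (hst : ∀ i : Fin m, c i.castSucc ≤ c i.succ ∧ ∃ x ∈ S, c i.succ = c i.castSucc ⊔ Subgroup.zpowers x) :
    Relation.ReflTransGen (WStep p F) ⊥ ⊤ := by
  have key : ∀ i, Relation.ReflTransGen (WStep p F) ⊥ ((c i).subgroupOf S) := by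
    intro i
    induction i using Fin.induction with
    | zero => rw [h0, Subgroup.bot_subgroupOf]
    | succ i ih =>
      obtain ⟨hle, x, hx, he⟩ := hst i
      exact ih.trans (refine_step hS (hsc _) (hsc _) hle hx he)
  have := key (Fin.last m)
  rwa [hl, Subgroup.subgroupOf_self] at this

theorem isNormal_of_wchain (hS : IsPGroup p S) {F : FusionSystem S} (hF : F.IsSaturated p)
    (h : Relation.ReflTransGen (WStep p F) ⊥ ⊤) : F.IsNormal S := by
  obtain ⟨m, c, h0, hl, hc⟩ := exists_list h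
  refine isNormal_of_series hS hF ⟨le_rfl, fun R _ φ hφ x => (F.le_of_mem hφ).2 x⟩
    (fun i => (c i).map S.subtype) (by simp only [h0, Subgroup.map_bot])
    (by simp only [hl, ← MonoidHom.range_eq_map, Subgroup.range_subtype])
    (Fin.monotone_iff_le_succ.2 fun i => Subgroup.map_mono (hc i).1.1) (fun i => ?_) fun i => (hc i).2.2.1
  rw [Subgroup.commutator_le]
  rintro _ ⟨a, ha, rfl⟩ g hg
  haveI := (hc i).1.2.1
  haveI := (hc i).2.1
  have h1 := step_central hS (hc i).1 a ha ⟨g, hg⟩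
  refine ⟨a * (a⁻¹ * (⟨g, hg⟩ * a * (⟨g, hg⟩ : S)⁻¹))⁻¹ * a⁻¹,
    Subgroup.Normal.conj_mem (hc i).1.2.1 _ ((c i.castSucc).inv_mem h1) a, ?_⟩
  simp only [commutatorElement_def, map_mul, map_inv]
  show _ = (a : Ω) * g * (a : Ω)⁻¹ * g⁻¹
  simp only [Subgroup.coe_subtype, Subgroup.coe_mul, Subgroup.coe_inv]
  group

/-- The maps of the semidirect product of `S` by a group of automorphisms. -/
def groupCond (H : Subgroup (MulAut S)) : MapCond (fullSystem S) S where
  C P f := ∃ h ∈ H, ∃ a ∈ S, ∀ x ∈ P, x ∈ S ∧ f x = a * autFun h x * a⁻¹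
  le := le_rfl
  congr := fun {P f g} _ ⟨k, hk, a, ha, h⟩ he =>
    ⟨k, hk, a, ha, fun x hx => ⟨(h x hx).1, (he x hx).trans (h x hx).2⟩⟩
  conj := fun {P a} hP ha => ⟨1, H.one_mem, a, ha, fun x hx => ⟨hP hx, by rw [Sparse.autFun_one' (hP hx)]⟩⟩
  comp := fun {P Q f g} _ ⟨k, hk, a, ha, h⟩ _ ⟨l, hl, b, hb, h'⟩ hm =>
    ⟨l * k, H.mul_mem hl hk, b * autFun l a, S.mul_mem hb (autFun_mem _ ha), fun x hx => by
      obtain ⟨hxT, hf⟩ := h x hx
      refine ⟨hxT, ?_⟩
      rw [Function.comp_apply, (h' _ (hm x hx)).2, hf, Sparse.autFun_conj_map _ ha (autFun_mem _ hxT),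
        ← Sparse.autFun_mul _ _ hxT]
      group⟩
  symm := fun {P R f g} hi ⟨k, hk, a, ha, h⟩ _ hgl _ =>
    ⟨k⁻¹, H.inv_mem hk, autFun k⁻¹ a⁻¹, autFun_mem _ (S.inv_mem ha), fun y hy => by
      obtain ⟨x, hx, rfl⟩ := hi.exists_apply hy
      obtain ⟨hxT, hf⟩ := h x hx
      have hu := autFun_mem k hxT
      refine ⟨hf ▸ S.mul_mem (S.mul_mem ha hu) (S.inv_mem ha), ?_⟩
      rw [hgl x hx, hf, Sparse.autFun_conj_map _ ha hu, ← Sparse.autFun_mul _ _ hxT, inv_mul_cancel,
        Sparse.autFun_one' hxT, Sparse.autFun_inv_map _ ha]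
      group⟩

theorem groupCond_saturated (hS : IsPGroup p S) (H : Subgroup (MulAut S))
    (hco : (Nat.card H).Coprime p) : (groupCond H).system.IsSaturated p := by
  have := finite_mulAut (le_refl S)
  let φ : H →* MulAut S := H.subtype
  let ι : S →* SemidirectProduct S H φ := SemidirectProduct.inl
  have : Finite (SemidirectProduct S H φ) := Finite.of_equiv _ SemidirectProduct.equivProd.symm
  have key : ∀ (k : H) (a x : S),
      ((SemidirectProduct.inl a : SemidirectProduct S H φ) * SemidirectProduct.inr k) * ι x *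
        (SemidirectProduct.inl a * SemidirectProduct.inr k)⁻¹ = ι (a * (k : MulAut S) x * a⁻¹) := by
    intro k a x
    show _ = SemidirectProduct.inl (a * φ k x * a⁻¹)
    rw [map_mul, map_mul, map_inv, SemidirectProduct.inl_aut]
    simp only [mul_inv_rev, ι, map_inv, mul_assoc]
  refine realized_saturated (F := (groupCond H).system) (ι := ι)
    (realized_intro SemidirectProduct.inl_injective ?_ ?_) ⟨((hS.to_subgroup ⊤).map ι).toSylow ?_, ?_⟩
  · intro P f hf
    obtain ⟨-, -, k, hk, a, ha, h⟩ := (groupCond H).isMor_system'.1 hf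
    refine ⟨SemidirectProduct.inl ⟨a, ha⟩ * SemidirectProduct.inr ⟨k, hk⟩, fun x y hx hy => ?_⟩
    rw [key]
    congr 1
    refine Subtype.ext (hy.trans ?_)
    rw [(h _ hx).2, autFun_coe]
    rfl
  · intro P hP g hg
    have hge : g = SemidirectProduct.inl g.left * SemidirectProduct.inr g.right :=
      (SemidirectProduct.inl_left_mul_inr_right g).symm
    refine ⟨fun x => (g.left : Ω) * autFun (g.right : MulAut S) x * (g.left : Ω)⁻¹,
      (groupCond H).isMor_system'.2 ⟨?_, ⟨hP, fun x hx => S.mul_mem (S.mul_mem g.left.2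
        (autFun_mem _ (hP hx))) (S.inv_mem g.left.2)⟩, g.right, g.right.2, _, g.left.2,
        fun x hx => ⟨hP hx, rfl⟩⟩,
      fun x y hx hy => ?_⟩
    · have h1 := (isMor_of_mem_autGroup le_rfl (mem_autGroup_full (g.right : MulAut S))).restrict hP
      exact h1.comp (isMor_conj le_rfl g.left.2) fun x hx => autFun_mem _ (hP hx)
    · rw [hge, key]
      congr 1
      refine Subtype.ext (hy.trans ?_)
      show (g.left : Ω) * autFun (g.right : MulAut S) x * (g.left : Ω)⁻¹ = _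
      rw [autFun_coe]
      rfl
  · rw [show (Subgroup.map ι ⊤).index = Nat.card H by
      rw [← MonoidHom.range_eq_map, SemidirectProduct.range_inl_eq_ker_rightHom,
        Subgroup.index_ker, MonoidHom.range_eq_top.2 SemidirectProduct.rightHom_surjective,
        Subgroup.card_top]]
    exact (Fact.out : p.Prime).coprime_iff_not_dvd.1 hco.symm
  · exact (MonoidHom.range_eq_map ι).symm

theorem weaklyClosed_invariant {F : FusionSystem S} {W : Subgroup S} (hW : F.WeaklyClosed (W.map S.subtype))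
    {α : MulAut S} (hα : α ∈ F.autGroup S) : ∀ x ∈ W, α x ∈ W := by
  intro x hx
  obtain ⟨φ, hφ, he⟩ := (isMor_of_mem_autGroup le_rfl hα).restrict (Subgroup.map_subtype_le W)
  obtain ⟨z, hz, hze⟩ : autFun α (x : Ω) ∈ W.map S.subtype :=
    (he ⟨x, x, hx, rfl⟩) ▸ (hW.2 φ hφ).le ⟨⟨x, x, hx, rfl⟩, rfl⟩
  rw [autFun_coe] at hze
  exact (Subtype.ext hze : z = α x) ▸ hz

theorem operators_small (hS : IsPGroup p S)
    (hall : ∀ F : FusionSystem S, F.IsSaturated p →
      ∃ (m : ℕ) (c : Fin (m + 1) → Subgroup Ω), c 0 = ⊥ ∧ c (Fin.last m) = S ∧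
        (∀ i : Fin (m + 1), F.StronglyClosed (c i)) ∧
        ∀ i : Fin m, c i.castSucc ≤ c i.succ ∧ ∃ x ∈ S, c i.succ = c i.castSucc ⊔ Subgroup.zpowers x)
    (H : Subgroup (MulAut S)) (hco : (Nat.card H).Coprime p) :
    IsMulCommutative H ∧ ∀ h ∈ H, h ^ (p - 1) = 1 := by
  haveI := finite_mulAut (le_refl S)
  obtain ⟨m, c, h0, hl, hsc, hst⟩ := hall _ (groupCond_saturated hS H hco)
  obtain ⟨M, D, hD0, hDl, hD⟩ := exists_list (exists_wchain hS c h0 hl hsc hst)
  have hH : H ≤ (groupCond H).system.autGroup S := by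
    intro h hh
    refine mem_autGroup_of_isMor (f := autFun h) ((groupCond H).isMor_system'.2
      ⟨isMor_of_mem_autGroup le_rfl (mem_autGroup_full h), ⟨le_rfl, fun y hy => autFun_mem h hy⟩,
        h, hh, 1, one_mem S, fun y hy => ⟨hy, ?_⟩⟩) fun x => (autFun_coe h x).symm
    rw [one_mul, inv_one, mul_one]
  have htriv : ∀ γ ∈ H, (∀ i : Fin M, ∀ x ∈ D i.succ, x⁻¹ * γ x ∈ D i.castSucc) → γ = 1 := by
    intro γ hγ hs
    let K : ℕ → Subgroup S := fun i => D ⟨min i M, by omega⟩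
    obtain ⟨k, hk⟩ := exists_pow_eq_one_of_stabilizes (p := p) hS (m := M) K
      (by simp only [K, Nat.zero_min]; exact hD0)
      (by simp only [K, min_self]; exact hDl)
      (fun i hi => by
        have := (hD ⟨i, hi⟩).1.1
        simp only [K, min_eq_left hi.le, min_eq_left (Nat.succ_le_of_lt hi)]
        exact this)
      (α := γ) (fun i hi x hx => by
        simp only [K, min_eq_left hi.le, min_eq_left (Nat.succ_le_of_lt hi)] at hx ⊢
        exact hs ⟨i, hi⟩ x hx)
    have h1 : orderOf γ ∣ p ^ k := orderOf_dvd_of_pow_eq_one hk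
    have h2 : orderOf γ ∣ Nat.card H := Subgroup.orderOf_dvd_natCard H hγ
    exact orderOf_eq_one_iff.1 (Nat.eq_one_of_dvd_coprimes (Nat.Coprime.pow_right k hco) h2 h1)
  have hinv : ∀ h ∈ H, ∀ i : Fin M, (∀ x ∈ D i.castSucc, h x ∈ D i.castSucc) ∧ ∀ x ∈ D i.succ, h x ∈ D i.succ :=
    fun h hh i => ⟨weaklyClosed_invariant (hD i).2.2.1 (hH hh), weaklyClosed_invariant (hD i).2.2.2 (hH hh)⟩
  refine ⟨⟨⟨fun a b => Subtype.ext ?_⟩⟩, fun h hh => htriv _ (H.pow_mem hh _) fun i =>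
    stab_pow (hD i).1 (hinv h hh i).1 (hinv h hh i).2⟩
  have := htriv ((a : MulAut S) * b * ((b : MulAut S) * a)⁻¹) (H.mul_mem (H.mul_mem a.2 b.2) (H.inv_mem (H.mul_mem b.2 a.2)))
    fun i => stab_commutator (hD i).1 (fun x hx => ⟨(hinv a a.2 i).1 x hx, (hinv b b.2 i).1 x hx⟩)
      (fun x hx => ⟨(hinv a a.2 i).2 x hx, (hinv b b.2 i).2 x hx⟩) (inv_mul_cancel_right _ _)
  exact mul_inv_eq_one.1 this

theorem exists_eigen {V : Type*} [AddCommGroup V] [Module (ZMod p) V] (T : V →ₗ[ZMod p] V)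
    (hT : ∀ x, (T ^ (p - 1)) x = x) {x : V} (hx : x ≠ 0) :
    ∃ (a : ZMod p) (w : V), w ≠ 0 ∧ T w = a • w ∧
      ∀ U : Submodule (ZMod p) V, x ∈ U → (∀ u ∈ U, T u ∈ U) → w ∈ U := by
  classical
  have hp' : 0 < p - 1 := by have := hp.1.two_le; omega
  let w : (ZMod p)ˣ → V := fun a => ∑ j ∈ Finset.range (p - 1), ((a : ZMod p) ^ j) • (T ^ j) x
  have hsum : ∑ a, w a = -x := by
    simp only [w]
    rw [Finset.sum_comm, Finset.sum_eq_single 0]
    · simp only [pow_zero, Module.End.one_apply, ← Finset.sum_smul]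
      rw [show (∑ _a : (ZMod p)ˣ, (1 : ZMod p)) = -1 by
        simpa using FiniteField.sum_pow_units (ZMod p) 0, neg_smul, one_smul]
    · intro j hj hj0
      rw [← Finset.sum_smul, FiniteField.sum_pow_units (ZMod p) j, ZMod.card, if_neg, zero_smul]
      intro h
      have := Nat.le_of_dvd (Nat.pos_of_ne_zero hj0) h
      have := Finset.mem_range.1 hj
      omega
    · intro h; exact absurd (Finset.mem_range.2 hp') h
  obtain ⟨a, ha⟩ : ∃ a, w a ≠ 0 := by
    by_contra h
    push Not at h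
    rw [Finset.sum_eq_zero fun a _ => h a, eq_comm, neg_eq_zero] at hsum
    exact hx hsum
  refine ⟨((a⁻¹ : (ZMod p)ˣ) : ZMod p), w a, ha, ?_, fun U hxU hU => U.sum_mem fun j _ => U.smul_mem _ ?_⟩
  · have h1 : (a : ZMod p) • T (w a) = w a := by
      simp only [w, map_sum, map_smul, Finset.smul_sum, smul_smul, ← pow_succ']
      have e1 := Finset.sum_range_succ' (fun j => ((a : ZMod p) ^ j) • (T ^ j) x) (p - 1)
      have e2 := Finset.sum_range_succ (fun j => ((a : ZMod p) ^ j) • (T ^ j) x) (p - 1)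
      rw [e2, hT, ← Units.val_pow_eq_pow_val, show a ^ (p - 1) = 1 by
        rw [← Nat.totient_prime hp.1]; exact ZMod.pow_totient a, Units.val_one, pow_zero, pow_zero] at e1
      simp only [Module.End.one_apply, Units.val_one, one_smul, add_left_inj] at e1
      refine Eq.trans (Finset.sum_congr rfl fun j _ => ?_) e1.symm
      rw [pow_succ', pow_succ' T, Module.End.mul_apply]
    nth_rw 2 [← h1]
    rw [smul_smul, ← Units.val_mul, inv_mul_cancel, Units.val_one, one_smul]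
  · have hpow : ∀ n : ℕ, (T ^ n) x ∈ U := fun n => by
      induction n with
      | zero => simpa using hxU
      | succ n ih => rw [pow_succ', Module.End.mul_apply]; exact hU _ ih
    exact hpow j

theorem exists_common_eigen {V : Type*} [AddCommGroup V] [Module (ZMod p) V] [Finite V] [Nontrivial V]
    {ι : Type*} (s : Finset ι) (T : ι → V →ₗ[ZMod p] V) (hT : ∀ i x, (T i ^ (p - 1)) x = x)
    (hc : ∀ i j x, T i (T j x) = T j (T i x)) :
    ∃ U : Submodule (ZMod p) V, U ≠ ⊥ ∧ (∀ i, ∀ u ∈ U, T i u ∈ U) ∧ ∀ i ∈ s, ∃ a : ZMod p, ∀ u ∈ U, T i u = a • u := by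
  classical
  induction s using Finset.induction with
  | empty => exact ⟨⊤, top_ne_bot, fun _ _ _ => trivial, fun i hi => absurd hi (Finset.notMem_empty i)⟩
  | @insert k s _ ih =>
    obtain ⟨U, hU, hinv, hsc⟩ := ih
    obtain ⟨x, hxU, hx⟩ := Submodule.exists_mem_ne_zero_of_ne_bot hU
    obtain ⟨a, w, hw, hTw, hwU⟩ := exists_eigen (T k) (hT k) hx
    refine ⟨U ⊓ LinearMap.eqLocus (T k) (a • LinearMap.id),
      (Submodule.ne_bot_iff _).2 ⟨w, ⟨hwU U hxU (hinv k), by simpa [LinearMap.mem_eqLocus] using hTw⟩, hw⟩, fun i u hu => ⟨hinv i u hu.1, ?_⟩, ?_⟩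
    · have h1 : T k u = a • u := hu.2
      show T k (T i u) = a • T i u
      rw [hc, h1, map_smul]
    · intro i hi
      rcases Finset.mem_insert.1 hi with rfl | hi
      · exact ⟨a, fun u hu => hu.2⟩
      · obtain ⟨b, hb⟩ := hsc i hi
        exact ⟨b, fun u hu => hb u hu.1⟩

theorem exists_common_eigen_mul {V : Type*} [CommGroup V] [Finite V] [Nontrivial V] (hV : ∀ x : V, x ^ p = 1)
    {ι : Type*} [Fintype ι] (f : ι → V →* V) (hf : ∀ i x, (f i)^[p - 1] x = x)
    (hc : ∀ i j x, f i (f j x) = f j (f i x)) :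
    ∃ v : V, v ≠ 1 ∧ ∀ i, ∃ n : ℕ, f i v = v ^ n := by
  letI : Module (ZMod p) (Additive V) := AddCommGroup.zmodModule fun x => hV x.toMul
  let T : ι → Additive V →ₗ[ZMod p] Additive V := fun i => AddMonoidHom.toZModLinearMap p (MonoidHom.toAdditive (f i))
  obtain ⟨U, hU, -, hsc⟩ := exists_common_eigen (Finset.univ : Finset ι) T (fun i x => by
    rw [Module.End.coe_pow]
    exact hf i x.toMul) (fun i j x => hc i j x.toMul)
  obtain ⟨v, hvU, hv⟩ := Submodule.exists_mem_ne_zero_of_ne_bot hU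
  refine ⟨v.toMul, hv, fun i => ?_⟩
  obtain ⟨a, ha⟩ := hsc i (Finset.mem_univ _)
  refine ⟨a.val, ?_⟩
  have h1 := ha v hvU
  rw [← ZMod.natCast_zmod_val a, Nat.cast_smul_eq_nsmul] at h1
  exact h1

/-- An invariant step exists above every proper invariant normal subgroup. -/
theorem exists_invariant_step (hS : IsPGroup p S) (H : Subgroup (MulAut S)) (hHc : IsMulCommutative H)
    (hHe : ∀ h ∈ H, h ^ (p - 1) = 1) (W : Subgroup S) [W.Normal] (hW : ∀ h ∈ H, ∀ x ∈ W, h x ∈ W)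
    (hWt : W ≠ ⊤) :
    ∃ y : S, y ∉ W ∧ (W ⊔ Subgroup.zpowers y).Normal ∧
      ∀ h ∈ H, ∀ x ∈ W ⊔ Subgroup.zpowers y, h x ∈ W ⊔ Subgroup.zpowers y := by
  classical
  haveI := finite_mulAut (le_refl S)
  haveI : Fintype H := Fintype.ofFinite H
  let π : S →* S ⧸ W := QuotientGroup.mk' W
  haveI : Nontrivial (S ⧸ W) := QuotientGroup.nontrivial_iff.2 hWt
  haveI := (hS.to_quotient W).center_nontrivial
  let Z := Subgroup.center (S ⧸ W)
  have hZc : ∀ a b : Z, a * b = b * a := fun a b => Subtype.ext (Subgroup.mem_center_iff.1 b.2 a)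
  letI : CommGroup Z := { Subgroup.toGroup Z with mul_comm := hZc }
  let K : Subgroup Z := (powMonoidHom p : Z →* Z).ker
  haveI : Nontrivial K := by
    obtain ⟨k, hk⟩ := IsPGroup.iff_card.1 ((hS.to_quotient W).to_subgroup Z)
    have : p ∣ Nat.card Z := hk ▸ dvd_pow_self p fun h => by
      rw [h, pow_zero] at hk; exact Finite.one_lt_card.ne' hk
    obtain ⟨z, hz⟩ := exists_prime_orderOf_dvd_card' (G := Z) p this
    refine ⟨⟨1, ⟨z, ?_⟩, fun h => ?_⟩⟩
    · show z ^ p = 1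
      rw [← hz, pow_orderOf_eq_one]
    · have h1 : (1 : Z) = z := congrArg Subtype.val h
      rw [← h1, orderOf_one] at hz
      exact hp.1.ne_one hz.symm
  let hbar : H → (S ⧸ W) →* (S ⧸ W) := fun h => QuotientGroup.map W W (h : MulAut S).toMonoidHom (hW h h.2)
  have hbs : ∀ h : H, Function.Surjective (hbar h) := fun h q => by
    obtain ⟨x, rfl⟩ := QuotientGroup.mk_surjective q
    exact ⟨QuotientGroup.mk ((h : MulAut S).symm x), by simp [hbar]⟩
  have hbc : ∀ (h : H) (z : Z), hbar h z ∈ Subgroup.center (S ⧸ W) := fun h z => Subgroup.mem_center_iff.2 fun q => by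
    obtain ⟨q, rfl⟩ := hbs h q
    rw [← map_mul, ← map_mul, Subgroup.mem_center_iff.1 z.2 q]
  let hz : H → Z →* Z := fun h => ((hbar h).comp Z.subtype).codRestrict Z (hbc h)
  let hk : H → K →* K := fun h => ((hz h).comp K.subtype).codRestrict K fun k => by
    show (hz h (k : Z)) ^ p = 1
    rw [← map_pow, show (k : Z) ^ p = 1 from k.2, map_one]
  obtain ⟨v, hv, hsc⟩ := exists_common_eigen_mul (p := p) (fun x : K => Subtype.ext x.2) hk
    (fun h x => by
      have hn : ∀ n : ℕ, ∀ q : S, (x : Z).1 = QuotientGroup.mk q →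
          (((hk h)^[n] x : K) : Z).1 = QuotientGroup.mk (((h : MulAut S) ^ n) q) := by
        intro n
        induction n with
        | zero => intro q hq; simpa using hq
        | succ n ih =>
          intro q hq
          rw [Function.iterate_succ_apply', pow_succ', MulAut.mul_apply]
          show hbar h (((hk h)^[n] x : K) : Z).1 = _
          rw [ih q hq]
          rfl
      obtain ⟨q, hq⟩ := QuotientGroup.mk_surjective (x : Z).1
      refine Subtype.ext (Subtype.ext ?_)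
      rw [hn _ q hq.symm, hHe h h.2]
      exact hq) (fun h k x => by
      refine Subtype.ext (Subtype.ext ?_)
      obtain ⟨q, hq⟩ := QuotientGroup.mk_surjective (x : Z).1
      show hbar h (hbar k (x : Z).1) = hbar k (hbar h (x : Z).1)
      rw [← hq]
      show QuotientGroup.mk ((h : MulAut S) ((k : MulAut S) q)) = QuotientGroup.mk ((k : MulAut S) ((h : MulAut S) q))
      rw [← MulAut.mul_apply, ← MulAut.mul_apply]
      rw [show (h : MulAut S) * k = (k : MulAut S) * h from congrArg Subtype.val (hHc.1.1 h k)])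
  set q : S ⧸ W := (v : Z).1 with hqdef
  obtain ⟨y, hy⟩ := QuotientGroup.mk_surjective q
  have hqc : q ∈ Subgroup.center (S ⧸ W) := (v : Z).2
  have hq1 : q ≠ 1 := fun h => hv (Subtype.ext (Subtype.ext h))
  have hcomap : W ⊔ Subgroup.zpowers y = (Subgroup.zpowers q).comap π := by
    have : Subgroup.zpowers q = (Subgroup.zpowers y).map π := by rw [MonoidHom.map_zpowers, ← hy]; rfl
    rw [this, Subgroup.comap_map_eq, QuotientGroup.ker_mk', sup_comm]
  refine ⟨y, fun h => hq1 (by rw [← hy]; exact (QuotientGroup.eq_one_iff y).2 h), ?_, fun h hh x hx => ?_⟩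
  · rw [hcomap]
    refine Subgroup.Normal.comap ⟨fun a ha g => ?_⟩ π
    have : a ∈ Subgroup.center (S ⧸ W) := (Subgroup.zpowers_le.2 hqc) ha
    rwa [Subgroup.mem_center_iff.1 this g, mul_inv_cancel_right]
  · obtain ⟨a, ha⟩ := hsc ⟨h, hh⟩
    have h2 : hbar ⟨h, hh⟩ q = q ^ a := by
      have h1 := congrArg (fun t : K => (t : Z).1) ha
      exact h1.trans (by simp [hqdef])
    rw [hcomap] at hx ⊢
    obtain ⟨i, hi⟩ := hx
    show π (h x) ∈ Subgroup.zpowers q
    rw [show π (h x) = hbar ⟨h, hh⟩ (π x) from rfl, ← hi, map_zpow, h2]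
    exact zpow_mem (pow_mem (Subgroup.mem_zpowers q) _) i

theorem chain_of_normal (hS : IsPGroup p S) {F : FusionSystem S} (hF : F.IsSaturated p) (hN : F.IsNormal S)
    (haut : ∀ H : Subgroup (MulAut S), (Nat.card H).Coprime p → IsMulCommutative H ∧ ∀ h ∈ H, h ^ (p - 1) = 1) :
    ∃ (m : ℕ) (c : Fin (m + 1) → Subgroup Ω), c 0 = ⊥ ∧ c (Fin.last m) = S ∧
      (∀ i : Fin (m + 1), F.StronglyClosed (c i)) ∧
      ∀ i : Fin m, c i.castSucc ≤ c i.succ ∧ ∃ x ∈ S, c i.succ = c i.castSucc ⊔ Subgroup.zpowers x := by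
  classical
  haveI := finite_mulAut (le_refl S)
  set A := F.autGroup S
  let N : Subgroup A := (Inn S).subgroupOf A
  obtain ⟨-, R, hR⟩ := fullyAutomized_top hS hF
  have hRN : (R : Subgroup A) = N := by
    rw [hR]
    refine congrArg (fun X : Subgroup (MulAut S) => X.subgroupOf A) (le_antisymm ?_ (inn_le_autInducedBy le_rfl))
    intro α hα
    obtain ⟨a, ha, -, h⟩ := mem_autInducedBy.1 hα
    exact ⟨⟨a, ha⟩, MulEquiv.ext fun x => Subtype.ext (h x).symm⟩
  haveI : N.Normal := inferInstance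
  have hco : (Nat.card N).Coprime N.index := by
    obtain ⟨k, hk⟩ := IsPGroup.iff_card.1 R.isPGroup'
    rw [hRN] at hk
    rw [hk]
    refine Nat.Coprime.pow_left k ((Nat.Prime.coprime_iff_not_dvd hp.1).2 ?_)
    rw [← hRN]
    exact R.not_dvd_index
  obtain ⟨K, hK⟩ := Subgroup.exists_right_complement'_of_coprime hco
  let H := K.map A.subtype
  have hH : (Nat.card H).Coprime p := by
    rw [Subgroup.card_map_of_injective A.subtype_injective, ← hK.symm.index_eq_card]
    refine ((Nat.Prime.coprime_iff_not_dvd hp.1).2 ?_).symm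
    rw [← hRN]
    exact R.not_dvd_index
  obtain ⟨hHc, hHe⟩ := haut H hH
  have hinv : ∀ W : Subgroup S, W.Normal → (∀ h ∈ H, ∀ x ∈ W, h x ∈ W) → ∀ α ∈ A, ∀ x ∈ W, α x ∈ W := by
    intro W hW hWH α hα x hx
    obtain ⟨⟨⟨i, hi⟩, ⟨k, hk⟩⟩, hik⟩ := hK.2 ⟨α, hα⟩
    have hα' : α = (i : MulAut S) * k := (congrArg Subtype.val hik).symm
    obtain ⟨s, hs⟩ : (i : MulAut S) ∈ Inn S := hi
    rw [hα', MulAut.mul_apply, ← hs, MulAut.conj_apply]
    exact hW.conj_mem _ (hWH _ ⟨k, hk, rfl⟩ x hx) s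
  let Good : Subgroup S → Prop := fun W => W.Normal ∧ ∀ h ∈ H, ∀ x ∈ W, h x ∈ W
  let Rel : Subgroup S → Subgroup S → Prop := fun W B => Good W ∧ Good B ∧ ∃ y, B = W ⊔ Subgroup.zpowers y
  have key : ∀ n, ∀ W : Subgroup S, W.index ≤ n → Good W → Relation.ReflTransGen Rel W ⊤ := by
    intro n
    induction n with
    | zero => intro W hn; exact absurd (Nat.le_zero.1 hn) Subgroup.index_ne_zero_of_finite
    | succ n ih =>
      intro W hn hW
      by_cases hWt : W = ⊤
      · rw [hWt]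
      haveI := hW.1
      obtain ⟨y, hy, hyn, hyi⟩ := exists_invariant_step hS H hHc hHe W hW.2 hWt
      refine Relation.ReflTransGen.head ⟨hW, ⟨hyn, hyi⟩, y, rfl⟩ (ih _ ?_ ⟨hyn, hyi⟩)
      have hlt : W < W ⊔ Subgroup.zpowers y :=
        lt_of_le_of_ne le_sup_left fun h => hy (h ▸ Subgroup.mem_sup_right (Subgroup.mem_zpowers y))
      have := Subgroup.index_strictAnti hlt
      omega
  obtain ⟨m, c, h0, hl, hc⟩ := exists_list (key _ ⊥ le_rfl ⟨inferInstance, fun h _ x hx => by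
    rw [Subgroup.mem_bot] at hx ⊢; rw [hx, map_one]⟩)
  have hgood : ∀ i, ∀ α ∈ A, ∀ x ∈ c i, α x ∈ c i := by
    intro i
    induction i using Fin.lastCases with
    | last => rw [hl]; exact fun _ _ _ _ => trivial
    | cast i => exact hinv _ (hc i).1.1 (hc i).1.2
  refine ⟨m, fun i => (c i).map S.subtype, by simp only [h0, Subgroup.map_bot],
    by simp only [hl, ← MonoidHom.range_eq_map, Subgroup.range_subtype], fun i => ⟨Subgroup.map_subtype_le _, ?_⟩,
    fun i => ?_⟩
  · intro R' hR' φ hφ x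
    obtain ⟨ψ, hψ, he, -⟩ := hN.2 R' φ hφ
    have hψm : IsMor F S (extFun ψ) := (isMor_extFun hψ).restrict le_sup_right
    have hi : IsIso F S S (extFun ψ) := hψm.isIso_self fun z hz => hψm.mem hz
    obtain ⟨z, hz, hzx⟩ := hR' x.2
    refine ⟨autOf hi z, hgood i _ (autOf_mem hi) z hz, ?_⟩
    show ((autOf hi z : S) : Ω) = φ x
    rw [autOf_apply, show (z : Ω) = (x : Ω) from hzx, extFun_apply ψ (le_sup_left (a := R') x.2)]
    exact he x
  · obtain ⟨-, -, y, hy⟩ := hc i
    have h : (c i.succ).map S.subtype = (c i.castSucc).map S.subtype ⊔ Subgroup.zpowers (y : Ω) := by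
      rw [hy, Subgroup.map_sup, MonoidHom.map_zpowers]; rfl
    exact ⟨le_sup_left.trans h.ge, y, y.2, h⟩

theorem iff_resistant (hS : IsPGroup p S) :
    (∀ F : FusionSystem S, F.IsSaturated p →
      ∃ (m : ℕ) (c : Fin (m + 1) → Subgroup Ω), c 0 = ⊥ ∧ c (Fin.last m) = S ∧
        (∀ i : Fin (m + 1), F.StronglyClosed (c i)) ∧
        ∀ i : Fin m, c i.castSucc ≤ c i.succ ∧ ∃ x ∈ S, c i.succ = c i.castSucc ⊔ Subgroup.zpowers x) ↔
    (∀ F : FusionSystem S, F.IsSaturated p → F.IsNormal S) ∧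
      ∀ H : Subgroup (MulAut S), (Nat.card H).Coprime p → IsMulCommutative H ∧ ∀ h ∈ H, h ^ (p - 1) = 1 := by
  refine ⟨fun h => ⟨fun F hF => ?_, operators_small hS h⟩, fun h F hF => chain_of_normal hS hF (h.1 F hF) h.2⟩
  obtain ⟨m, c, h0, hl, hsc, hst⟩ := h F hF
  exact isNormal_of_wchain hS hF (exists_wchain hS c h0 hl hsc hst)

end Cfsg.Agent.Fusion.SupersolType
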