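import Mathlib
import Cfsg.Agent.Lib.Fusion.Tate
import Cfsg.Agent.S0012
import Cfsg.Agent.Lib.Fusion.FactorClosed
import Cfsg.Agent.Lib.Fusion.NormalCriteria
import Cfsg.Agent.Lib.Fusion.NormalizerSystem

/-!
Consequences of the theorem of Tate.
-/

set_option autoImplicit false

open scoped commutatorElement

namespace Cfsg.Agent.Fusion

open Cfsg Cfsg.FusionSystem

universe v

variable {Ω : Type v} [Group Ω] {S : Subgroup Ω} [Finite S] {F : FusionSystem S} {p : ℕ} [Fact p.Prime]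

omit [Finite S] [Fact p.Prime] in
theorem normalizerIn_self : normalizerIn S S = S := inf_eq_left.2 Subgroup.le_normalizer

omit [Fact p.Prime] in
/-- When the normalizer system of `S` is inner the automorphisms of `S` are inner. -/
theorem autS_conj_of_normalizer_inner
    (h : ∀ N : FusionSystem (normalizerIn S S), F.IsNormalizerSystem S N →
      ∀ P : Subgroup Ω, N.Hom P = (innerFusionSystem (normalizerIn S S)).Hom P)
    {f : Ω → Ω} (hf : IsMor F S f) : ∃ a ∈ S, ∀ x ∈ S, f x = a * x * a⁻¹ := by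
  obtain ⟨N, hN⟩ := exists_normalizerSystem F (le_refl S)
  have hk := hf.isIso_self fun x hx => hf.mem hx
  obtain ⟨φ, hφ, he⟩ := id hf
  have hm : φ ∈ F.normalizerHom S S := by
    refine ⟨hφ, normalizerIn_self.ge, fun x => normalizerIn_self.ge ((F.le_of_mem hφ).2 x), ?_⟩
    obtain ⟨ψ, hψ, hψe⟩ := hf.restrict (le_of_eq (sup_idem S))
    refine ⟨ψ, hψ, fun x => (hψe _).trans (he x).symm, ?_⟩
    ext y
    constructor
    · rintro ⟨z, hz, rfl⟩
      rw [hψe]
      exact hk.apply_mem hz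
    · intro hy
      obtain ⟨z, hz, rfl⟩ := hk.exists_apply hy
      exact ⟨⟨z, Subgroup.mem_sup_left hz⟩, hz, hψe _⟩
  rw [← hN S, h N hN S] at hm
  obtain ⟨-, a, ha, hax⟩ := hm
  exact ⟨a, normalizerIn_le ha, fun x hx => (he ⟨x, hx⟩).symm.trans (hax _)⟩

variable (hS : IsPGroup p S) (hF : F.IsSaturated p)
include hS hF

/-- If a strongly closed subgroup contains `[S, S]` and the automorphisms of `S` are inner, it contains
the focal subgroup. -/
theorem focal_le_of_stronglyClosed {T : Subgroup Ω} (hc : ⁅S, S⁆ ≤ T) (hΦ : F.StronglyClosed T)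
    (hA : ∀ f : Ω → Ω, IsMor F S f → ∃ a ∈ S, ∀ x ∈ S, f x = a * x * a⁻¹) :
    F.focalSubgroup ≤ T := by
  set K := T.subgroupOf S
  have hcom : commutator S ≤ K := by
    rw [commutator_def, Subgroup.commutator_le]
    exact fun u _ w _ => hc (Subgroup.commutator_mem_commutator u.2 w.2)
  have hKn : K.Normal := ⟨fun u hu a => by
    have h1 := K.mul_mem (hcom (Subgroup.commutator_mem_commutator (Subgroup.mem_top a) (Subgroup.mem_top u))) hu
    simpa [commutatorElement_def] using h1⟩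
  let θ : S →* S ⧸ K := QuotientGroup.mk' _
  have hk : ∀ s : S, θ s = 1 ↔ (s : Ω) ∈ T := fun s => by
    rw [QuotientGroup.mk'_apply, QuotientGroup.eq_one_iff]
    rfl
  have hr : θ.range = ⊤ := MonoidHom.range_eq_top.2 (QuotientGroup.mk'_surjective _)
  obtain ⟨E, hE⟩ := exists_factor hk hr hΦ
  have hEs := factor_saturated hS hF hΦ hE
  have hfin : Finite (⊤ : Subgroup (S ⧸ K)) := inferInstance
  have hab : ⁅(⊤ : Subgroup (S ⧸ K)), (⊤ : Subgroup (S ⧸ K))⁆ = ⊥ := by
    rw [eq_bot_iff, Subgroup.commutator_le]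
    intro a _ b _
    induction a using QuotientGroup.induction_on with | H u => ?_
    induction b using QuotientGroup.induction_on with | H w => ?_
    rw [Subgroup.mem_bot]
    show ⁅QuotientGroup.mk' (K) u, QuotientGroup.mk' (K) w⁆ = 1
    rw [← map_commutatorElement, QuotientGroup.mk'_apply, QuotientGroup.eq_one_iff]
    exact hcom (Subgroup.commutator_mem_commutator (Subgroup.mem_top u) (Subgroup.mem_top w))
  have hSE : IsPGroup p (⊤ : Subgroup (S ⧸ K)) := (hS.to_quotient _).to_subgroup ⊤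
  have hnorm : E.IsNormal ⊤ := isNormal_of_abelian hSE hEs ⟨le_rfl, fun R hR φ hφ x => trivial⟩ hab
  refine (Subgroup.closure_le _).2 ?_
  rintro _ ⟨P, φ, x, hφ, rfl⟩
  have hf := isMor_extFun hφ
  obtain ⟨f', hf', hi⟩ := factor_isMor_of hS hF hΦ hE hf
  obtain ⟨k, hk', hke, hkQ⟩ := (isNormal_iff.1 hnorm).2 _ _ hf'
  obtain ⟨-, g, hg, hgi⟩ := (hk'.restrict (le_sup_right : (⊤ : Subgroup (S ⧸ K)) ≤ _)).factor_lift hE
  have hpre : preimageAlong θ (⊤ : Subgroup (S ⧸ K)) = S := by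
    ext y
    exact ⟨fun hy => preimageAlong_le hy, fun hy => mem_preimageAlong.2 ⟨hy, trivial⟩⟩
  rw [hpre] at hg hgi
  obtain ⟨a, ha, hax⟩ := hA g hg
  have hxS : (x : Ω) ∈ S := (F.le_of_mem hφ).1 x.2
  have hfS : φ x ∈ S := (F.le_of_mem hφ).2 x
  have haS : a * (x : Ω) * a⁻¹ ∈ S := S.mul_mem (S.mul_mem ha hxS) (S.inv_mem ha)
  have h1 := hi x x.2
  rw [extFun_coe, ← hke _ (imageAlong_mem hf.le x.2), hgi x hxS, hax x hxS,
    qfun_apply θ haS, qfun_apply θ hfS] at h1
  show (x : Ω)⁻¹ * φ x ∈ T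
  have h2 := QuotientGroup.eq.1 (h1 : ((⟨_, haS⟩ : S) : S ⧸ K) = ((⟨_, hfS⟩ : S) : S ⧸ K))
  have h3 := mul_mem (hcom (Subgroup.commutator_mem_commutator (Subgroup.mem_top (⟨x, hxS⟩ : S)⁻¹)
    (Subgroup.mem_top (⟨a, ha⟩ : S)))) h2
  simpa [K, Subgroup.mem_subgroupOf, commutatorElement_def, mul_assoc] using h3

/-- If `Φ(S)` is strongly closed and the automorphisms of `S` are inner, the focal subgroup lies in `Φ(S)`. -/
theorem focal_le_frattini (hΦ : F.StronglyClosed ((frattini S).map S.subtype))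
    (hA : ∀ f : Ω → Ω, IsMor F S f → ∃ a ∈ S, ∀ x ∈ S, f x = a * x * a⁻¹) :
    F.focalSubgroup ≤ (frattini S).map S.subtype :=
  focal_le_of_stronglyClosed hS hF (Subgroup.commutator_le.2 fun a ha b hb =>
    ⟨⁅(⟨a, ha⟩ : S), ⟨b, hb⟩⁆, (S0012.result p hS).1
      (Subgroup.commutator_mem_commutator (Subgroup.mem_top _) (Subgroup.mem_top _)), rfl⟩) hΦ hA

end Cfsg.Agent.Fusion
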