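import Mathlib
import Cfsg.Agent.Lib.Fusion.Monomial
import Cfsg.Agent.Lib.Fusion.Hyperfocal

/-!
Thompson transfer at the prime 2.
-/

set_option autoImplicit false

namespace Cfsg.Agent.Fusion

open Cfsg Cfsg.FusionSystem

universe v

variable {Ω : Type v} [Group Ω] {S : Subgroup Ω} [Finite S] {F : FusionSystem S}

omit [Finite S] in
theorem left_free {X : Type*} [MulAction (S × S) X]
    (hX : ∀ x : X, ∃ D f, IsTw F D f ∧ MulAction.stabilizer (S × S) x = D) (x : X) {a : S}
    (h : ((a, 1) : S × S) • x = x) : a = 1 := by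
  obtain ⟨D, f, ⟨hf, hfz⟩, hD⟩ := hX x
  have hm : ((a, 1) : S × S) ∈ D := hD ▸ h
  have h2 := hfz _ hm
  exact Subtype.ext (hf.eq_one (mem_prOne_of_mem hm) h2.symm)

/-- The data of the right orbits of a characteristic biset. -/
theorem exists_orbit_data {p : ℕ} [Fact p.Prime] (hS : IsPGroup p S) (hF : F.IsSaturated p) :
    ∃ (X : Type v) (_ : Finite X) (_ : MulAction (S × S) X) (O : Type v) (_ : Finite O) (m : ℕ)
      (sec : O → X) (mv : S → O → O) (kk : S → O → S),
      ¬ p ∣ m ∧ Nat.card O = m ∧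
      (∀ x : X, ∃ D f, IsTw F D f ∧ MulAction.stabilizer (S × S) x = D) ∧
      (∀ L L' : Subgroup (S × S), (TwRel F L L' ∨ (¬ TwFam F L ∧ ¬ TwFam F L')) →
        numFixed X L = numFixed X L') ∧
      (∀ a o, ((a, 1) : S × S) • sec o = ((1, (kk a o)⁻¹) : S × S) • sec (mv a o)) ∧
      (∀ x : X, ∃ o b, x = ((1, b) : S × S) • sec o) ∧
      (∀ o o' b b', ((1, b) : S × S) • sec o = ((1, b') : S × S) • sec o' → o = o' ∧ b = b') ∧
      (∀ a a' o, mv (a * a') o = mv a (mv a' o) ∧ kk (a * a') o = kk a (mv a' o) * kk a' o) ∧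
      (∀ o, mv 1 o = o ∧ kk 1 o = 1) ∧
      ∀ [Fintype O] {A : Type v} [CommGroup A] (χ : S →* A) (P : Subgroup Ω) (f : Ω → Ω), IsMor F P f →
        ∀ x y : S, (x : Ω) ∈ P → (y : Ω) = f x → ∏ o, χ (kk y o) = ∏ o, χ (kk x o) := by
  classical
  obtain ⟨X, _, _, ⟨m, hm, hcard⟩, hX, hfix⟩ := exists_biset hS hF
  letI st : Setoid X :=
    { r := fun x y => ∃ b : S, y = ((1, b) : S × S) • x
      iseqv :=
        { refl := fun x => ⟨1, by rw [Prod.mk_one_one, one_smul]⟩
          symm := by
            rintro x _ ⟨b, rfl⟩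
            exact ⟨b⁻¹, by rw [← mul_smul, Prod.mk_mul_mk, one_mul, inv_mul_cancel, Prod.mk_one_one, one_smul]⟩
          trans := by
            rintro x _ _ ⟨b, rfl⟩ ⟨b', rfl⟩
            exact ⟨b' * b, by rw [← mul_smul, Prod.mk_mul_mk, one_mul]⟩ } }
  let O := Quotient st
  let sec : O → X := fun o => o.out
  have hfree : ∀ (x : X) (b b' : S), ((1, b) : S × S) • x = ((1, b') : S × S) • x → b = b' := by
    intro x b b' h
    have : ((1, b'⁻¹ * b) : S × S) • x = x := by
      rw [show ((1, b'⁻¹ * b) : S × S) = ((1, b') : S × S)⁻¹ * (1, b) by simp, mul_smul, h, inv_smul_smul]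
    exact (inv_mul_eq_one.1 (right_free hX x this)).symm
  have hsec : ∀ x : X, ∃ b : S, x = ((1, b) : S × S) • sec ⟦x⟧ := fun x =>
    Quotient.exact (Quotient.out_eq (⟦x⟧ : O))
  choose β hβ using hsec
  let mv : S → O → O := fun a o => ⟦((a, 1) : S × S) • sec o⟧
  let lam : S → O → S := fun a o => β (((a, 1) : S × S) • sec o)
  have hmv : ∀ a o, ((a, 1) : S × S) • sec o = ((1, lam a o) : S × S) • sec (mv a o) := fun a o => hβ _
  have hclass : ∀ (o : O) (b : S), (⟦((1, b) : S × S) • sec o⟧ : O) = o := fun o b => by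
    conv_rhs => rw [← Quotient.out_eq o]
    exact Quotient.sound (st.symm ⟨b, rfl⟩)
  have huniq : ∀ (o o' : O) (b b' : S), ((1, b) : S × S) • sec o = ((1, b') : S × S) • sec o' →
      o = o' ∧ b = b' := by
    intro o o' b b' h
    have ho : o = o' := by rw [← hclass o b, h, hclass]
    subst ho
    exact ⟨rfl, hfree _ _ _ h⟩
  have hcomm : ∀ (a b : S), ((a, 1) : S × S) * (1, b) = (1, b) * (a, 1) := fun a b => by simp
  have hmul : ∀ a a' o, mv (a * a') o = mv a (mv a' o) ∧ lam (a * a') o = lam a' o * lam a (mv a' o) := by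
    intro a a' o
    apply huniq
    rw [← hmv, show ((a * a', 1) : S × S) = (a, 1) * (a', 1) by simp, mul_smul, hmv a' o, ← mul_smul,
      hcomm, mul_smul, hmv a, ← mul_smul]
    congr 1
    simp
  have hone : ∀ o, mv 1 o = o ∧ lam 1 o = 1 := fun o => by
    apply huniq
    rw [← hmv]
  have hOfin : Finite O := Quotient.finite st
  have hcardO : Nat.card O = m := by
    have e : X ≃ O × S :=
      { toFun := fun x => (⟦x⟧, β x)
        invFun := fun q => ((1, q.2) : S × S) • sec q.1
        left_inv := fun x => (hβ x).symm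
        right_inv := fun ⟨o, b⟩ => by
          have h := huniq _ _ _ _ (hβ (((1, b) : S × S) • sec o))
          exact Prod.ext h.1.symm h.2.symm }
    rw [Nat.card_congr e, Nat.card_prod] at hcard
    exact Nat.eq_of_mul_eq_mul_right Nat.card_pos hcard
  refine ⟨X, inferInstance, inferInstance, O, hOfin, m, sec, mv, fun a o => (lam a o)⁻¹, hm, hcardO, hX, hfix,
    fun a o => ?_, fun x => ⟨_, _, hβ x⟩, huniq, fun a a' o => ?_, fun o => ?_, ?_⟩
  · simp only [inv_inv]; exact hmv a o
  · exact ⟨(hmul a a' o).1, by simp only [(hmul a a' o).2, mul_inv_rev]⟩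
  · exact ⟨(hone o).1, by simp only [(hone o).2, inv_one]⟩
  · intro _ A _ χ P f hf x y hx hy
    set C : Subgroup S := P.subgroupOf S
    let fC : C →* S := MonoidHom.mk' (fun a => (⟨f ((a : S) : Ω), hf.mem a.2⟩ : S))
      fun u v => Subtype.ext (hf.map_mul u.2 v.2)
    let i1 : C × S →* S × S := C.subtype.prodMap (MonoidHom.id S)
    let i2 : C × S →* S × S := fC.prodMap (MonoidHom.id S)
    have hmor : ∀ L : Subgroup (C × S), prOne (L.map i1) ≤ P := by
      rintro L _ ⟨_, ⟨w, -, rfl⟩, rfl⟩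
      exact w.1.2
    have htr : ∀ L : Subgroup (C × S), IsTrans (L.map i1) (L.map i2) f 1 := by
      intro L z'
      constructor
      · rintro ⟨w, hw, rfl⟩
        exact ⟨i1 w, ⟨w, hw, rfl⟩, rfl, by simp [i1, i2]⟩
      · rintro ⟨z, ⟨w, hw, rfl⟩, h1, h2⟩
        refine ⟨w, hw, Prod.ext (Subtype.ext h1.symm) ?_⟩
        rw [h2]
        simp [i1, i2]
    have hnum : ∀ (i : C × S →* S × S) (L : Subgroup (C × S)),
        @numFixed (C × S) _ X (MulAction.compHom X i) L = numFixed X (L.map i) := fun i L =>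
      Nat.card_congr (Equiv.subtypeEquivRight fun x =>
        ⟨fun h => by rintro _ ⟨w, hw, rfl⟩; exact h w hw, fun h w hw => h _ ⟨w, hw, rfl⟩⟩)
    obtain ⟨σ, hσ⟩ := @exists_equivariant_of_numFixed (C × S) _ _ (Nat.card X) X X
      (MulAction.compHom X i1) (MulAction.compHom X i2) _ _ rfl fun L => by
        rw [hnum, hnum]
        exact hfix _ _ (rel_or_not_of_trans (htr L) (hf.restrict (hmor L)))
    have hσ' : ∀ (a : C) (b : S) (z : X),
        σ (((a : S), b) • z) = ((fC a, b) : S × S) • σ z := fun a b z => hσ (a, b) z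
    have hσr : ∀ (b : S) (z : X), σ (((1 : S), b) • z) = ((1, b) : S × S) • σ z := fun b z => by
      have := hσ' 1 b z
      rwa [Subgroup.coe_one, map_one] at this
    let τ : O → O := fun o => ⟦σ (sec o)⟧
    have hτinj : Function.Injective τ := by
      intro o o' h
      obtain ⟨b, hb⟩ := Quotient.exact h
      rw [← hσr] at hb
      have h1 := σ.injective hb
      rw [← hclass o b, ← h1]
      exact Quotient.out_eq o'
    have hτ : Function.Bijective τ := Finite.injective_iff_bijective.1 hτinj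
    set u : O → S := fun o => β (σ (sec o))
    have key : ∀ o, mv y (τ o) = τ (mv x o) ∧ u o * lam y (τ o) = lam x o * u (mv x o) := by
      intro o
      have hy' : fC ⟨x, hx⟩ = y := Subtype.ext hy.symm
      have e1 : σ (((x, 1) : S × S) • sec o) = ((y, 1) : S × S) • σ (sec o) := by
        rw [hσ' ⟨x, hx⟩ 1, hy']
      rw [hmv, hσr, hβ (σ (sec (mv x o))), hβ (σ (sec o)), ← mul_smul, ← mul_smul, hcomm, mul_smul ((1, β (σ (sec o))) : S × S),
        hmv, ← mul_smul] at e1
      simp only [Prod.mk_mul_mk, one_mul] at e1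
      obtain ⟨h1, h2⟩ := huniq _ _ _ _ e1
      exact ⟨h1.symm, h2.symm⟩
    rw [← inv_inj, ← Finset.prod_inv_distrib, ← Finset.prod_inv_distrib]
    simp only [map_inv, inv_inv]
    rw [← Equiv.prod_comp (Equiv.ofBijective τ hτ) (fun o => χ (lam y o))]
    have h3 : ∀ o, χ (lam y (τ o)) = (χ (u o))⁻¹ * χ (u (mv x o)) * χ (lam x o) := fun o => by
      rw [← map_inv, ← map_mul, mul_comm, ← map_mul, ← mul_inv_cancel_left (u o)⁻¹ (lam y (τ o)), inv_inv,
        (key o).2]
      simp only [map_mul, map_inv]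
      exact mul_left_comm _ _ _
    let perm : Equiv.Perm O := ⟨mv x, mv x⁻¹,
      fun o => by rw [← (hmul _ _ _).1, inv_mul_cancel, (hone o).1],
      fun o => by rw [← (hmul _ _ _).1, mul_inv_cancel, (hone o).1]⟩
    have h4 : ∏ o, χ (u (mv x o)) = ∏ o, χ (u o) := Equiv.prod_comp perm (fun o => χ (u o))
    calc ∏ o, χ (lam y (Equiv.ofBijective τ hτ o)) = ∏ o, (χ (u o))⁻¹ * χ (u (mv x o)) * χ (lam x o) :=
          Finset.prod_congr rfl fun o _ => h3 o
      _ = ∏ o, χ (lam x o) := by
          rw [Finset.prod_mul_distrib, Finset.prod_mul_distrib, h4, Finset.prod_inv_distrib, inv_mul_cancel, one_mul]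

theorem dvd_card_of_stabilizers {G X : Type*} [Group G] [MulAction G X] [Finite G] [Finite X] {d : ℕ}
    (h : ∀ x : X, d ∣ Nat.card (MulAction.orbit G x)) : d ∣ Nat.card X := by
  classical
  have := Fintype.ofFinite (MulAction.orbitRel.Quotient G X)
  rw [Nat.card_congr (MulAction.selfEquivSigmaOrbits' G X), Nat.card_sigma]
  refine Finset.dvd_sum fun q _ => ?_
  rw [MulAction.orbitRel.Quotient.orbit_eq_orbit_out q Quotient.out_eq']
  exact h _

section Two

variable (hS : IsPGroup 2 S) (hF : F.IsSaturated 2)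
include hS hF

/-- An involution all whose fully centralized conjugates lie outside the kernel of a character is not
focal. -/
theorem not_mem_focal_of_conjugates {A : Type v} [CommGroup A] (χ : S →* A) {a : A} (ha : a ≠ 1)
    (hA : ∀ b : A, b = 1 ∨ b = a) {i : S} (hi : orderOf i = 2)
    (h : ∀ j : S, (∃ f, IsMor F (Subgroup.zpowers (i : Ω)) f ∧ f i = j) → χ j = 1 →
      ∃ j' : S, (∃ f, IsMor F (Subgroup.zpowers (i : Ω)) f ∧ f i = j') ∧
        Nat.card (Subgroup.centralizer ({j} : Set S)) < Nat.card (Subgroup.centralizer ({j'} : Set S))) :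
    (i : Ω) ∉ F.focalSubgroup := by
  classical
  have h2p : Fact (Nat.Prime 2) := ⟨Nat.prime_two⟩
  obtain ⟨X, _, _, O, _, m, sec, mv, kk, hm, hcardO, hX, hfix, hmv, hcov, huniq, hmul, hone, hinv⟩ :=
    exists_orbit_data hS hF
  letI := Fintype.ofFinite O
  intro hfoc
  set t : S → A := fun x => ∏ o, χ (kk x o) with ht
  let T : S →* A := MonoidHom.mk' t fun a a' => by
    simp only [ht]
    let pm : Equiv.Perm O := ⟨mv a', mv a'⁻¹,
      fun o => by rw [← (hmul _ _ _).1, inv_mul_cancel, (hone o).1],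
      fun o => by rw [← (hmul _ _ _).1, mul_inv_cancel, (hone o).1]⟩
    rw [← Equiv.prod_comp pm (fun o => χ (kk a o)), ← Finset.prod_mul_distrib]
    exact Finset.prod_congr rfl fun o _ => by rw [(hmul a a' o).2, map_mul]; rfl
  have hker : F.focalSubgroup ≤ T.ker.map S.subtype := by
    refine (Subgroup.closure_le _).2 ?_
    rintro _ ⟨P, φ, x, hφ, rfl⟩
    have hxS : (x : Ω) ∈ S := (F.le_of_mem hφ).1 x.2
    refine ⟨(⟨x, hxS⟩ : ↥S)⁻¹ * ⟨φ x, (F.le_of_mem hφ).2 x⟩, ?_, rfl⟩
    show T _ = 1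
    rw [map_mul, map_inv, inv_mul_eq_one]
    exact (hinv χ P _ (isMor_extFun hφ) ⟨x, hxS⟩ ⟨φ x, (F.le_of_mem hφ).2 x⟩ x.2 (extFun_coe φ x).symm).symm
  obtain ⟨w, hw, hwi⟩ := hker hfoc
  have hTi : t i = 1 := by
    rw [show i = w from Subtype.ext hwi.symm]; exact hw
  have hii : i * i = 1 := by rw [← pow_two, ← hi, pow_orderOf_eq_one]
  have hsq : ∀ o, mv i (mv i o) = o ∧ kk i (mv i o) * kk i o = 1 := fun o => by
    obtain ⟨h1, h2⟩ := hmul i i o
    rw [hii, (hone o).1] at h1
    rw [hii, (hone o).2] at h2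
    exact ⟨h1.symm, h2.symm⟩
  set F0 := Finset.univ.filter (fun o => mv i o = o) with hF0
  have hprod : t i = ∏ o ∈ F0, χ (kk i o) := by
    simp only [ht]
    rw [← Finset.prod_filter_mul_prod_filter_not Finset.univ (fun o => mv i o = o)]
    have : ∏ o ∈ Finset.univ.filter (fun o => ¬ mv i o = o), χ (kk i o) = 1 := by
      refine Finset.prod_involution (fun o _ => mv i o) (fun o _ => ?_) (fun o ho _ => ?_) (fun o ho => ?_)
        (fun o _ => (hsq o).1)
      · rw [mul_comm, ← map_mul, (hsq o).2, map_one]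
      · exact (Finset.mem_filter.1 ho).2
      · refine Finset.mem_filter.2 ⟨Finset.mem_univ _, fun e => (Finset.mem_filter.1 ho).2 ?_⟩
        rw [(hsq o).1] at e
        exact e.symm
    rw [this, mul_one]
  have hodd : F0.card % 2 = 1 := by
    have h0 : ((Finset.univ.filter (fun o => ¬ mv i o = o)).card : ZMod 2) = 0 := by
      rw [Finset.cast_card]
      refine Finset.sum_involution (fun o _ => mv i o) (fun o _ => CharTwo.add_self_eq_zero 1) (fun o ho _ => ?_) (fun o ho => ?_)
        (fun o _ => (hsq o).1)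
      · exact (Finset.mem_filter.1 ho).2
      · refine Finset.mem_filter.2 ⟨Finset.mem_univ _, fun e => (Finset.mem_filter.1 ho).2 ?_⟩
        rw [(hsq o).1] at e
        exact e.symm
    rw [ZMod.natCast_eq_zero_iff_even] at h0
    have h1 := Finset.card_filter_add_card_filter_not (s := (Finset.univ : Finset O)) (fun o => mv i o = o)
    rw [Finset.card_univ, ← Nat.card_eq_fintype_card, hcardO] at h1
    rw [Nat.even_iff] at h0
    rw [Nat.dvd_iff_mod_eq_zero] at hm
    simp only [hF0]
    omega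
  -- the conjugates in the kernel occur an even number of times
  have hfam : ∀ o, mv i o = o → ((i, kk i o) : S × S) • sec o = sec o := fun o ho => by
    rw [show ((i, kk i o) : S × S) = (1, kk i o) * (i, 1) by simp, mul_smul, hmv, ho, ← mul_smul]
    simp [Prod.mk_one_one]
  have hconj : ∀ o, mv i o = o → ∃ f, IsMor F (Subgroup.zpowers (i : Ω)) f ∧ f i = kk i o := by
    intro o ho
    obtain ⟨D', f, ⟨hf, hfz⟩, hD⟩ := hX (sec o)
    have hm' : ((i, kk i o) : S × S) ∈ D' := hD ▸ hfam o ho
    exact ⟨f, hf.restrict (Subgroup.zpowers_le.2 (mem_prOne_of_mem hm')), (hfz _ hm').symm⟩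
  have hclass : ∀ c : ConjClasses S,
      2 ∣ ((F0.filter (fun o => χ (kk i o) = 1)).filter (fun o => ConjClasses.mk (kk i o) = c)).card := by
    intro c
    set Fc := (F0.filter (fun o => χ (kk i o) = 1)).filter (fun o => ConjClasses.mk (kk i o) = c)
    rcases Fc.eq_empty_or_nonempty with he | ⟨o₀, ho₀⟩
    · simp [he]
    obtain ⟨ho₀', hc₀⟩ := Finset.mem_filter.1 ho₀
    obtain ⟨ho₀'', hχ₀⟩ := Finset.mem_filter.1 ho₀'
    set k := kk i o₀ with hk
    have hki := hconj o₀ (Finset.mem_filter.1 ho₀'').2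
    obtain ⟨j, ⟨fj, hfj, hfji⟩, hlt⟩ := h k hki hχ₀
    -- count the points fixed by `(i, k)`
    set C := Subgroup.centralizer ({k} : Set S)
    let Fx : S → S → Type v := fun a b => {x : X // ((a, b) : S × S) • x = x}
    have hcount : Nat.card (Fx i k) = Fc.card * Nat.card C := by
      have hrep : ∀ o ∈ Fc, ∃ b : S, b * kk i o * b⁻¹ = k := fun o ho => by
        have h1 := (Finset.mem_filter.1 ho).2.trans hc₀.symm
        exact isConj_iff.1 (ConjClasses.mk_eq_mk_iff_isConj.1 h1)
      choose b₀ hb₀ using hrep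
      have hfix' : ∀ o b, ((i, k) : S × S) • ((1, b) : S × S) • sec o = ((1, b) : S × S) • sec o ↔
          mv i o = o ∧ b * kk i o * b⁻¹ = k := by
        intro o b
        have e : ((i, k) : S × S) • ((1, b) : S × S) • sec o =
            ((1, k * b * (kk i o)⁻¹) : S × S) • sec (mv i o) := by
          rw [← mul_smul, show ((i, k) : S × S) * (1, b) = (1, k * b) * (i, 1) by simp, mul_smul, hmv, ← mul_smul]
          simp [mul_assoc]
        rw [e]
        constructor
        · intro h'
          obtain ⟨h1, h2⟩ := huniq _ _ _ _ h'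
          refine ⟨h1, ?_⟩
          rw [mul_inv_eq_iff_eq_mul] at h2
          rw [← h2, mul_assoc, mul_inv_cancel, mul_one]
        · rintro ⟨h1, h2⟩
          rw [h1, ← h2]
          congr 2
          group
      let e : {o // o ∈ Fc} × C → Fx i k := fun q => ⟨((1, (q.2 : S) * b₀ q.1.1 q.1.2) : S × S) • sec q.1.1,
        (hfix' _ _).2 ⟨(Finset.mem_filter.1 (Finset.mem_filter.1 (Finset.mem_filter.1 q.1.2).1).1).2, by
          have h3 := hb₀ q.1.1 q.1.2
          have h4 := Subgroup.mem_centralizer_singleton_iff.1 q.2.2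
          calc (q.2 : S) * b₀ q.1.1 q.1.2 * kk i q.1.1 * ((q.2 : S) * b₀ q.1.1 q.1.2)⁻¹
              = (q.2 : S) * (b₀ q.1.1 q.1.2 * kk i q.1.1 * (b₀ q.1.1 q.1.2)⁻¹) * (q.2 : S)⁻¹ := by group
            _ = k := by rw [h3, h4, mul_inv_cancel_right]⟩⟩
      have hbij : Function.Bijective e := by
        constructor
        · intro q q' hqq
          obtain ⟨h1, h2⟩ := huniq _ _ _ _ (congrArg Subtype.val hqq)
          have h1' : q.1 = q'.1 := Subtype.ext h1
          obtain ⟨⟨o, ho⟩, c1⟩ := q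
          obtain ⟨⟨o', ho'⟩, c2⟩ := q'
          cases h1'
          exact Prod.ext rfl (Subtype.ext (mul_right_cancel h2))
        · rintro ⟨x, hx⟩
          obtain ⟨o, b, rfl⟩ := hcov x
          obtain ⟨hmvo, hbk⟩ := (hfix' o b).1 hx
          have hoc : ConjClasses.mk (kk i o) = c := by
            rw [← hc₀]
            exact ConjClasses.mk_eq_mk_iff_isConj.2 (isConj_iff.2 ⟨b, hbk⟩)
          have hχo : χ (kk i o) = 1 := by
            rw [← hχ₀, hk] at *
            rw [← hbk, map_mul, map_mul, map_inv, mul_right_comm, mul_inv_cancel, one_mul]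
          have hoF : o ∈ Fc := Finset.mem_filter.2 ⟨Finset.mem_filter.2
            ⟨Finset.mem_filter.2 ⟨Finset.mem_univ _, hmvo⟩, hχo⟩, hoc⟩
          refine ⟨(⟨o, hoF⟩, ⟨b * (b₀ o hoF)⁻¹, Subgroup.mem_centralizer_singleton_iff.2 ?_⟩), Subtype.ext ?_⟩
          · have h3 := hb₀ o hoF
            calc b * (b₀ o hoF)⁻¹ * k = b * (b₀ o hoF)⁻¹ * (b₀ o hoF * kk i o * (b₀ o hoF)⁻¹) := by rw [h3]
              _ = (b * kk i o * b⁻¹) * (b * (b₀ o hoF)⁻¹) := by group
              _ = k * (b * (b₀ o hoF)⁻¹) := by rw [hbk]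
          · show ((1, b * (b₀ o hoF)⁻¹ * b₀ o hoF) : S × S) • sec o = _
            rw [inv_mul_cancel_right]
      rw [← Nat.card_congr (Equiv.ofBijective e hbij), Nat.card_prod, Nat.card_eq_fintype_card, Fintype.card_coe]
    -- move the left entry to `j`
    have hnum : ∀ a b : S, numFixed X (Subgroup.zpowers ((a, b) : S × S)) = Nat.card (Fx a b) := fun a b =>
      Nat.card_congr (Equiv.subtypeEquivRight fun x => ⟨fun h' => h' _ (Subgroup.mem_zpowers _), fun h' l hl => by
        obtain ⟨n, rfl⟩ := hl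
        exact (MulAction.stabilizer (S × S) x).zpow_mem (MulAction.mem_stabilizer_iff.2 h') n⟩)
    have hmove : Nat.card (Fx i k) = Nat.card (Fx j k) := by
      rw [← hnum, ← hnum]
      have hp : prOne (Subgroup.zpowers ((i, k) : S × S)) ≤ Subgroup.zpowers (i : Ω) := by
        rintro _ ⟨_, ⟨n, rfl⟩, rfl⟩
        exact ⟨n, by simp⟩
      refine hfix _ _ (rel_or_not_of_trans (θ := fj) (b := 1) ?_ (hfj.restrict hp))
      have hpow : ∀ n : ℤ, fj ((i : Ω) ^ n) = (j : Ω) ^ n := by
        intro n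
        obtain ⟨φ, hφ, he⟩ := hfj
        rw [← hfji, ← show φ ⟨_, Subgroup.mem_zpowers (i : Ω)⟩ = fj i from he _, ← map_zpow, he]
        rfl
      intro z'
      constructor
      · rintro ⟨n, rfl⟩
        exact ⟨_, Subgroup.zpow_mem _ (Subgroup.mem_zpowers _) n, by simp [hpow], by simp⟩
      · rintro ⟨_, ⟨n, rfl⟩, h1, h2⟩
        refine ⟨n, Prod.ext (Subtype.ext ?_) ?_⟩
        · rw [h1]; simp [hpow]
        · rw [h2]; simp
    -- orbit sizes of the centralizers
    set Cj := Subgroup.centralizer ({j} : Set S)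
    have hdvd : 2 * Nat.card C ∣ Nat.card (Fx j k) := by
      let act : MulAction (Cj × C) (Fx j k) :=
        { smul := fun g x => ⟨(((g.1 : S), (g.2 : S)) : S × S) • x.1, by
            have e : ((j, k) : S × S) * ((g.1 : S), (g.2 : S)) = ((g.1 : S), (g.2 : S)) * (j, k) := Prod.ext
              (Subgroup.mem_centralizer_singleton_iff.1 g.1.2).symm
              (Subgroup.mem_centralizer_singleton_iff.1 g.2.2).symm
            rw [← mul_smul, e, mul_smul, x.2]⟩
          one_smul := fun x => Subtype.ext (by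
            show (((1 : S), (1 : S)) : S × S) • x.1 = x.1
            rw [Prod.mk_one_one, one_smul])
          mul_smul := fun g g' x => Subtype.ext (by
            show _ = (((g.1 : S), (g.2 : S)) : S × S) • ((((g'.1 : S), (g'.2 : S)) : S × S) • x.1)
            rw [← mul_smul]
            rfl) }
      refine dvd_card_of_stabilizers (G := Cj × C) fun x => ?_
      have hst : Nat.card (MulAction.stabilizer (Cj × C) x) ∣ Nat.card C := by
        let π : MulAction.stabilizer (Cj × C) x →* C :=
          (MonoidHom.snd Cj C).comp (MulAction.stabilizer (Cj × C) x).subtype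
        refine Subgroup.card_dvd_of_injective π ?_
        rw [← MonoidHom.ker_eq_bot_iff, eq_bot_iff]
        rintro ⟨⟨g₁, g₂⟩, hg⟩ hg2
        have hg2' : g₂ = 1 := hg2
        have h1 : (((g₁ : S), (1 : S)) : S × S) • x.1 = x.1 := by
          have := congrArg Subtype.val (MulAction.mem_stabilizer_iff.1 hg)
          rw [hg2'] at this
          exact this
        rw [Subgroup.mem_bot]
        exact Subtype.ext (Prod.ext (Subtype.ext (left_free hX _ h1)) hg2')
      have horb : Nat.card (MulAction.orbit (Cj × C) x) * Nat.card (MulAction.stabilizer (Cj × C) x) =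
          Nat.card Cj * Nat.card C := by
        rw [← Nat.card_prod Cj C, Nat.card_congr (MulAction.orbitEquivQuotientStabilizer (Cj × C) x)]
        exact (Subgroup.card_eq_card_quotient_mul_card_subgroup _).symm
      have hlt2 : Nat.card C < Nat.card Cj := hlt
      obtain ⟨a', ha'⟩ := IsPGroup.iff_card.1 (hS.to_subgroup Cj)
      obtain ⟨b', hb'⟩ := IsPGroup.iff_card.1 (hS.to_subgroup C)
      rw [hb'] at hst
      obtain ⟨c', hc', hc''⟩ := (Nat.dvd_prime_pow Nat.prime_two).1 hst
      rw [ha', hb', hc''] at horb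
      rw [ha', hb'] at hlt2
      have hab : b' < a' := (Nat.pow_lt_pow_iff_right (by norm_num)).1 hlt2
      have he : Nat.card (MulAction.orbit (Cj × C) x) = 2 ^ (a' + b' - c') := by
        refine Nat.eq_of_mul_eq_mul_right (pow_pos (by norm_num : 0 < 2) c') ?_
        rw [horb, ← pow_add, ← pow_add]
        congr 1
        omega
      rw [he, hb', ← pow_succ']
      exact pow_dvd_pow 2 (by omega)
    rw [← hmove, hcount] at hdvd
    exact Nat.dvd_of_mul_dvd_mul_right Nat.card_pos hdvd
  have heven : 2 ∣ (F0.filter (fun o => χ (kk i o) = 1)).card := by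
    rw [Finset.card_eq_sum_card_fiberwise (f := fun o => ConjClasses.mk (kk i o))
      (t := (F0.filter (fun o => χ (kk i o) = 1)).image (fun o => ConjClasses.mk (kk i o)))
      (fun o ho => Finset.mem_image_of_mem _ ho)]
    exact Finset.dvd_sum fun c _ => hclass c
  have haa : a * a = 1 := (hA (a * a)).elim id fun e => absurd (mul_eq_left.1 e) ha
  have hval : t i = a ^ (F0.filter (fun o => ¬ χ (kk i o) = 1)).card := by
    rw [hprod, ← Finset.prod_filter_mul_prod_filter_not F0 (fun o => χ (kk i o) = 1),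
      Finset.prod_eq_one (fun o ho => (Finset.mem_filter.1 ho).2), one_mul, ← Finset.prod_const]
    exact Finset.prod_congr rfl fun o ho => (hA _).resolve_left (Finset.mem_filter.1 ho).2
  have hsum := Finset.card_filter_add_card_filter_not (s := F0) (fun o => χ (kk i o) = 1)
  obtain ⟨r, hr⟩ : ∃ r, (F0.filter (fun o => ¬ χ (kk i o) = 1)).card = 2 * r + 1 := by
    obtain ⟨e', he'⟩ := heven
    exact ⟨(F0.filter (fun o => ¬ χ (kk i o) = 1)).card / 2, by omega⟩
  rw [hr, pow_succ, pow_mul, pow_two, haa, one_pow, one_mul] at hval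
  exact ha (hval.symm.trans hTi)

end Two

end Cfsg.Agent.Fusion
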