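import Cfsg.Agent.Lib.Fusion.Transfer

/-!
The transfer of a saturated system evaluated against a character.
-/

set_option autoImplicit false

namespace Cfsg.Agent.Fusion

open Cfsg Cfsg.FusionSystem

universe v

variable {Ω : Type v} [Group Ω] {S : Subgroup Ω} [Finite S] {F : FusionSystem S} {p : ℕ} [Fact p.Prime]

/-- The transfer, with its values against characters. -/
theorem exists_transfer_eval (hS : IsPGroup p S) (hF : F.IsSaturated p) :
    ∃ (m : ℕ) (t : S →* Abelianization S), ¬ p ∣ m ∧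
      (∀ (P : Subgroup Ω) (f : Ω → Ω), IsMor F P f → ∀ (x y : S), (x : Ω) ∈ P → (y : Ω) = f x → t y = t x) ∧
      ∀ {B : Type v} [CommGroup B] (χ : S →* B) (z : S),
        (∀ (l : ℕ) (P : Subgroup Ω) (f : Ω → Ω), IsMor F P f → ∀ y : S, ((z ^ l : S) : Ω) ∈ P →
          (y : Ω) = f ((z ^ l : S) : Ω) → χ y = χ (z ^ l)) →
        Abelianization.lift χ (t z) = (χ z)⁻¹ ^ m := by
  classical
  obtain ⟨X, _, _, ⟨m, hm, hcard⟩, hX, hfix⟩ := exists_biset hS hF
  letI st : Setoid X :=
    { r := fun x y => ∃ b : S, y = ((1, b) : S × S) • x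
      iseqv :=
        { refl := fun x => ⟨1, by rw [Prod.mk_one_one, one_smul]⟩
          symm := by
            rintro x _ ⟨b, rfl⟩
            exact ⟨b⁻¹, by rw [← mul_smul, Prod.mk_mul_mk, one_mul, inv_mul_cancel, Prod.mk_one_one, one_smul]⟩
          trans := by
            rintro x _ _ ⟨b, rfl⟩ ⟨b', rfl⟩
            exact ⟨b' * b, by rw [← mul_smul, Prod.mk_mul_mk, one_mul]⟩ } }
  let O := Quotient st
  let sec : O → X := fun o => o.out
  have hfree : ∀ (x : X) (b b' : S), ((1, b) : S × S) • x = ((1, b') : S × S) • x → b = b' := by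
    intro x b b' h
    have : ((1, b'⁻¹ * b) : S × S) • x = x := by
      rw [show ((1, b'⁻¹ * b) : S × S) = ((1, b') : S × S)⁻¹ * (1, b) by simp, mul_smul, h, inv_smul_smul]
    exact (inv_mul_eq_one.1 (right_free hX x this)).symm
  have hsec : ∀ x : X, ∃ b : S, x = ((1, b) : S × S) • sec ⟦x⟧ := fun x =>
    Quotient.exact (Quotient.out_eq (⟦x⟧ : O))
  choose β hβ using hsec
  let mv : S → O → O := fun a o => ⟦((a, 1) : S × S) • sec o⟧
  let lam : S → O → S := fun a o => β (((a, 1) : S × S) • sec o)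
  have hmv : ∀ a o, ((a, 1) : S × S) • sec o = ((1, lam a o) : S × S) • sec (mv a o) := fun a o => hβ _
  have hclass : ∀ (o : O) (b : S), (⟦((1, b) : S × S) • sec o⟧ : O) = o := fun o b => by
    conv_rhs => rw [← Quotient.out_eq o]
    exact Quotient.sound (st.symm ⟨b, rfl⟩)
  have huniq : ∀ (o o' : O) (b b' : S), ((1, b) : S × S) • sec o = ((1, b') : S × S) • sec o' →
      o = o' ∧ b = b' := by
    intro o o' b b' h
    have ho : o = o' := by rw [← hclass o b, h, hclass]
    subst ho
    exact ⟨rfl, hfree _ _ _ h⟩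
  have hcomm : ∀ (a b : S), ((a, 1) : S × S) * (1, b) = (1, b) * (a, 1) := fun a b => by simp
  have hmul : ∀ a a' o, mv (a * a') o = mv a (mv a' o) ∧ lam (a * a') o = lam a' o * lam a (mv a' o) := by
    intro a a' o
    apply huniq
    rw [← hmv, show ((a * a', 1) : S × S) = (a, 1) * (a', 1) by simp, mul_smul, hmv a' o, ← mul_smul,
      hcomm, mul_smul, hmv a, ← mul_smul]
    congr 1
    simp
  have hone : ∀ o, mv 1 o = o ∧ lam 1 o = 1 := fun o => by
    apply huniq
    rw [← hmv]
  let q : S →* Abelianization S := Abelianization.of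
  have hOfin : Finite O := Quotient.finite st
  letI := Fintype.ofFinite O
  let perm : S → Equiv.Perm O := fun a => ⟨mv a, mv a⁻¹,
    fun o => by rw [← (hmul _ _ _).1, inv_mul_cancel, (hone o).1],
    fun o => by rw [← (hmul _ _ _).1, mul_inv_cancel, (hone o).1]⟩
  let t : S →* Abelianization S := MonoidHom.mk' (fun a => ∏ o, q (lam a o)) fun a a' => by
    show ∏ o, q (lam (a * a') o) = (∏ o, q (lam a o)) * ∏ o, q (lam a' o)
    rw [← Equiv.prod_comp (perm a') (fun o => q (lam a o)), mul_comm, ← Finset.prod_mul_distrib]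
    refine Finset.prod_congr rfl fun o _ => ?_
    rw [(hmul a a' o).2, map_mul]
    rfl
  have hcardO : Nat.card O = m := by
    have e : X ≃ O × S :=
      { toFun := fun x => (⟦x⟧, β x)
        invFun := fun q => ((1, q.2) : S × S) • sec q.1
        left_inv := fun x => (hβ x).symm
        right_inv := fun ⟨o, b⟩ => by
          have h := huniq _ _ _ _ (hβ (((1, b) : S × S) • sec o))
          exact Prod.ext h.1.symm h.2.symm }
    rw [Nat.card_congr e, Nat.card_prod] at hcard
    exact Nat.eq_of_mul_eq_mul_right Nat.card_pos hcard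
  refine ⟨m, t, hm, ?_, ?_⟩
  · intro P f hf x y hx hy
    set C : Subgroup S := P.subgroupOf S
    let fC : C →* S := MonoidHom.mk' (fun a => (⟨f ((a : S) : Ω), hf.mem a.2⟩ : S))
      fun u v => Subtype.ext (hf.map_mul u.2 v.2)
    let i1 : C × S →* S × S := C.subtype.prodMap (MonoidHom.id S)
    let i2 : C × S →* S × S := fC.prodMap (MonoidHom.id S)
    have hmor : ∀ L : Subgroup (C × S), prOne (L.map i1) ≤ P := by
      rintro L _ ⟨_, ⟨w, -, rfl⟩, rfl⟩
      exact w.1.2
    have htr : ∀ L : Subgroup (C × S), IsTrans (L.map i1) (L.map i2) f 1 := by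
      intro L z'
      constructor
      · rintro ⟨w, hw, rfl⟩
        exact ⟨i1 w, ⟨w, hw, rfl⟩, rfl, by simp [i1, i2]⟩
      · rintro ⟨z, ⟨w, hw, rfl⟩, h1, h2⟩
        refine ⟨w, hw, Prod.ext (Subtype.ext h1.symm) ?_⟩
        rw [h2]
        simp [i1, i2]
    have hnum : ∀ (i : C × S →* S × S) (L : Subgroup (C × S)),
        @numFixed (C × S) _ X (MulAction.compHom X i) L = numFixed X (L.map i) := fun i L =>
      Nat.card_congr (Equiv.subtypeEquivRight fun x =>
        ⟨fun h => by rintro _ ⟨w, hw, rfl⟩; exact h w hw, fun h w hw => h _ ⟨w, hw, rfl⟩⟩)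
    obtain ⟨σ, hσ⟩ := @exists_equivariant_of_numFixed (C × S) _ _ (Nat.card X) X X
      (MulAction.compHom X i1) (MulAction.compHom X i2) _ _ rfl fun L => by
        rw [hnum, hnum]
        exact hfix _ _ (rel_or_not_of_trans (htr L) (hf.restrict (hmor L)))
    have hσ' : ∀ (a : C) (b : S) (z : X),
        σ (((a : S), b) • z) = ((fC a, b) : S × S) • σ z := fun a b z => hσ (a, b) z
    have hσr : ∀ (b : S) (z : X), σ (((1 : S), b) • z) = ((1, b) : S × S) • σ z := fun b z => by
      have := hσ' 1 b z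
      rwa [Subgroup.coe_one, map_one] at this
    let τ : O → O := fun o => ⟦σ (sec o)⟧
    have hτinj : Function.Injective τ := by
      intro o o' h
      obtain ⟨b, hb⟩ := Quotient.exact h
      rw [← hσr] at hb
      have h1 := σ.injective hb
      rw [← hclass o b, ← h1]
      exact Quotient.out_eq o'
    have hτ : Function.Bijective τ := Finite.injective_iff_bijective.1 hτinj
    set u : O → S := fun o => β (σ (sec o))
    have key : ∀ o, mv y (τ o) = τ (mv x o) ∧ u o * lam y (τ o) = lam x o * u (mv x o) := by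
      intro o
      have hy' : fC ⟨x, hx⟩ = y := Subtype.ext hy.symm
      have e1 : σ (((x, 1) : S × S) • sec o) = ((y, 1) : S × S) • σ (sec o) := by
        rw [hσ' ⟨x, hx⟩ 1, hy']
      rw [hmv, hσr, hβ (σ (sec (mv x o))), hβ (σ (sec o)), ← mul_smul, ← mul_smul, hcomm, mul_smul ((1, β (σ (sec o))) : S × S),
        hmv, ← mul_smul] at e1
      simp only [Prod.mk_mul_mk, one_mul] at e1
      obtain ⟨h1, h2⟩ := huniq _ _ _ _ e1
      exact ⟨h1.symm, h2.symm⟩
    show ∏ o, q (lam y o) = ∏ o, q (lam x o)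
    rw [← Equiv.prod_comp (Equiv.ofBijective τ hτ) (fun o => q (lam y o))]
    have h3 : ∀ o, q (lam y (τ o)) = (q (u o))⁻¹ * q (u (mv x o)) * q (lam x o) := fun o => by
      rw [← map_inv, ← map_mul, mul_comm, ← map_mul, ← mul_inv_cancel_left (u o)⁻¹ (lam y (τ o)), inv_inv,
        (key o).2]
      simp only [map_mul, map_inv]
      exact mul_left_comm _ _ _
    have h4 : ∏ o, q (u (mv x o)) = ∏ o, q (u o) := Equiv.prod_comp (perm x) (fun o => q (u o))
    calc ∏ o, q (lam y (Equiv.ofBijective τ hτ o)) = ∏ o, (q (u o))⁻¹ * q (u (mv x o)) * q (lam x o) :=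
          Finset.prod_congr rfl fun o _ => h3 o
      _ = ∏ o, q (lam x o) := by
          rw [Finset.prod_mul_distrib, Finset.prod_mul_distrib, h4, Finset.prod_inv_distrib, inv_mul_cancel, one_mul]
  · intro B _ χ z hz
    show Abelianization.lift χ (∏ o, q (lam z o)) = _
    rw [map_prod]
    have hq : ∀ a : S, Abelianization.lift χ (q a) = χ a := fun a => Abelianization.lift_apply_of χ a
    simp only [hq]
    have hpow : ∀ (i : ℕ) (o : O), (perm z ^ i) o = mv (z ^ i) o ∧
        χ (lam (z ^ i) o) = ∏ j ∈ Finset.range i, χ (lam z ((perm z ^ j) o)) := by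
      intro i o
      induction i with
      | zero => simp [(hone o).1, (hone o).2]
      | succ i ih =>
        constructor
        · rw [pow_succ', pow_succ', Equiv.Perm.mul_apply, ih.1, (hmul _ _ _).1]
          rfl
        · rw [Finset.prod_range_succ, ← ih.2, ih.1, pow_succ', (hmul _ _ _).2, map_mul]
    rw [prod_eq_pow_card_of_cycles (perm z) (fun o => χ (lam z o)) (χ z)⁻¹ ?_ ?_ Finset.univ
      (fun o _ => Finset.mem_univ _), Finset.card_univ, ← Nat.card_eq_fintype_card, hcardO]
    · intro o l hl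
      obtain ⟨h1, h2⟩ := hpow l o
      rw [← h2, inv_pow, ← map_pow]
      rw [h1] at hl
      have hst : ((z ^ l, (lam (z ^ l) o)⁻¹) : S × S) • sec o = sec o := by
        rw [show ((z ^ l, (lam (z ^ l) o)⁻¹) : S × S) = (1, (lam (z ^ l) o)⁻¹) * (z ^ l, 1) by simp, mul_smul,
          hmv, hl, ← mul_smul]
        simp [Prod.mk_one_one]
      obtain ⟨D, f, ⟨hf, hfz⟩, hD⟩ := hX (sec o)
      have hm' : ((z ^ l, (lam (z ^ l) o)⁻¹) : S × S) ∈ D := hD ▸ hst
      have h3 := hz l _ f hf _ (mem_prOne_of_mem hm') (hfz _ hm')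
      rw [map_inv] at h3
      rw [← h3, inv_inv]
    · intro o
      refine ⟨orderOf (perm z), (isOfFinOrder_of_finite (perm z)).orderOf_pos, ?_⟩
      rw [pow_orderOf_eq_one]
      rfl

end Cfsg.Agent.Fusion
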