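import Mathlib
import Cfsg.Agent.Lib.Fusion.GroupSystem
import Cfsg.Agent.S1924

/-!
A Sylow 2-subgroup of the form `C₂ × D₈` gives a subgroup of index two.
-/

set_option autoImplicit false

namespace Cfsg.Agent.Fusion.TwoTimesDihedralEight

/-- The model group. -/
abbrev W := Multiplicative (ZMod 2) × DihedralGroup 4

/-- Membership of the two elementary subgroups of order eight. -/
def inE (ε : ZMod 2) : W → Bool
  | (_, .r i) => decide (i.val % 2 = 0)
  | (_, .sr i) => decide (i.val % 2 = ε.val)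

/-- The elementary subgroups of order eight. -/
def E (ε : ZMod 2) : Subgroup W where
  carrier := {p | inE ε p = true}
  one_mem' := by revert ε; decide
  mul_mem' := fun {p q} hp hq => (show ∀ ε : ZMod 2, ∀ p q : W, inE ε p = true → inE ε q = true → inE ε (p * q) = true by decide) ε p q hp hq
  inv_mem' := fun {p} hp => (show ∀ ε : ZMod 2, ∀ p : W, inE ε p = true → inE ε p⁻¹ = true by decide) ε p hp

theorem mem_E {ε : ZMod 2} {p : W} : p ∈ E ε ↔ inE ε p = true := Iff.rfl

instance (ε : ZMod 2) : DecidablePred (· ∈ E ε) := fun p => decidable_of_iff (inE ε p = true) Iff.rfl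

theorem card_E (ε : ZMod 2) : Nat.card (E ε) = 8 := by
  rw [Nat.card_eq_fintype_card]
  revert ε
  decide

instance (ε : ZMod 2) : (E ε).Normal :=
  ⟨fun p hp g => (show ∀ ε : ZMod 2, ∀ p g : W, inE ε p = true → inE ε (g * p * g⁻¹) = true by decide) ε p g hp⟩

/-- The maximal subgroup cutting out the chosen pair of noncentral involutions. -/
def inM (δ₀ δ₁ : ZMod 2) : W → Bool
  | (x, .r i) => decide (Multiplicative.toAdd x + (δ₀ + δ₁) * (i.val : ZMod 2) = 0)
  | (x, .sr i) => decide (Multiplicative.toAdd x + δ₀ + (δ₀ + δ₁) * (i.val : ZMod 2) = 0)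

/-- The maximal subgroup. -/
def M (δ₀ δ₁ : ZMod 2) : Subgroup W where
  carrier := {p | inM δ₀ δ₁ p = true}
  one_mem' := by revert δ₀ δ₁; decide
  mul_mem' := fun {p q} hp hq =>
    (show ∀ a b : ZMod 2, ∀ p q : W, inM a b p = true → inM a b q = true → inM a b (p * q) = true by decide) δ₀ δ₁ p q hp hq
  inv_mem' := fun {p} hp =>
    (show ∀ a b : ZMod 2, ∀ p : W, inM a b p = true → inM a b p⁻¹ = true by decide) δ₀ δ₁ p hp

instance (δ₀ δ₁ : ZMod 2) : DecidablePred (· ∈ M δ₀ δ₁) := fun p => decidable_of_iff (inM δ₀ δ₁ p = true) Iff.rfl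

theorem card_M (δ₀ δ₁ : ZMod 2) : Nat.card (M δ₀ δ₁) = 8 := by
  rw [Nat.card_eq_fintype_card]
  revert δ₀ δ₁
  decide

/-- The central involution outside the derived subgroup. -/
def t : W := (Multiplicative.ofAdd 1, .r 0)

/-- The commutator involution. -/
def c : W := (1, .r 2)

/-- The noncentral involution with given first coordinate and parity. -/
def a (δ ε : ZMod 2) : W := (Multiplicative.ofAdd δ, .sr (ε.val : ZMod 4))

/-- An involution of the maximal subgroup. -/
theorem involution_M (δ₀ δ₁ : ZMod 2) (p : W) (hp : inM δ₀ δ₁ p = true) (h2 : p * p = 1) (h1 : p ≠ 1) :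
    p = c ∨ IsConj p (a δ₀ 0) ∨ IsConj p (a δ₁ 1) := by
  have key : ∀ δ₀ δ₁ : ZMod 2, ∀ p : W, inM δ₀ δ₁ p = true → p * p = 1 → p ≠ 1 →
      p = c ∨ (∃ g : W, g * p * g⁻¹ = a δ₀ 0) ∨ (∃ g : W, g * p * g⁻¹ = a δ₁ 1) := by decide
  rcases key δ₀ δ₁ p hp h2 h1 with h | ⟨g, hg⟩ | ⟨g, hg⟩
  exacts [Or.inl h, Or.inr (Or.inl (isConj_iff.2 ⟨g, hg⟩)), Or.inr (Or.inr (isConj_iff.2 ⟨g, hg⟩))]

/-- The elementary abelian subgroups of order eight. -/
theorem eq_E (X : Subgroup W) (hX : Nat.card X = 8) (h2 : ∀ p ∈ X, p * p = 1) (hc : ∀ p ∈ X, ∀ q ∈ X, p * q = q * p) :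
    ∃ ε, X = E ε := by
  have key : ∀ p q : W, p * p = 1 → q * q = 1 → p * q = q * p → (inE 0 p = true ∧ inE 0 q = true) ∨ (inE 1 p = true ∧ inE 1 q = true) := by decide
  by_cases h : ∀ p ∈ X, inE 0 p = true
  · exact ⟨0, Subgroup.eq_of_le_of_card_ge (fun p hp => h p hp) (by rw [hX, card_E])⟩
  push_neg at h
  obtain ⟨p, hp, hp0⟩ := h
  refine ⟨1, Subgroup.eq_of_le_of_card_ge (fun q hq => ?_) (by rw [hX, card_E])⟩
  rcases key p q (h2 p hp) (h2 q hq) (hc p hp q hq) with h | h
  · exact absurd h.1 hp0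
  · exact h.2

theorem facts_center : (∀ q : W, q * t = t * q) ∧ (∀ q : W, q * c = c * q) ∧ (∀ q : W, q * (t * c) = t * c * q) := by decide

theorem facts_comm : (∃ u v : W, u * v * u⁻¹ * v⁻¹ = c) ∧ (∀ u v : W, u * v * u⁻¹ * v⁻¹ = 1 ∨ u * v * u⁻¹ * v⁻¹ = c) := by decide

theorem facts_ne : c ≠ 1 ∧ c ≠ t ∧ t * c ≠ t ∧ t ≠ 1 ∧ t * c ≠ 1 := by decide

theorem facts_t : t * t = 1 ∧ t ^ 2 ^ (0 + 1) = 1 ∧ t = t * c * c := by decide

theorem E_sq : ∀ a : ZMod 2, ∀ q : W, inE a q = true → q * q = 1 := by decide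

theorem E_comm : ∀ a : ZMod 2, ∀ p q : W, inE a p = true → inE a q = true → p * q = q * p := by decide

theorem E_ext : ∀ a b : ZMod 2, (∀ p : W, inE a p = inE b p) → a = b := by decide

theorem E_mem : ∀ e : ZMod 2, inE e t = true ∧ ∀ d : ZMod 2, inE e (a d e) = true := by decide

theorem E_cases : ∀ e : ZMod 2, ∀ p : W, inE e p = true → p ≠ 1 → p ≠ c → p ≠ t * c →
    p = t ∨ ∃ g : W, g * p * g⁻¹ = a 0 e ∨ g * p * g⁻¹ = a 1 e := by decide

theorem E_count (e : ZMod 2) :
    Nat.card {p : E e // p.1 = t ∨ ∃ g : W, g * p.1 * g⁻¹ = a 0 e ∨ g * p.1 * g⁻¹ = a 1 e} = 5 := by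
  rw [Nat.card_eq_fintype_card]
  revert e
  decide

variable {G : Type*} [Group G]

/-- An element of the normalizer of a Sylow subgroup permuting two points fixed by it cannot swap them. -/
theorem no_swap [Finite G] (S : Sylow 2 G) {α : Type*} [MulAction G α] {x y : α} (hxy : x ≠ y)
    (hS : ∀ s ∈ (S : Subgroup G), s • x = x) {n : G} (hn : n ∈ Subgroup.normalizer ((S : Subgroup G) : Set G))
    (h1 : n • x = y) (h2 : n • y = x) : False := by
  have : Fact (Nat.Prime 2) := ⟨Nat.prime_two⟩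
  obtain ⟨e, m, hm, hem⟩ := Nat.exists_eq_pow_mul_and_not_dvd (orderOf_pos n).ne' 2 (by norm_num)
  have hpow : ∀ j : ℕ, (Even j → n ^ j • x = x) ∧ (Odd j → n ^ j • x = y) := fun j => by
    induction j with
    | zero => simp
    | succ j ih =>
      rw [pow_succ', mul_smul, Nat.even_add_one, Nat.odd_add_one]
      refine ⟨fun h => ?_, fun h => ?_⟩
      · rw [ih.2 (Nat.not_even_iff_odd.1 h), h2]
      · rw [ih.1 (Nat.not_odd_iff_even.1 h), h1]
  have hodd : Odd m := Nat.not_even_iff_odd.1 fun h => hm h.two_dvd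
  have hmem : n ^ m ∈ (S : Subgroup G) := by
    have hp : IsPGroup 2 (Subgroup.zpowers (n ^ m)) := by
      refine IsPGroup.of_card (n := e) ?_
      rw [Nat.card_zpowers, orderOf_pow, hem, Nat.gcd_eq_right (dvd_mul_left m _), Nat.mul_div_cancel _ hodd.pos]
    have hle : Subgroup.zpowers (n ^ m) ≤ Subgroup.normalizer ((S : Subgroup G) : Set G) := (Subgroup.zpowers_le).2 (pow_mem hn m)
    have hsup : IsPGroup 2 ((S : Subgroup G) ⊔ Subgroup.zpowers (n ^ m) : Subgroup G) :=
      sup_comm (Subgroup.zpowers (n ^ m)) (S : Subgroup G) ▸ hp.to_sup_of_normal_right' S.2 hle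
    exact (S.3 hsup le_sup_left).le (le_sup_right (a := (S : Subgroup G)) (Subgroup.mem_zpowers _))
  exact hxy ((hS _ hmem).symm.trans ((hpow m).2 hodd))

variable [Finite G] (S : Sylow 2 G) (φ : W ≃* (S : Subgroup G))

/-- A subgroup of index two. -/
theorem exists_index_two (S : Sylow 2 G) (φ : W ≃* (S : Subgroup G)) : ∃ H : Subgroup G, H.index = 2 := by
  classical
  have : Fact (Nat.Prime 2) := ⟨Nat.prime_two⟩
  let ι : W →* G := (S : Subgroup G).subtype.comp φ.toMonoidHom
  have hι : Function.Injective ι := (S : Subgroup G).subtype_injective.comp φ.injective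
  have hιS : ∀ p, ι p ∈ (S : Subgroup G) := fun p => (φ p).2
  have hex : ∀ x ∈ (S : Subgroup G), ∃ p, ι p = x := fun x hx => ⟨φ.symm ⟨x, hx⟩, congrArg Subtype.val (φ.apply_symm_apply _)⟩
  have hcent : ∀ p : W, (∀ q : W, q * p = p * q) → ι p ∈ Subgroup.centralizer ((S : Subgroup G) : Set G) := fun p hp x hx => by
    obtain ⟨q, rfl⟩ := hex x hx
    rw [← map_mul, ← map_mul, hp q]
  -- the normalizer fixes the commutator
  have hfixc : ∀ n ∈ Subgroup.normalizer ((S : Subgroup G) : Set G), n * ι c * n⁻¹ = ι c := by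
    intro n hn
    obtain ⟨u, v, huv⟩ := facts_comm.1
    obtain ⟨u', hu'⟩ := hex _ ((Subgroup.mem_normalizer_iff.1 hn _).1 (hιS u))
    obtain ⟨v', hv'⟩ := hex _ ((Subgroup.mem_normalizer_iff.1 hn _).1 (hιS v))
    have e : n * ι c * n⁻¹ = ι (u' * v' * u'⁻¹ * v'⁻¹) := by
      simp only [← huv, map_mul, map_inv, hu', hv', mul_inv_rev, inv_inv, mul_assoc, inv_mul_cancel_left]
    rcases facts_comm.2 u' v' with h | h
    · rw [h, map_one, conj_eq_one_iff] at e
      exact absurd (hι (e.trans (map_one ι).symm)) facts_ne.1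
    · rw [e, h]
  -- the central involutions are not fused
  have hsep : ¬ IsConj (ι c) (ι t) ∧ ¬ IsConj (ι (t * c)) (ι t) := by
    have hconj : ∀ p : W, (∀ q : W, q * p = p * q) → IsConj (ι p) (ι t) →
        ∃ n ∈ Subgroup.normalizer ((S : Subgroup G) : Set G), n * ι p * n⁻¹ = ι t := fun p hp h => by
      obtain ⟨g, hg⟩ := isConj_iff.1 h
      obtain ⟨n, hn, he⟩ := S.conj_eq_normalizer_conj_of_mem_centralizer (ι p) g⁻¹ (hcent p hp)
        (by rw [inv_inv, hg]; exact hcent t facts_center.1)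
      rw [inv_inv, hg] at he
      exact ⟨n⁻¹, inv_mem hn, by rw [inv_inv]; exact he.symm⟩
    refine ⟨fun h => ?_, fun h => ?_⟩
    · obtain ⟨n, hn, he⟩ := hconj c facts_center.2.1 h
      rw [hfixc n hn] at he
      exact absurd (hι he) facts_ne.2.1
    · obtain ⟨n, hn, he⟩ := hconj (t * c) facts_center.2.2 h
      have h2 : n * ι t * n⁻¹ = ι (t * c) := by
        have hc := hfixc n hn
        have e1 : ι t = ι (t * c) * ι c := by rw [← map_mul, ← facts_t.2.2]
        conv_lhs => rw [e1]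
        rw [show n * (ι (t * c) * ι c) * n⁻¹ = n * ι (t * c) * n⁻¹ * (n * ι c * n⁻¹) by group, he, hc, ← map_mul]
      letI : MulAction G G :=
        { smul := fun g x => g * x * g⁻¹
          one_smul := fun x => by show (1 : G) * x * (1 : G)⁻¹ = x; simp
          mul_smul := fun g h x => by show g * h * x * (g * h)⁻¹ = g * (h * x * h⁻¹) * g⁻¹; group }
      refine no_swap S (x := ι (t * c)) (y := ι t) (fun h' => absurd (hι h') facts_ne.2.2.1) (fun s hs => ?_) hn he h2
      show s * ι (t * c) * s⁻¹ = _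
      rw [mul_inv_eq_iff_eq_mul]
      exact hcent _ facts_center.2.2 s hs
  let EG : ZMod 2 → Subgroup G := fun ε => (E ε).map ι
  have hEle : ∀ ε, EG ε ≤ (S : Subgroup G) := by rintro ε _ ⟨p, -, rfl⟩; exact hιS p
  have hEn : ∀ ε, ∀ s ∈ (S : Subgroup G), s ∈ Subgroup.normalizer (EG ε : Set G) := fun ε s hs => by
    obtain ⟨q, rfl⟩ := hex s hs
    refine Subgroup.mem_normalizer_fintype ?_
    rintro _ ⟨p, hp, rfl⟩
    exact ⟨q * p * q⁻¹, Subgroup.Normal.conj_mem inferInstance p hp q, by simp⟩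
  -- the two elementary subgroups are not fused
  have hEsep : ∀ (g : G) (ε η : ZMod 2), (EG ε).map (MulAut.conj g).toMonoidHom = EG η → ε = η := by
    intro g ε η hg
    by_contra hne
    let S' : Sylow 2 G := g • S
    have hS' : (S' : Subgroup G) ≤ Subgroup.normalizer (EG η : Set G) := by
      rintro _ ⟨s, hs, rfl⟩
      rw [← hg]
      exact map_conj_normalizer_le g _ ⟨s, hEn ε s hs, rfl⟩
    obtain ⟨⟨h, hh⟩, he⟩ := MulAction.exists_smul_eq (Subgroup.normalizer (EG η : Set G))
      (S'.subtype hS') (S.subtype (hEn η))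
    have hh' : (h * g) • S = S := by
      rw [mul_smul]
      have := congrArg (fun P : Sylow 2 (Subgroup.normalizer (EG η : Set G)) => (P : Subgroup _).map (Subgroup.normalizer (EG η : Set G)).subtype) he
      simp only [Sylow.coe_subtype, Subgroup.subgroupOf_map_subtype, inf_eq_left.2 (show (S : Subgroup G) ≤ Subgroup.normalizer (EG η : Set G) from hEn η)] at this
      refine Sylow.ext ?_
      rw [← this]
      ext x
      constructor
      · rintro ⟨y, hy, rfl⟩
        exact ⟨⟨h * y * h⁻¹, mul_mem (mul_mem hh (hS' hy)) (inv_mem hh)⟩, ⟨⟨y, hS' hy⟩, Subgroup.mem_subgroupOf.2 hy, rfl⟩, rfl⟩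
      · rintro ⟨_, ⟨y, hy, rfl⟩, rfl⟩
        exact ⟨y.1, hy, rfl⟩
    have hn : h * g ∈ Subgroup.normalizer ((S : Subgroup G) : Set G) := Sylow.smul_eq_iff_mem_normalizer.1 hh'
    have hηmap : (EG η).map (MulAut.conj h).toMonoidHom = EG η := by
      ext x
      rw [Subgroup.mem_map_equiv, MulAut.conj_symm_apply]
      exact (Subgroup.mem_normalizer_iff''.1 hh x).symm
    have hεη : (EG ε).map (MulAut.conj (h * g)).toMonoidHom = EG η := by rw [← map_conj_mul, hg, hηmap]
    letI : MulAction G (Subgroup G) :=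
      { smul := fun g X => X.map (MulAut.conj g).toMonoidHom
        one_smul := fun X => by
          show X.map (MulAut.conj (1 : G)).toMonoidHom = X
          rw [map_one]; exact Subgroup.ext fun x => by simp
        mul_smul := fun g h X => (map_conj_mul g h X).symm }
    have hEG : EG ε ≠ EG η := fun h' => hne (E_ext ε η fun p => by
      have hE : E ε = E η := Subgroup.map_injective hι h'
      have := SetLike.ext_iff.1 hE p
      rw [mem_E, mem_E] at this
      exact Bool.eq_iff_iff.2 this)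
    have hback : (EG η).map (MulAut.conj (h * g)).toMonoidHom = EG ε := by
      have hle : (EG η).map (MulAut.conj (h * g)).toMonoidHom ≤ (S : Subgroup G) := by
        rintro _ ⟨y, hy, rfl⟩
        exact (Subgroup.mem_normalizer_iff.1 hn y).1 (hEle η hy)
      obtain ⟨X, hX⟩ : ∃ X : Subgroup W, X.map ι = (EG η).map (MulAut.conj (h * g)).toMonoidHom :=
        ⟨_, Subgroup.map_comap_eq_self (by
          intro y hy
          exact hex y (hle hy))⟩
      have hX8 : Nat.card X = 8 := by
        rw [← Subgroup.card_map_of_injective hι, hX, card_map_conj, Subgroup.card_map_of_injective hι, card_E]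
      have hmem : ∀ p ∈ X, ∃ q ∈ E η, ι p = (h * g) * ι q * (h * g)⁻¹ := fun p hp => by
        obtain ⟨_, ⟨q, hq, rfl⟩, hq'⟩ := hX.le ⟨p, hp, rfl⟩
        exact ⟨q, hq, hq'.symm⟩
      obtain ⟨δ, hδ⟩ := eq_E X hX8 (fun p hp => hι (by
          obtain ⟨q, hq, e⟩ := hmem p hp
          have h2 : q * q = 1 := E_sq η q hq
          rw [map_mul, e, map_one, show (h * g) * ι q * (h * g)⁻¹ * ((h * g) * ι q * (h * g)⁻¹) = (h * g) * (ι q * ι q) * (h * g)⁻¹ by group,
            ← map_mul, h2, map_one]; group))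
        (fun p hp q hq => hι (by
          obtain ⟨p', hp', e1⟩ := hmem p hp
          obtain ⟨q', hq', e2⟩ := hmem q hq
          have hcm : p' * q' = q' * p' := E_comm η p' q' hp' hq'
          rw [map_mul, map_mul, e1, e2, show ∀ u v : G, (h * g) * u * (h * g)⁻¹ * ((h * g) * v * (h * g)⁻¹) = (h * g) * (u * v) * (h * g)⁻¹ from fun u v => by group,
            show ∀ u v : G, (h * g) * u * (h * g)⁻¹ * ((h * g) * v * (h * g)⁻¹) = (h * g) * (u * v) * (h * g)⁻¹ from fun u v => by group,
            ← map_mul, ← map_mul, hcm]))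
      rcases eq_or_ne δ η with rfl | hd
      · exfalso
        exact hEG (Subgroup.map_injective (MulAut.conj (h * g)).injective (hεη.trans (by rw [← hX, hδ])))
      · rw [← hX, hδ, (show ∀ a b c : ZMod 2, a ≠ c → b ≠ c → a = b by decide) δ ε η hd hne]
    exact no_swap S (x := EG ε) (y := EG η) hEG (fun s hs => Subgroup.ext fun x => by
      show x ∈ (EG ε).map (MulAut.conj s).toMonoidHom ↔ _
      rw [Subgroup.mem_map_equiv, MulAut.conj_symm_apply]
      exact (Subgroup.mem_normalizer_iff''.1 (hEn ε s hs) x).symm) hn hεη hback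
  -- in each elementary subgroup one pair is not fused to t
  have hpair : ∀ ε : ZMod 2, ∃ δ : ZMod 2, ¬ IsConj (ι (a δ ε)) (ι t) := by
    intro ε
    by_contra hall
    push_neg at hall
    set X := EG ε
    let f := X.normalizerMonoidHom
    have haE : ∀ δ, a δ ε ∈ E ε := fun δ => (E_mem ε).2 δ
    have htE : t ∈ E ε := (E_mem ε).1
    -- every member of the class of t in X is in its orbit
    have horb : ∀ p ∈ E ε, IsConj (ι p) (ι t) → ∃ n : Subgroup.normalizer (X : Set G), (n : G) * ι t * (n : G)⁻¹ = ι p := by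
      intro p hp hc
      obtain ⟨g, hg⟩ := isConj_iff.1 hc
      set C := Subgroup.centralizer ({ι t} : Set G)
      have hSC : (S : Subgroup G) ≤ C := fun s hs => Subgroup.mem_centralizer_singleton_iff.2 (hcent t facts_center.1 s hs)
      have hXg : X.map (MulAut.conj g).toMonoidHom ≤ C := by
        rintro _ ⟨_, ⟨q, hq, rfl⟩, rfl⟩
        rw [Subgroup.mem_centralizer_singleton_iff, ← hg]
        have hcm : q * p = p * q := (E_comm ε p q hp hq).symm
        show g * ι q * g⁻¹ * (g * ι p * g⁻¹) = g * ι p * g⁻¹ * (g * ι q * g⁻¹)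
        rw [show g * ι q * g⁻¹ * (g * ι p * g⁻¹) = g * (ι q * ι p) * g⁻¹ by group, ← map_mul, hcm, map_mul]; group
      have hpX : IsPGroup 2 ((X.map (MulAut.conj g).toMonoidHom).subgroupOf C) :=
        ((S.2.to_le (hEle ε)).map _).of_equiv (Subgroup.subgroupOfEquivOfLe hXg).symm
      obtain ⟨h, hh⟩ := exists_conj_le_sylow (S.subtype hSC) hpX
      have hle : X.map (MulAut.conj ((h : G) * g)).toMonoidHom ≤ (S : Subgroup G) := by
        rintro _ ⟨x, hx, rfl⟩
        have := hh ⟨⟨_, hXg ⟨x, hx, rfl⟩⟩, Subgroup.mem_subgroupOf.2 ⟨x, hx, rfl⟩, rfl⟩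
        rw [Sylow.coe_subtype, Subgroup.mem_subgroupOf] at this
        simpa [mul_assoc] using this
      obtain ⟨Y, hY⟩ : ∃ Y : Subgroup W, Y.map ι = X.map (MulAut.conj ((h : G) * g)).toMonoidHom :=
        ⟨_, Subgroup.map_comap_eq_self fun y hy => hex y (hle hy)⟩
      have hY8 : Nat.card Y = 8 := by
        rw [← Subgroup.card_map_of_injective hι, hY, card_map_conj, Subgroup.card_map_of_injective hι, card_E]
      have hmem : ∀ u ∈ Y, ∃ q ∈ E ε, ι u = ((h : G) * g) * ι q * ((h : G) * g)⁻¹ := fun u hu => by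
        obtain ⟨_, ⟨q, hq, rfl⟩, hq'⟩ := hY.le ⟨u, hu, rfl⟩
        exact ⟨q, hq, hq'.symm⟩
      obtain ⟨η, hη⟩ := eq_E Y hY8 (fun u hu => hι (by
          obtain ⟨q, hq, e⟩ := hmem u hu
          have h2 : q * q = 1 := E_sq ε q hq
          rw [map_mul, e, map_one, show ((h : G) * g) * ι q * ((h : G) * g)⁻¹ * (((h : G) * g) * ι q * ((h : G) * g)⁻¹) = ((h : G) * g) * (ι q * ι q) * ((h : G) * g)⁻¹ by group,
            ← map_mul, h2, map_one]; group))
        (fun u hu v hv => hι (by
          obtain ⟨p', hp', e1⟩ := hmem u hu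
          obtain ⟨q', hq', e2⟩ := hmem v hv
          have hcm : p' * q' = q' * p' := E_comm ε p' q' hp' hq'
          rw [map_mul, map_mul, e1, e2, show ∀ x y : G, ((h : G) * g) * x * ((h : G) * g)⁻¹ * (((h : G) * g) * y * ((h : G) * g)⁻¹) = ((h : G) * g) * (x * y) * ((h : G) * g)⁻¹ from fun x y => by group,
            show ∀ x y : G, ((h : G) * g) * x * ((h : G) * g)⁻¹ * (((h : G) * g) * y * ((h : G) * g)⁻¹) = ((h : G) * g) * (x * y) * ((h : G) * g)⁻¹ from fun x y => by group,
            ← map_mul, ← map_mul, hcm]))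
      have hmap : X.map (MulAut.conj ((h : G) * g)).toMonoidHom = EG η := by rw [← hY, hη]
      have hεη := hEsep _ _ _ hmap
      subst hεη
      have hN : (h : G) * g ∈ Subgroup.normalizer (X : Set G) := Subgroup.mem_normalizer_fintype fun x hx => by
        exact hmap.le ⟨x, hx, rfl⟩
      refine ⟨⟨_, inv_mem hN⟩, ?_⟩
      have hh2 : (h : G) * ι t * (h : G)⁻¹ = ι t := by
        rw [mul_inv_eq_iff_eq_mul]; exact Subgroup.mem_centralizer_singleton_iff.1 h.2
      have e : (h : G) * g * ι p * ((h : G) * g)⁻¹ = ι t := by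
        rw [show (h : G) * g * ι p * ((h : G) * g)⁻¹ = (h : G) * (g * ι p * g⁻¹) * (h : G)⁻¹ by group, hg, hh2]
      show ((h : G) * g)⁻¹ * ι t * ((h : G) * g)⁻¹⁻¹ = ι p
      rw [← e]; group
    let e : E ε ≃* X := (E ε).equivMapOfInjective ι hι
    have he : ∀ q : E ε, ((e q : X) : G) = ι q := fun q => rfl
    let T0 : X := e ⟨t, htE⟩
    -- the orbit
    have horbit : MulAction.orbit f.range T0 =
        ((fun p : E ε => e p) '' {p : E ε | p.1 = t ∨ ∃ g : W, g * p.1 * g⁻¹ = a 0 ε ∨ g * p.1 * g⁻¹ = a 1 ε}) := by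
      ext x
      constructor
      · rintro ⟨⟨_, n, rfl⟩, rfl⟩
        obtain ⟨q, hq⟩ := e.surjective (f n T0)
        refine ⟨q, ?_, hq⟩
        have hq' : (n : G) * ι t * (n : G)⁻¹ = ι q := (congrArg Subtype.val hq).symm
        have hqne : q.1 ≠ 1 ∧ q.1 ≠ c ∧ q.1 ≠ t * c := by
          refine ⟨fun h' => ?_, fun h' => ?_, fun h' => ?_⟩
          · rw [h', map_one, conj_eq_one_iff] at hq'
            exact absurd (hι (hq'.trans (map_one ι).symm)) facts_ne.2.2.2.1
          · rw [h'] at hq'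
            exact hsep.1 (isConj_iff.2 ⟨n, hq'⟩ : IsConj (ι t) (ι c)).symm
          · rw [h'] at hq'
            exact hsep.2 (isConj_iff.2 ⟨n, hq'⟩ : IsConj (ι t) (ι (t * c))).symm
        exact E_cases ε q.1 q.2 hqne.1 hqne.2.1 hqne.2.2
      · rintro ⟨q, hq, rfl⟩
        have hc : IsConj (ι q.1) (ι t) := by
          rcases hq with h' | ⟨g, h' | h'⟩
          · rw [h']
          · exact (ι.map_isConj (isConj_iff.2 ⟨g, h'⟩)).trans (hall 0)
          · exact (ι.map_isConj (isConj_iff.2 ⟨g, h'⟩)).trans (hall 1)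
        obtain ⟨n, hn⟩ := horb q.1 q.2 hc
        exact ⟨⟨f n, n, rfl⟩, Subtype.ext hn⟩
    have h5 : Nat.card (MulAction.orbit f.range T0) = 5 := by
      rw [horbit, Nat.card_coe_set_eq, Set.ncard_image_of_injective _ e.injective, ← Nat.card_coe_set_eq]
      exact E_count ε
    have hdvd : 5 ∣ Nat.card f.range := h5 ▸ (Subgroup.card_eq_card_quotient_mul_card_subgroup (MulAction.stabilizer f.range T0)).symm ▸
      (Nat.card_congr (MulAction.orbitEquivQuotientStabilizer f.range T0)).symm ▸ dvd_mul_right _ _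
    have : Fact (Nat.Prime 5) := ⟨by norm_num⟩
    obtain ⟨α, hα⟩ := exists_prime_orderOf_dvd_card' 5 hdvd
    let F : Subgroup X :=
      { carrier := {x | α.1 x = x}
        one_mem' := map_one _
        mul_mem' := fun {x y} hx hy => by
          show α.1 (x * y) = x * y
          rw [map_mul, show α.1 x = x from hx, show α.1 y = y from hy]
        inv_mem' := fun {x} hx => by
          show α.1 x⁻¹ = x⁻¹
          rw [map_inv, show α.1 x = x from hx] }
    have hX8 : Nat.card X = 8 := by rw [← Nat.card_congr e.toEquiv, card_E]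
    have hmod := IsPGroup.card_modEq_card_fixedPoints (p := 5) (G := Subgroup.zpowers α)
      (IsPGroup.of_card (n := 1) (by rw [Nat.card_zpowers, hα, pow_one])) X
    have hfix : Nat.card (MulAction.fixedPoints (Subgroup.zpowers α) X) = Nat.card F := by
      refine Nat.card_congr (Equiv.setCongr (Set.ext fun x => ⟨fun h => h ⟨α, Subgroup.mem_zpowers α⟩, fun h b => ?_⟩))
      have hst : Subgroup.zpowers α ≤ MulAction.stabilizer f.range x :=
        (Subgroup.zpowers_le).2 (show α • x = x from h)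
      exact hst b.2
    rw [hfix, hX8] at hmod
    obtain ⟨j, hj, hjc⟩ := (Nat.dvd_prime_pow Nat.prime_two).1 (show Nat.card F ∣ 2 ^ 3 from F.card_subgroup_dvd_card.trans (dvd_of_eq hX8))
    have hj3 : j = 3 := by
      rw [hjc, Nat.ModEq] at hmod
      interval_cases j <;> simp_all
    have htop : F = ⊤ := Subgroup.eq_top_of_card_eq F (by rw [hjc, hj3, hX8]; norm_num)
    have : α = 1 := Subtype.ext (MulEquiv.ext fun x => show α.1 x = x from htop.ge (Subgroup.mem_top x))
    rw [this, orderOf_one] at hα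
    norm_num at hα
  obtain ⟨δ₀, h₀⟩ := hpair 0
  obtain ⟨δ₁, h₁⟩ := hpair 1
  -- transfer
  have hidx : ((M δ₀ δ₁).map ι).index = 2 ^ (0 + 1) * (S : Subgroup G).index := by
    have hle : (M δ₀ δ₁).map ι ≤ (S : Subgroup G) := by rintro _ ⟨p, -, rfl⟩; exact hιS p
    rw [← Subgroup.relIndex_mul_index hle]
    congr 1
    have h := ((M δ₀ δ₁).map ι).subgroupOf (S : Subgroup G) |>.card_mul_index
    rw [Nat.card_congr (Subgroup.subgroupOfEquivOfLe hle).toEquiv, Subgroup.card_map_of_injective hι, card_M,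
      ← Nat.card_congr φ.toEquiv, show Nat.card W = 16 by rw [Nat.card_eq_fintype_card]; decide] at h
    show (((M δ₀ δ₁).map ι).subgroupOf (S : Subgroup G)).index = 2
    omega
  have hnot := S1924.not_residual ((M δ₀ δ₁).map ι) (ι t) 0 (S : Subgroup G).index
    (Nat.not_even_iff_odd.1 fun h => S.not_dvd_index h.two_dvd)
    (by rw [← map_pow, facts_t.2.1, map_one]) hidx (fun g hg => by
      rw [pow_zero, pow_one] at hg
      obtain ⟨p, hp, hpe⟩ := hg
      have hcj : IsConj (ι p) (ι t) := (isConj_iff.2 ⟨g⁻¹, by rw [inv_inv]; exact hpe.symm⟩ : IsConj (ι t) (ι p)).symm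
      have hsq : p * p = 1 := hι (by
        rw [map_mul, hpe, map_one, show g⁻¹ * ι t * g * (g⁻¹ * ι t * g) = g⁻¹ * (ι t * ι t) * g by group, ← map_mul,
          facts_t.1, map_one]; group)
      have hp1 : p ≠ 1 := fun h => by
        rw [h, map_one] at hpe
        have : ι t = 1 := by
          have e := congrArg (fun v => g * v * g⁻¹) hpe
          simpa [mul_assoc] using e.symm
        exact absurd (hι (this.trans (map_one ι).symm)) facts_ne.2.2.2.1
      rcases involution_M δ₀ δ₁ p hp hsq hp1 with rfl | h | h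
      · exact hsep.1 hcj
      · exact h₀ ((ι.map_isConj h).symm.trans hcj)
      · exact h₁ ((ι.map_isConj h).symm.trans hcj))
  obtain ⟨r, hr⟩ := Solv.exists_pResidual_index (p := 2) (G := G)
  have hr0 : r ≠ 0 := fun h => hnot (by
    rw [h, pow_zero, Subgroup.index_eq_one] at hr
    rw [hr]; exact Subgroup.mem_top _)
  have : (Cfsg.pResidual 2 G).Normal := by
    have := Solv.pResidual_characteristic 2 G
    infer_instance
  have hc : Nat.card (G ⧸ Cfsg.pResidual 2 G) = 2 ^ r := hr
  obtain ⟨K, hK⟩ := Sylow.exists_subgroup_card_pow_prime 2 (G := G ⧸ Cfsg.pResidual 2 G) (n := r - 1)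
    (hc ▸ pow_dvd_pow 2 (Nat.sub_le _ _))
  refine ⟨K.comap (QuotientGroup.mk' _), ?_⟩
  rw [Subgroup.index_comap_of_surjective _ (QuotientGroup.mk'_surjective _)]
  have h3 := K.card_mul_index
  rw [hK, hc, show r = r - 1 + 1 by omega, pow_succ, Nat.add_sub_cancel] at h3
  exact Nat.eq_of_mul_eq_mul_left (by positivity) h3

end Cfsg.Agent.Fusion.TwoTimesDihedralEight
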