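import Mathlib
import Cfsg.Agent.Lib.Fusion.Transfer

/-!
A wreathed quotient from a nonvanishing norm on a subgroup of index `p`, and from a nonvanishing orbit product.
-/

set_option autoImplicit false

open scoped Pointwise

namespace Cfsg.Agent.Fusion.WreathQ

variable {p : ℕ} [hp : Fact p.Prime]

/-- An additive group of functions on `ZMod p` closed under translation with an element of nonzero sum is everything. -/
theorem eq_top_of_shift (V : AddSubgroup (ZMod p → ZMod p))
    (hV : ∀ v ∈ V, (fun i => v (i - 1)) ∈ V) (v : ZMod p → ZMod p) (hv : v ∈ V) (hsum : ∑ i, v i ≠ 0) :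
    V = ⊤ := by
  classical
  by_contra hne
  set W : Submodule (ZMod p) (ZMod p → ZMod p) := AddSubgroup.toZModSubmodule p V
  have hW : W < ⊤ := lt_top_iff_ne_top.2 fun h => hne (eq_top_iff.2 fun x _ => by
    have : x ∈ W := h ▸ Submodule.mem_top
    exact this)
  obtain ⟨g, hg, hgW⟩ := Submodule.exists_dual_map_eq_bot_of_lt_top hW inferInstance
  -- the orthogonal space
  let D : AddSubgroup (ZMod p → ZMod p) :=
    { carrier := {ψ | ∀ u ∈ V, ∑ i, ψ i * u i = 0}
      zero_mem' := fun u _ => by simp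
      add_mem' := fun {a b} ha hb u hu => by simp [add_mul, Finset.sum_add_distrib, ha u hu, hb u hu]
      neg_mem' := fun {a} ha u hu => by simp [ha u hu] }
  have hpow : ∀ (k : ℕ) (u : ZMod p → ZMod p), u ∈ V → (fun i => u (i - k)) ∈ V := by
    intro k
    induction k with
    | zero => intro u hu; simpa using hu
    | succ k ih =>
      intro u hu
      have := hV _ (ih u hu)
      convert this using 2 with i
      push_cast
      ring_nf
  have hshift : ∀ (c : ZMod p) (ψ : D), (fun i => (ψ : ZMod p → ZMod p) (i + c)) ∈ D := fun c ψ u hu => by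
    rw [← Equiv.sum_comp (Equiv.subRight c) (fun i => (ψ : ZMod p → ZMod p) (i + c) * u i)]
    simp only [Equiv.subRight_apply, sub_add_cancel]
    refine ψ.2 _ ?_
    have := hpow c.val u hu
    simpa using this
  letI : MulAction (Multiplicative (ZMod p)) D :=
    { smul := fun c ψ => ⟨_, hshift (Multiplicative.toAdd c) ψ⟩
      one_smul := fun ψ => Subtype.ext (funext fun i => by
        show (ψ : ZMod p → ZMod p) (i + Multiplicative.toAdd (1 : Multiplicative (ZMod p))) = _
        simp)
      mul_smul := fun c d ψ => Subtype.ext (funext fun i => by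
        show (ψ : ZMod p → ZMod p) (i + Multiplicative.toAdd (c * d)) =
          (ψ : ZMod p → ZMod p) (i + Multiplicative.toAdd c + Multiplicative.toAdd d)
        rw [toAdd_mul, add_assoc]) }
  have hA : IsPGroup p (Multiplicative (ZMod p)) := IsPGroup.of_card (n := 1) (by simp)
  have hpD : p ∣ Nat.card D := by
    obtain ⟨k, -, hk⟩ := (Nat.dvd_prime_pow hp.out).1
      (show Nat.card D ∣ p ^ p by
        have := D.card_addSubgroup_dvd_card
        simpa using this)
    rcases Nat.eq_zero_or_pos k with rfl | hk0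
    · exfalso
      refine hg ?_
      have hzero : (fun i => g (Pi.single i 1)) = (0 : ZMod p → ZMod p) := by
        rw [pow_zero, Nat.card_eq_one_iff_unique] at hk
        have := hk.1
        have hmem : (fun i => g (Pi.single i 1)) ∈ D := fun u hu => by
          have h1 : g u = 0 := by
            have : g u ∈ W.map g := ⟨u, hu, rfl⟩
            rwa [hgW, Submodule.mem_bot] at this
          rw [← h1]
          conv_rhs => rw [show u = ∑ i, u i • Pi.single i (1 : ZMod p) by
            funext j; simp [Finset.sum_apply, Pi.single_apply]]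
          rw [map_sum]
          refine Finset.sum_congr rfl fun i _ => ?_
          rw [map_smul, smul_eq_mul, mul_comm]
        exact congrArg Subtype.val (Subsingleton.elim (⟨_, hmem⟩ : D) 0)
      refine LinearMap.ext fun u => ?_
      rw [show u = ∑ i, u i • Pi.single i (1 : ZMod p) by funext j; simp [Finset.sum_apply, Pi.single_apply],
        map_sum]
      simp [fun i => congrFun hzero i]
    · exact hk ▸ dvd_pow_self p hk0.ne'
  obtain ⟨ψ, hψ, hψ0⟩ := hA.exists_fixed_point_of_prime_dvd_card_of_fixed_point D hpD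
    (a := (0 : D)) fun c => Subtype.ext (funext fun i => rfl)
  refine hψ0 (Subtype.ext (funext fun i => ?_))
  have hconst : ∀ j, (ψ : ZMod p → ZMod p) j = (ψ : ZMod p → ZMod p) 0 := fun j => by
    have := congrFun (congrArg Subtype.val (hψ (Multiplicative.ofAdd j))) 0
    simpa using (show (ψ : ZMod p → ZMod p) (0 + Multiplicative.toAdd (Multiplicative.ofAdd j)) = _ from this)
  have h0 := ψ.2 v hv
  rw [Finset.sum_congr rfl fun j _ => by rw [hconst j], ← Finset.mul_sum, mul_eq_zero] at h0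
  show 0 = _
  rw [hconst i, h0.resolve_right hsum]

theorem factorial_factorization : (p ^ 2).factorial.factorization p = p + 1 := by
  have h1 := Nat.factorization_factorial_mul (n := p) hp.out
  have h2 := Nat.factorization_factorial_mul (n := 1) hp.out
  rw [mul_one, Nat.factorial_one, Nat.factorization_one] at h2
  rw [pow_two, h1, h2]
  simp [add_comm]

/-- A nonvanishing norm on a subgroup of index `p` gives a wreathed quotient. -/
theorem exists_wreath_of_norm {S : Type*} [Group S] [Finite S] (hS : IsPGroup p S) (M : Subgroup S) [M.Normal]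
    (hidx : M.index = p) (χ : M →* Multiplicative (ZMod p)) {t : S} (ht : t ∉ M) {z : S} (hz : z ∈ M)
    (hnorm : ∏ i ∈ Finset.range p,
      χ ⟨(t ^ i)⁻¹ * z * t ^ i, Subgroup.Normal.conj_mem' (H := M) inferInstance z hz (t ^ i)⟩ ≠ 1) :
    ∃ (W : Sylow p (Equiv.Perm (Fin (p ^ 2)))) (f : S →* (W : Subgroup (Equiv.Perm (Fin (p ^ 2))))),
      Function.Surjective f := by
  classical
  -- coordinates on the cosets
  have hto : orderOf (QuotientGroup.mk t : S ⧸ M) = p := by
    have h1 := orderOf_dvd_natCard (QuotientGroup.mk t : S ⧸ M)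
    rw [← Subgroup.index, hidx] at h1
    exact ((Nat.dvd_prime hp.out).1 h1).resolve_left fun h => ht ((QuotientGroup.eq_one_iff t).1 (orderOf_eq_one_iff.1 h))
  have hbij : Function.Bijective fun i : ZMod p => (QuotientGroup.mk t : S ⧸ M) ^ i.val := by
    refine (Nat.bijective_iff_injective_and_card _).2 ⟨fun i j h => ?_, by rw [Nat.card_zmod, ← Subgroup.index, hidx]⟩
    have h1 : (QuotientGroup.mk t : S ⧸ M) ^ i.val = (QuotientGroup.mk t : S ⧸ M) ^ j.val := h
    rw [pow_eq_pow_iff_modEq, hto] at h1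
    exact ZMod.val_injective p (h1.eq_of_lt_of_lt (ZMod.val_lt i) (ZMod.val_lt j))
  have hpa : ∀ i j : ZMod p, (QuotientGroup.mk t : S ⧸ M) ^ (i + j).val =
      (QuotientGroup.mk t : S ⧸ M) ^ i.val * (QuotientGroup.mk t : S ⧸ M) ^ j.val := fun i j => by
    rw [ZMod.val_add, ← pow_add, pow_eq_pow_iff_modEq, hto]
    exact Nat.mod_modEq _ _
  let e := Equiv.ofBijective _ hbij
  let k : S → ZMod p := fun s => e.symm (QuotientGroup.mk s)
  have hk : ∀ s, (QuotientGroup.mk t : S ⧸ M) ^ (k s).val = QuotientGroup.mk s := fun s => e.apply_symm_apply _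
  have hkmul : ∀ a b, k (a * b) = k a + k b := fun a b => by
    refine hbij.1 ?_
    show (QuotientGroup.mk t : S ⧸ M) ^ (k (a * b)).val = (QuotientGroup.mk t : S ⧸ M) ^ (k a + k b).val
    rw [hk, hpa, hk, hk]
    rfl
  have hkM : ∀ m ∈ M, k m = 0 := fun m hm => hbij.1 (by
    show (QuotientGroup.mk t : S ⧸ M) ^ (k m).val = (QuotientGroup.mk t : S ⧸ M) ^ (0 : ZMod p).val
    rw [hk, (QuotientGroup.eq_one_iff m).2 hm, ZMod.val_zero, pow_zero])
  have hw : ∀ s i, (t ^ (i + k s).val)⁻¹ * s * t ^ i.val ∈ M := fun s i => by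
    rw [← QuotientGroup.eq_one_iff, QuotientGroup.mk_mul, QuotientGroup.mk_mul, QuotientGroup.mk_inv,
      QuotientGroup.mk_pow, QuotientGroup.mk_pow, ← hk s, hpa]
    group
  let w : S → ZMod p → M := fun s i => ⟨_, hw s i⟩
  have hwmul : ∀ a b i, w (a * b) i = w a (i + k b) * w b i := fun a b i => Subtype.ext (by
    show (t ^ (i + k (a * b)).val)⁻¹ * (a * b) * t ^ i.val =
      ((t ^ (i + k b + k a).val)⁻¹ * a * t ^ (i + k b).val) * ((t ^ (i + k b).val)⁻¹ * b * t ^ i.val)
    rw [hkmul, show i + (k a + k b) = i + k b + k a by ring]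
    group)
  let σ : S → ZMod p × ZMod p → ZMod p × ZMod p :=
    fun s q => (q.1 + k s, q.2 + Multiplicative.toAdd (χ (w s q.1)))
  have hσmul : ∀ a b q, σ (a * b) q = σ a (σ b q) := fun a b q => by
    refine Prod.ext ?_ ?_
    · show q.1 + k (a * b) = q.1 + k b + k a
      rw [hkmul]; ring
    · show q.2 + Multiplicative.toAdd (χ (w (a * b) q.1)) =
        q.2 + Multiplicative.toAdd (χ (w b q.1)) + Multiplicative.toAdd (χ (w a (q.1 + k b)))
      rw [hwmul, map_mul, toAdd_mul]
      ring
  have hσone : ∀ q, σ 1 q = q := fun q => by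
    have h1 : k 1 = 0 := hkM 1 M.one_mem
    refine Prod.ext ?_ ?_
    · show q.1 + k 1 = q.1
      rw [h1, add_zero]
    · show q.2 + Multiplicative.toAdd (χ (w 1 q.1)) = q.2
      rw [show w 1 q.1 = 1 from Subtype.ext (by show (t ^ (q.1 + k 1).val)⁻¹ * 1 * t ^ q.1.val = 1; rw [h1, add_zero]; group)]
      simp
  let F₀ : S →* Equiv.Perm (ZMod p × ZMod p) := MonoidHom.mk' (fun s => ⟨σ s, σ s⁻¹,
    fun q => by rw [← hσmul, inv_mul_cancel, hσone], fun q => by rw [← hσmul, mul_inv_cancel, hσone]⟩)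
    fun a b => Equiv.ext (hσmul a b)
  let eF : ZMod p × ZMod p ≃ Fin (p ^ 2) := Fintype.equivFinOfCardEq (by simp [pow_two])
  let F : S →* Equiv.Perm (Fin (p ^ 2)) := (eF.permCongrHom : _ →* _).comp F₀
  have hFinj : ∀ {a b}, F a = F b → F₀ a = F₀ b := fun h => eF.permCongrHom.injective h
  -- the base
  let vec : M → ZMod p → ZMod p := fun m i => Multiplicative.toAdd (χ (w m i))
  have hsame : ∀ (a b : S) (m : M), a⁻¹ * b ∈ M → ∀ ha hb,
      χ ⟨a⁻¹ * m * a, ha⟩ = χ ⟨b⁻¹ * m * b, hb⟩ := fun a b m hab ha hb => by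
    rw [show (⟨b⁻¹ * m * b, hb⟩ : M) = (⟨_, hab⟩ : M)⁻¹ * ⟨a⁻¹ * m * a, ha⟩ * ⟨_, hab⟩ from Subtype.ext (by
      show b⁻¹ * m * b = (a⁻¹ * b)⁻¹ * (a⁻¹ * m * a) * (a⁻¹ * b); group), map_mul, map_mul, map_inv,
      mul_right_comm, inv_mul_cancel, one_mul]
  have hconjM : ∀ (a : S) (m : M), a⁻¹ * m * a ∈ M := fun a m =>
    Subgroup.Normal.conj_mem' inferInstance (m : S) m.2 a
  have hvec : ∀ (m : M) i, vec m i = Multiplicative.toAdd (χ ⟨(t ^ i.val)⁻¹ * m * t ^ i.val, hconjM _ m⟩) := fun m i => by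
    show Multiplicative.toAdd (χ (w m i)) = _
    congr 2
    refine Subtype.ext ?_
    show (t ^ (i + k m).val)⁻¹ * m * t ^ i.val = _
    rw [hkM _ m.2, add_zero]
  let vecHom : Additive M →+ (ZMod p → ZMod p) := AddMonoidHom.mk' (fun m => vec (Additive.toMul m)) fun a b => by
    funext i
    show vec (Additive.toMul a * Additive.toMul b) i = vec (Additive.toMul a) i + vec (Additive.toMul b) i
    simp only [hvec]
    rw [← toAdd_mul, ← map_mul χ]
    congr 2
    exact Subtype.ext (by simp [mul_assoc])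
  have htop : vecHom.range = ⊤ := by
    refine eq_top_of_shift _ ?_ (vec ⟨z, hz⟩) ⟨Additive.ofMul ⟨z, hz⟩, rfl⟩ ?_
    · rintro _ ⟨m, rfl⟩
      have hn : t * (Additive.toMul m : M) * t⁻¹ ∈ M := Subgroup.Normal.conj_mem inferInstance _ (Additive.toMul m).2 t
      refine ⟨Additive.ofMul ⟨_, hn⟩, funext fun i => ?_⟩
      show vec ⟨_, hn⟩ i = vec (Additive.toMul m) (i - 1)
      rw [hvec, hvec]
      congr 1
      have h := hsame ((t⁻¹ * t ^ i.val)) (t ^ (i - 1).val) (Additive.toMul m) (by
        rw [← QuotientGroup.eq_one_iff, QuotientGroup.mk_mul, QuotientGroup.mk_inv, QuotientGroup.mk_mul,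
          QuotientGroup.mk_inv, QuotientGroup.mk_pow, QuotientGroup.mk_pow, inv_mul_eq_one, inv_mul_eq_iff_eq_mul,
          ← pow_succ', pow_eq_pow_iff_modEq, hto, ← ZMod.natCast_eq_natCast_iff]
        push_cast
        simp) (hconjM _ _) (hconjM _ _)
      rw [← h]
      congr 1
      exact Subtype.ext (by simp [mul_assoc])
    · intro h
      refine hnorm (Multiplicative.toAdd.injective ?_)
      rw [toAdd_one, toAdd_prod, ← h]
      refine Finset.sum_nbij' (fun i => (i : ZMod p)) (fun i => i.val) (fun _ _ => Finset.mem_univ _)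
        (fun i _ => Finset.mem_range.2 (ZMod.val_lt i)) (fun i hi => ZMod.val_natCast_of_lt (Finset.mem_range.1 hi))
        (fun i _ => ZMod.natCast_zmod_val i) fun i hi => ?_
      rw [hvec]
      congr 2
      refine Subtype.ext ?_
      show (t ^ i)⁻¹ * z * t ^ i = (t ^ ((i : ZMod p)).val)⁻¹ * z * t ^ ((i : ZMod p)).val
      rw [ZMod.val_natCast_of_lt (Finset.mem_range.1 hi)]
  -- the image
  have hRp : IsPGroup p F.range := hS.of_surjective F.rangeRestrict F.rangeRestrict_surjective
  have hcard : p ^ (p + 1) ∣ Nat.card F.range := by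
    have hsurj : ∀ v, ∃ m : M, vec m = v := fun v => by
      obtain ⟨m, hm⟩ := htop.ge (AddSubgroup.mem_top v)
      exact ⟨Additive.toMul m, hm⟩
    choose pick hpick using hsurj
    set B := (M.map F).subgroupOf F.range
    have hBcard : p ^ p ≤ Nat.card B := by
      refine le_trans (le_of_eq (by simp)) (Nat.card_le_card_of_injective
        (fun v : ZMod p → ZMod p => (⟨⟨F (pick v), ⟨_, rfl⟩⟩, ⟨_, (pick v).2, rfl⟩⟩ : B)) fun v v' h => ?_)
      rw [← hpick v, ← hpick v']
      funext i
      have h1 := congrFun (congrArg DFunLike.coe (hFinj (congrArg (fun x : B => ((x : F.range) : Equiv.Perm (Fin (p ^ 2)))) h))) (i, 0)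
      have h2 : 0 + vec (pick v) i = 0 + vec (pick v') i := congrArg Prod.snd h1
      simpa using h2
    have hBt : (⟨F t, ⟨t, rfl⟩⟩ : F.range) ∉ B := by
      rintro ⟨m, hm, he⟩
      have h1 := congrFun (congrArg DFunLike.coe (hFinj (show F m = F t from he))) ((0 : ZMod p), (0 : ZMod p))
      have h2 : (0 : ZMod p) + k m = 0 + k t := congrArg Prod.fst h1
      rw [zero_add, zero_add, hkM m hm] at h2
      exact ht ((QuotientGroup.eq_one_iff t).1 (by rw [← hk t, ← h2, ZMod.val_zero, pow_zero]))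
    obtain ⟨a, ha⟩ := IsPGroup.iff_card.1 (hRp.to_subgroup B)
    obtain ⟨b, -, hb⟩ := (Nat.dvd_prime_pow hp.out).1
      ((IsPGroup.iff_card.1 hRp).choose_spec ▸ B.index_dvd_card)
    have hb1 : 1 ≤ b := Nat.pos_of_ne_zero fun h0 => hBt (by
      rw [h0, pow_zero, Subgroup.index_eq_one] at hb; rw [hb]; exact Subgroup.mem_top _)
    have ha1 : p ≤ a := (Nat.pow_le_pow_iff_right hp.out.one_lt).1 (ha ▸ hBcard)
    rw [← B.card_mul_index, ha, hb, ← pow_add]
    exact pow_dvd_pow p (by omega)
  obtain ⟨W, hW⟩ := hRp.exists_le_sylow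
  have hWcard : Nat.card W = p ^ (p + 1) := by
    rw [W.card_eq_multiplicity, Nat.card_perm, Nat.card_fin, factorial_factorization]
  have heq : F.range = (W : Subgroup _) := Subgroup.eq_of_le_of_card_ge hW (by
    rw [hWcard]; exact Nat.le_of_dvd Nat.card_pos hcard)
  exact ⟨W, F.codRestrict _ fun s => hW ⟨s, rfl⟩, fun x => by
    obtain ⟨s, hs⟩ := heq.ge x.2
    exact ⟨s, Subtype.ext hs⟩⟩

/-- A nonvanishing product of a cocycle over the fixed points gives a wreathed quotient. -/
theorem exists_wreath_of_cocycle {S : Type*} [Group S] [Finite S] (hS : IsPGroup p S) {O : Type*} [Fintype O]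
    [MulAction S O] (c : S → O → Multiplicative (ZMod p))
    (hc : ∀ a b o, c (a * b) o = c b o * c a (b • o)) {z : S} {a0 : Multiplicative (ZMod p)} (ha0 : a0 ≠ 1)
    (hprod : ∏ o, c z o = 1) (hfix : ∀ o : O, (∀ s : S, s • o = o) → c z o = a0)
    (hnum : ¬ p ∣ Nat.card O) (hcyc : ∀ (o : O) (l : ℕ), p ∣ l → (z ^ l) • o = o → c (z ^ l) o = 1) :
    ∃ (W : Sylow p (Equiv.Perm (Fin (p ^ 2)))) (f : S →* (W : Subgroup (Equiv.Perm (Fin (p ^ 2))))),
      Function.Surjective f := by
  classical
  have hc1 : ∀ o, c 1 o = 1 := fun o => by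
    have := hc 1 1 o
    rw [one_smul, mul_one] at this
    exact mul_left_cancel (a := c 1 o) (this.symm.trans (mul_one _).symm)
  -- some larger orbit has a nontrivial product
  obtain ⟨o₀, ho₀, horb⟩ : ∃ o₀ : O, (¬ ∀ s : S, s • o₀ = o₀) ∧
      ∏ o ∈ (Finset.univ.filter fun o => o ∈ MulAction.orbit S o₀), c z o ≠ 1 := by
    by_contra h
    push_neg at h
    let Fx := Finset.univ.filter fun o : O => ∀ s : S, s • o = o
    have h1 : ∏ o ∈ Finset.univ.filter (fun o : O => ¬ ∀ s : S, s • o = o), c z o = 1 := by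
      let r := MulAction.orbitRel S O
      rw [← Finset.prod_fiberwise_of_maps_to
        (g := fun o => (Quotient.mk r o)) (t := Finset.univ) fun _ _ => Finset.mem_univ _]
      refine Finset.prod_eq_one fun q _ => ?_
      induction q using Quotient.ind with
      | _ o =>
        by_cases ho : ∀ s : S, s • o = o
        · refine Finset.prod_eq_one fun o' ho' => ?_
          simp only [Finset.mem_filter, Finset.mem_univ, true_and] at ho'
          obtain ⟨s, hs⟩ := Quotient.exact ho'.2
          have hs : s • o = o' := hs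
          exact absurd (fun s' => by rw [← hs, ho, ho]) ho'.1
        · refine Eq.trans (Finset.prod_congr (Finset.ext fun o' => ?_) fun _ _ => rfl) (h o (not_forall.1 ho))
          simp only [Finset.mem_filter, Finset.mem_univ, true_and]
          refine ⟨fun h2 => Quotient.exact h2.2, fun h2 => ⟨fun h3 => ho ?_, Quotient.sound h2⟩⟩
          obtain ⟨s, hs⟩ := h2
          have hs : s • o = o' := hs
          intro s'
          refine smul_left_cancel s ?_
          rw [← mul_smul, show s * s' = (s * s' * s⁻¹) * s by group, mul_smul, hs, h3]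
    have h2 := Finset.prod_filter_mul_prod_filter_not Finset.univ (fun o : O => ∀ s : S, s • o = o) (c z)
    rw [h1, mul_one, hprod, Finset.prod_congr rfl fun o ho => hfix o (Finset.mem_filter.1 ho).2,
      Finset.prod_const] at h2
    have hmod := hS.card_modEq_card_fixedPoints O
    have hd : ¬ p ∣ Fx.card := fun hd => hnum ((Nat.ModEq.dvd_iff hmod dvd_rfl).2 (by
      rwa [show Nat.card (MulAction.fixedPoints S O) = Fx.card from
        Nat.subtype_card Fx fun o => by simp [Fx]]))
    have ho : orderOf a0 = p := orderOf_eq_prime (by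
      have := pow_card_eq_one' (x := a0)
      simpa using this) ha0
    exact hd (ho ▸ orderOf_dvd_of_pow_eq_one h2)
  set Orb := Finset.univ.filter fun o => o ∈ MulAction.orbit S o₀ with hOrb
  have hmemO : ∀ {o}, o ∈ Orb ↔ ∃ s : S, s • o₀ = o := fun {o} => by
    simp [hOrb, MulAction.mem_orbit_iff]
  set P := MulAction.stabilizer S o₀
  have hP : P ≠ ⊤ := fun h => ho₀ fun s => by
    have : s ∈ P := h ▸ Subgroup.mem_top s
    exact this
  obtain ⟨M, hM, hPM⟩ := (eq_top_or_exists_le_coatom P).resolve_left hP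
  have hnil := hS.isNilpotent
  have hMn : M.Normal := Subgroup.NormalizerCondition.normal_of_coatom M normalizerCondition_of_isNilpotent hM
  have hidx : M.index = p := by
    obtain ⟨n, hn⟩ := hS.index M
    have : IsSimpleGroup (S ⧸ M) := by
      have : Nontrivial (S ⧸ M) := QuotientGroup.nontrivial_iff.2 hM.1
      refine ⟨fun H _ => ?_⟩
      rcases eq_or_lt_of_le (show M ≤ H.comap (QuotientGroup.mk' M) from fun m hm => by
        show QuotientGroup.mk' M m ∈ H
        rw [QuotientGroup.mk'_apply, (QuotientGroup.eq_one_iff m).2 hm]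
        exact H.one_mem) with h | h
      · left
        rw [← Subgroup.map_comap_eq_self_of_surjective (QuotientGroup.mk'_surjective M) H, ← h]
        exact (QuotientGroup.map_mk'_self M)
      · right
        rw [← Subgroup.map_comap_eq_self_of_surjective (QuotientGroup.mk'_surjective M) H, hM.2 _ h]
        exact Subgroup.map_top_of_surjective _ (QuotientGroup.mk'_surjective M)
    have hpg : IsPGroup p (S ⧸ M) := hS.to_quotient M
    have hnil' := hpg.isNilpotent
    have hcomm : ∀ a b : S ⧸ M, a * b = b * a := by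
      have hne : Subgroup.center (S ⧸ M) ≠ ⊥ := (Subgroup.nontrivial_iff_ne_bot _).1 hpg.center_nontrivial
      have htop := ((inferInstance : (Subgroup.center (S ⧸ M)).Normal).eq_bot_or_eq_top).resolve_left hne
      exact fun a b => (Subgroup.mem_center_iff.1 (htop.ge (Subgroup.mem_top b)) a)
    let : CommGroup (S ⧸ M) := { (inferInstance : Group (S ⧸ M)) with mul_comm := hcomm }
    have hpr : (Nat.card (S ⧸ M)).Prime := IsSimpleGroup.prime_card
    rw [← Subgroup.index, hn] at hpr
    rw [hn, Nat.Prime.eq_one_of_pow hpr, pow_one]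
  obtain ⟨t, ht⟩ : ∃ t : S, t ∉ M := by
    by_contra h
    push_neg at h
    exact hM.1 (eq_top_iff.2 fun x _ => h x)
  have hzM : z ∈ M := by
    by_contra hzM
    let π : Equiv.Perm O := MulAction.toPerm z
    have hπ : ∀ (i : ℕ) (o : O), (π ^ i) o = (z ^ i) • o := by
      intro i
      induction i with
      | zero => intro o; simp
      | succ i ih =>
        intro o
        rw [pow_succ', Equiv.Perm.mul_apply, ih, pow_succ', mul_smul]
        rfl
    have hpow : ∀ (l : ℕ) (o : O), ∏ i ∈ Finset.range l, c z ((π ^ i) o) = c (z ^ l) o := by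
      intro l o
      induction l with
      | zero => simp [hc1]
      | succ l ih =>
        rw [Finset.prod_range_succ, ih, hπ, ← hc, pow_succ']
    refine horb ?_
    let π' := π.subtypePerm (p := fun o => o ∈ Orb) fun o => by
      simp only [hmemO]
      exact ⟨fun ⟨s, hs⟩ => ⟨z⁻¹ * s, by rw [mul_smul, hs]; exact inv_smul_smul z o⟩,
        fun ⟨s, hs⟩ => ⟨z * s, by rw [mul_smul, hs]; rfl⟩⟩
    have hπ' : ∀ (i : ℕ) (o : {o // o ∈ Orb}), (((π' ^ i) o : {o // o ∈ Orb}) : O) = (π ^ i) o := by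
      intro i o
      rw [Equiv.Perm.subtypePerm_pow]
      rfl
    rw [← Finset.prod_coe_sort Orb]
    refine (prod_eq_pow_card_of_cycles π' (fun o => c z o) 1 (fun o l hl => ?_) (fun o => ?_) Finset.univ
      (fun _ _ => Finset.mem_univ _)).trans (one_pow _)
    · rw [one_pow]
      simp only [hπ']
      have hl' : (z ^ l) • (o : O) = o := by
        rw [← hπ, ← hπ', hl]
      obtain ⟨s, hs⟩ := hmemO.1 o.2
      rw [hpow]
      refine hcyc _ l ?_ hl'
      by_contra hpl
      have hmem : s⁻¹ * z ^ l * s ∈ M := hPM (show s⁻¹ * z ^ l * s ∈ P by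
        rw [MulAction.mem_stabilizer_iff, mul_smul, mul_smul, hs, hl', ← hs, inv_smul_smul])
      have hzl : z ^ l ∈ M := by
        have := hMn.conj_mem _ hmem s
        simpa [mul_assoc] using this
      have hzp : z ^ p ∈ M := hidx ▸ Subgroup.pow_index_mem M z
      obtain ⟨a, b, hab⟩ := Nat.isCoprime_iff_coprime.2 ((Nat.Prime.coprime_iff_not_dvd hp.out).2 hpl)
      refine hzM ?_
      have h3 := mul_mem (M.zpow_mem hzp a) (M.zpow_mem hzl b)
      rw [← zpow_natCast z p, ← zpow_natCast z l, ← zpow_mul, ← zpow_mul, ← zpow_add, mul_comm (p : ℤ),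
        mul_comm (l : ℤ), hab, zpow_one] at h3
      exact h3
    · exact ⟨orderOf π', (isOfFinOrder_of_finite π').orderOf_pos, by rw [pow_orderOf_eq_one]; rfl⟩
  -- the blocks
  set B := Finset.univ.filter fun o => ∃ m ∈ M, m • o₀ = o with hBdef
  have hmemB : ∀ {o}, o ∈ B ↔ ∃ m ∈ M, m • o₀ = o := fun {o} => by simp [hBdef]
  have hBsmul : ∀ m ∈ M, ∀ o, o ∈ B → m • o ∈ B := by
    intro m hm o ho
    obtain ⟨m', hm', rfl⟩ := hmemB.1 ho
    exact hmemB.2 ⟨m * m', M.mul_mem hm hm', mul_smul _ _ _⟩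
  have hre : ∀ m ∈ M, ∀ g : O → Multiplicative (ZMod p), ∏ o ∈ B, g (m • o) = ∏ o ∈ B, g o := fun m hm g =>
    Finset.prod_nbij' (fun o => m • o) (fun o => m⁻¹ • o) (fun o ho => hBsmul m hm o ho)
      (fun o ho => hBsmul _ (M.inv_mem hm) o ho) (fun o _ => inv_smul_smul m o) (fun o _ => smul_inv_smul m o)
      fun o _ => rfl
  let χ : M →* Multiplicative (ZMod p) := MonoidHom.mk' (fun m => ∏ o ∈ B, c m o) fun a b => by
    show ∏ o ∈ B, c ((a : S) * b) o = (∏ o ∈ B, c a o) * ∏ o ∈ B, c b o
    rw [Finset.prod_congr rfl fun o _ => hc a b o, Finset.prod_mul_distrib, mul_comm, hre b b.2 (c a)]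
  refine exists_wreath_of_norm hS M hidx χ ht hzM fun hn => horb ?_
  have hto : orderOf (QuotientGroup.mk t : S ⧸ M) = p := by
    have h1 := orderOf_dvd_natCard (QuotientGroup.mk t : S ⧸ M)
    rw [← Subgroup.index, hidx] at h1
    exact ((Nat.dvd_prime hp.out).1 h1).resolve_left fun h => ht ((QuotientGroup.eq_one_iff t).1 (orderOf_eq_one_iff.1 h))
  have hcos : ∀ s : S, ∃ i < p, (t ^ i)⁻¹ * s ∈ M := by
    intro s
    have hgen : (QuotientGroup.mk s : S ⧸ M) ∈ Subgroup.zpowers (QuotientGroup.mk t : S ⧸ M) := by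
      rw [Subgroup.eq_top_of_card_eq (Subgroup.zpowers (QuotientGroup.mk t : S ⧸ M))
        (by rw [Nat.card_zpowers, hto, ← Subgroup.index, hidx])]
      exact Subgroup.mem_top _
    obtain ⟨i, hi⟩ := (isOfFinOrder_of_finite _).mem_powers_iff_mem_zpowers.2 hgen
    refine ⟨i % p, Nat.mod_lt _ hp.out.pos, ?_⟩
    rw [← QuotientGroup.eq, QuotientGroup.mk_pow, ← hto, pow_mod_orderOf]
    exact hi
  rw [← hn]
  refine Eq.trans (b := ∏ i ∈ Finset.range p, ∏ o ∈ B, c z (t ^ i • o)) (Eq.symm ?_) (Finset.prod_congr rfl fun i hi => ?_)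
  · rw [← Finset.prod_product']
    refine Finset.prod_bij (fun q _ => t ^ q.1 • q.2) ?_ ?_ ?_ (fun q _ => rfl)
    · intro q hq
      obtain ⟨m, -, hm⟩ := hmemB.1 (Finset.mem_product.1 hq).2
      exact hmemO.2 ⟨t ^ q.1 * m, by rw [mul_smul, hm]⟩
    · intro q hq q' hq' h
      obtain ⟨hq1, hq2⟩ := Finset.mem_product.1 hq
      obtain ⟨hq1', hq2'⟩ := Finset.mem_product.1 hq'
      obtain ⟨m, hm, hme⟩ := hmemB.1 hq2
      obtain ⟨m', hm', hme'⟩ := hmemB.1 hq2'
      have hP' : (t ^ q'.1 * m')⁻¹ * (t ^ q.1 * m) ∈ M := hPM (show _ ∈ P by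
        rw [MulAction.mem_stabilizer_iff, mul_smul, mul_smul _ m, hme, h, ← hme', ← mul_smul _ m', inv_smul_smul])
      have h1 : (QuotientGroup.mk t : S ⧸ M) ^ q'.1 = (QuotientGroup.mk t : S ⧸ M) ^ q.1 := by
        rw [← QuotientGroup.mk_pow, ← QuotientGroup.mk_pow, QuotientGroup.eq]
        have := M.mul_mem (M.mul_mem hm' hP') (M.inv_mem hm)
        simpa [mul_assoc] using this
      rw [pow_eq_pow_iff_modEq, hto] at h1
      have e := (h1.eq_of_lt_of_lt (Finset.mem_range.1 hq1') (Finset.mem_range.1 hq1)).symm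
      exact Prod.ext e (smul_left_cancel _ (by rwa [← e] at h))
    · intro o ho
      obtain ⟨s, hs⟩ := hmemO.1 ho
      obtain ⟨i, hi, hiM⟩ := hcos s
      exact ⟨(i, ((t ^ i)⁻¹ * s) • o₀), Finset.mem_product.2 ⟨Finset.mem_range.2 hi, hmemB.2 ⟨_, hiM, rfl⟩⟩,
        by rw [← mul_smul, mul_inv_cancel_left, hs]⟩
  · show ∏ o ∈ B, c z (t ^ i • o) = ∏ o ∈ B, c ((t ^ i)⁻¹ * z * t ^ i) o
    set v := (t ^ i)⁻¹ * z * t ^ i
    have hvM : v ∈ M := Subgroup.Normal.conj_mem' hMn z hzM (t ^ i)
    have h1 : ∀ o, c (t ^ i) o * c z (t ^ i • o) = c v o * c (t ^ i) (v • o) := fun o => by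
      rw [← hc, ← hc]
      congr 1
      show z * t ^ i = t ^ i * ((t ^ i)⁻¹ * z * t ^ i)
      group
    have h2 : (∏ o ∈ B, c (t ^ i) o) * ∏ o ∈ B, c z (t ^ i • o) = (∏ o ∈ B, c v o) * ∏ o ∈ B, c (t ^ i) o := by
      rw [← Finset.prod_mul_distrib, Finset.prod_congr rfl fun o _ => h1 o, Finset.prod_mul_distrib, hre v hvM (c (t ^ i))]
    rw [mul_comm (∏ o ∈ B, c v o)] at h2
    exact mul_left_cancel h2

end Cfsg.Agent.Fusion.WreathQ
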