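import Cfsg.Agent.Lib.Fusion.TransferCocycle
import Cfsg.Agent.Lib.Fusion.WreathQuotient
import Cfsg.Agent.Lib.Fusion.Tate
import Cfsg.Agent.Lib.Fusion.TateApps
import Cfsg.Agent.Lib.Fusion.NormalizerSystem
import Cfsg.Agent.Lib.Fusion.ModelSection
import Cfsg.Agent.Lib.Struct.CoprimeMinimal

/-!
Control of the focal subgroup by the normalizer of `S` when `S` has no wreathed quotient.
-/

set_option autoImplicit false

universe v

namespace Cfsg.Agent.Fusion.Yoshida

open Cfsg Cfsg.FusionSystem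

variable {p : ℕ} [hp : Fact p.Prime]

/-- A nontrivial element of a commutative group of exponent `p` is detected by a character to `ZMod p`. -/
theorem exists_hom_ne {A : Type*} [CommGroup A] (hA : ∀ a : A, a ^ p = 1) {a : A} (ha : a ≠ 1) :
    ∃ θ : A →* Multiplicative (ZMod p), θ a ≠ 1 := by
  letI : Module (ZMod p) (Additive A) := AddCommGroup.zmodModule (n := p) fun x : Additive A => Additive.toMul.injective (hA x.toMul)
  have hna : Additive.ofMul a ∉ (⊥ : Submodule (ZMod p) (Additive A)) := by simpa using ha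
  obtain ⟨g, hg, -⟩ := Submodule.exists_dual_map_eq_bot_of_notMem hna inferInstance
  exact ⟨AddMonoidHom.toMultiplicativeRight g.toAddMonoidHom, fun h => hg (by simpa using congrArg Multiplicative.toAdd h)⟩

variable {Ω : Type v} [Group Ω] {S : Subgroup Ω} [Finite S] {F : FusionSystem S}

/-- The theorem. -/
theorem exists_wreath (hS : IsPGroup p S) (hF : F.IsSaturated p) (N : FusionSystem (normalizerIn S S))
    (hN : F.IsNormalizerSystem S N) (hne : N.focalSubgroup ≠ F.focalSubgroup) :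
    ∃ (W : Sylow p (Equiv.Perm (Fin (p ^ 2)))) (f : S →* (W : Subgroup (Equiv.Perm (Fin (p ^ 2))))),
      Function.Surjective f := by
  classical
  have hle : N.focalSubgroup ≤ F.focalSubgroup := (Subgroup.closure_le _).2 (by
    rintro _ ⟨P, φ, x, hφ, rfl⟩
    rw [← extFun_coe φ x]
    exact mem_focal_of_isMor (isMor_of_normalizer hN (isMor_extFun hφ)) x.2)
  have haut : ∀ f, IsMor F S f → ∀ x ∈ S, x⁻¹ * f x ∈ N.focalSubgroup := fun f hf x hx =>
    mem_focal_of_isMor ((isMor_normalizer_iff hN).2 ⟨le_normalizerIn le_rfl,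
      fun y hy => le_normalizerIn le_rfl (hf.mem hy), f, by rw [sup_idem]; exact hf, fun _ _ => rfl,
      hf.isIso_self fun y hy => hf.mem hy⟩) hx
  have hcN : ⁅S, S⁆ ≤ N.focalSubgroup := Subgroup.commutator_le.2 fun a ha b hb => by
    have := haut _ (isMor_conj (F := F) le_rfl hb) a⁻¹ (S.inv_mem ha)
    simpa [commutatorElement_def, mul_assoc] using this
  set K := (frattini S).map S.subtype ⊔ N.focalSubgroup with hK
  have hKS : K ≤ S := sup_le (Subgroup.map_subtype_le _) (hle.trans (focal_le F))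
  obtain ⟨z₀, hz₀, hz₀K⟩ : ∃ z ∈ F.focalSubgroup, z ∉ K := by
    by_contra h
    push_neg at h
    exact hne (le_antisymm hle (focal_le_of_le_sup_frattini hS hF hcN hle fun x hx => h x hx))
  obtain ⟨A, _, χ, hsurj, hker, -⟩ := exists_char (le_refl S) hKS (hcN.trans le_sup_right)
  have hA : ∀ a : A, a ^ p = 1 := fun a => by
    obtain ⟨x, rfl⟩ := hsurj a
    rw [← map_pow, hker]
    exact Subgroup.mem_sup_left ⟨x ^ p, Struct.CoprimeMinimal.pow_mem_frattini hS x, rfl⟩
  obtain ⟨θ₀, hθ₀⟩ := exists_hom_ne (p := p) hA (a := χ ⟨z₀, focal_le F hz₀⟩)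
    fun h => hz₀K ((hker _).1 h)
  set θ : S →* Multiplicative (ZMod p) := θ₀.comp χ
  have hθK : ∀ x : S, (x : Ω) ∈ K → θ x = 1 := fun x hx => by
    show θ₀ (χ x) = 1
    rw [(hker x).2 hx, map_one]
  -- an element of least order
  obtain ⟨z, ⟨hzf, hzθ⟩, hmin⟩ := Set.Finite.exists_minimalFor (fun x : S => orderOf x)
    {x : S | (x : Ω) ∈ F.focalSubgroup ∧ θ x ≠ 1} (Set.toFinite _) ⟨⟨z₀, focal_le F hz₀⟩, hz₀, hθ₀⟩
  have hsmall : ∀ x : S, (x : Ω) ∈ F.focalSubgroup → orderOf x < orderOf z → θ x = 1 := fun x hx hlt => by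
    by_contra h
    exact absurd (hmin ⟨hx, h⟩ hlt.le) (not_le.2 hlt)
  obtain ⟨O, _, _, lam, t, hnum, hlam, ht, hinv, hstab⟩ := exists_transfer_cocycle (p := p) hS hF
  let c : S → O → Multiplicative (ZMod p) := fun a o => θ (lam a o)
  have hc : ∀ a b o, c (a * b) o = c b o * c a (b • o) := fun a b o => by
    show θ (lam (a * b) o) = _
    rw [hlam, map_mul]
  have hprod : ∏ o, c z o = 1 := by
    have hfoc : F.focalSubgroup ≤ t.ker.map S.subtype := (Subgroup.closure_le _).2 (by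
      rintro _ ⟨P, φ, x, hφ, rfl⟩
      have hxS : (x : Ω) ∈ S := (F.le_of_mem hφ).1 x.2
      have hφS := (F.le_of_mem hφ).2 x
      refine ⟨(⟨x, hxS⟩ : ↥S)⁻¹ * ⟨φ x, hφS⟩, ?_, rfl⟩
      show t _ = 1
      rw [map_mul, map_inv, hinv P _ (isMor_extFun hφ) ⟨x, hxS⟩ ⟨φ x, hφS⟩ x.2 (extFun_coe φ x).symm,
        inv_mul_cancel])
    obtain ⟨w, hw, he⟩ := hfoc hzf
    have hz1 : t z = 1 := (Subtype.ext he : w = z) ▸ hw
    have := congrArg (Abelianization.lift θ) hz1
    rw [ht, map_prod, map_one] at this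
    simpa [Abelianization.lift_apply_of] using this
  refine WreathQ.exists_wreath_of_cocycle hS c hc (z := z) (a0 := (θ z)⁻¹) (by simpa using hzθ) hprod
    (fun o ho => ?_) hnum fun o l hl hlo => ?_
  · obtain ⟨P, f, hf, hfo⟩ := hstab o
    have hPS : P = S := le_antisymm hf.le fun x hx => (hfo ⟨x, hx⟩ (ho _)).1
    subst hPS
    have h1 := hθK (z⁻¹ * (lam z o)⁻¹) (Subgroup.mem_sup_right (by
      rw [Subgroup.coe_mul, (hfo z (ho z)).2]
      exact haut f hf _ z.2))
    rw [map_mul, map_inv, map_inv, inv_mul_eq_one] at h1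
    show θ (lam z o) = (θ z)⁻¹
    rw [h1, inv_inv]
  · obtain ⟨P, f, hf, hfo⟩ := hstab o
    obtain ⟨hlP, hlf⟩ := hfo _ hlo
    have hzl : ((z ^ l : S) : Ω) ∈ F.focalSubgroup := by
      rw [SubmonoidClass.coe_pow]; exact pow_mem hzf l
    have hy : (((lam (z ^ l) o)⁻¹ : S) : Ω) ∈ F.focalSubgroup := by
      have := mul_mem hzl (mem_focal_of_isMor hf hlP)
      rw [mul_inv_cancel_left] at this
      rw [hlf]
      exact this
    show θ (lam (z ^ l) o) = 1
    rw [← inv_inv (lam (z ^ l) o), map_inv, hsmall _ hy ?_, inv_one]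
    have hz1 : z ≠ 1 := fun h => hzθ (by rw [h, map_one])
    have hle' : orderOf ((lam (z ^ l) o)⁻¹) ≤ orderOf (z ^ l) := by
      refine Nat.le_of_dvd (orderOf_pos _) (orderOf_dvd_of_pow_eq_one (Subtype.ext ?_))
      have hpw : ∀ j : ℕ, f (((z ^ l : S) : Ω) ^ j) = (f ((z ^ l : S) : Ω)) ^ j := by
        intro j
        induction j with
        | zero => simp [hf.map_one]
        | succ j ih => rw [pow_succ, hf.map_mul (pow_mem hlP j) hlP, ih, pow_succ]
      rw [SubmonoidClass.coe_pow, hlf, ← hpw, ← SubmonoidClass.coe_pow, pow_orderOf_eq_one, Subgroup.coe_one, hf.map_one]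
    refine lt_of_le_of_lt hle' ?_
    obtain ⟨e, he⟩ := IsPGroup.iff_orderOf.1 hS z
    have he0 : e ≠ 0 := fun h => hz1 (orderOf_eq_one_iff.1 (by rw [he, h, pow_zero]))
    rw [orderOf_pow, he]
    refine Nat.div_lt_self (pow_pos hp.out.pos _) (lt_of_lt_of_le hp.out.one_lt
      (Nat.le_of_dvd (Nat.gcd_pos_of_pos_left _ (pow_pos hp.out.pos _)) ?_))
    exact Nat.dvd_gcd (dvd_pow_self p he0) hl

end Cfsg.Agent.Fusion.Yoshida
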