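import Cfsg.Agent.Lib.Fusion.ZJFusion
import Cfsg.Agent.Lib.Fusion.ZJCriterion
import Cfsg.Agent.Lib.Fusion.CenterControlApps
import Cfsg.Agent.Lib.Solv.QdFree
import Cfsg.Agent.Lib.Solv.QdFusion

/-!
Consequences of the `Z(J)` theorem for fusion systems.
-/

set_option autoImplicit false
set_option linter.style.haveILetI false

universe v

namespace Cfsg.Agent.Fusion.ZJFusion

open Cfsg Cfsg.FusionSystem Cfsg.Agent.Fusion.ZJC

variable {p : ℕ} [hp : Fact p.Prime]

theorem localNormal_zj (hp2 : p ≠ 2) : LocalNormal p (zjFunctor.{v} p) := fun _ _ _ T hc hfree =>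
  Solv.ZJ.zj_normal hp2
    (Solv.ZJ.stab_of_isPStableOn fun B _ hB => Solv.Quad.isPStableOn_of_qdFree hp2 hfree B hB) hc T

variable {Ω : Type v} [Group Ω] {S : Subgroup Ω} [Finite S] {F : FusionSystem S}

theorem hom_eq_normalizer (hQ : F.IsNormal S → True) {W : Subgroup Ω} (hW : F.IsNormal W)
    {N : FusionSystem (normalizerIn S W)} (hN : F.IsNormalizerSystem W N) (P : Subgroup Ω) :
    N.Hom P = F.Hom P := by
  have hT : normalizerIn S W = S := inf_eq_left.2 (normal_le_normalizer hW)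
  refine hom_eq_of_isMor_iff P fun f => ⟨fun hf => isMor_of_normalizer hN hf, fun hf => ?_⟩
  obtain ⟨k, hk, hke, hkR⟩ := (isNormal_iff.1 hW).2 P f hf
  exact (isMor_normalizer_iff hN).2
    ⟨hf.le.trans hT.ge, fun x hx => hT.ge (hf.mem hx), k, hk, hke, hkR⟩

/-- Some nontrivial characteristic subgroup is normal. -/
theorem exists_char_normal (hp2 : p ≠ 2) (hS : IsPGroup p S) (hS1 : S ≠ ⊥) (hF : F.IsSaturated p)
    (hfree : F.IsSectionFree p ↥(qd p)) :
    ∃ W : Subgroup Ω, W ≤ S ∧ W ≠ ⊥ ∧ (W.subgroupOf S).Characteristic ∧ F.IsNormal W := by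
  refine ⟨(zjFunctor p).W S, (zjFunctor p).le S, (zjFunctor p).ne S hS hS1, ?_,
    isNormal_of_sectionFree (localNormal_zj hp2) _ rfl hS hF hfree⟩
  refine Subgroup.characteristic_iff_map_eq.2 fun φ => ?_
  have h := (zjFunctor p).map S (S.subtype.comp φ.toMonoidHom)
    (S.subtype_injective.comp φ.injective)
  rw [MonoidHom.range_comp, MonoidHom.range_eq_top.2 φ.surjective, ← MonoidHom.range_eq_map,
    Subgroup.range_subtype, ← Subgroup.map_map] at h
  exact Subgroup.map_injective S.subtype_injective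
    (h.trans (Subgroup.map_subgroupOf_eq_of_le ((zjFunctor p).le S)).symm)

end Cfsg.Agent.Fusion.ZJFusion
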