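import Cfsg.Agent.Lib.Solv.ZJ
import Cfsg.Prelude.Def_TwoFusion

/-!
The `ZJ`-theorem for a strongly closed subgroup of a Sylow subgroup.
-/

set_option autoImplicit false
set_option linter.style.haveILetI false
set_option linter.unusedSectionVars false

namespace Cfsg.Agent.Solv.ZJ

open Cfsg Subgroup
open scoped commutatorElement

variable {G : Type*} [Group G] {e p : ℕ} [Fact p.Prime]

theorem le_normalizer_closed [Finite G] (P : Sylow p G) {D : Subgroup G}
    (hD : IsStronglyClosed D (P : Subgroup G)) : (P : Subgroup G) ≤ normalizer (D : Set G) := by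
  intro a ha
  rw [mem_normalizer_iff]
  intro x
  constructor
  · exact fun hx => hD.2 x hx a (mul_mem (mul_mem ha (hD.1 hx)) (inv_mem ha))
  · intro hx
    have h := hD.2 _ hx a⁻¹ (mul_mem (mul_mem (inv_mem ha) (hD.1 hx)) (inv_mem (inv_mem ha)))
    simpa [mul_assoc] using h

theorem normalizer_closed_inf [Finite G] (P : Sylow p G) {D : Subgroup G}
    (hD : IsStronglyClosed D (P : Subgroup G)) (L : Subgroup G) [L.Normal] :
    normalizer ((((P : Subgroup G) ⊓ L : Subgroup G)) : Set G) ≤ normalizer ((D ⊓ L : Subgroup G) : Set G) := by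
  intro g hg
  have key : ∀ g ∈ normalizer ((((P : Subgroup G) ⊓ L : Subgroup G)) : Set G), ∀ x ∈ D ⊓ L,
      g * x * g⁻¹ ∈ D ⊓ L := fun g hg x hx => by
    have h := (mem_normalizer_iff.mp hg x).mp ⟨hD.1 hx.1, hx.2⟩
    exact ⟨hD.2 x hx.1 g h.1, h.2⟩
  rw [mem_normalizer_iff]
  refine fun x => ⟨key g hg x, fun hx => ?_⟩
  have h := key g⁻¹ (inv_mem hg) _ hx
  simpa [mul_assoc] using h

/-- `B ∩ Z(J(D))` is normal for a normal `p`-subgroup `B` and a strongly closed `D`. -/
theorem inf_zj_normal_of_closed [Finite G] (hp2 : p ≠ 2) (hst : Stab p G) (P : Sylow p G)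
    {D : Subgroup G} (hD : IsStronglyClosed D (P : Subgroup G)) :
    ∀ (n : ℕ) (B : Subgroup G), Nat.card B ≤ n → B.Normal → IsPGroup p B →
      (B ⊓ zj e D).Normal := by
  intro n
  induction n with
  | zero => intro B hn; exact absurd hn (not_le.mpr Nat.card_pos)
  | succ n ih =>
    intro B hn hBn hBp
    haveI := hBn
    set Z := zj e D with hZ
    set W := B ⊓ Z with hW
    by_contra hWn
    have hBP : B ≤ (P : Subgroup G) := (le_pCore hBp).trans (pCore_le_sylow P)
    -- `B` is generated by the conjugates of `W`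
    set B1 := normalClosure (W : Set G) with hB1
    have hB1B : B1 ≤ B := normalClosure_le_normal (fun x hx => hx.1)
    have hB1eq : B1 = B := by
      by_contra hne
      have hlt : Nat.card B1 < Nat.card B := lt_of_le_of_ne (card_le_of_le hB1B) fun h =>
        hne (eq_of_le_of_card_ge hB1B h.ge)
      have h := ih B1 (by omega) inferInstance (hBp.to_le hB1B)
      have he' : B1 ⊓ Z = W := le_antisymm (inf_le_inf_right Z hB1B)
        (le_inf (fun x hx => subset_normalClosure hx) inf_le_right)
      rw [he'] at h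
      exact hWn h
    have hPD := le_normalizer_closed P hD
    have hBD : B ≤ D := by
      rw [← hB1eq, hB1, normalClosure, closure_le]
      intro x hx
      rw [Group.mem_conjugatesOfSet_iff] at hx
      obtain ⟨w, hw, hconj⟩ := hx
      obtain ⟨g, rfl⟩ := isConj_iff.mp hconj
      exact hD.2 w (zj_le e D hw.2) g (hBP (hBn.conj_mem w hw.1 g))
    -- `B' ≤ Z`
    have hB1' : B ≠ ⊥ := fun h => hWn (by
      have : W = ⊥ := le_bot_iff.mp (h ▸ (inf_le_left : W ≤ B))
      rw [this]; infer_instance)
    haveI : Nontrivial B := B.nontrivial_iff_ne_bot.mpr hB1'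
    have hB'B : ⁅B, B⁆ ≤ B := commutator_le_left B B
    have hB'lt : Nat.card (⁅B, B⁆ : Subgroup G) < Nat.card B := by
      refine lt_of_le_of_ne (card_le_of_le hB'B) fun h => ?_
      have heq : ⁅B, B⁆ = B := eq_of_le_of_card_ge hB'B h.ge
      haveI := hBp.isNilpotent
      haveI : Group.IsSolvable B := inferInstance
      refine (Group.IsSolvable.commutator_lt_top_of_nontrivial B).ne ?_
      apply Subgroup.map_injective B.subtype_injective
      rw [Subgroup.map_subtype_commutator, heq, ← MonoidHom.range_eq_map, range_subtype]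
    haveI hB'n : (⁅B, B⁆ : Subgroup G).Normal := inferInstance
    haveI hN : (⁅B, B⁆ ⊓ Z).Normal := ih _ (by omega) hB'n (hBp.to_le hB'B)
    set N := ⁅B, B⁆ ⊓ Z with hNdef
    have hB'Z : ⁅B, B⁆ ≤ Z := by
      have h1 : B1 ≤ (centralizer ((B.map (QuotientGroup.mk' N) : Subgroup (G ⧸ N)) : Set (G ⧸ N))).comap
          (QuotientGroup.mk' N) := by
        haveI : (B.map (QuotientGroup.mk' N)).Normal := hBn.map _ (QuotientGroup.mk'_surjective N)
        refine normalClosure_le_normal fun w hw => ?_
        rw [SetLike.mem_coe, mem_comap, mem_centralizer_iff]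
        rintro _ ⟨y, hy, rfl⟩
        rw [← map_mul, ← map_mul, QuotientGroup.mk'_apply, QuotientGroup.mk'_apply, QuotientGroup.eq]
        have hmem : ⁅y⁻¹, w⁻¹⁆ ∈ N := by
          refine ⟨commutator_mem_commutator (inv_mem hy) (inv_mem hw.1), ?_⟩
          change ⁅y⁻¹, w⁻¹⁆ ∈ Z
          rw [commutatorElement_def]
          refine Z.mul_mem ?_ (Z.inv_mem (Z.inv_mem hw.2))
          exact (mem_normalizer_iff.mp (le_normalizer_zj D (hBD (inv_mem hy))) _).mp (inv_mem hw.2)
        have e1 : (y * w)⁻¹ * (w * y) = (⁅y⁻¹, w⁻¹⁆)⁻¹ := by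
          simp [commutatorElement_def]; group
        first
          | (rw [e1]; exact inv_mem hmem)
          | (rw [show (y * w)⁻¹ * (w * y) = (w⁻¹ * y⁻¹ * w * y) by group,
                show w⁻¹ * y⁻¹ * w * y = ⁅w⁻¹, y⁻¹⁆ by simp [commutatorElement_def],
                ← commutatorElement_inv]
             exact inv_mem hmem)
      rw [hB1eq] at h1
      refine le_trans (((Subgroup.map_eq_bot_iff _).mp ?_).trans (QuotientGroup.ker_mk' N).le) inf_le_right
      rw [map_commutator, commutator_eq_bot_iff_le_centralizer, map_le_iff_le_comap]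
      exact h1
    -- the kernel
    set L := (normalizer (W : Set G)).normalCore with hL
    have hPW : (P : Subgroup G) ≤ normalizer (W : Set G) := by
      intro x hx
      rw [mem_normalizer_iff_map_conj_eq]
      rw [hW, map_inf_eq _ _ _ (MulAut.conj x).injective,
        mem_normalizer_iff_map_conj_eq.mp (normalizer_le_zj D (hPD hx)),
        mem_normalizer_iff_map_conj_eq.mp
          (show x ∈ normalizer (B : Set G) by rw [normalizer_eq_top]; trivial)]
    have hquad : ∀ A ∈ fam e D, B ≤ normalizer (A : Set G) → A ≤ L := by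
      intro A hA hBA
      have hAp : IsPGroup p A := P.isPGroup'.to_le (hA.1.trans hD.1)
      have hq : ⁅⁅B, A⁆, A⁆ = ⊥ := by
        refine commutator_eq_bot_iff_le_centralizer.mpr ((commutator_le.mpr ?_ : ⁅B, A⁆ ≤ A).trans
          fun x hx => mem_centralizer_iff.mpr fun a ha => hA.2.1.comm ha hx)
        intro y hy a ha
        rw [commutatorElement_def]
        exact mul_mem ((mem_normalizer_iff.mp (hBA hy) a).mp ha) (inv_mem ha)
      have hmap := hst B hBp A hAp hq
      set C := centralizer (B : Set G)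
      set π := QuotientGroup.mk' C
      have hM : (pCore p (G ⧸ C)).comap π ≤ normalizer (W : Set G) := by
        intro m hm
        have h1 := pCore_le_sylow (P.mapSurjective (QuotientGroup.mk'_surjective C)) hm
        obtain ⟨x, hx, hxm⟩ := h1
        have hc : x⁻¹ * m ∈ C := QuotientGroup.eq.mp hxm
        have hcW : x⁻¹ * m ∈ normalizer (W : Set G) := by
          rw [mem_normalizer_iff]
          intro w
          have hcc : ∀ v ∈ W, (x⁻¹ * m) * v * (x⁻¹ * m)⁻¹ = v := fun v hv => by
            rw [← mem_centralizer_iff.mp hc v hv.1, mul_inv_cancel_right]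
          constructor
          · intro hw; rw [hcc w hw]; exact hw
          · intro hw
            have h3 := hcc _ hw
            have h4 : (x⁻¹ * m) * w * (x⁻¹ * m)⁻¹ = w := mul_left_cancel (mul_right_cancel h3)
            rwa [h4] at hw
        have := mul_mem (hPW hx) hcW
        rwa [mul_inv_cancel_left] at this
      refine le_trans (map_le_iff_le_comap.mp hmap) ?_
      haveI : ((pCore p (G ⧸ C)).comap π).Normal := inferInstance
      exact normal_le_normalCore.mpr hM
    -- a maximal member outside the kernel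
    by_cases hall : ∀ A ∈ fam e D, A ≤ L
    · apply hWn
      rw [← normalizer_eq_top_iff, eq_top_iff]
      obtain ⟨PL, hQ⟩ := exists_sylow_inf P L
      have hfr := Sylow.normalizer_sup_eq_top PL
      rw [hQ] at hfr
      rw [← hfr]
      refine sup_le (fun g hg => ?_) (normalCore_le _)
      have hQZ : zj e (D ⊓ L) = Z :=
        zj_eq_of_le inf_le_left (sSup_le fun A hA => le_inf hA.1 (hall A hA))
      have hgZ := normalizer_le_zj (e := e) _ (normalizer_closed_inf P hD L hg)
      rw [hQZ] at hgZ
      rw [mem_normalizer_iff_map_conj_eq] at hgZ ⊢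
      rw [hW, map_inf_eq _ _ _ (MulAut.conj g).injective, hgZ,
        mem_normalizer_iff_map_conj_eq.mp
          (show g ∈ normalizer (B : Set G) by rw [normalizer_eq_top]; trivial)]
    push Not at hall
    obtain ⟨A, ⟨hA, hAL⟩, hmax⟩ := Set.exists_max_image
      {A | A ∈ fam e D ∧ ¬ A ≤ L} (fun A => Nat.card ↥(A ⊓ B)) (Set.toFinite _)
      (by obtain ⟨A, h1, h2⟩ := hall; exact ⟨A, h1, h2⟩)
    have hnot : ¬ B ≤ normalizer (A : Set G) := fun h => hAL (hquad A hA h)
    -- replacement inside `D`
    obtain ⟨A', hA'ab, hA'c, -, hA'B, -, hA'N, hA'e, -⟩ := Repl.exists_replacement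
      (P.isPGroup'.to_le hD.1) hp2 (B.subgroupOf D) (A.subgroupOf D)
      (by haveI := hA.2.1.1; exact subgroupOf_isMulCommutative _ _)
      (by
        rw [← map_le_map_iff_of_injective D.subtype_injective, map_commutator,
          map_subgroupOf_eq_of_le hBD, map_subgroupOf_eq_of_le hA.1]
        exact hB'Z.trans (zj_le_mem hA))
      (fun h => hnot fun y hy => by
        have h1 := h (show (⟨y, hBD hy⟩ : D) ∈ B.subgroupOf D from hy)
        rw [mem_normalizer_iff] at h1 ⊢
        intro x
        constructor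
        · intro hx
          exact (h1 ⟨x, hA.1 hx⟩).mp hx
        · intro hx
          have hxD : x ∈ D := by
            have := mul_mem (mul_mem (inv_mem (hBD hy)) (hA.1 hx)) (hBD hy)
            simpa [mul_assoc] using this
          exact (h1 ⟨x, hxD⟩).mpr hx)
    set A₂ := A'.map D.subtype with hA₂
    have hA₂fam : A₂ ∈ fam e D := by
      refine ⟨map_subtype_le _, ⟨?_, ?_⟩, fun C hC hCa => ?_⟩
      · haveI := hA'ab; exact map_isMulCommutative _ _
      · rintro _ ⟨a, ha, rfl⟩
        rw [← map_pow]
        have hdvd : Monoid.exponent A' ∣ e := by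
          refine hA'e.trans (Monoid.exponent_dvd_of_forall_pow_eq_one fun x => ?_)
          exact Subtype.ext (Subtype.ext (by simpa using hA.2.1.2 _ x.2))
        obtain ⟨j, hj⟩ := hdvd
        have h1 : (⟨a, ha⟩ : A') ^ e = 1 := by rw [hj, pow_mul, Monoid.pow_exponent_eq_one, one_pow]
        have h2 := congrArg Subtype.val h1
        rw [SubgroupClass.coe_pow, OneMemClass.coe_one] at h2
        rw [h2, map_one]
      · rw [hA₂, card_map_subtype, hA'c, card_subgroupOf hA.1]
        exact hA.2.2 C hC hCa
    have hA₂L : A₂ ≤ L := by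
      by_contra h
      have h1 := hmax A₂ ⟨hA₂fam, h⟩
      have h2 : Nat.card ↥(A.subgroupOf D ⊓ B.subgroupOf D) <
          Nat.card ↥(A' ⊓ B.subgroupOf D) :=
        lt_of_le_of_ne (card_le_of_le hA'B.le) fun h => hA'B.ne (eq_of_le_of_card_ge hA'B.le h.ge)
      have h3 : A'.map D.subtype ⊓ B =
          (A' ⊓ B.subgroupOf D).map D.subtype := by
        rw [map_inf_eq _ _ _ D.subtype_injective, map_subgroupOf_eq_of_le hBD]
      simp only [hA₂, h3, card_map_subtype] at h1
      rw [show Nat.card ↥(A ⊓ B) = Nat.card ↥(A.subgroupOf D ⊓ B.subgroupOf D)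
        from (card_subgroupOf (inf_le_left.trans hA.1)).symm] at h1
      omega
    -- `B` lies in the new member
    set Q := D ⊓ L with hQdef
    have hA₂Q : A₂ ≤ Q := le_inf hA₂fam.1 hA₂L
    have hZQ : Z ≤ zj e Q := zj_mono inf_le_left hA₂fam hA₂Q
    have hBA₂ : B ≤ A₂ := by
      rw [← hB1eq]
      obtain ⟨PL, hQ⟩ := exists_sylow_inf P L
      have hfr := Sylow.normalizer_sup_eq_top PL
      rw [hQ] at hfr
      have hAQfam : A₂ ∈ fam e Q := by
        rw [fam_eq_of_le inf_le_left hA₂fam hA₂Q]; exact ⟨hA₂fam, hA₂Q⟩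
      rw [hB1, normalClosure, closure_le]
      intro x hx
      rw [Group.mem_conjugatesOfSet_iff] at hx
      obtain ⟨w, hw, hconj⟩ := hx
      obtain ⟨g, rfl⟩ := isConj_iff.mp hconj
      have hg : g ∈ normalizer ((((P : Subgroup G) ⊓ L : Subgroup G)) : Set G) ⊔ L := by
        rw [hfr]; trivial
      rw [mem_sup_of_normal_right] at hg
      obtain ⟨k, hk, l, hl, rfl⟩ := hg
      have hlw : l * w * l⁻¹ ∈ W := (mem_normalizer_iff.mp (normalCore_le _ hl) w).mp hw
      have h5 : k * (l * w * l⁻¹) * k⁻¹ ∈ zj e Q :=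
        (mem_normalizer_iff.mp (normalizer_le_zj Q (normalizer_closed_inf P hD L hk)) _).mp (hZQ hlw.2)
      refine zj_le_mem hAQfam ?_
      convert h5 using 1
      group
    -- `B` normalizes `A`
    refine hnot fun y hy => ?_
    obtain ⟨y', hy', rfl⟩ := hBA₂ hy
    have h6 := hA'N hy'
    rw [mem_normalizer_iff] at h6 ⊢
    intro x
    constructor
    · intro hx
      exact (h6 ⟨x, hA.1 hx⟩).mp hx
    · intro hx
      have hxD : x ∈ D := by
        have := mul_mem (mul_mem (inv_mem y'.2) (hA.1 hx)) y'.2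
        simpa [mul_assoc] using this
      exact (h6 ⟨x, hxD⟩).mpr hx

/-- `Z(J(D))` is normal. -/
theorem zj_normal_of_closed [Finite G] (hp2 : p ≠ 2) (hst : Stab p G)
    (hc : centralizer (pCore p G : Set G) ≤ pCore p G) (P : Sylow p G) {D : Subgroup G}
    (hD : IsStronglyClosed D (P : Subgroup G)) : (zj e D).Normal := by
  set O := pCore p G
  set Z := zj e D
  have hZO : Z ≤ O := by
    have hZp : IsPGroup p Z := P.isPGroup'.to_le ((zj_le _ _).trans hD.1)
    have hq : ⁅⁅O, Z⁆, Z⁆ = ⊥ := by
      refine commutator_eq_bot_iff_le_centralizer.mpr ((commutator_le.mpr ?_ : ⁅O, Z⁆ ≤ Z).trans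
        fun x hx => mem_centralizer_iff.mpr fun a ha => zj_comm _ ha hx)
      intro y hy a ha
      rw [commutatorElement_def]
      exact mul_mem ((mem_normalizer_iff.mp
        (normalizer_le_zj _ (le_normalizer_closed P hD (pCore_le_sylow P hy))) a).mp ha) (inv_mem ha)
    have h1 := hst O (isPGroup_pCore p G) Z hZp hq
    set π := QuotientGroup.mk' (centralizer (O : Set G))
    refine (map_le_iff_le_comap.mp h1).trans (le_pCore ?_)
    refine (isPGroup_pCore p _).comap_of_ker_isPGroup π ?_
    rw [QuotientGroup.ker_mk']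
    exact (isPGroup_pCore p G).to_le hc
  have h := inf_zj_normal_of_closed (e := e) hp2 hst P hD _ O le_rfl inferInstance (isPGroup_pCore p G)
  rwa [inf_eq_right.mpr hZO] at h

end Cfsg.Agent.Solv.ZJ
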